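import Cfsg.Agent.Lib.ToddCox.RUT.P0
import Cfsg.Agent.Lib.ToddCox.RUT.P1
set_option autoImplicit false
set_option maxRecDepth 100000
namespace Cfsg.Agent.Lib.ToddCox.RUT
theorem covered : Covered Eo inv W isH 212206 547082 := (Covered.trans (Covered.trans (Covered.trans (Covered.trans (Covered.trans (Covered.trans (Covered.trans c0 c1) (Covered.trans c2 (Covered.trans c3 c4))) (Covered.trans (Covered.trans c5 c6) (Covered.trans c7 (Covered.trans c8 c9)))) (Covered.trans (Covered.trans (Covered.trans c10 c11) (Covered.trans c12 (Covered.trans c13 c14))) (Covered.trans (Covered.trans c15 c16) (Covered.trans c17 (Covered.trans c18 c19))))) (Covered.trans (Covered.trans (Covered.trans (Covered.trans c20 c21) (Covered.trans c22 (Covered.trans c23 c24))) (Covered.trans (Covered.trans c25 c26) (Covered.trans c27 (Covered.trans c28 c29)))) (Covered.trans (Covered.trans (Covered.trans c30 c31) (Covered.trans c32 (Covered.trans c33 c34))) (Covered.trans (Covered.trans c35 (Covered.trans c36 c37)) (Covered.trans c38 (Covered.trans c39 c40)))))) (Covered.trans (Covered.trans (Covered.trans (Covered.trans (Covered.trans c41 c42) (Covered.trans c43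 (Covered.trans c44 c45))) (Covered.trans (Covered.trans c46 c47) (Covered.trans c48 (Covered.trans c49 c50)))) (Covered.trans (Covered.trans (Covered.trans c51 c52) (Covered.trans c53 (Covered.trans c54 c55))) (Covered.trans (Covered.trans c56 c57) (Covered.trans c58 (Covered.trans c59 c60))))) (Covered.trans (Covered.trans (Covered.trans (Covered.trans c61 c62) (Covered.trans c63 (Covered.trans c64 c65))) (Covered.trans (Covered.trans c66 c67) (Covered.trans c68 (Covered.trans c69 c70)))) (Covered.trans (Covered.trans (Covered.trans c71 c72) (Covered.trans c73 (Covered.trans c74 c75))) (Covered.trans (Covered.trans c76 (Covered.trans c77 c78)) (Covered.trans c79 (Covered.trans c80 c81))))))) (Covered.trans (Covered.trans (Covered.trans (Covered.trans (Covered.trans (Covered.trans c82 c83) (Covered.trans c84 (Covered.trans c85 c86))) (Covered.trans (Covered.trans c87 c88) (Covered.trans c89 (Covered.trans c90 c91)))) (Covered.trans (Covered.trans (Covered.trans c92 c93) (Covered.trans c94 (Covered.trans c95 c96))) (Covered.trans (Covered.trans c97 c98) (Covered.trans c99 (Covered.trans c100 c101))))) (Covered.trans (Covered.trans (Covered.trans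 (Covered.trans c102 c103) (Covered.trans c104 (Covered.trans c105 c106))) (Covered.trans (Covered.trans c107 c108) (Covered.trans c109 (Covered.trans c110 c111)))) (Covered.trans (Covered.trans (Covered.trans c112 c113) (Covered.trans c114 (Covered.trans c115 c116))) (Covered.trans (Covered.trans c117 (Covered.trans c118 c119)) (Covered.trans c120 (Covered.trans c121 c122)))))) (Covered.trans (Covered.trans (Covered.trans (Covered.trans (Covered.trans c123 c124) (Covered.trans c125 (Covered.trans c126 c127))) (Covered.trans (Covered.trans c128 c129) (Covered.trans c130 (Covered.trans c131 c132)))) (Covered.trans (Covered.trans (Covered.trans c133 c134) (Covered.trans c135 (Covered.trans c136 c137))) (Covered.trans (Covered.trans c138 (Covered.trans c139 c140)) (Covered.trans c141 (Covered.trans c142 c143))))) (Covered.trans (Covered.trans (Covered.trans (Covered.trans c144 c145) (Covered.trans c146 (Covered.trans c147 c148))) (Covered.trans (Covered.trans c149 c150) (Covered.trans c151 (Covered.trans c152 c153)))) (Covered.trans (Covered.trans (Covered.trans c154 c155) (Covered.trans c156 (Covered.trans c157 c158))) (Covered.trans (Covered.trans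 c159 (Covered.trans c160 c161)) (Covered.trans c162 (Covered.trans c163 c164))))))))
theorem links : LinksOK Eo cF (2 * nEv) N ys 0 4060 := (LinksOK.trans (LinksOK.trans k0 k1) (LinksOK.trans k2 (LinksOK.trans k3 k4)))
theorem defs : ∀ c, c < nDef → chkDef Eo inv c = true := defs_of_bits 212206 13 26 (by norm_num) (by
  intro j hj
  interval_cases j
  · exact d0
  · exact d1
  · exact d2
  · exact d3
  · exact d4
  · exact d5
  · exact d6
  · exact d7
  · exact d8
  · exact d9
  · exact d10
  · exact d11
  · exact d12
  · exact d13
  · exact d14
  · exact d15
  · exact d16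
  · exact d17
  · exact d18
  · exact d19
  · exact d20
  · exact d21
  · exact d22
  · exact d23
  · exact d24
  · exact d25
  )
theorem words : ∀ j, j < nW → wordsOK W (relR Rb inv) inv sp j = true := allBelow_spec (by norm_num [nW]) wordsGood
end Cfsg.Agent.Lib.ToddCox.RUT
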