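import Cfsg.Agent.Lib.ToddCox.RUT.Data0
import Cfsg.Agent.Lib.ToddCox.RUT.Data1
set_option autoImplicit false
set_option maxRecDepth 100000
namespace Cfsg.Agent.Lib.ToddCox.RUT
def eT_0_2 (j : ℕ) : ℕ := bif Nat.blt j 1 then E_0 else E_1
def eT_2_4 (j : ℕ) : ℕ := bif Nat.blt j 3 then E_2 else E_3
def eT_0_4 (j : ℕ) : ℕ := bif Nat.blt j 2 then (eT_0_2 j) else (eT_2_4 j)
def eT_4_6 (j : ℕ) : ℕ := bif Nat.blt j 5 then E_4 else E_5
def eT_6_8 (j : ℕ) : ℕ := bif Nat.blt j 7 then E_6 else E_7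
def eT_4_8 (j : ℕ) : ℕ := bif Nat.blt j 6 then (eT_4_6 j) else (eT_6_8 j)
def eT_0_8 (j : ℕ) : ℕ := bif Nat.blt j 4 then (eT_0_4 j) else (eT_4_8 j)
def eT_8_10 (j : ℕ) : ℕ := bif Nat.blt j 9 then E_8 else E_9
def eT_10_12 (j : ℕ) : ℕ := bif Nat.blt j 11 then E_10 else E_11
def eT_8_12 (j : ℕ) : ℕ := bif Nat.blt j 10 then (eT_8_10 j) else (eT_10_12 j)
def eT_12_14 (j : ℕ) : ℕ := bif Nat.blt j 13 then E_12 else E_13
def eT_14_16 (j : ℕ) : ℕ := bif Nat.blt j 15 then E_14 else E_15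
def eT_12_16 (j : ℕ) : ℕ := bif Nat.blt j 14 then (eT_12_14 j) else (eT_14_16 j)
def eT_8_16 (j : ℕ) : ℕ := bif Nat.blt j 12 then (eT_8_12 j) else (eT_12_16 j)
def eT_0_16 (j : ℕ) : ℕ := bif Nat.blt j 8 then (eT_0_8 j) else (eT_8_16 j)
def eT_16_18 (j : ℕ) : ℕ := bif Nat.blt j 17 then E_16 else E_17
def eT_18_20 (j : ℕ) : ℕ := bif Nat.blt j 19 then E_18 else E_19
def eT_16_20 (j : ℕ) : ℕ := bif Nat.blt j 18 then (eT_16_18 j) else (eT_18_20 j)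
def eT_20_22 (j : ℕ) : ℕ := bif Nat.blt j 21 then E_20 else E_21
def eT_22_24 (j : ℕ) : ℕ := bif Nat.blt j 23 then E_22 else E_23
def eT_20_24 (j : ℕ) : ℕ := bif Nat.blt j 22 then (eT_20_22 j) else (eT_22_24 j)
def eT_16_24 (j : ℕ) : ℕ := bif Nat.blt j 20 then (eT_16_20 j) else (eT_20_24 j)
def eT_24_26 (j : ℕ) : ℕ := bif Nat.blt j 25 then E_24 else E_25
def eT_26_28 (j : ℕ) : ℕ := bif Nat.blt j 27 then E_26 else E_27
def eT_24_28 (j : ℕ) : ℕ := bif Nat.blt j 26 then (eT_24_26 j) else (eT_26_28 j)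
def eT_28_30 (j : ℕ) : ℕ := bif Nat.blt j 29 then E_28 else E_29
def eT_31_33 (j : ℕ) : ℕ := bif Nat.blt j 32 then E_31 else E_32
def eT_30_33 (j : ℕ) : ℕ := bif Nat.blt j 31 then E_30 else (eT_31_33 j)
def eT_28_33 (j : ℕ) : ℕ := bif Nat.blt j 30 then (eT_28_30 j) else (eT_30_33 j)
def eT_24_33 (j : ℕ) : ℕ := bif Nat.blt j 28 then (eT_24_28 j) else (eT_28_33 j)
def eT_16_33 (j : ℕ) : ℕ := bif Nat.blt j 24 then (eT_16_24 j) else (eT_24_33 j)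
def eT_0_33 (j : ℕ) : ℕ := bif Nat.blt j 16 then (eT_0_16 j) else (eT_16_33 j)
def eT_33_35 (j : ℕ) : ℕ := bif Nat.blt j 34 then E_33 else E_34
def eT_35_37 (j : ℕ) : ℕ := bif Nat.blt j 36 then E_35 else E_36
def eT_33_37 (j : ℕ) : ℕ := bif Nat.blt j 35 then (eT_33_35 j) else (eT_35_37 j)
def eT_37_39 (j : ℕ) : ℕ := bif Nat.blt j 38 then E_37 else E_38
def eT_39_41 (j : ℕ) : ℕ := bif Nat.blt j 40 then E_39 else E_40
def eT_37_41 (j : ℕ) : ℕ := bif Nat.blt j 39 then (eT_37_39 j) else (eT_39_41 j)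
def eT_33_41 (j : ℕ) : ℕ := bif Nat.blt j 37 then (eT_33_37 j) else (eT_37_41 j)
def eT_41_43 (j : ℕ) : ℕ := bif Nat.blt j 42 then E_41 else E_42
def eT_43_45 (j : ℕ) : ℕ := bif Nat.blt j 44 then E_43 else E_44
def eT_41_45 (j : ℕ) : ℕ := bif Nat.blt j 43 then (eT_41_43 j) else (eT_43_45 j)
def eT_45_47 (j : ℕ) : ℕ := bif Nat.blt j 46 then E_45 else E_46
def eT_47_49 (j : ℕ) : ℕ := bif Nat.blt j 48 then E_47 else E_48
def eT_45_49 (j : ℕ) : ℕ := bif Nat.blt j 47 then (eT_45_47 j) else (eT_47_49 j)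
def eT_41_49 (j : ℕ) : ℕ := bif Nat.blt j 45 then (eT_41_45 j) else (eT_45_49 j)
def eT_33_49 (j : ℕ) : ℕ := bif Nat.blt j 41 then (eT_33_41 j) else (eT_41_49 j)
def eT_49_51 (j : ℕ) : ℕ := bif Nat.blt j 50 then E_49 else E_50
def eT_51_53 (j : ℕ) : ℕ := bif Nat.blt j 52 then E_51 else E_52
def eT_49_53 (j : ℕ) : ℕ := bif Nat.blt j 51 then (eT_49_51 j) else (eT_51_53 j)
def eT_53_55 (j : ℕ) : ℕ := bif Nat.blt j 54 then E_53 else E_54
def eT_55_57 (j : ℕ) : ℕ := bif Nat.blt j 56 then E_55 else E_56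
def eT_53_57 (j : ℕ) : ℕ := bif Nat.blt j 55 then (eT_53_55 j) else (eT_55_57 j)
def eT_49_57 (j : ℕ) : ℕ := bif Nat.blt j 53 then (eT_49_53 j) else (eT_53_57 j)
def eT_57_59 (j : ℕ) : ℕ := bif Nat.blt j 58 then E_57 else E_58
def eT_59_61 (j : ℕ) : ℕ := bif Nat.blt j 60 then E_59 else E_60
def eT_57_61 (j : ℕ) : ℕ := bif Nat.blt j 59 then (eT_57_59 j) else (eT_59_61 j)
def eT_61_63 (j : ℕ) : ℕ := bif Nat.blt j 62 then E_61 else E_62
def eT_64_66 (j : ℕ) : ℕ := bif Nat.blt j 65 then E_64 else E_65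
def eT_63_66 (j : ℕ) : ℕ := bif Nat.blt j 64 then E_63 else (eT_64_66 j)
def eT_61_66 (j : ℕ) : ℕ := bif Nat.blt j 63 then (eT_61_63 j) else (eT_63_66 j)
def eT_57_66 (j : ℕ) : ℕ := bif Nat.blt j 61 then (eT_57_61 j) else (eT_61_66 j)
def eT_49_66 (j : ℕ) : ℕ := bif Nat.blt j 57 then (eT_49_57 j) else (eT_57_66 j)
def eT_33_66 (j : ℕ) : ℕ := bif Nat.blt j 49 then (eT_33_49 j) else (eT_49_66 j)
def eT_0_66 (j : ℕ) : ℕ := bif Nat.blt j 33 then (eT_0_33 j) else (eT_33_66 j)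
def eT_66_68 (j : ℕ) : ℕ := bif Nat.blt j 67 then E_66 else E_67
def eT_68_70 (j : ℕ) : ℕ := bif Nat.blt j 69 then E_68 else E_69
def eT_66_70 (j : ℕ) : ℕ := bif Nat.blt j 68 then (eT_66_68 j) else (eT_68_70 j)
def eT_70_72 (j : ℕ) : ℕ := bif Nat.blt j 71 then E_70 else E_71
def eT_72_74 (j : ℕ) : ℕ := bif Nat.blt j 73 then E_72 else E_73
def eT_70_74 (j : ℕ) : ℕ := bif Nat.blt j 72 then (eT_70_72 j) else (eT_72_74 j)
def eT_66_74 (j : ℕ) : ℕ := bif Nat.blt j 70 then (eT_66_70 j) else (eT_70_74 j)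
def eT_74_76 (j : ℕ) : ℕ := bif Nat.blt j 75 then E_74 else E_75
def eT_76_78 (j : ℕ) : ℕ := bif Nat.blt j 77 then E_76 else E_77
def eT_74_78 (j : ℕ) : ℕ := bif Nat.blt j 76 then (eT_74_76 j) else (eT_76_78 j)
def eT_78_80 (j : ℕ) : ℕ := bif Nat.blt j 79 then E_78 else E_79
def eT_80_82 (j : ℕ) : ℕ := bif Nat.blt j 81 then E_80 else E_81
def eT_78_82 (j : ℕ) : ℕ := bif Nat.blt j 80 then (eT_78_80 j) else (eT_80_82 j)
def eT_74_82 (j : ℕ) : ℕ := bif Nat.blt j 78 then (eT_74_78 j) else (eT_78_82 j)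
def eT_66_82 (j : ℕ) : ℕ := bif Nat.blt j 74 then (eT_66_74 j) else (eT_74_82 j)
def eT_82_84 (j : ℕ) : ℕ := bif Nat.blt j 83 then E_82 else E_83
def eT_84_86 (j : ℕ) : ℕ := bif Nat.blt j 85 then E_84 else E_85
def eT_82_86 (j : ℕ) : ℕ := bif Nat.blt j 84 then (eT_82_84 j) else (eT_84_86 j)
def eT_86_88 (j : ℕ) : ℕ := bif Nat.blt j 87 then E_86 else E_87
def eT_88_90 (j : ℕ) : ℕ := bif Nat.blt j 89 then E_88 else E_89
def eT_86_90 (j : ℕ) : ℕ := bif Nat.blt j 88 then (eT_86_88 j) else (eT_88_90 j)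
def eT_82_90 (j : ℕ) : ℕ := bif Nat.blt j 86 then (eT_82_86 j) else (eT_86_90 j)
def eT_90_92 (j : ℕ) : ℕ := bif Nat.blt j 91 then E_90 else E_91
def eT_92_94 (j : ℕ) : ℕ := bif Nat.blt j 93 then E_92 else E_93
def eT_90_94 (j : ℕ) : ℕ := bif Nat.blt j 92 then (eT_90_92 j) else (eT_92_94 j)
def eT_94_96 (j : ℕ) : ℕ := bif Nat.blt j 95 then E_94 else E_95
def eT_97_99 (j : ℕ) : ℕ := bif Nat.blt j 98 then E_97 else E_98
def eT_96_99 (j : ℕ) : ℕ := bif Nat.blt j 97 then E_96 else (eT_97_99 j)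
def eT_94_99 (j : ℕ) : ℕ := bif Nat.blt j 96 then (eT_94_96 j) else (eT_96_99 j)
def eT_90_99 (j : ℕ) : ℕ := bif Nat.blt j 94 then (eT_90_94 j) else (eT_94_99 j)
def eT_82_99 (j : ℕ) : ℕ := bif Nat.blt j 90 then (eT_82_90 j) else (eT_90_99 j)
def eT_66_99 (j : ℕ) : ℕ := bif Nat.blt j 82 then (eT_66_82 j) else (eT_82_99 j)
def eT_99_101 (j : ℕ) : ℕ := bif Nat.blt j 100 then E_99 else E_100
def eT_101_103 (j : ℕ) : ℕ := bif Nat.blt j 102 then E_101 else E_102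
def eT_99_103 (j : ℕ) : ℕ := bif Nat.blt j 101 then (eT_99_101 j) else (eT_101_103 j)
def eT_103_105 (j : ℕ) : ℕ := bif Nat.blt j 104 then E_103 else E_104
def eT_105_107 (j : ℕ) : ℕ := bif Nat.blt j 106 then E_105 else E_106
def eT_103_107 (j : ℕ) : ℕ := bif Nat.blt j 105 then (eT_103_105 j) else (eT_105_107 j)
def eT_99_107 (j : ℕ) : ℕ := bif Nat.blt j 103 then (eT_99_103 j) else (eT_103_107 j)
def eT_107_109 (j : ℕ) : ℕ := bif Nat.blt j 108 then E_107 else E_108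
def eT_109_111 (j : ℕ) : ℕ := bif Nat.blt j 110 then E_109 else E_110
def eT_107_111 (j : ℕ) : ℕ := bif Nat.blt j 109 then (eT_107_109 j) else (eT_109_111 j)
def eT_111_113 (j : ℕ) : ℕ := bif Nat.blt j 112 then E_111 else E_112
def eT_114_116 (j : ℕ) : ℕ := bif Nat.blt j 115 then E_114 else E_115
def eT_113_116 (j : ℕ) : ℕ := bif Nat.blt j 114 then E_113 else (eT_114_116 j)
def eT_111_116 (j : ℕ) : ℕ := bif Nat.blt j 113 then (eT_111_113 j) else (eT_113_116 j)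
def eT_107_116 (j : ℕ) : ℕ := bif Nat.blt j 111 then (eT_107_111 j) else (eT_111_116 j)
def eT_99_116 (j : ℕ) : ℕ := bif Nat.blt j 107 then (eT_99_107 j) else (eT_107_116 j)
def eT_116_118 (j : ℕ) : ℕ := bif Nat.blt j 117 then E_116 else E_117
def eT_118_120 (j : ℕ) : ℕ := bif Nat.blt j 119 then E_118 else E_119
def eT_116_120 (j : ℕ) : ℕ := bif Nat.blt j 118 then (eT_116_118 j) else (eT_118_120 j)
def eT_120_122 (j : ℕ) : ℕ := bif Nat.blt j 121 then E_120 else E_121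
def eT_122_124 (j : ℕ) : ℕ := bif Nat.blt j 123 then E_122 else E_123
def eT_120_124 (j : ℕ) : ℕ := bif Nat.blt j 122 then (eT_120_122 j) else (eT_122_124 j)
def eT_116_124 (j : ℕ) : ℕ := bif Nat.blt j 120 then (eT_116_120 j) else (eT_120_124 j)
def eT_124_126 (j : ℕ) : ℕ := bif Nat.blt j 125 then E_124 else E_125
def eT_126_128 (j : ℕ) : ℕ := bif Nat.blt j 127 then E_126 else E_127
def eT_124_128 (j : ℕ) : ℕ := bif Nat.blt j 126 then (eT_124_126 j) else (eT_126_128 j)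
def eT_128_130 (j : ℕ) : ℕ := bif Nat.blt j 129 then E_128 else E_129
def eT_131_133 (j : ℕ) : ℕ := bif Nat.blt j 132 then E_131 else E_132
def eT_130_133 (j : ℕ) : ℕ := bif Nat.blt j 131 then E_130 else (eT_131_133 j)
def eT_128_133 (j : ℕ) : ℕ := bif Nat.blt j 130 then (eT_128_130 j) else (eT_130_133 j)
def eT_124_133 (j : ℕ) : ℕ := bif Nat.blt j 128 then (eT_124_128 j) else (eT_128_133 j)
def eT_116_133 (j : ℕ) : ℕ := bif Nat.blt j 124 then (eT_116_124 j) else (eT_124_133 j)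
def eT_99_133 (j : ℕ) : ℕ := bif Nat.blt j 116 then (eT_99_116 j) else (eT_116_133 j)
def eT_66_133 (j : ℕ) : ℕ := bif Nat.blt j 99 then (eT_66_99 j) else (eT_99_133 j)
def eT_0_133 (j : ℕ) : ℕ := bif Nat.blt j 66 then (eT_0_66 j) else (eT_66_133 j)
def eT_133_135 (j : ℕ) : ℕ := bif Nat.blt j 134 then E_133 else E_134
def eT_135_137 (j : ℕ) : ℕ := bif Nat.blt j 136 then E_135 else E_136
def eT_133_137 (j : ℕ) : ℕ := bif Nat.blt j 135 then (eT_133_135 j) else (eT_135_137 j)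
def eT_137_139 (j : ℕ) : ℕ := bif Nat.blt j 138 then E_137 else E_138
def eT_139_141 (j : ℕ) : ℕ := bif Nat.blt j 140 then E_139 else E_140
def eT_137_141 (j : ℕ) : ℕ := bif Nat.blt j 139 then (eT_137_139 j) else (eT_139_141 j)
def eT_133_141 (j : ℕ) : ℕ := bif Nat.blt j 137 then (eT_133_137 j) else (eT_137_141 j)
def eT_141_143 (j : ℕ) : ℕ := bif Nat.blt j 142 then E_141 else E_142
def eT_143_145 (j : ℕ) : ℕ := bif Nat.blt j 144 then E_143 else E_144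
def eT_141_145 (j : ℕ) : ℕ := bif Nat.blt j 143 then (eT_141_143 j) else (eT_143_145 j)
def eT_145_147 (j : ℕ) : ℕ := bif Nat.blt j 146 then E_145 else E_146
def eT_147_149 (j : ℕ) : ℕ := bif Nat.blt j 148 then E_147 else E_148
def eT_145_149 (j : ℕ) : ℕ := bif Nat.blt j 147 then (eT_145_147 j) else (eT_147_149 j)
def eT_141_149 (j : ℕ) : ℕ := bif Nat.blt j 145 then (eT_141_145 j) else (eT_145_149 j)
def eT_133_149 (j : ℕ) : ℕ := bif Nat.blt j 141 then (eT_133_141 j) else (eT_141_149 j)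
def eT_149_151 (j : ℕ) : ℕ := bif Nat.blt j 150 then E_149 else E_150
def eT_151_153 (j : ℕ) : ℕ := bif Nat.blt j 152 then E_151 else E_152
def eT_149_153 (j : ℕ) : ℕ := bif Nat.blt j 151 then (eT_149_151 j) else (eT_151_153 j)
def eT_153_155 (j : ℕ) : ℕ := bif Nat.blt j 154 then E_153 else E_154
def eT_155_157 (j : ℕ) : ℕ := bif Nat.blt j 156 then E_155 else E_156
def eT_153_157 (j : ℕ) : ℕ := bif Nat.blt j 155 then (eT_153_155 j) else (eT_155_157 j)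
def eT_149_157 (j : ℕ) : ℕ := bif Nat.blt j 153 then (eT_149_153 j) else (eT_153_157 j)
def eT_157_159 (j : ℕ) : ℕ := bif Nat.blt j 158 then E_157 else E_158
def eT_159_161 (j : ℕ) : ℕ := bif Nat.blt j 160 then E_159 else E_160
def eT_157_161 (j : ℕ) : ℕ := bif Nat.blt j 159 then (eT_157_159 j) else (eT_159_161 j)
def eT_161_163 (j : ℕ) : ℕ := bif Nat.blt j 162 then E_161 else E_162
def eT_164_166 (j : ℕ) : ℕ := bif Nat.blt j 165 then E_164 else E_165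
def eT_163_166 (j : ℕ) : ℕ := bif Nat.blt j 164 then E_163 else (eT_164_166 j)
def eT_161_166 (j : ℕ) : ℕ := bif Nat.blt j 163 then (eT_161_163 j) else (eT_163_166 j)
def eT_157_166 (j : ℕ) : ℕ := bif Nat.blt j 161 then (eT_157_161 j) else (eT_161_166 j)
def eT_149_166 (j : ℕ) : ℕ := bif Nat.blt j 157 then (eT_149_157 j) else (eT_157_166 j)
def eT_133_166 (j : ℕ) : ℕ := bif Nat.blt j 149 then (eT_133_149 j) else (eT_149_166 j)
def eT_166_168 (j : ℕ) : ℕ := bif Nat.blt j 167 then E_166 else E_167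
def eT_168_170 (j : ℕ) : ℕ := bif Nat.blt j 169 then E_168 else E_169
def eT_166_170 (j : ℕ) : ℕ := bif Nat.blt j 168 then (eT_166_168 j) else (eT_168_170 j)
def eT_170_172 (j : ℕ) : ℕ := bif Nat.blt j 171 then E_170 else E_171
def eT_172_174 (j : ℕ) : ℕ := bif Nat.blt j 173 then E_172 else E_173
def eT_170_174 (j : ℕ) : ℕ := bif Nat.blt j 172 then (eT_170_172 j) else (eT_172_174 j)
def eT_166_174 (j : ℕ) : ℕ := bif Nat.blt j 170 then (eT_166_170 j) else (eT_170_174 j)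
def eT_174_176 (j : ℕ) : ℕ := bif Nat.blt j 175 then E_174 else E_175
def eT_176_178 (j : ℕ) : ℕ := bif Nat.blt j 177 then E_176 else E_177
def eT_174_178 (j : ℕ) : ℕ := bif Nat.blt j 176 then (eT_174_176 j) else (eT_176_178 j)
def eT_178_180 (j : ℕ) : ℕ := bif Nat.blt j 179 then E_178 else E_179
def eT_181_183 (j : ℕ) : ℕ := bif Nat.blt j 182 then E_181 else E_182
def eT_180_183 (j : ℕ) : ℕ := bif Nat.blt j 181 then E_180 else (eT_181_183 j)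
def eT_178_183 (j : ℕ) : ℕ := bif Nat.blt j 180 then (eT_178_180 j) else (eT_180_183 j)
def eT_174_183 (j : ℕ) : ℕ := bif Nat.blt j 178 then (eT_174_178 j) else (eT_178_183 j)
def eT_166_183 (j : ℕ) : ℕ := bif Nat.blt j 174 then (eT_166_174 j) else (eT_174_183 j)
def eT_183_185 (j : ℕ) : ℕ := bif Nat.blt j 184 then E_183 else E_184
def eT_185_187 (j : ℕ) : ℕ := bif Nat.blt j 186 then E_185 else E_186
def eT_183_187 (j : ℕ) : ℕ := bif Nat.blt j 185 then (eT_183_185 j) else (eT_185_187 j)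
def eT_187_189 (j : ℕ) : ℕ := bif Nat.blt j 188 then E_187 else E_188
def eT_189_191 (j : ℕ) : ℕ := bif Nat.blt j 190 then E_189 else E_190
def eT_187_191 (j : ℕ) : ℕ := bif Nat.blt j 189 then (eT_187_189 j) else (eT_189_191 j)
def eT_183_191 (j : ℕ) : ℕ := bif Nat.blt j 187 then (eT_183_187 j) else (eT_187_191 j)
def eT_191_193 (j : ℕ) : ℕ := bif Nat.blt j 192 then E_191 else E_192
def eT_193_195 (j : ℕ) : ℕ := bif Nat.blt j 194 then E_193 else E_194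
def eT_191_195 (j : ℕ) : ℕ := bif Nat.blt j 193 then (eT_191_193 j) else (eT_193_195 j)
def eT_195_197 (j : ℕ) : ℕ := bif Nat.blt j 196 then E_195 else E_196
def eT_198_200 (j : ℕ) : ℕ := bif Nat.blt j 199 then E_198 else E_199
def eT_197_200 (j : ℕ) : ℕ := bif Nat.blt j 198 then E_197 else (eT_198_200 j)
def eT_195_200 (j : ℕ) : ℕ := bif Nat.blt j 197 then (eT_195_197 j) else (eT_197_200 j)
def eT_191_200 (j : ℕ) : ℕ := bif Nat.blt j 195 then (eT_191_195 j) else (eT_195_200 j)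
def eT_183_200 (j : ℕ) : ℕ := bif Nat.blt j 191 then (eT_183_191 j) else (eT_191_200 j)
def eT_166_200 (j : ℕ) : ℕ := bif Nat.blt j 183 then (eT_166_183 j) else (eT_183_200 j)
def eT_133_200 (j : ℕ) : ℕ := bif Nat.blt j 166 then (eT_133_166 j) else (eT_166_200 j)
def eT_200_202 (j : ℕ) : ℕ := bif Nat.blt j 201 then E_200 else E_201
def eT_202_204 (j : ℕ) : ℕ := bif Nat.blt j 203 then E_202 else E_203
def eT_200_204 (j : ℕ) : ℕ := bif Nat.blt j 202 then (eT_200_202 j) else (eT_202_204 j)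
def eT_204_206 (j : ℕ) : ℕ := bif Nat.blt j 205 then E_204 else E_205
def eT_206_208 (j : ℕ) : ℕ := bif Nat.blt j 207 then E_206 else E_207
def eT_204_208 (j : ℕ) : ℕ := bif Nat.blt j 206 then (eT_204_206 j) else (eT_206_208 j)
def eT_200_208 (j : ℕ) : ℕ := bif Nat.blt j 204 then (eT_200_204 j) else (eT_204_208 j)
def eT_208_210 (j : ℕ) : ℕ := bif Nat.blt j 209 then E_208 else E_209
def eT_210_212 (j : ℕ) : ℕ := bif Nat.blt j 211 then E_210 else E_211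
def eT_208_212 (j : ℕ) : ℕ := bif Nat.blt j 210 then (eT_208_210 j) else (eT_210_212 j)
def eT_212_214 (j : ℕ) : ℕ := bif Nat.blt j 213 then E_212 else E_213
def eT_214_216 (j : ℕ) : ℕ := bif Nat.blt j 215 then E_214 else E_215
def eT_212_216 (j : ℕ) : ℕ := bif Nat.blt j 214 then (eT_212_214 j) else (eT_214_216 j)
def eT_208_216 (j : ℕ) : ℕ := bif Nat.blt j 212 then (eT_208_212 j) else (eT_212_216 j)
def eT_200_216 (j : ℕ) : ℕ := bif Nat.blt j 208 then (eT_200_208 j) else (eT_208_216 j)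
def eT_216_218 (j : ℕ) : ℕ := bif Nat.blt j 217 then E_216 else E_217
def eT_218_220 (j : ℕ) : ℕ := bif Nat.blt j 219 then E_218 else E_219
def eT_216_220 (j : ℕ) : ℕ := bif Nat.blt j 218 then (eT_216_218 j) else (eT_218_220 j)
def eT_220_222 (j : ℕ) : ℕ := bif Nat.blt j 221 then E_220 else E_221
def eT_222_224 (j : ℕ) : ℕ := bif Nat.blt j 223 then E_222 else E_223
def eT_220_224 (j : ℕ) : ℕ := bif Nat.blt j 222 then (eT_220_222 j) else (eT_222_224 j)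
def eT_216_224 (j : ℕ) : ℕ := bif Nat.blt j 220 then (eT_216_220 j) else (eT_220_224 j)
def eT_224_226 (j : ℕ) : ℕ := bif Nat.blt j 225 then E_224 else E_225
def eT_226_228 (j : ℕ) : ℕ := bif Nat.blt j 227 then E_226 else E_227
def eT_224_228 (j : ℕ) : ℕ := bif Nat.blt j 226 then (eT_224_226 j) else (eT_226_228 j)
def eT_228_230 (j : ℕ) : ℕ := bif Nat.blt j 229 then E_228 else E_229
def eT_231_233 (j : ℕ) : ℕ := bif Nat.blt j 232 then E_231 else E_232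
def eT_230_233 (j : ℕ) : ℕ := bif Nat.blt j 231 then E_230 else (eT_231_233 j)
def eT_228_233 (j : ℕ) : ℕ := bif Nat.blt j 230 then (eT_228_230 j) else (eT_230_233 j)
def eT_224_233 (j : ℕ) : ℕ := bif Nat.blt j 228 then (eT_224_228 j) else (eT_228_233 j)
def eT_216_233 (j : ℕ) : ℕ := bif Nat.blt j 224 then (eT_216_224 j) else (eT_224_233 j)
def eT_200_233 (j : ℕ) : ℕ := bif Nat.blt j 216 then (eT_200_216 j) else (eT_216_233 j)
def eT_233_235 (j : ℕ) : ℕ := bif Nat.blt j 234 then E_233 else E_234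
def eT_235_237 (j : ℕ) : ℕ := bif Nat.blt j 236 then E_235 else E_236
def eT_233_237 (j : ℕ) : ℕ := bif Nat.blt j 235 then (eT_233_235 j) else (eT_235_237 j)
def eT_237_239 (j : ℕ) : ℕ := bif Nat.blt j 238 then E_237 else E_238
def eT_239_241 (j : ℕ) : ℕ := bif Nat.blt j 240 then E_239 else E_240
def eT_237_241 (j : ℕ) : ℕ := bif Nat.blt j 239 then (eT_237_239 j) else (eT_239_241 j)
def eT_233_241 (j : ℕ) : ℕ := bif Nat.blt j 237 then (eT_233_237 j) else (eT_237_241 j)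
def eT_241_243 (j : ℕ) : ℕ := bif Nat.blt j 242 then E_241 else E_242
def eT_243_245 (j : ℕ) : ℕ := bif Nat.blt j 244 then E_243 else E_244
def eT_241_245 (j : ℕ) : ℕ := bif Nat.blt j 243 then (eT_241_243 j) else (eT_243_245 j)
def eT_245_247 (j : ℕ) : ℕ := bif Nat.blt j 246 then E_245 else E_246
def eT_248_250 (j : ℕ) : ℕ := bif Nat.blt j 249 then E_248 else E_249
def eT_247_250 (j : ℕ) : ℕ := bif Nat.blt j 248 then E_247 else (eT_248_250 j)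
def eT_245_250 (j : ℕ) : ℕ := bif Nat.blt j 247 then (eT_245_247 j) else (eT_247_250 j)
def eT_241_250 (j : ℕ) : ℕ := bif Nat.blt j 245 then (eT_241_245 j) else (eT_245_250 j)
def eT_233_250 (j : ℕ) : ℕ := bif Nat.blt j 241 then (eT_233_241 j) else (eT_241_250 j)
def eT_250_252 (j : ℕ) : ℕ := bif Nat.blt j 251 then E_250 else E_251
def eT_252_254 (j : ℕ) : ℕ := bif Nat.blt j 253 then E_252 else E_253
def eT_250_254 (j : ℕ) : ℕ := bif Nat.blt j 252 then (eT_250_252 j) else (eT_252_254 j)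
def eT_254_256 (j : ℕ) : ℕ := bif Nat.blt j 255 then E_254 else E_255
def eT_256_258 (j : ℕ) : ℕ := bif Nat.blt j 257 then E_256 else E_257
def eT_254_258 (j : ℕ) : ℕ := bif Nat.blt j 256 then (eT_254_256 j) else (eT_256_258 j)
def eT_250_258 (j : ℕ) : ℕ := bif Nat.blt j 254 then (eT_250_254 j) else (eT_254_258 j)
def eT_258_260 (j : ℕ) : ℕ := bif Nat.blt j 259 then E_258 else E_259
def eT_260_262 (j : ℕ) : ℕ := bif Nat.blt j 261 then E_260 else E_261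
def eT_258_262 (j : ℕ) : ℕ := bif Nat.blt j 260 then (eT_258_260 j) else (eT_260_262 j)
def eT_262_264 (j : ℕ) : ℕ := bif Nat.blt j 263 then E_262 else E_263
def eT_265_267 (j : ℕ) : ℕ := bif Nat.blt j 266 then E_265 else E_266
def eT_264_267 (j : ℕ) : ℕ := bif Nat.blt j 265 then E_264 else (eT_265_267 j)
def eT_262_267 (j : ℕ) : ℕ := bif Nat.blt j 264 then (eT_262_264 j) else (eT_264_267 j)
def eT_258_267 (j : ℕ) : ℕ := bif Nat.blt j 262 then (eT_258_262 j) else (eT_262_267 j)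
def eT_250_267 (j : ℕ) : ℕ := bif Nat.blt j 258 then (eT_250_258 j) else (eT_258_267 j)
def eT_233_267 (j : ℕ) : ℕ := bif Nat.blt j 250 then (eT_233_250 j) else (eT_250_267 j)
def eT_200_267 (j : ℕ) : ℕ := bif Nat.blt j 233 then (eT_200_233 j) else (eT_233_267 j)
def eT_133_267 (j : ℕ) : ℕ := bif Nat.blt j 200 then (eT_133_200 j) else (eT_200_267 j)
def eT_0_267 (j : ℕ) : ℕ := bif Nat.blt j 133 then (eT_0_133 j) else (eT_133_267 j)
def eT_267_269 (j : ℕ) : ℕ := bif Nat.blt j 268 then E_267 else E_268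
def eT_269_271 (j : ℕ) : ℕ := bif Nat.blt j 270 then E_269 else E_270
def eT_267_271 (j : ℕ) : ℕ := bif Nat.blt j 269 then (eT_267_269 j) else (eT_269_271 j)
def eT_271_273 (j : ℕ) : ℕ := bif Nat.blt j 272 then E_271 else E_272
def eT_273_275 (j : ℕ) : ℕ := bif Nat.blt j 274 then E_273 else E_274
def eT_271_275 (j : ℕ) : ℕ := bif Nat.blt j 273 then (eT_271_273 j) else (eT_273_275 j)
def eT_267_275 (j : ℕ) : ℕ := bif Nat.blt j 271 then (eT_267_271 j) else (eT_271_275 j)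
def eT_275_277 (j : ℕ) : ℕ := bif Nat.blt j 276 then E_275 else E_276
def eT_277_279 (j : ℕ) : ℕ := bif Nat.blt j 278 then E_277 else E_278
def eT_275_279 (j : ℕ) : ℕ := bif Nat.blt j 277 then (eT_275_277 j) else (eT_277_279 j)
def eT_279_281 (j : ℕ) : ℕ := bif Nat.blt j 280 then E_279 else E_280
def eT_281_283 (j : ℕ) : ℕ := bif Nat.blt j 282 then E_281 else E_282
def eT_279_283 (j : ℕ) : ℕ := bif Nat.blt j 281 then (eT_279_281 j) else (eT_281_283 j)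
def eT_275_283 (j : ℕ) : ℕ := bif Nat.blt j 279 then (eT_275_279 j) else (eT_279_283 j)
def eT_267_283 (j : ℕ) : ℕ := bif Nat.blt j 275 then (eT_267_275 j) else (eT_275_283 j)
def eT_283_285 (j : ℕ) : ℕ := bif Nat.blt j 284 then E_283 else E_284
def eT_285_287 (j : ℕ) : ℕ := bif Nat.blt j 286 then E_285 else E_286
def eT_283_287 (j : ℕ) : ℕ := bif Nat.blt j 285 then (eT_283_285 j) else (eT_285_287 j)
def eT_287_289 (j : ℕ) : ℕ := bif Nat.blt j 288 then E_287 else E_288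
def eT_289_291 (j : ℕ) : ℕ := bif Nat.blt j 290 then E_289 else E_290
def eT_287_291 (j : ℕ) : ℕ := bif Nat.blt j 289 then (eT_287_289 j) else (eT_289_291 j)
def eT_283_291 (j : ℕ) : ℕ := bif Nat.blt j 287 then (eT_283_287 j) else (eT_287_291 j)
def eT_291_293 (j : ℕ) : ℕ := bif Nat.blt j 292 then E_291 else E_292
def eT_293_295 (j : ℕ) : ℕ := bif Nat.blt j 294 then E_293 else E_294
def eT_291_295 (j : ℕ) : ℕ := bif Nat.blt j 293 then (eT_291_293 j) else (eT_293_295 j)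
def eT_295_297 (j : ℕ) : ℕ := bif Nat.blt j 296 then E_295 else E_296
def eT_298_300 (j : ℕ) : ℕ := bif Nat.blt j 299 then E_298 else E_299
def eT_297_300 (j : ℕ) : ℕ := bif Nat.blt j 298 then E_297 else (eT_298_300 j)
def eT_295_300 (j : ℕ) : ℕ := bif Nat.blt j 297 then (eT_295_297 j) else (eT_297_300 j)
def eT_291_300 (j : ℕ) : ℕ := bif Nat.blt j 295 then (eT_291_295 j) else (eT_295_300 j)
def eT_283_300 (j : ℕ) : ℕ := bif Nat.blt j 291 then (eT_283_291 j) else (eT_291_300 j)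
def eT_267_300 (j : ℕ) : ℕ := bif Nat.blt j 283 then (eT_267_283 j) else (eT_283_300 j)
def eT_300_302 (j : ℕ) : ℕ := bif Nat.blt j 301 then E_300 else E_301
def eT_302_304 (j : ℕ) : ℕ := bif Nat.blt j 303 then E_302 else E_303
def eT_300_304 (j : ℕ) : ℕ := bif Nat.blt j 302 then (eT_300_302 j) else (eT_302_304 j)
def eT_304_306 (j : ℕ) : ℕ := bif Nat.blt j 305 then E_304 else E_305
def eT_306_308 (j : ℕ) : ℕ := bif Nat.blt j 307 then E_306 else E_307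
def eT_304_308 (j : ℕ) : ℕ := bif Nat.blt j 306 then (eT_304_306 j) else (eT_306_308 j)
def eT_300_308 (j : ℕ) : ℕ := bif Nat.blt j 304 then (eT_300_304 j) else (eT_304_308 j)
def eT_308_310 (j : ℕ) : ℕ := bif Nat.blt j 309 then E_308 else E_309
def eT_310_312 (j : ℕ) : ℕ := bif Nat.blt j 311 then E_310 else E_311
def eT_308_312 (j : ℕ) : ℕ := bif Nat.blt j 310 then (eT_308_310 j) else (eT_310_312 j)
def eT_312_314 (j : ℕ) : ℕ := bif Nat.blt j 313 then E_312 else E_313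
def eT_314_316 (j : ℕ) : ℕ := bif Nat.blt j 315 then E_314 else E_315
def eT_312_316 (j : ℕ) : ℕ := bif Nat.blt j 314 then (eT_312_314 j) else (eT_314_316 j)
def eT_308_316 (j : ℕ) : ℕ := bif Nat.blt j 312 then (eT_308_312 j) else (eT_312_316 j)
def eT_300_316 (j : ℕ) : ℕ := bif Nat.blt j 308 then (eT_300_308 j) else (eT_308_316 j)
def eT_316_318 (j : ℕ) : ℕ := bif Nat.blt j 317 then E_316 else E_317
def eT_318_320 (j : ℕ) : ℕ := bif Nat.blt j 319 then E_318 else E_319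
def eT_316_320 (j : ℕ) : ℕ := bif Nat.blt j 318 then (eT_316_318 j) else (eT_318_320 j)
def eT_320_322 (j : ℕ) : ℕ := bif Nat.blt j 321 then E_320 else E_321
def eT_322_324 (j : ℕ) : ℕ := bif Nat.blt j 323 then E_322 else E_323
def eT_320_324 (j : ℕ) : ℕ := bif Nat.blt j 322 then (eT_320_322 j) else (eT_322_324 j)
def eT_316_324 (j : ℕ) : ℕ := bif Nat.blt j 320 then (eT_316_320 j) else (eT_320_324 j)
def eT_324_326 (j : ℕ) : ℕ := bif Nat.blt j 325 then E_324 else E_325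
def eT_326_328 (j : ℕ) : ℕ := bif Nat.blt j 327 then E_326 else E_327
def eT_324_328 (j : ℕ) : ℕ := bif Nat.blt j 326 then (eT_324_326 j) else (eT_326_328 j)
def eT_328_330 (j : ℕ) : ℕ := bif Nat.blt j 329 then E_328 else E_329
def eT_331_333 (j : ℕ) : ℕ := bif Nat.blt j 332 then E_331 else E_332
def eT_330_333 (j : ℕ) : ℕ := bif Nat.blt j 331 then E_330 else (eT_331_333 j)
def eT_328_333 (j : ℕ) : ℕ := bif Nat.blt j 330 then (eT_328_330 j) else (eT_330_333 j)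
def eT_324_333 (j : ℕ) : ℕ := bif Nat.blt j 328 then (eT_324_328 j) else (eT_328_333 j)
def eT_316_333 (j : ℕ) : ℕ := bif Nat.blt j 324 then (eT_316_324 j) else (eT_324_333 j)
def eT_300_333 (j : ℕ) : ℕ := bif Nat.blt j 316 then (eT_300_316 j) else (eT_316_333 j)
def eT_267_333 (j : ℕ) : ℕ := bif Nat.blt j 300 then (eT_267_300 j) else (eT_300_333 j)
def eT_333_335 (j : ℕ) : ℕ := bif Nat.blt j 334 then E_333 else E_334
def eT_335_337 (j : ℕ) : ℕ := bif Nat.blt j 336 then E_335 else E_336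
def eT_333_337 (j : ℕ) : ℕ := bif Nat.blt j 335 then (eT_333_335 j) else (eT_335_337 j)
def eT_337_339 (j : ℕ) : ℕ := bif Nat.blt j 338 then E_337 else E_338
def eT_339_341 (j : ℕ) : ℕ := bif Nat.blt j 340 then E_339 else E_340
def eT_337_341 (j : ℕ) : ℕ := bif Nat.blt j 339 then (eT_337_339 j) else (eT_339_341 j)
def eT_333_341 (j : ℕ) : ℕ := bif Nat.blt j 337 then (eT_333_337 j) else (eT_337_341 j)
def eT_341_343 (j : ℕ) : ℕ := bif Nat.blt j 342 then E_341 else E_342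
def eT_343_345 (j : ℕ) : ℕ := bif Nat.blt j 344 then E_343 else E_344
def eT_341_345 (j : ℕ) : ℕ := bif Nat.blt j 343 then (eT_341_343 j) else (eT_343_345 j)
def eT_345_347 (j : ℕ) : ℕ := bif Nat.blt j 346 then E_345 else E_346
def eT_347_349 (j : ℕ) : ℕ := bif Nat.blt j 348 then E_347 else E_348
def eT_345_349 (j : ℕ) : ℕ := bif Nat.blt j 347 then (eT_345_347 j) else (eT_347_349 j)
def eT_341_349 (j : ℕ) : ℕ := bif Nat.blt j 345 then (eT_341_345 j) else (eT_345_349 j)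
def eT_333_349 (j : ℕ) : ℕ := bif Nat.blt j 341 then (eT_333_341 j) else (eT_341_349 j)
def eT_349_351 (j : ℕ) : ℕ := bif Nat.blt j 350 then E_349 else E_350
def eT_351_353 (j : ℕ) : ℕ := bif Nat.blt j 352 then E_351 else E_352
def eT_349_353 (j : ℕ) : ℕ := bif Nat.blt j 351 then (eT_349_351 j) else (eT_351_353 j)
def eT_353_355 (j : ℕ) : ℕ := bif Nat.blt j 354 then E_353 else E_354
def eT_355_357 (j : ℕ) : ℕ := bif Nat.blt j 356 then E_355 else E_356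
def eT_353_357 (j : ℕ) : ℕ := bif Nat.blt j 355 then (eT_353_355 j) else (eT_355_357 j)
def eT_349_357 (j : ℕ) : ℕ := bif Nat.blt j 353 then (eT_349_353 j) else (eT_353_357 j)
def eT_357_359 (j : ℕ) : ℕ := bif Nat.blt j 358 then E_357 else E_358
def eT_359_361 (j : ℕ) : ℕ := bif Nat.blt j 360 then E_359 else E_360
def eT_357_361 (j : ℕ) : ℕ := bif Nat.blt j 359 then (eT_357_359 j) else (eT_359_361 j)
def eT_361_363 (j : ℕ) : ℕ := bif Nat.blt j 362 then E_361 else E_362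
def eT_364_366 (j : ℕ) : ℕ := bif Nat.blt j 365 then E_364 else E_365
def eT_363_366 (j : ℕ) : ℕ := bif Nat.blt j 364 then E_363 else (eT_364_366 j)
def eT_361_366 (j : ℕ) : ℕ := bif Nat.blt j 363 then (eT_361_363 j) else (eT_363_366 j)
def eT_357_366 (j : ℕ) : ℕ := bif Nat.blt j 361 then (eT_357_361 j) else (eT_361_366 j)
def eT_349_366 (j : ℕ) : ℕ := bif Nat.blt j 357 then (eT_349_357 j) else (eT_357_366 j)
def eT_333_366 (j : ℕ) : ℕ := bif Nat.blt j 349 then (eT_333_349 j) else (eT_349_366 j)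
def eT_366_368 (j : ℕ) : ℕ := bif Nat.blt j 367 then E_366 else E_367
def eT_368_370 (j : ℕ) : ℕ := bif Nat.blt j 369 then E_368 else E_369
def eT_366_370 (j : ℕ) : ℕ := bif Nat.blt j 368 then (eT_366_368 j) else (eT_368_370 j)
def eT_370_372 (j : ℕ) : ℕ := bif Nat.blt j 371 then E_370 else E_371
def eT_372_374 (j : ℕ) : ℕ := bif Nat.blt j 373 then E_372 else E_373
def eT_370_374 (j : ℕ) : ℕ := bif Nat.blt j 372 then (eT_370_372 j) else (eT_372_374 j)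
def eT_366_374 (j : ℕ) : ℕ := bif Nat.blt j 370 then (eT_366_370 j) else (eT_370_374 j)
def eT_374_376 (j : ℕ) : ℕ := bif Nat.blt j 375 then E_374 else E_375
def eT_376_378 (j : ℕ) : ℕ := bif Nat.blt j 377 then E_376 else E_377
def eT_374_378 (j : ℕ) : ℕ := bif Nat.blt j 376 then (eT_374_376 j) else (eT_376_378 j)
def eT_378_380 (j : ℕ) : ℕ := bif Nat.blt j 379 then E_378 else E_379
def eT_381_383 (j : ℕ) : ℕ := bif Nat.blt j 382 then E_381 else E_382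
def eT_380_383 (j : ℕ) : ℕ := bif Nat.blt j 381 then E_380 else (eT_381_383 j)
def eT_378_383 (j : ℕ) : ℕ := bif Nat.blt j 380 then (eT_378_380 j) else (eT_380_383 j)
def eT_374_383 (j : ℕ) : ℕ := bif Nat.blt j 378 then (eT_374_378 j) else (eT_378_383 j)
def eT_366_383 (j : ℕ) : ℕ := bif Nat.blt j 374 then (eT_366_374 j) else (eT_374_383 j)
def eT_383_385 (j : ℕ) : ℕ := bif Nat.blt j 384 then E_383 else E_384
def eT_385_387 (j : ℕ) : ℕ := bif Nat.blt j 386 then E_385 else E_386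
def eT_383_387 (j : ℕ) : ℕ := bif Nat.blt j 385 then (eT_383_385 j) else (eT_385_387 j)
def eT_387_389 (j : ℕ) : ℕ := bif Nat.blt j 388 then E_387 else E_388
def eT_389_391 (j : ℕ) : ℕ := bif Nat.blt j 390 then E_389 else E_390
def eT_387_391 (j : ℕ) : ℕ := bif Nat.blt j 389 then (eT_387_389 j) else (eT_389_391 j)
def eT_383_391 (j : ℕ) : ℕ := bif Nat.blt j 387 then (eT_383_387 j) else (eT_387_391 j)
def eT_391_393 (j : ℕ) : ℕ := bif Nat.blt j 392 then E_391 else E_392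
def eT_393_395 (j : ℕ) : ℕ := bif Nat.blt j 394 then E_393 else E_394
def eT_391_395 (j : ℕ) : ℕ := bif Nat.blt j 393 then (eT_391_393 j) else (eT_393_395 j)
def eT_395_397 (j : ℕ) : ℕ := bif Nat.blt j 396 then E_395 else E_396
def eT_398_400 (j : ℕ) : ℕ := bif Nat.blt j 399 then E_398 else E_399
def eT_397_400 (j : ℕ) : ℕ := bif Nat.blt j 398 then E_397 else (eT_398_400 j)
def eT_395_400 (j : ℕ) : ℕ := bif Nat.blt j 397 then (eT_395_397 j) else (eT_397_400 j)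
def eT_391_400 (j : ℕ) : ℕ := bif Nat.blt j 395 then (eT_391_395 j) else (eT_395_400 j)
def eT_383_400 (j : ℕ) : ℕ := bif Nat.blt j 391 then (eT_383_391 j) else (eT_391_400 j)
def eT_366_400 (j : ℕ) : ℕ := bif Nat.blt j 383 then (eT_366_383 j) else (eT_383_400 j)
def eT_333_400 (j : ℕ) : ℕ := bif Nat.blt j 366 then (eT_333_366 j) else (eT_366_400 j)
def eT_267_400 (j : ℕ) : ℕ := bif Nat.blt j 333 then (eT_267_333 j) else (eT_333_400 j)
def eT_400_402 (j : ℕ) : ℕ := bif Nat.blt j 401 then E_400 else E_401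
def eT_402_404 (j : ℕ) : ℕ := bif Nat.blt j 403 then E_402 else E_403
def eT_400_404 (j : ℕ) : ℕ := bif Nat.blt j 402 then (eT_400_402 j) else (eT_402_404 j)
def eT_404_406 (j : ℕ) : ℕ := bif Nat.blt j 405 then E_404 else E_405
def eT_406_408 (j : ℕ) : ℕ := bif Nat.blt j 407 then E_406 else E_407
def eT_404_408 (j : ℕ) : ℕ := bif Nat.blt j 406 then (eT_404_406 j) else (eT_406_408 j)
def eT_400_408 (j : ℕ) : ℕ := bif Nat.blt j 404 then (eT_400_404 j) else (eT_404_408 j)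
def eT_408_410 (j : ℕ) : ℕ := bif Nat.blt j 409 then E_408 else E_409
def eT_410_412 (j : ℕ) : ℕ := bif Nat.blt j 411 then E_410 else E_411
def eT_408_412 (j : ℕ) : ℕ := bif Nat.blt j 410 then (eT_408_410 j) else (eT_410_412 j)
def eT_412_414 (j : ℕ) : ℕ := bif Nat.blt j 413 then E_412 else E_413
def eT_414_416 (j : ℕ) : ℕ := bif Nat.blt j 415 then E_414 else E_415
def eT_412_416 (j : ℕ) : ℕ := bif Nat.blt j 414 then (eT_412_414 j) else (eT_414_416 j)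
def eT_408_416 (j : ℕ) : ℕ := bif Nat.blt j 412 then (eT_408_412 j) else (eT_412_416 j)
def eT_400_416 (j : ℕ) : ℕ := bif Nat.blt j 408 then (eT_400_408 j) else (eT_408_416 j)
def eT_416_418 (j : ℕ) : ℕ := bif Nat.blt j 417 then E_416 else E_417
def eT_418_420 (j : ℕ) : ℕ := bif Nat.blt j 419 then E_418 else E_419
def eT_416_420 (j : ℕ) : ℕ := bif Nat.blt j 418 then (eT_416_418 j) else (eT_418_420 j)
def eT_420_422 (j : ℕ) : ℕ := bif Nat.blt j 421 then E_420 else E_421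
def eT_422_424 (j : ℕ) : ℕ := bif Nat.blt j 423 then E_422 else E_423
def eT_420_424 (j : ℕ) : ℕ := bif Nat.blt j 422 then (eT_420_422 j) else (eT_422_424 j)
def eT_416_424 (j : ℕ) : ℕ := bif Nat.blt j 420 then (eT_416_420 j) else (eT_420_424 j)
def eT_424_426 (j : ℕ) : ℕ := bif Nat.blt j 425 then E_424 else E_425
def eT_426_428 (j : ℕ) : ℕ := bif Nat.blt j 427 then E_426 else E_427
def eT_424_428 (j : ℕ) : ℕ := bif Nat.blt j 426 then (eT_424_426 j) else (eT_426_428 j)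
def eT_428_430 (j : ℕ) : ℕ := bif Nat.blt j 429 then E_428 else E_429
def eT_431_433 (j : ℕ) : ℕ := bif Nat.blt j 432 then E_431 else E_432
def eT_430_433 (j : ℕ) : ℕ := bif Nat.blt j 431 then E_430 else (eT_431_433 j)
def eT_428_433 (j : ℕ) : ℕ := bif Nat.blt j 430 then (eT_428_430 j) else (eT_430_433 j)
def eT_424_433 (j : ℕ) : ℕ := bif Nat.blt j 428 then (eT_424_428 j) else (eT_428_433 j)
def eT_416_433 (j : ℕ) : ℕ := bif Nat.blt j 424 then (eT_416_424 j) else (eT_424_433 j)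
def eT_400_433 (j : ℕ) : ℕ := bif Nat.blt j 416 then (eT_400_416 j) else (eT_416_433 j)
def eT_433_435 (j : ℕ) : ℕ := bif Nat.blt j 434 then E_433 else E_434
def eT_435_437 (j : ℕ) : ℕ := bif Nat.blt j 436 then E_435 else E_436
def eT_433_437 (j : ℕ) : ℕ := bif Nat.blt j 435 then (eT_433_435 j) else (eT_435_437 j)
def eT_437_439 (j : ℕ) : ℕ := bif Nat.blt j 438 then E_437 else E_438
def eT_439_441 (j : ℕ) : ℕ := bif Nat.blt j 440 then E_439 else E_440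
def eT_437_441 (j : ℕ) : ℕ := bif Nat.blt j 439 then (eT_437_439 j) else (eT_439_441 j)
def eT_433_441 (j : ℕ) : ℕ := bif Nat.blt j 437 then (eT_433_437 j) else (eT_437_441 j)
def eT_441_443 (j : ℕ) : ℕ := bif Nat.blt j 442 then E_441 else E_442
def eT_443_445 (j : ℕ) : ℕ := bif Nat.blt j 444 then E_443 else E_444
def eT_441_445 (j : ℕ) : ℕ := bif Nat.blt j 443 then (eT_441_443 j) else (eT_443_445 j)
def eT_445_447 (j : ℕ) : ℕ := bif Nat.blt j 446 then E_445 else E_446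
def eT_448_450 (j : ℕ) : ℕ := bif Nat.blt j 449 then E_448 else E_449
def eT_447_450 (j : ℕ) : ℕ := bif Nat.blt j 448 then E_447 else (eT_448_450 j)
def eT_445_450 (j : ℕ) : ℕ := bif Nat.blt j 447 then (eT_445_447 j) else (eT_447_450 j)
def eT_441_450 (j : ℕ) : ℕ := bif Nat.blt j 445 then (eT_441_445 j) else (eT_445_450 j)
def eT_433_450 (j : ℕ) : ℕ := bif Nat.blt j 441 then (eT_433_441 j) else (eT_441_450 j)
def eT_450_452 (j : ℕ) : ℕ := bif Nat.blt j 451 then E_450 else E_451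
def eT_452_454 (j : ℕ) : ℕ := bif Nat.blt j 453 then E_452 else E_453
def eT_450_454 (j : ℕ) : ℕ := bif Nat.blt j 452 then (eT_450_452 j) else (eT_452_454 j)
def eT_454_456 (j : ℕ) : ℕ := bif Nat.blt j 455 then E_454 else E_455
def eT_456_458 (j : ℕ) : ℕ := bif Nat.blt j 457 then E_456 else E_457
def eT_454_458 (j : ℕ) : ℕ := bif Nat.blt j 456 then (eT_454_456 j) else (eT_456_458 j)
def eT_450_458 (j : ℕ) : ℕ := bif Nat.blt j 454 then (eT_450_454 j) else (eT_454_458 j)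
def eT_458_460 (j : ℕ) : ℕ := bif Nat.blt j 459 then E_458 else E_459
def eT_460_462 (j : ℕ) : ℕ := bif Nat.blt j 461 then E_460 else E_461
def eT_458_462 (j : ℕ) : ℕ := bif Nat.blt j 460 then (eT_458_460 j) else (eT_460_462 j)
def eT_462_464 (j : ℕ) : ℕ := bif Nat.blt j 463 then E_462 else E_463
def eT_465_467 (j : ℕ) : ℕ := bif Nat.blt j 466 then E_465 else E_466
def eT_464_467 (j : ℕ) : ℕ := bif Nat.blt j 465 then E_464 else (eT_465_467 j)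
def eT_462_467 (j : ℕ) : ℕ := bif Nat.blt j 464 then (eT_462_464 j) else (eT_464_467 j)
def eT_458_467 (j : ℕ) : ℕ := bif Nat.blt j 462 then (eT_458_462 j) else (eT_462_467 j)
def eT_450_467 (j : ℕ) : ℕ := bif Nat.blt j 458 then (eT_450_458 j) else (eT_458_467 j)
def eT_433_467 (j : ℕ) : ℕ := bif Nat.blt j 450 then (eT_433_450 j) else (eT_450_467 j)
def eT_400_467 (j : ℕ) : ℕ := bif Nat.blt j 433 then (eT_400_433 j) else (eT_433_467 j)
def eT_467_469 (j : ℕ) : ℕ := bif Nat.blt j 468 then E_467 else E_468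
def eT_469_471 (j : ℕ) : ℕ := bif Nat.blt j 470 then E_469 else E_470
def eT_467_471 (j : ℕ) : ℕ := bif Nat.blt j 469 then (eT_467_469 j) else (eT_469_471 j)
def eT_471_473 (j : ℕ) : ℕ := bif Nat.blt j 472 then E_471 else E_472
def eT_473_475 (j : ℕ) : ℕ := bif Nat.blt j 474 then E_473 else E_474
def eT_471_475 (j : ℕ) : ℕ := bif Nat.blt j 473 then (eT_471_473 j) else (eT_473_475 j)
def eT_467_475 (j : ℕ) : ℕ := bif Nat.blt j 471 then (eT_467_471 j) else (eT_471_475 j)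
def eT_475_477 (j : ℕ) : ℕ := bif Nat.blt j 476 then E_475 else E_476
def eT_477_479 (j : ℕ) : ℕ := bif Nat.blt j 478 then E_477 else E_478
def eT_475_479 (j : ℕ) : ℕ := bif Nat.blt j 477 then (eT_475_477 j) else (eT_477_479 j)
def eT_479_481 (j : ℕ) : ℕ := bif Nat.blt j 480 then E_479 else E_480
def eT_481_483 (j : ℕ) : ℕ := bif Nat.blt j 482 then E_481 else E_482
def eT_479_483 (j : ℕ) : ℕ := bif Nat.blt j 481 then (eT_479_481 j) else (eT_481_483 j)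
def eT_475_483 (j : ℕ) : ℕ := bif Nat.blt j 479 then (eT_475_479 j) else (eT_479_483 j)
def eT_467_483 (j : ℕ) : ℕ := bif Nat.blt j 475 then (eT_467_475 j) else (eT_475_483 j)
def eT_483_485 (j : ℕ) : ℕ := bif Nat.blt j 484 then E_483 else E_484
def eT_485_487 (j : ℕ) : ℕ := bif Nat.blt j 486 then E_485 else E_486
def eT_483_487 (j : ℕ) : ℕ := bif Nat.blt j 485 then (eT_483_485 j) else (eT_485_487 j)
def eT_487_489 (j : ℕ) : ℕ := bif Nat.blt j 488 then E_487 else E_488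
def eT_489_491 (j : ℕ) : ℕ := bif Nat.blt j 490 then E_489 else E_490
def eT_487_491 (j : ℕ) : ℕ := bif Nat.blt j 489 then (eT_487_489 j) else (eT_489_491 j)
def eT_483_491 (j : ℕ) : ℕ := bif Nat.blt j 487 then (eT_483_487 j) else (eT_487_491 j)
def eT_491_493 (j : ℕ) : ℕ := bif Nat.blt j 492 then E_491 else E_492
def eT_493_495 (j : ℕ) : ℕ := bif Nat.blt j 494 then E_493 else E_494
def eT_491_495 (j : ℕ) : ℕ := bif Nat.blt j 493 then (eT_491_493 j) else (eT_493_495 j)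
def eT_495_497 (j : ℕ) : ℕ := bif Nat.blt j 496 then E_495 else E_496
def eT_498_500 (j : ℕ) : ℕ := bif Nat.blt j 499 then E_498 else E_499
def eT_497_500 (j : ℕ) : ℕ := bif Nat.blt j 498 then E_497 else (eT_498_500 j)
def eT_495_500 (j : ℕ) : ℕ := bif Nat.blt j 497 then (eT_495_497 j) else (eT_497_500 j)
def eT_491_500 (j : ℕ) : ℕ := bif Nat.blt j 495 then (eT_491_495 j) else (eT_495_500 j)
def eT_483_500 (j : ℕ) : ℕ := bif Nat.blt j 491 then (eT_483_491 j) else (eT_491_500 j)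
def eT_467_500 (j : ℕ) : ℕ := bif Nat.blt j 483 then (eT_467_483 j) else (eT_483_500 j)
def eT_500_502 (j : ℕ) : ℕ := bif Nat.blt j 501 then E_500 else E_501
def eT_502_504 (j : ℕ) : ℕ := bif Nat.blt j 503 then E_502 else E_503
def eT_500_504 (j : ℕ) : ℕ := bif Nat.blt j 502 then (eT_500_502 j) else (eT_502_504 j)
def eT_504_506 (j : ℕ) : ℕ := bif Nat.blt j 505 then E_504 else E_505
def eT_506_508 (j : ℕ) : ℕ := bif Nat.blt j 507 then E_506 else E_507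
def eT_504_508 (j : ℕ) : ℕ := bif Nat.blt j 506 then (eT_504_506 j) else (eT_506_508 j)
def eT_500_508 (j : ℕ) : ℕ := bif Nat.blt j 504 then (eT_500_504 j) else (eT_504_508 j)
def eT_508_510 (j : ℕ) : ℕ := bif Nat.blt j 509 then E_508 else E_509
def eT_510_512 (j : ℕ) : ℕ := bif Nat.blt j 511 then E_510 else E_511
def eT_508_512 (j : ℕ) : ℕ := bif Nat.blt j 510 then (eT_508_510 j) else (eT_510_512 j)
def eT_512_514 (j : ℕ) : ℕ := bif Nat.blt j 513 then E_512 else E_513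
def eT_515_517 (j : ℕ) : ℕ := bif Nat.blt j 516 then E_515 else E_516
def eT_514_517 (j : ℕ) : ℕ := bif Nat.blt j 515 then E_514 else (eT_515_517 j)
def eT_512_517 (j : ℕ) : ℕ := bif Nat.blt j 514 then (eT_512_514 j) else (eT_514_517 j)
def eT_508_517 (j : ℕ) : ℕ := bif Nat.blt j 512 then (eT_508_512 j) else (eT_512_517 j)
def eT_500_517 (j : ℕ) : ℕ := bif Nat.blt j 508 then (eT_500_508 j) else (eT_508_517 j)
def eT_517_519 (j : ℕ) : ℕ := bif Nat.blt j 518 then E_517 else E_518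
def eT_519_521 (j : ℕ) : ℕ := bif Nat.blt j 520 then E_519 else E_520
def eT_517_521 (j : ℕ) : ℕ := bif Nat.blt j 519 then (eT_517_519 j) else (eT_519_521 j)
def eT_521_523 (j : ℕ) : ℕ := bif Nat.blt j 522 then E_521 else E_522
def eT_523_525 (j : ℕ) : ℕ := bif Nat.blt j 524 then E_523 else E_524
def eT_521_525 (j : ℕ) : ℕ := bif Nat.blt j 523 then (eT_521_523 j) else (eT_523_525 j)
def eT_517_525 (j : ℕ) : ℕ := bif Nat.blt j 521 then (eT_517_521 j) else (eT_521_525 j)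
def eT_525_527 (j : ℕ) : ℕ := bif Nat.blt j 526 then E_525 else E_526
def eT_527_529 (j : ℕ) : ℕ := bif Nat.blt j 528 then E_527 else E_528
def eT_525_529 (j : ℕ) : ℕ := bif Nat.blt j 527 then (eT_525_527 j) else (eT_527_529 j)
def eT_529_531 (j : ℕ) : ℕ := bif Nat.blt j 530 then E_529 else E_530
def eT_532_534 (j : ℕ) : ℕ := bif Nat.blt j 533 then E_532 else E_533
def eT_531_534 (j : ℕ) : ℕ := bif Nat.blt j 532 then E_531 else (eT_532_534 j)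
def eT_529_534 (j : ℕ) : ℕ := bif Nat.blt j 531 then (eT_529_531 j) else (eT_531_534 j)
def eT_525_534 (j : ℕ) : ℕ := bif Nat.blt j 529 then (eT_525_529 j) else (eT_529_534 j)
def eT_517_534 (j : ℕ) : ℕ := bif Nat.blt j 525 then (eT_517_525 j) else (eT_525_534 j)
def eT_500_534 (j : ℕ) : ℕ := bif Nat.blt j 517 then (eT_500_517 j) else (eT_517_534 j)
def eT_467_534 (j : ℕ) : ℕ := bif Nat.blt j 500 then (eT_467_500 j) else (eT_500_534 j)
def eT_400_534 (j : ℕ) : ℕ := bif Nat.blt j 467 then (eT_400_467 j) else (eT_467_534 j)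
def eT_267_534 (j : ℕ) : ℕ := bif Nat.blt j 400 then (eT_267_400 j) else (eT_400_534 j)
def eT_0_534 (j : ℕ) : ℕ := bif Nat.blt j 267 then (eT_0_267 j) else (eT_267_534 j)
def eT_534_536 (j : ℕ) : ℕ := bif Nat.blt j 535 then E_534 else E_535
def eT_536_538 (j : ℕ) : ℕ := bif Nat.blt j 537 then E_536 else E_537
def eT_534_538 (j : ℕ) : ℕ := bif Nat.blt j 536 then (eT_534_536 j) else (eT_536_538 j)
def eT_538_540 (j : ℕ) : ℕ := bif Nat.blt j 539 then E_538 else E_539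
def eT_540_542 (j : ℕ) : ℕ := bif Nat.blt j 541 then E_540 else E_541
def eT_538_542 (j : ℕ) : ℕ := bif Nat.blt j 540 then (eT_538_540 j) else (eT_540_542 j)
def eT_534_542 (j : ℕ) : ℕ := bif Nat.blt j 538 then (eT_534_538 j) else (eT_538_542 j)
def eT_542_544 (j : ℕ) : ℕ := bif Nat.blt j 543 then E_542 else E_543
def eT_544_546 (j : ℕ) : ℕ := bif Nat.blt j 545 then E_544 else E_545
def eT_542_546 (j : ℕ) : ℕ := bif Nat.blt j 544 then (eT_542_544 j) else (eT_544_546 j)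
def eT_546_548 (j : ℕ) : ℕ := bif Nat.blt j 547 then E_546 else E_547
def eT_548_550 (j : ℕ) : ℕ := bif Nat.blt j 549 then E_548 else E_549
def eT_546_550 (j : ℕ) : ℕ := bif Nat.blt j 548 then (eT_546_548 j) else (eT_548_550 j)
def eT_542_550 (j : ℕ) : ℕ := bif Nat.blt j 546 then (eT_542_546 j) else (eT_546_550 j)
def eT_534_550 (j : ℕ) : ℕ := bif Nat.blt j 542 then (eT_534_542 j) else (eT_542_550 j)
def eT_550_552 (j : ℕ) : ℕ := bif Nat.blt j 551 then E_550 else E_551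
def eT_552_554 (j : ℕ) : ℕ := bif Nat.blt j 553 then E_552 else E_553
def eT_550_554 (j : ℕ) : ℕ := bif Nat.blt j 552 then (eT_550_552 j) else (eT_552_554 j)
def eT_554_556 (j : ℕ) : ℕ := bif Nat.blt j 555 then E_554 else E_555
def eT_556_558 (j : ℕ) : ℕ := bif Nat.blt j 557 then E_556 else E_557
def eT_554_558 (j : ℕ) : ℕ := bif Nat.blt j 556 then (eT_554_556 j) else (eT_556_558 j)
def eT_550_558 (j : ℕ) : ℕ := bif Nat.blt j 554 then (eT_550_554 j) else (eT_554_558 j)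
def eT_558_560 (j : ℕ) : ℕ := bif Nat.blt j 559 then E_558 else E_559
def eT_560_562 (j : ℕ) : ℕ := bif Nat.blt j 561 then E_560 else E_561
def eT_558_562 (j : ℕ) : ℕ := bif Nat.blt j 560 then (eT_558_560 j) else (eT_560_562 j)
def eT_562_564 (j : ℕ) : ℕ := bif Nat.blt j 563 then E_562 else E_563
def eT_565_567 (j : ℕ) : ℕ := bif Nat.blt j 566 then E_565 else E_566
def eT_564_567 (j : ℕ) : ℕ := bif Nat.blt j 565 then E_564 else (eT_565_567 j)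
def eT_562_567 (j : ℕ) : ℕ := bif Nat.blt j 564 then (eT_562_564 j) else (eT_564_567 j)
def eT_558_567 (j : ℕ) : ℕ := bif Nat.blt j 562 then (eT_558_562 j) else (eT_562_567 j)
def eT_550_567 (j : ℕ) : ℕ := bif Nat.blt j 558 then (eT_550_558 j) else (eT_558_567 j)
def eT_534_567 (j : ℕ) : ℕ := bif Nat.blt j 550 then (eT_534_550 j) else (eT_550_567 j)
def eT_567_569 (j : ℕ) : ℕ := bif Nat.blt j 568 then E_567 else E_568
def eT_569_571 (j : ℕ) : ℕ := bif Nat.blt j 570 then E_569 else E_570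
def eT_567_571 (j : ℕ) : ℕ := bif Nat.blt j 569 then (eT_567_569 j) else (eT_569_571 j)
def eT_571_573 (j : ℕ) : ℕ := bif Nat.blt j 572 then E_571 else E_572
def eT_573_575 (j : ℕ) : ℕ := bif Nat.blt j 574 then E_573 else E_574
def eT_571_575 (j : ℕ) : ℕ := bif Nat.blt j 573 then (eT_571_573 j) else (eT_573_575 j)
def eT_567_575 (j : ℕ) : ℕ := bif Nat.blt j 571 then (eT_567_571 j) else (eT_571_575 j)
def eT_575_577 (j : ℕ) : ℕ := bif Nat.blt j 576 then E_575 else E_576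
def eT_577_579 (j : ℕ) : ℕ := bif Nat.blt j 578 then E_577 else E_578
def eT_575_579 (j : ℕ) : ℕ := bif Nat.blt j 577 then (eT_575_577 j) else (eT_577_579 j)
def eT_579_581 (j : ℕ) : ℕ := bif Nat.blt j 580 then E_579 else E_580
def eT_581_583 (j : ℕ) : ℕ := bif Nat.blt j 582 then E_581 else E_582
def eT_579_583 (j : ℕ) : ℕ := bif Nat.blt j 581 then (eT_579_581 j) else (eT_581_583 j)
def eT_575_583 (j : ℕ) : ℕ := bif Nat.blt j 579 then (eT_575_579 j) else (eT_579_583 j)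
def eT_567_583 (j : ℕ) : ℕ := bif Nat.blt j 575 then (eT_567_575 j) else (eT_575_583 j)
def eT_583_585 (j : ℕ) : ℕ := bif Nat.blt j 584 then E_583 else E_584
def eT_585_587 (j : ℕ) : ℕ := bif Nat.blt j 586 then E_585 else E_586
def eT_583_587 (j : ℕ) : ℕ := bif Nat.blt j 585 then (eT_583_585 j) else (eT_585_587 j)
def eT_587_589 (j : ℕ) : ℕ := bif Nat.blt j 588 then E_587 else E_588
def eT_589_591 (j : ℕ) : ℕ := bif Nat.blt j 590 then E_589 else E_590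
def eT_587_591 (j : ℕ) : ℕ := bif Nat.blt j 589 then (eT_587_589 j) else (eT_589_591 j)
def eT_583_591 (j : ℕ) : ℕ := bif Nat.blt j 587 then (eT_583_587 j) else (eT_587_591 j)
def eT_591_593 (j : ℕ) : ℕ := bif Nat.blt j 592 then E_591 else E_592
def eT_593_595 (j : ℕ) : ℕ := bif Nat.blt j 594 then E_593 else E_594
def eT_591_595 (j : ℕ) : ℕ := bif Nat.blt j 593 then (eT_591_593 j) else (eT_593_595 j)
def eT_595_597 (j : ℕ) : ℕ := bif Nat.blt j 596 then E_595 else E_596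
def eT_598_600 (j : ℕ) : ℕ := bif Nat.blt j 599 then E_598 else E_599
def eT_597_600 (j : ℕ) : ℕ := bif Nat.blt j 598 then E_597 else (eT_598_600 j)
def eT_595_600 (j : ℕ) : ℕ := bif Nat.blt j 597 then (eT_595_597 j) else (eT_597_600 j)
def eT_591_600 (j : ℕ) : ℕ := bif Nat.blt j 595 then (eT_591_595 j) else (eT_595_600 j)
def eT_583_600 (j : ℕ) : ℕ := bif Nat.blt j 591 then (eT_583_591 j) else (eT_591_600 j)
def eT_567_600 (j : ℕ) : ℕ := bif Nat.blt j 583 then (eT_567_583 j) else (eT_583_600 j)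
def eT_534_600 (j : ℕ) : ℕ := bif Nat.blt j 567 then (eT_534_567 j) else (eT_567_600 j)
def eT_600_602 (j : ℕ) : ℕ := bif Nat.blt j 601 then E_600 else E_601
def eT_602_604 (j : ℕ) : ℕ := bif Nat.blt j 603 then E_602 else E_603
def eT_600_604 (j : ℕ) : ℕ := bif Nat.blt j 602 then (eT_600_602 j) else (eT_602_604 j)
def eT_604_606 (j : ℕ) : ℕ := bif Nat.blt j 605 then E_604 else E_605
def eT_606_608 (j : ℕ) : ℕ := bif Nat.blt j 607 then E_606 else E_607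
def eT_604_608 (j : ℕ) : ℕ := bif Nat.blt j 606 then (eT_604_606 j) else (eT_606_608 j)
def eT_600_608 (j : ℕ) : ℕ := bif Nat.blt j 604 then (eT_600_604 j) else (eT_604_608 j)
def eT_608_610 (j : ℕ) : ℕ := bif Nat.blt j 609 then E_608 else E_609
def eT_610_612 (j : ℕ) : ℕ := bif Nat.blt j 611 then E_610 else E_611
def eT_608_612 (j : ℕ) : ℕ := bif Nat.blt j 610 then (eT_608_610 j) else (eT_610_612 j)
def eT_612_614 (j : ℕ) : ℕ := bif Nat.blt j 613 then E_612 else E_613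
def eT_614_616 (j : ℕ) : ℕ := bif Nat.blt j 615 then E_614 else E_615
def eT_612_616 (j : ℕ) : ℕ := bif Nat.blt j 614 then (eT_612_614 j) else (eT_614_616 j)
def eT_608_616 (j : ℕ) : ℕ := bif Nat.blt j 612 then (eT_608_612 j) else (eT_612_616 j)
def eT_600_616 (j : ℕ) : ℕ := bif Nat.blt j 608 then (eT_600_608 j) else (eT_608_616 j)
def eT_616_618 (j : ℕ) : ℕ := bif Nat.blt j 617 then E_616 else E_617
def eT_618_620 (j : ℕ) : ℕ := bif Nat.blt j 619 then E_618 else E_619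
def eT_616_620 (j : ℕ) : ℕ := bif Nat.blt j 618 then (eT_616_618 j) else (eT_618_620 j)
def eT_620_622 (j : ℕ) : ℕ := bif Nat.blt j 621 then E_620 else E_621
def eT_622_624 (j : ℕ) : ℕ := bif Nat.blt j 623 then E_622 else E_623
def eT_620_624 (j : ℕ) : ℕ := bif Nat.blt j 622 then (eT_620_622 j) else (eT_622_624 j)
def eT_616_624 (j : ℕ) : ℕ := bif Nat.blt j 620 then (eT_616_620 j) else (eT_620_624 j)
def eT_624_626 (j : ℕ) : ℕ := bif Nat.blt j 625 then E_624 else E_625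
def eT_626_628 (j : ℕ) : ℕ := bif Nat.blt j 627 then E_626 else E_627
def eT_624_628 (j : ℕ) : ℕ := bif Nat.blt j 626 then (eT_624_626 j) else (eT_626_628 j)
def eT_628_630 (j : ℕ) : ℕ := bif Nat.blt j 629 then E_628 else E_629
def eT_631_633 (j : ℕ) : ℕ := bif Nat.blt j 632 then E_631 else E_632
def eT_630_633 (j : ℕ) : ℕ := bif Nat.blt j 631 then E_630 else (eT_631_633 j)
def eT_628_633 (j : ℕ) : ℕ := bif Nat.blt j 630 then (eT_628_630 j) else (eT_630_633 j)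
def eT_624_633 (j : ℕ) : ℕ := bif Nat.blt j 628 then (eT_624_628 j) else (eT_628_633 j)
def eT_616_633 (j : ℕ) : ℕ := bif Nat.blt j 624 then (eT_616_624 j) else (eT_624_633 j)
def eT_600_633 (j : ℕ) : ℕ := bif Nat.blt j 616 then (eT_600_616 j) else (eT_616_633 j)
def eT_633_635 (j : ℕ) : ℕ := bif Nat.blt j 634 then E_633 else E_634
def eT_635_637 (j : ℕ) : ℕ := bif Nat.blt j 636 then E_635 else E_636
def eT_633_637 (j : ℕ) : ℕ := bif Nat.blt j 635 then (eT_633_635 j) else (eT_635_637 j)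
def eT_637_639 (j : ℕ) : ℕ := bif Nat.blt j 638 then E_637 else E_638
def eT_639_641 (j : ℕ) : ℕ := bif Nat.blt j 640 then E_639 else E_640
def eT_637_641 (j : ℕ) : ℕ := bif Nat.blt j 639 then (eT_637_639 j) else (eT_639_641 j)
def eT_633_641 (j : ℕ) : ℕ := bif Nat.blt j 637 then (eT_633_637 j) else (eT_637_641 j)
def eT_641_643 (j : ℕ) : ℕ := bif Nat.blt j 642 then E_641 else E_642
def eT_643_645 (j : ℕ) : ℕ := bif Nat.blt j 644 then E_643 else E_644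
def eT_641_645 (j : ℕ) : ℕ := bif Nat.blt j 643 then (eT_641_643 j) else (eT_643_645 j)
def eT_645_647 (j : ℕ) : ℕ := bif Nat.blt j 646 then E_645 else E_646
def eT_648_650 (j : ℕ) : ℕ := bif Nat.blt j 649 then E_648 else E_649
def eT_647_650 (j : ℕ) : ℕ := bif Nat.blt j 648 then E_647 else (eT_648_650 j)
def eT_645_650 (j : ℕ) : ℕ := bif Nat.blt j 647 then (eT_645_647 j) else (eT_647_650 j)
def eT_641_650 (j : ℕ) : ℕ := bif Nat.blt j 645 then (eT_641_645 j) else (eT_645_650 j)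
def eT_633_650 (j : ℕ) : ℕ := bif Nat.blt j 641 then (eT_633_641 j) else (eT_641_650 j)
def eT_650_652 (j : ℕ) : ℕ := bif Nat.blt j 651 then E_650 else E_651
def eT_652_654 (j : ℕ) : ℕ := bif Nat.blt j 653 then E_652 else E_653
def eT_650_654 (j : ℕ) : ℕ := bif Nat.blt j 652 then (eT_650_652 j) else (eT_652_654 j)
def eT_654_656 (j : ℕ) : ℕ := bif Nat.blt j 655 then E_654 else E_655
def eT_656_658 (j : ℕ) : ℕ := bif Nat.blt j 657 then E_656 else E_657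
def eT_654_658 (j : ℕ) : ℕ := bif Nat.blt j 656 then (eT_654_656 j) else (eT_656_658 j)
def eT_650_658 (j : ℕ) : ℕ := bif Nat.blt j 654 then (eT_650_654 j) else (eT_654_658 j)
def eT_658_660 (j : ℕ) : ℕ := bif Nat.blt j 659 then E_658 else E_659
def eT_660_662 (j : ℕ) : ℕ := bif Nat.blt j 661 then E_660 else E_661
def eT_658_662 (j : ℕ) : ℕ := bif Nat.blt j 660 then (eT_658_660 j) else (eT_660_662 j)
def eT_662_664 (j : ℕ) : ℕ := bif Nat.blt j 663 then E_662 else E_663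
def eT_665_667 (j : ℕ) : ℕ := bif Nat.blt j 666 then E_665 else E_666
def eT_664_667 (j : ℕ) : ℕ := bif Nat.blt j 665 then E_664 else (eT_665_667 j)
def eT_662_667 (j : ℕ) : ℕ := bif Nat.blt j 664 then (eT_662_664 j) else (eT_664_667 j)
def eT_658_667 (j : ℕ) : ℕ := bif Nat.blt j 662 then (eT_658_662 j) else (eT_662_667 j)
def eT_650_667 (j : ℕ) : ℕ := bif Nat.blt j 658 then (eT_650_658 j) else (eT_658_667 j)
def eT_633_667 (j : ℕ) : ℕ := bif Nat.blt j 650 then (eT_633_650 j) else (eT_650_667 j)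
def eT_600_667 (j : ℕ) : ℕ := bif Nat.blt j 633 then (eT_600_633 j) else (eT_633_667 j)
def eT_534_667 (j : ℕ) : ℕ := bif Nat.blt j 600 then (eT_534_600 j) else (eT_600_667 j)
def eT_667_669 (j : ℕ) : ℕ := bif Nat.blt j 668 then E_667 else E_668
def eT_669_671 (j : ℕ) : ℕ := bif Nat.blt j 670 then E_669 else E_670
def eT_667_671 (j : ℕ) : ℕ := bif Nat.blt j 669 then (eT_667_669 j) else (eT_669_671 j)
def eT_671_673 (j : ℕ) : ℕ := bif Nat.blt j 672 then E_671 else E_672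
def eT_673_675 (j : ℕ) : ℕ := bif Nat.blt j 674 then E_673 else E_674
def eT_671_675 (j : ℕ) : ℕ := bif Nat.blt j 673 then (eT_671_673 j) else (eT_673_675 j)
def eT_667_675 (j : ℕ) : ℕ := bif Nat.blt j 671 then (eT_667_671 j) else (eT_671_675 j)
def eT_675_677 (j : ℕ) : ℕ := bif Nat.blt j 676 then E_675 else E_676
def eT_677_679 (j : ℕ) : ℕ := bif Nat.blt j 678 then E_677 else E_678
def eT_675_679 (j : ℕ) : ℕ := bif Nat.blt j 677 then (eT_675_677 j) else (eT_677_679 j)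
def eT_679_681 (j : ℕ) : ℕ := bif Nat.blt j 680 then E_679 else E_680
def eT_681_683 (j : ℕ) : ℕ := bif Nat.blt j 682 then E_681 else E_682
def eT_679_683 (j : ℕ) : ℕ := bif Nat.blt j 681 then (eT_679_681 j) else (eT_681_683 j)
def eT_675_683 (j : ℕ) : ℕ := bif Nat.blt j 679 then (eT_675_679 j) else (eT_679_683 j)
def eT_667_683 (j : ℕ) : ℕ := bif Nat.blt j 675 then (eT_667_675 j) else (eT_675_683 j)
def eT_683_685 (j : ℕ) : ℕ := bif Nat.blt j 684 then E_683 else E_684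
def eT_685_687 (j : ℕ) : ℕ := bif Nat.blt j 686 then E_685 else E_686
def eT_683_687 (j : ℕ) : ℕ := bif Nat.blt j 685 then (eT_683_685 j) else (eT_685_687 j)
def eT_687_689 (j : ℕ) : ℕ := bif Nat.blt j 688 then E_687 else E_688
def eT_689_691 (j : ℕ) : ℕ := bif Nat.blt j 690 then E_689 else E_690
def eT_687_691 (j : ℕ) : ℕ := bif Nat.blt j 689 then (eT_687_689 j) else (eT_689_691 j)
def eT_683_691 (j : ℕ) : ℕ := bif Nat.blt j 687 then (eT_683_687 j) else (eT_687_691 j)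
def eT_691_693 (j : ℕ) : ℕ := bif Nat.blt j 692 then E_691 else E_692
def eT_693_695 (j : ℕ) : ℕ := bif Nat.blt j 694 then E_693 else E_694
def eT_691_695 (j : ℕ) : ℕ := bif Nat.blt j 693 then (eT_691_693 j) else (eT_693_695 j)
def eT_695_697 (j : ℕ) : ℕ := bif Nat.blt j 696 then E_695 else E_696
def eT_698_700 (j : ℕ) : ℕ := bif Nat.blt j 699 then E_698 else E_699
def eT_697_700 (j : ℕ) : ℕ := bif Nat.blt j 698 then E_697 else (eT_698_700 j)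
def eT_695_700 (j : ℕ) : ℕ := bif Nat.blt j 697 then (eT_695_697 j) else (eT_697_700 j)
def eT_691_700 (j : ℕ) : ℕ := bif Nat.blt j 695 then (eT_691_695 j) else (eT_695_700 j)
def eT_683_700 (j : ℕ) : ℕ := bif Nat.blt j 691 then (eT_683_691 j) else (eT_691_700 j)
def eT_667_700 (j : ℕ) : ℕ := bif Nat.blt j 683 then (eT_667_683 j) else (eT_683_700 j)
def eT_700_702 (j : ℕ) : ℕ := bif Nat.blt j 701 then E_700 else E_701
def eT_702_704 (j : ℕ) : ℕ := bif Nat.blt j 703 then E_702 else E_703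
def eT_700_704 (j : ℕ) : ℕ := bif Nat.blt j 702 then (eT_700_702 j) else (eT_702_704 j)
def eT_704_706 (j : ℕ) : ℕ := bif Nat.blt j 705 then E_704 else E_705
def eT_706_708 (j : ℕ) : ℕ := bif Nat.blt j 707 then E_706 else E_707
def eT_704_708 (j : ℕ) : ℕ := bif Nat.blt j 706 then (eT_704_706 j) else (eT_706_708 j)
def eT_700_708 (j : ℕ) : ℕ := bif Nat.blt j 704 then (eT_700_704 j) else (eT_704_708 j)
def eT_708_710 (j : ℕ) : ℕ := bif Nat.blt j 709 then E_708 else E_709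
def eT_710_712 (j : ℕ) : ℕ := bif Nat.blt j 711 then E_710 else E_711
def eT_708_712 (j : ℕ) : ℕ := bif Nat.blt j 710 then (eT_708_710 j) else (eT_710_712 j)
def eT_712_714 (j : ℕ) : ℕ := bif Nat.blt j 713 then E_712 else E_713
def eT_715_717 (j : ℕ) : ℕ := bif Nat.blt j 716 then E_715 else E_716
def eT_714_717 (j : ℕ) : ℕ := bif Nat.blt j 715 then E_714 else (eT_715_717 j)
def eT_712_717 (j : ℕ) : ℕ := bif Nat.blt j 714 then (eT_712_714 j) else (eT_714_717 j)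
def eT_708_717 (j : ℕ) : ℕ := bif Nat.blt j 712 then (eT_708_712 j) else (eT_712_717 j)
def eT_700_717 (j : ℕ) : ℕ := bif Nat.blt j 708 then (eT_700_708 j) else (eT_708_717 j)
def eT_717_719 (j : ℕ) : ℕ := bif Nat.blt j 718 then E_717 else E_718
def eT_719_721 (j : ℕ) : ℕ := bif Nat.blt j 720 then E_719 else E_720
def eT_717_721 (j : ℕ) : ℕ := bif Nat.blt j 719 then (eT_717_719 j) else (eT_719_721 j)
def eT_721_723 (j : ℕ) : ℕ := bif Nat.blt j 722 then E_721 else E_722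
def eT_723_725 (j : ℕ) : ℕ := bif Nat.blt j 724 then E_723 else E_724
def eT_721_725 (j : ℕ) : ℕ := bif Nat.blt j 723 then (eT_721_723 j) else (eT_723_725 j)
def eT_717_725 (j : ℕ) : ℕ := bif Nat.blt j 721 then (eT_717_721 j) else (eT_721_725 j)
def eT_725_727 (j : ℕ) : ℕ := bif Nat.blt j 726 then E_725 else E_726
def eT_727_729 (j : ℕ) : ℕ := bif Nat.blt j 728 then E_727 else E_728
def eT_725_729 (j : ℕ) : ℕ := bif Nat.blt j 727 then (eT_725_727 j) else (eT_727_729 j)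
def eT_729_731 (j : ℕ) : ℕ := bif Nat.blt j 730 then E_729 else E_730
def eT_732_734 (j : ℕ) : ℕ := bif Nat.blt j 733 then E_732 else E_733
def eT_731_734 (j : ℕ) : ℕ := bif Nat.blt j 732 then E_731 else (eT_732_734 j)
def eT_729_734 (j : ℕ) : ℕ := bif Nat.blt j 731 then (eT_729_731 j) else (eT_731_734 j)
def eT_725_734 (j : ℕ) : ℕ := bif Nat.blt j 729 then (eT_725_729 j) else (eT_729_734 j)
def eT_717_734 (j : ℕ) : ℕ := bif Nat.blt j 725 then (eT_717_725 j) else (eT_725_734 j)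
def eT_700_734 (j : ℕ) : ℕ := bif Nat.blt j 717 then (eT_700_717 j) else (eT_717_734 j)
def eT_667_734 (j : ℕ) : ℕ := bif Nat.blt j 700 then (eT_667_700 j) else (eT_700_734 j)
def eT_734_736 (j : ℕ) : ℕ := bif Nat.blt j 735 then E_734 else E_735
def eT_736_738 (j : ℕ) : ℕ := bif Nat.blt j 737 then E_736 else E_737
def eT_734_738 (j : ℕ) : ℕ := bif Nat.blt j 736 then (eT_734_736 j) else (eT_736_738 j)
def eT_738_740 (j : ℕ) : ℕ := bif Nat.blt j 739 then E_738 else E_739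
def eT_740_742 (j : ℕ) : ℕ := bif Nat.blt j 741 then E_740 else E_741
def eT_738_742 (j : ℕ) : ℕ := bif Nat.blt j 740 then (eT_738_740 j) else (eT_740_742 j)
def eT_734_742 (j : ℕ) : ℕ := bif Nat.blt j 738 then (eT_734_738 j) else (eT_738_742 j)
def eT_742_744 (j : ℕ) : ℕ := bif Nat.blt j 743 then E_742 else E_743
def eT_744_746 (j : ℕ) : ℕ := bif Nat.blt j 745 then E_744 else E_745
def eT_742_746 (j : ℕ) : ℕ := bif Nat.blt j 744 then (eT_742_744 j) else (eT_744_746 j)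
def eT_746_748 (j : ℕ) : ℕ := bif Nat.blt j 747 then E_746 else E_747
def eT_748_750 (j : ℕ) : ℕ := bif Nat.blt j 749 then E_748 else E_749
def eT_746_750 (j : ℕ) : ℕ := bif Nat.blt j 748 then (eT_746_748 j) else (eT_748_750 j)
def eT_742_750 (j : ℕ) : ℕ := bif Nat.blt j 746 then (eT_742_746 j) else (eT_746_750 j)
def eT_734_750 (j : ℕ) : ℕ := bif Nat.blt j 742 then (eT_734_742 j) else (eT_742_750 j)
def eT_750_752 (j : ℕ) : ℕ := bif Nat.blt j 751 then E_750 else E_751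
def eT_752_754 (j : ℕ) : ℕ := bif Nat.blt j 753 then E_752 else E_753
def eT_750_754 (j : ℕ) : ℕ := bif Nat.blt j 752 then (eT_750_752 j) else (eT_752_754 j)
def eT_754_756 (j : ℕ) : ℕ := bif Nat.blt j 755 then E_754 else E_755
def eT_756_758 (j : ℕ) : ℕ := bif Nat.blt j 757 then E_756 else E_757
def eT_754_758 (j : ℕ) : ℕ := bif Nat.blt j 756 then (eT_754_756 j) else (eT_756_758 j)
def eT_750_758 (j : ℕ) : ℕ := bif Nat.blt j 754 then (eT_750_754 j) else (eT_754_758 j)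
def eT_758_760 (j : ℕ) : ℕ := bif Nat.blt j 759 then E_758 else E_759
def eT_760_762 (j : ℕ) : ℕ := bif Nat.blt j 761 then E_760 else E_761
def eT_758_762 (j : ℕ) : ℕ := bif Nat.blt j 760 then (eT_758_760 j) else (eT_760_762 j)
def eT_762_764 (j : ℕ) : ℕ := bif Nat.blt j 763 then E_762 else E_763
def eT_765_767 (j : ℕ) : ℕ := bif Nat.blt j 766 then E_765 else E_766
def eT_764_767 (j : ℕ) : ℕ := bif Nat.blt j 765 then E_764 else (eT_765_767 j)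
def eT_762_767 (j : ℕ) : ℕ := bif Nat.blt j 764 then (eT_762_764 j) else (eT_764_767 j)
def eT_758_767 (j : ℕ) : ℕ := bif Nat.blt j 762 then (eT_758_762 j) else (eT_762_767 j)
def eT_750_767 (j : ℕ) : ℕ := bif Nat.blt j 758 then (eT_750_758 j) else (eT_758_767 j)
def eT_734_767 (j : ℕ) : ℕ := bif Nat.blt j 750 then (eT_734_750 j) else (eT_750_767 j)
def eT_767_769 (j : ℕ) : ℕ := bif Nat.blt j 768 then E_767 else E_768
def eT_769_771 (j : ℕ) : ℕ := bif Nat.blt j 770 then E_769 else E_770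
def eT_767_771 (j : ℕ) : ℕ := bif Nat.blt j 769 then (eT_767_769 j) else (eT_769_771 j)
def eT_771_773 (j : ℕ) : ℕ := bif Nat.blt j 772 then E_771 else E_772
def eT_773_775 (j : ℕ) : ℕ := bif Nat.blt j 774 then E_773 else E_774
def eT_771_775 (j : ℕ) : ℕ := bif Nat.blt j 773 then (eT_771_773 j) else (eT_773_775 j)
def eT_767_775 (j : ℕ) : ℕ := bif Nat.blt j 771 then (eT_767_771 j) else (eT_771_775 j)
def eT_775_777 (j : ℕ) : ℕ := bif Nat.blt j 776 then E_775 else E_776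
def eT_777_779 (j : ℕ) : ℕ := bif Nat.blt j 778 then E_777 else E_778
def eT_775_779 (j : ℕ) : ℕ := bif Nat.blt j 777 then (eT_775_777 j) else (eT_777_779 j)
def eT_779_781 (j : ℕ) : ℕ := bif Nat.blt j 780 then E_779 else E_780
def eT_782_784 (j : ℕ) : ℕ := bif Nat.blt j 783 then E_782 else E_783
def eT_781_784 (j : ℕ) : ℕ := bif Nat.blt j 782 then E_781 else (eT_782_784 j)
def eT_779_784 (j : ℕ) : ℕ := bif Nat.blt j 781 then (eT_779_781 j) else (eT_781_784 j)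
def eT_775_784 (j : ℕ) : ℕ := bif Nat.blt j 779 then (eT_775_779 j) else (eT_779_784 j)
def eT_767_784 (j : ℕ) : ℕ := bif Nat.blt j 775 then (eT_767_775 j) else (eT_775_784 j)
def eT_784_786 (j : ℕ) : ℕ := bif Nat.blt j 785 then E_784 else E_785
def eT_786_788 (j : ℕ) : ℕ := bif Nat.blt j 787 then E_786 else E_787
def eT_784_788 (j : ℕ) : ℕ := bif Nat.blt j 786 then (eT_784_786 j) else (eT_786_788 j)
def eT_788_790 (j : ℕ) : ℕ := bif Nat.blt j 789 then E_788 else E_789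
def eT_790_792 (j : ℕ) : ℕ := bif Nat.blt j 791 then E_790 else E_791
def eT_788_792 (j : ℕ) : ℕ := bif Nat.blt j 790 then (eT_788_790 j) else (eT_790_792 j)
def eT_784_792 (j : ℕ) : ℕ := bif Nat.blt j 788 then (eT_784_788 j) else (eT_788_792 j)
def eT_792_794 (j : ℕ) : ℕ := bif Nat.blt j 793 then E_792 else E_793
def eT_794_796 (j : ℕ) : ℕ := bif Nat.blt j 795 then E_794 else E_795
def eT_792_796 (j : ℕ) : ℕ := bif Nat.blt j 794 then (eT_792_794 j) else (eT_794_796 j)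
def eT_796_798 (j : ℕ) : ℕ := bif Nat.blt j 797 then E_796 else E_797
def eT_799_801 (j : ℕ) : ℕ := bif Nat.blt j 800 then E_799 else E_800
def eT_798_801 (j : ℕ) : ℕ := bif Nat.blt j 799 then E_798 else (eT_799_801 j)
def eT_796_801 (j : ℕ) : ℕ := bif Nat.blt j 798 then (eT_796_798 j) else (eT_798_801 j)
def eT_792_801 (j : ℕ) : ℕ := bif Nat.blt j 796 then (eT_792_796 j) else (eT_796_801 j)
def eT_784_801 (j : ℕ) : ℕ := bif Nat.blt j 792 then (eT_784_792 j) else (eT_792_801 j)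
def eT_767_801 (j : ℕ) : ℕ := bif Nat.blt j 784 then (eT_767_784 j) else (eT_784_801 j)
def eT_734_801 (j : ℕ) : ℕ := bif Nat.blt j 767 then (eT_734_767 j) else (eT_767_801 j)
def eT_667_801 (j : ℕ) : ℕ := bif Nat.blt j 734 then (eT_667_734 j) else (eT_734_801 j)
def eT_534_801 (j : ℕ) : ℕ := bif Nat.blt j 667 then (eT_534_667 j) else (eT_667_801 j)
def eT_801_803 (j : ℕ) : ℕ := bif Nat.blt j 802 then E_801 else E_802
def eT_803_805 (j : ℕ) : ℕ := bif Nat.blt j 804 then E_803 else E_804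
def eT_801_805 (j : ℕ) : ℕ := bif Nat.blt j 803 then (eT_801_803 j) else (eT_803_805 j)
def eT_805_807 (j : ℕ) : ℕ := bif Nat.blt j 806 then E_805 else E_806
def eT_807_809 (j : ℕ) : ℕ := bif Nat.blt j 808 then E_807 else E_808
def eT_805_809 (j : ℕ) : ℕ := bif Nat.blt j 807 then (eT_805_807 j) else (eT_807_809 j)
def eT_801_809 (j : ℕ) : ℕ := bif Nat.blt j 805 then (eT_801_805 j) else (eT_805_809 j)
def eT_809_811 (j : ℕ) : ℕ := bif Nat.blt j 810 then E_809 else E_810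
def eT_811_813 (j : ℕ) : ℕ := bif Nat.blt j 812 then E_811 else E_812
def eT_809_813 (j : ℕ) : ℕ := bif Nat.blt j 811 then (eT_809_811 j) else (eT_811_813 j)
def eT_813_815 (j : ℕ) : ℕ := bif Nat.blt j 814 then E_813 else E_814
def eT_815_817 (j : ℕ) : ℕ := bif Nat.blt j 816 then E_815 else E_816
def eT_813_817 (j : ℕ) : ℕ := bif Nat.blt j 815 then (eT_813_815 j) else (eT_815_817 j)
def eT_809_817 (j : ℕ) : ℕ := bif Nat.blt j 813 then (eT_809_813 j) else (eT_813_817 j)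
def eT_801_817 (j : ℕ) : ℕ := bif Nat.blt j 809 then (eT_801_809 j) else (eT_809_817 j)
def eT_817_819 (j : ℕ) : ℕ := bif Nat.blt j 818 then E_817 else E_818
def eT_819_821 (j : ℕ) : ℕ := bif Nat.blt j 820 then E_819 else E_820
def eT_817_821 (j : ℕ) : ℕ := bif Nat.blt j 819 then (eT_817_819 j) else (eT_819_821 j)
def eT_821_823 (j : ℕ) : ℕ := bif Nat.blt j 822 then E_821 else E_822
def eT_823_825 (j : ℕ) : ℕ := bif Nat.blt j 824 then E_823 else E_824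
def eT_821_825 (j : ℕ) : ℕ := bif Nat.blt j 823 then (eT_821_823 j) else (eT_823_825 j)
def eT_817_825 (j : ℕ) : ℕ := bif Nat.blt j 821 then (eT_817_821 j) else (eT_821_825 j)
def eT_825_827 (j : ℕ) : ℕ := bif Nat.blt j 826 then E_825 else E_826
def eT_827_829 (j : ℕ) : ℕ := bif Nat.blt j 828 then E_827 else E_828
def eT_825_829 (j : ℕ) : ℕ := bif Nat.blt j 827 then (eT_825_827 j) else (eT_827_829 j)
def eT_829_831 (j : ℕ) : ℕ := bif Nat.blt j 830 then E_829 else E_830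
def eT_832_834 (j : ℕ) : ℕ := bif Nat.blt j 833 then E_832 else E_833
def eT_831_834 (j : ℕ) : ℕ := bif Nat.blt j 832 then E_831 else (eT_832_834 j)
def eT_829_834 (j : ℕ) : ℕ := bif Nat.blt j 831 then (eT_829_831 j) else (eT_831_834 j)
def eT_825_834 (j : ℕ) : ℕ := bif Nat.blt j 829 then (eT_825_829 j) else (eT_829_834 j)
def eT_817_834 (j : ℕ) : ℕ := bif Nat.blt j 825 then (eT_817_825 j) else (eT_825_834 j)
def eT_801_834 (j : ℕ) : ℕ := bif Nat.blt j 817 then (eT_801_817 j) else (eT_817_834 j)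
def eT_834_836 (j : ℕ) : ℕ := bif Nat.blt j 835 then E_834 else E_835
def eT_836_838 (j : ℕ) : ℕ := bif Nat.blt j 837 then E_836 else E_837
def eT_834_838 (j : ℕ) : ℕ := bif Nat.blt j 836 then (eT_834_836 j) else (eT_836_838 j)
def eT_838_840 (j : ℕ) : ℕ := bif Nat.blt j 839 then E_838 else E_839
def eT_840_842 (j : ℕ) : ℕ := bif Nat.blt j 841 then E_840 else E_841
def eT_838_842 (j : ℕ) : ℕ := bif Nat.blt j 840 then (eT_838_840 j) else (eT_840_842 j)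
def eT_834_842 (j : ℕ) : ℕ := bif Nat.blt j 838 then (eT_834_838 j) else (eT_838_842 j)
def eT_842_844 (j : ℕ) : ℕ := bif Nat.blt j 843 then E_842 else E_843
def eT_844_846 (j : ℕ) : ℕ := bif Nat.blt j 845 then E_844 else E_845
def eT_842_846 (j : ℕ) : ℕ := bif Nat.blt j 844 then (eT_842_844 j) else (eT_844_846 j)
def eT_846_848 (j : ℕ) : ℕ := bif Nat.blt j 847 then E_846 else E_847
def eT_848_850 (j : ℕ) : ℕ := bif Nat.blt j 849 then E_848 else E_849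
def eT_846_850 (j : ℕ) : ℕ := bif Nat.blt j 848 then (eT_846_848 j) else (eT_848_850 j)
def eT_842_850 (j : ℕ) : ℕ := bif Nat.blt j 846 then (eT_842_846 j) else (eT_846_850 j)
def eT_834_850 (j : ℕ) : ℕ := bif Nat.blt j 842 then (eT_834_842 j) else (eT_842_850 j)
def eT_850_852 (j : ℕ) : ℕ := bif Nat.blt j 851 then E_850 else E_851
def eT_852_854 (j : ℕ) : ℕ := bif Nat.blt j 853 then E_852 else E_853
def eT_850_854 (j : ℕ) : ℕ := bif Nat.blt j 852 then (eT_850_852 j) else (eT_852_854 j)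
def eT_854_856 (j : ℕ) : ℕ := bif Nat.blt j 855 then E_854 else E_855
def eT_856_858 (j : ℕ) : ℕ := bif Nat.blt j 857 then E_856 else E_857
def eT_854_858 (j : ℕ) : ℕ := bif Nat.blt j 856 then (eT_854_856 j) else (eT_856_858 j)
def eT_850_858 (j : ℕ) : ℕ := bif Nat.blt j 854 then (eT_850_854 j) else (eT_854_858 j)
def eT_858_860 (j : ℕ) : ℕ := bif Nat.blt j 859 then E_858 else E_859
def eT_860_862 (j : ℕ) : ℕ := bif Nat.blt j 861 then E_860 else E_861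
def eT_858_862 (j : ℕ) : ℕ := bif Nat.blt j 860 then (eT_858_860 j) else (eT_860_862 j)
def eT_862_864 (j : ℕ) : ℕ := bif Nat.blt j 863 then E_862 else E_863
def eT_865_867 (j : ℕ) : ℕ := bif Nat.blt j 866 then E_865 else E_866
def eT_864_867 (j : ℕ) : ℕ := bif Nat.blt j 865 then E_864 else (eT_865_867 j)
def eT_862_867 (j : ℕ) : ℕ := bif Nat.blt j 864 then (eT_862_864 j) else (eT_864_867 j)
def eT_858_867 (j : ℕ) : ℕ := bif Nat.blt j 862 then (eT_858_862 j) else (eT_862_867 j)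
def eT_850_867 (j : ℕ) : ℕ := bif Nat.blt j 858 then (eT_850_858 j) else (eT_858_867 j)
def eT_834_867 (j : ℕ) : ℕ := bif Nat.blt j 850 then (eT_834_850 j) else (eT_850_867 j)
def eT_801_867 (j : ℕ) : ℕ := bif Nat.blt j 834 then (eT_801_834 j) else (eT_834_867 j)
def eT_867_869 (j : ℕ) : ℕ := bif Nat.blt j 868 then E_867 else E_868
def eT_869_871 (j : ℕ) : ℕ := bif Nat.blt j 870 then E_869 else E_870
def eT_867_871 (j : ℕ) : ℕ := bif Nat.blt j 869 then (eT_867_869 j) else (eT_869_871 j)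
def eT_871_873 (j : ℕ) : ℕ := bif Nat.blt j 872 then E_871 else E_872
def eT_873_875 (j : ℕ) : ℕ := bif Nat.blt j 874 then E_873 else E_874
def eT_871_875 (j : ℕ) : ℕ := bif Nat.blt j 873 then (eT_871_873 j) else (eT_873_875 j)
def eT_867_875 (j : ℕ) : ℕ := bif Nat.blt j 871 then (eT_867_871 j) else (eT_871_875 j)
def eT_875_877 (j : ℕ) : ℕ := bif Nat.blt j 876 then E_875 else E_876
def eT_877_879 (j : ℕ) : ℕ := bif Nat.blt j 878 then E_877 else E_878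
def eT_875_879 (j : ℕ) : ℕ := bif Nat.blt j 877 then (eT_875_877 j) else (eT_877_879 j)
def eT_879_881 (j : ℕ) : ℕ := bif Nat.blt j 880 then E_879 else E_880
def eT_881_883 (j : ℕ) : ℕ := bif Nat.blt j 882 then E_881 else E_882
def eT_879_883 (j : ℕ) : ℕ := bif Nat.blt j 881 then (eT_879_881 j) else (eT_881_883 j)
def eT_875_883 (j : ℕ) : ℕ := bif Nat.blt j 879 then (eT_875_879 j) else (eT_879_883 j)
def eT_867_883 (j : ℕ) : ℕ := bif Nat.blt j 875 then (eT_867_875 j) else (eT_875_883 j)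
def eT_883_885 (j : ℕ) : ℕ := bif Nat.blt j 884 then E_883 else E_884
def eT_885_887 (j : ℕ) : ℕ := bif Nat.blt j 886 then E_885 else E_886
def eT_883_887 (j : ℕ) : ℕ := bif Nat.blt j 885 then (eT_883_885 j) else (eT_885_887 j)
def eT_887_889 (j : ℕ) : ℕ := bif Nat.blt j 888 then E_887 else E_888
def eT_889_891 (j : ℕ) : ℕ := bif Nat.blt j 890 then E_889 else E_890
def eT_887_891 (j : ℕ) : ℕ := bif Nat.blt j 889 then (eT_887_889 j) else (eT_889_891 j)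
def eT_883_891 (j : ℕ) : ℕ := bif Nat.blt j 887 then (eT_883_887 j) else (eT_887_891 j)
def eT_891_893 (j : ℕ) : ℕ := bif Nat.blt j 892 then E_891 else E_892
def eT_893_895 (j : ℕ) : ℕ := bif Nat.blt j 894 then E_893 else E_894
def eT_891_895 (j : ℕ) : ℕ := bif Nat.blt j 893 then (eT_891_893 j) else (eT_893_895 j)
def eT_895_897 (j : ℕ) : ℕ := bif Nat.blt j 896 then E_895 else E_896
def eT_898_900 (j : ℕ) : ℕ := bif Nat.blt j 899 then E_898 else E_899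
def eT_897_900 (j : ℕ) : ℕ := bif Nat.blt j 898 then E_897 else (eT_898_900 j)
def eT_895_900 (j : ℕ) : ℕ := bif Nat.blt j 897 then (eT_895_897 j) else (eT_897_900 j)
def eT_891_900 (j : ℕ) : ℕ := bif Nat.blt j 895 then (eT_891_895 j) else (eT_895_900 j)
def eT_883_900 (j : ℕ) : ℕ := bif Nat.blt j 891 then (eT_883_891 j) else (eT_891_900 j)
def eT_867_900 (j : ℕ) : ℕ := bif Nat.blt j 883 then (eT_867_883 j) else (eT_883_900 j)
def eT_900_902 (j : ℕ) : ℕ := bif Nat.blt j 901 then E_900 else E_901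
def eT_902_904 (j : ℕ) : ℕ := bif Nat.blt j 903 then E_902 else E_903
def eT_900_904 (j : ℕ) : ℕ := bif Nat.blt j 902 then (eT_900_902 j) else (eT_902_904 j)
def eT_904_906 (j : ℕ) : ℕ := bif Nat.blt j 905 then E_904 else E_905
def eT_906_908 (j : ℕ) : ℕ := bif Nat.blt j 907 then E_906 else E_907
def eT_904_908 (j : ℕ) : ℕ := bif Nat.blt j 906 then (eT_904_906 j) else (eT_906_908 j)
def eT_900_908 (j : ℕ) : ℕ := bif Nat.blt j 904 then (eT_900_904 j) else (eT_904_908 j)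
def eT_908_910 (j : ℕ) : ℕ := bif Nat.blt j 909 then E_908 else E_909
def eT_910_912 (j : ℕ) : ℕ := bif Nat.blt j 911 then E_910 else E_911
def eT_908_912 (j : ℕ) : ℕ := bif Nat.blt j 910 then (eT_908_910 j) else (eT_910_912 j)
def eT_912_914 (j : ℕ) : ℕ := bif Nat.blt j 913 then E_912 else E_913
def eT_915_917 (j : ℕ) : ℕ := bif Nat.blt j 916 then E_915 else E_916
def eT_914_917 (j : ℕ) : ℕ := bif Nat.blt j 915 then E_914 else (eT_915_917 j)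
def eT_912_917 (j : ℕ) : ℕ := bif Nat.blt j 914 then (eT_912_914 j) else (eT_914_917 j)
def eT_908_917 (j : ℕ) : ℕ := bif Nat.blt j 912 then (eT_908_912 j) else (eT_912_917 j)
def eT_900_917 (j : ℕ) : ℕ := bif Nat.blt j 908 then (eT_900_908 j) else (eT_908_917 j)
def eT_917_919 (j : ℕ) : ℕ := bif Nat.blt j 918 then E_917 else E_918
def eT_919_921 (j : ℕ) : ℕ := bif Nat.blt j 920 then E_919 else E_920
def eT_917_921 (j : ℕ) : ℕ := bif Nat.blt j 919 then (eT_917_919 j) else (eT_919_921 j)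
def eT_921_923 (j : ℕ) : ℕ := bif Nat.blt j 922 then E_921 else E_922
def eT_923_925 (j : ℕ) : ℕ := bif Nat.blt j 924 then E_923 else E_924
def eT_921_925 (j : ℕ) : ℕ := bif Nat.blt j 923 then (eT_921_923 j) else (eT_923_925 j)
def eT_917_925 (j : ℕ) : ℕ := bif Nat.blt j 921 then (eT_917_921 j) else (eT_921_925 j)
def eT_925_927 (j : ℕ) : ℕ := bif Nat.blt j 926 then E_925 else E_926
def eT_927_929 (j : ℕ) : ℕ := bif Nat.blt j 928 then E_927 else E_928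
def eT_925_929 (j : ℕ) : ℕ := bif Nat.blt j 927 then (eT_925_927 j) else (eT_927_929 j)
def eT_929_931 (j : ℕ) : ℕ := bif Nat.blt j 930 then E_929 else E_930
def eT_932_934 (j : ℕ) : ℕ := bif Nat.blt j 933 then E_932 else E_933
def eT_931_934 (j : ℕ) : ℕ := bif Nat.blt j 932 then E_931 else (eT_932_934 j)
def eT_929_934 (j : ℕ) : ℕ := bif Nat.blt j 931 then (eT_929_931 j) else (eT_931_934 j)
def eT_925_934 (j : ℕ) : ℕ := bif Nat.blt j 929 then (eT_925_929 j) else (eT_929_934 j)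
def eT_917_934 (j : ℕ) : ℕ := bif Nat.blt j 925 then (eT_917_925 j) else (eT_925_934 j)
def eT_900_934 (j : ℕ) : ℕ := bif Nat.blt j 917 then (eT_900_917 j) else (eT_917_934 j)
def eT_867_934 (j : ℕ) : ℕ := bif Nat.blt j 900 then (eT_867_900 j) else (eT_900_934 j)
def eT_801_934 (j : ℕ) : ℕ := bif Nat.blt j 867 then (eT_801_867 j) else (eT_867_934 j)
def eT_934_936 (j : ℕ) : ℕ := bif Nat.blt j 935 then E_934 else E_935
def eT_936_938 (j : ℕ) : ℕ := bif Nat.blt j 937 then E_936 else E_937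
def eT_934_938 (j : ℕ) : ℕ := bif Nat.blt j 936 then (eT_934_936 j) else (eT_936_938 j)
def eT_938_940 (j : ℕ) : ℕ := bif Nat.blt j 939 then E_938 else E_939
def eT_940_942 (j : ℕ) : ℕ := bif Nat.blt j 941 then E_940 else E_941
def eT_938_942 (j : ℕ) : ℕ := bif Nat.blt j 940 then (eT_938_940 j) else (eT_940_942 j)
def eT_934_942 (j : ℕ) : ℕ := bif Nat.blt j 938 then (eT_934_938 j) else (eT_938_942 j)
def eT_942_944 (j : ℕ) : ℕ := bif Nat.blt j 943 then E_942 else E_943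
def eT_944_946 (j : ℕ) : ℕ := bif Nat.blt j 945 then E_944 else E_945
def eT_942_946 (j : ℕ) : ℕ := bif Nat.blt j 944 then (eT_942_944 j) else (eT_944_946 j)
def eT_946_948 (j : ℕ) : ℕ := bif Nat.blt j 947 then E_946 else E_947
def eT_948_950 (j : ℕ) : ℕ := bif Nat.blt j 949 then E_948 else E_949
def eT_946_950 (j : ℕ) : ℕ := bif Nat.blt j 948 then (eT_946_948 j) else (eT_948_950 j)
def eT_942_950 (j : ℕ) : ℕ := bif Nat.blt j 946 then (eT_942_946 j) else (eT_946_950 j)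
def eT_934_950 (j : ℕ) : ℕ := bif Nat.blt j 942 then (eT_934_942 j) else (eT_942_950 j)
def eT_950_952 (j : ℕ) : ℕ := bif Nat.blt j 951 then E_950 else E_951
def eT_952_954 (j : ℕ) : ℕ := bif Nat.blt j 953 then E_952 else E_953
def eT_950_954 (j : ℕ) : ℕ := bif Nat.blt j 952 then (eT_950_952 j) else (eT_952_954 j)
def eT_954_956 (j : ℕ) : ℕ := bif Nat.blt j 955 then E_954 else E_955
def eT_956_958 (j : ℕ) : ℕ := bif Nat.blt j 957 then E_956 else E_957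
def eT_954_958 (j : ℕ) : ℕ := bif Nat.blt j 956 then (eT_954_956 j) else (eT_956_958 j)
def eT_950_958 (j : ℕ) : ℕ := bif Nat.blt j 954 then (eT_950_954 j) else (eT_954_958 j)
def eT_958_960 (j : ℕ) : ℕ := bif Nat.blt j 959 then E_958 else E_959
def eT_960_962 (j : ℕ) : ℕ := bif Nat.blt j 961 then E_960 else E_961
def eT_958_962 (j : ℕ) : ℕ := bif Nat.blt j 960 then (eT_958_960 j) else (eT_960_962 j)
def eT_962_964 (j : ℕ) : ℕ := bif Nat.blt j 963 then E_962 else E_963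
def eT_965_967 (j : ℕ) : ℕ := bif Nat.blt j 966 then E_965 else E_966
def eT_964_967 (j : ℕ) : ℕ := bif Nat.blt j 965 then E_964 else (eT_965_967 j)
def eT_962_967 (j : ℕ) : ℕ := bif Nat.blt j 964 then (eT_962_964 j) else (eT_964_967 j)
def eT_958_967 (j : ℕ) : ℕ := bif Nat.blt j 962 then (eT_958_962 j) else (eT_962_967 j)
def eT_950_967 (j : ℕ) : ℕ := bif Nat.blt j 958 then (eT_950_958 j) else (eT_958_967 j)
def eT_934_967 (j : ℕ) : ℕ := bif Nat.blt j 950 then (eT_934_950 j) else (eT_950_967 j)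
def eT_967_969 (j : ℕ) : ℕ := bif Nat.blt j 968 then E_967 else E_968
def eT_969_971 (j : ℕ) : ℕ := bif Nat.blt j 970 then E_969 else E_970
def eT_967_971 (j : ℕ) : ℕ := bif Nat.blt j 969 then (eT_967_969 j) else (eT_969_971 j)
def eT_971_973 (j : ℕ) : ℕ := bif Nat.blt j 972 then E_971 else E_972
def eT_973_975 (j : ℕ) : ℕ := bif Nat.blt j 974 then E_973 else E_974
def eT_971_975 (j : ℕ) : ℕ := bif Nat.blt j 973 then (eT_971_973 j) else (eT_973_975 j)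
def eT_967_975 (j : ℕ) : ℕ := bif Nat.blt j 971 then (eT_967_971 j) else (eT_971_975 j)
def eT_975_977 (j : ℕ) : ℕ := bif Nat.blt j 976 then E_975 else E_976
def eT_977_979 (j : ℕ) : ℕ := bif Nat.blt j 978 then E_977 else E_978
def eT_975_979 (j : ℕ) : ℕ := bif Nat.blt j 977 then (eT_975_977 j) else (eT_977_979 j)
def eT_979_981 (j : ℕ) : ℕ := bif Nat.blt j 980 then E_979 else E_980
def eT_982_984 (j : ℕ) : ℕ := bif Nat.blt j 983 then E_982 else E_983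
def eT_981_984 (j : ℕ) : ℕ := bif Nat.blt j 982 then E_981 else (eT_982_984 j)
def eT_979_984 (j : ℕ) : ℕ := bif Nat.blt j 981 then (eT_979_981 j) else (eT_981_984 j)
def eT_975_984 (j : ℕ) : ℕ := bif Nat.blt j 979 then (eT_975_979 j) else (eT_979_984 j)
def eT_967_984 (j : ℕ) : ℕ := bif Nat.blt j 975 then (eT_967_975 j) else (eT_975_984 j)
def eT_984_986 (j : ℕ) : ℕ := bif Nat.blt j 985 then E_984 else E_985
def eT_986_988 (j : ℕ) : ℕ := bif Nat.blt j 987 then E_986 else E_987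
def eT_984_988 (j : ℕ) : ℕ := bif Nat.blt j 986 then (eT_984_986 j) else (eT_986_988 j)
def eT_988_990 (j : ℕ) : ℕ := bif Nat.blt j 989 then E_988 else E_989
def eT_990_992 (j : ℕ) : ℕ := bif Nat.blt j 991 then E_990 else E_991
def eT_988_992 (j : ℕ) : ℕ := bif Nat.blt j 990 then (eT_988_990 j) else (eT_990_992 j)
def eT_984_992 (j : ℕ) : ℕ := bif Nat.blt j 988 then (eT_984_988 j) else (eT_988_992 j)
def eT_992_994 (j : ℕ) : ℕ := bif Nat.blt j 993 then E_992 else E_993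
def eT_994_996 (j : ℕ) : ℕ := bif Nat.blt j 995 then E_994 else E_995
def eT_992_996 (j : ℕ) : ℕ := bif Nat.blt j 994 then (eT_992_994 j) else (eT_994_996 j)
def eT_996_998 (j : ℕ) : ℕ := bif Nat.blt j 997 then E_996 else E_997
def eT_999_1001 (j : ℕ) : ℕ := bif Nat.blt j 1000 then E_999 else E_1000
def eT_998_1001 (j : ℕ) : ℕ := bif Nat.blt j 999 then E_998 else (eT_999_1001 j)
def eT_996_1001 (j : ℕ) : ℕ := bif Nat.blt j 998 then (eT_996_998 j) else (eT_998_1001 j)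
def eT_992_1001 (j : ℕ) : ℕ := bif Nat.blt j 996 then (eT_992_996 j) else (eT_996_1001 j)
def eT_984_1001 (j : ℕ) : ℕ := bif Nat.blt j 992 then (eT_984_992 j) else (eT_992_1001 j)
def eT_967_1001 (j : ℕ) : ℕ := bif Nat.blt j 984 then (eT_967_984 j) else (eT_984_1001 j)
def eT_934_1001 (j : ℕ) : ℕ := bif Nat.blt j 967 then (eT_934_967 j) else (eT_967_1001 j)
def eT_1001_1003 (j : ℕ) : ℕ := bif Nat.blt j 1002 then E_1001 else E_1002
def eT_1003_1005 (j : ℕ) : ℕ := bif Nat.blt j 1004 then E_1003 else E_1004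
def eT_1001_1005 (j : ℕ) : ℕ := bif Nat.blt j 1003 then (eT_1001_1003 j) else (eT_1003_1005 j)
def eT_1005_1007 (j : ℕ) : ℕ := bif Nat.blt j 1006 then E_1005 else E_1006
def eT_1007_1009 (j : ℕ) : ℕ := bif Nat.blt j 1008 then E_1007 else E_1008
def eT_1005_1009 (j : ℕ) : ℕ := bif Nat.blt j 1007 then (eT_1005_1007 j) else (eT_1007_1009 j)
def eT_1001_1009 (j : ℕ) : ℕ := bif Nat.blt j 1005 then (eT_1001_1005 j) else (eT_1005_1009 j)
def eT_1009_1011 (j : ℕ) : ℕ := bif Nat.blt j 1010 then E_1009 else E_1010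
def eT_1011_1013 (j : ℕ) : ℕ := bif Nat.blt j 1012 then E_1011 else E_1012
def eT_1009_1013 (j : ℕ) : ℕ := bif Nat.blt j 1011 then (eT_1009_1011 j) else (eT_1011_1013 j)
def eT_1013_1015 (j : ℕ) : ℕ := bif Nat.blt j 1014 then E_1013 else E_1014
def eT_1015_1017 (j : ℕ) : ℕ := bif Nat.blt j 1016 then E_1015 else E_1016
def eT_1013_1017 (j : ℕ) : ℕ := bif Nat.blt j 1015 then (eT_1013_1015 j) else (eT_1015_1017 j)
def eT_1009_1017 (j : ℕ) : ℕ := bif Nat.blt j 1013 then (eT_1009_1013 j) else (eT_1013_1017 j)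
def eT_1001_1017 (j : ℕ) : ℕ := bif Nat.blt j 1009 then (eT_1001_1009 j) else (eT_1009_1017 j)
def eT_1017_1019 (j : ℕ) : ℕ := bif Nat.blt j 1018 then E_1017 else E_1018
def eT_1019_1021 (j : ℕ) : ℕ := bif Nat.blt j 1020 then E_1019 else E_1020
def eT_1017_1021 (j : ℕ) : ℕ := bif Nat.blt j 1019 then (eT_1017_1019 j) else (eT_1019_1021 j)
def eT_1021_1023 (j : ℕ) : ℕ := bif Nat.blt j 1022 then E_1021 else E_1022
def eT_1023_1025 (j : ℕ) : ℕ := bif Nat.blt j 1024 then E_1023 else E_1024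
def eT_1021_1025 (j : ℕ) : ℕ := bif Nat.blt j 1023 then (eT_1021_1023 j) else (eT_1023_1025 j)
def eT_1017_1025 (j : ℕ) : ℕ := bif Nat.blt j 1021 then (eT_1017_1021 j) else (eT_1021_1025 j)
def eT_1025_1027 (j : ℕ) : ℕ := bif Nat.blt j 1026 then E_1025 else E_1026
def eT_1027_1029 (j : ℕ) : ℕ := bif Nat.blt j 1028 then E_1027 else E_1028
def eT_1025_1029 (j : ℕ) : ℕ := bif Nat.blt j 1027 then (eT_1025_1027 j) else (eT_1027_1029 j)
def eT_1029_1031 (j : ℕ) : ℕ := bif Nat.blt j 1030 then E_1029 else E_1030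
def eT_1032_1034 (j : ℕ) : ℕ := bif Nat.blt j 1033 then E_1032 else E_1033
def eT_1031_1034 (j : ℕ) : ℕ := bif Nat.blt j 1032 then E_1031 else (eT_1032_1034 j)
def eT_1029_1034 (j : ℕ) : ℕ := bif Nat.blt j 1031 then (eT_1029_1031 j) else (eT_1031_1034 j)
def eT_1025_1034 (j : ℕ) : ℕ := bif Nat.blt j 1029 then (eT_1025_1029 j) else (eT_1029_1034 j)
def eT_1017_1034 (j : ℕ) : ℕ := bif Nat.blt j 1025 then (eT_1017_1025 j) else (eT_1025_1034 j)
def eT_1001_1034 (j : ℕ) : ℕ := bif Nat.blt j 1017 then (eT_1001_1017 j) else (eT_1017_1034 j)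
def eT_1034_1036 (j : ℕ) : ℕ := bif Nat.blt j 1035 then E_1034 else E_1035
def eT_1036_1038 (j : ℕ) : ℕ := bif Nat.blt j 1037 then E_1036 else E_1037
def eT_1034_1038 (j : ℕ) : ℕ := bif Nat.blt j 1036 then (eT_1034_1036 j) else (eT_1036_1038 j)
def eT_1038_1040 (j : ℕ) : ℕ := bif Nat.blt j 1039 then E_1038 else E_1039
def eT_1040_1042 (j : ℕ) : ℕ := bif Nat.blt j 1041 then E_1040 else E_1041
def eT_1038_1042 (j : ℕ) : ℕ := bif Nat.blt j 1040 then (eT_1038_1040 j) else (eT_1040_1042 j)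
def eT_1034_1042 (j : ℕ) : ℕ := bif Nat.blt j 1038 then (eT_1034_1038 j) else (eT_1038_1042 j)
def eT_1042_1044 (j : ℕ) : ℕ := bif Nat.blt j 1043 then E_1042 else E_1043
def eT_1044_1046 (j : ℕ) : ℕ := bif Nat.blt j 1045 then E_1044 else E_1045
def eT_1042_1046 (j : ℕ) : ℕ := bif Nat.blt j 1044 then (eT_1042_1044 j) else (eT_1044_1046 j)
def eT_1046_1048 (j : ℕ) : ℕ := bif Nat.blt j 1047 then E_1046 else E_1047
def eT_1049_1051 (j : ℕ) : ℕ := bif Nat.blt j 1050 then E_1049 else E_1050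
def eT_1048_1051 (j : ℕ) : ℕ := bif Nat.blt j 1049 then E_1048 else (eT_1049_1051 j)
def eT_1046_1051 (j : ℕ) : ℕ := bif Nat.blt j 1048 then (eT_1046_1048 j) else (eT_1048_1051 j)
def eT_1042_1051 (j : ℕ) : ℕ := bif Nat.blt j 1046 then (eT_1042_1046 j) else (eT_1046_1051 j)
def eT_1034_1051 (j : ℕ) : ℕ := bif Nat.blt j 1042 then (eT_1034_1042 j) else (eT_1042_1051 j)
def eT_1051_1053 (j : ℕ) : ℕ := bif Nat.blt j 1052 then E_1051 else E_1052
def eT_1053_1055 (j : ℕ) : ℕ := bif Nat.blt j 1054 then E_1053 else E_1054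
def eT_1051_1055 (j : ℕ) : ℕ := bif Nat.blt j 1053 then (eT_1051_1053 j) else (eT_1053_1055 j)
def eT_1055_1057 (j : ℕ) : ℕ := bif Nat.blt j 1056 then E_1055 else E_1056
def eT_1057_1059 (j : ℕ) : ℕ := bif Nat.blt j 1058 then E_1057 else E_1058
def eT_1055_1059 (j : ℕ) : ℕ := bif Nat.blt j 1057 then (eT_1055_1057 j) else (eT_1057_1059 j)
def eT_1051_1059 (j : ℕ) : ℕ := bif Nat.blt j 1055 then (eT_1051_1055 j) else (eT_1055_1059 j)
def eT_1059_1061 (j : ℕ) : ℕ := bif Nat.blt j 1060 then E_1059 else E_1060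
def eT_1061_1063 (j : ℕ) : ℕ := bif Nat.blt j 1062 then E_1061 else E_1062
def eT_1059_1063 (j : ℕ) : ℕ := bif Nat.blt j 1061 then (eT_1059_1061 j) else (eT_1061_1063 j)
def eT_1063_1065 (j : ℕ) : ℕ := bif Nat.blt j 1064 then E_1063 else E_1064
def eT_1066_1068 (j : ℕ) : ℕ := bif Nat.blt j 1067 then E_1066 else E_1067
def eT_1065_1068 (j : ℕ) : ℕ := bif Nat.blt j 1066 then E_1065 else (eT_1066_1068 j)
def eT_1063_1068 (j : ℕ) : ℕ := bif Nat.blt j 1065 then (eT_1063_1065 j) else (eT_1065_1068 j)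
def eT_1059_1068 (j : ℕ) : ℕ := bif Nat.blt j 1063 then (eT_1059_1063 j) else (eT_1063_1068 j)
def eT_1051_1068 (j : ℕ) : ℕ := bif Nat.blt j 1059 then (eT_1051_1059 j) else (eT_1059_1068 j)
def eT_1034_1068 (j : ℕ) : ℕ := bif Nat.blt j 1051 then (eT_1034_1051 j) else (eT_1051_1068 j)
def eT_1001_1068 (j : ℕ) : ℕ := bif Nat.blt j 1034 then (eT_1001_1034 j) else (eT_1034_1068 j)
def eT_934_1068 (j : ℕ) : ℕ := bif Nat.blt j 1001 then (eT_934_1001 j) else (eT_1001_1068 j)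
def eT_801_1068 (j : ℕ) : ℕ := bif Nat.blt j 934 then (eT_801_934 j) else (eT_934_1068 j)
def eT_534_1068 (j : ℕ) : ℕ := bif Nat.blt j 801 then (eT_534_801 j) else (eT_801_1068 j)
def eT_0_1068 (j : ℕ) : ℕ := bif Nat.blt j 534 then (eT_0_534 j) else (eT_534_1068 j)
def eT_1068_1070 (j : ℕ) : ℕ := bif Nat.blt j 1069 then E_1068 else E_1069
def eT_1070_1072 (j : ℕ) : ℕ := bif Nat.blt j 1071 then E_1070 else E_1071
def eT_1068_1072 (j : ℕ) : ℕ := bif Nat.blt j 1070 then (eT_1068_1070 j) else (eT_1070_1072 j)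
def eT_1072_1074 (j : ℕ) : ℕ := bif Nat.blt j 1073 then E_1072 else E_1073
def eT_1074_1076 (j : ℕ) : ℕ := bif Nat.blt j 1075 then E_1074 else E_1075
def eT_1072_1076 (j : ℕ) : ℕ := bif Nat.blt j 1074 then (eT_1072_1074 j) else (eT_1074_1076 j)
def eT_1068_1076 (j : ℕ) : ℕ := bif Nat.blt j 1072 then (eT_1068_1072 j) else (eT_1072_1076 j)
def eT_1076_1078 (j : ℕ) : ℕ := bif Nat.blt j 1077 then E_1076 else E_1077
def eT_1078_1080 (j : ℕ) : ℕ := bif Nat.blt j 1079 then E_1078 else E_1079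
def eT_1076_1080 (j : ℕ) : ℕ := bif Nat.blt j 1078 then (eT_1076_1078 j) else (eT_1078_1080 j)
def eT_1080_1082 (j : ℕ) : ℕ := bif Nat.blt j 1081 then E_1080 else E_1081
def eT_1082_1084 (j : ℕ) : ℕ := bif Nat.blt j 1083 then E_1082 else E_1083
def eT_1080_1084 (j : ℕ) : ℕ := bif Nat.blt j 1082 then (eT_1080_1082 j) else (eT_1082_1084 j)
def eT_1076_1084 (j : ℕ) : ℕ := bif Nat.blt j 1080 then (eT_1076_1080 j) else (eT_1080_1084 j)
def eT_1068_1084 (j : ℕ) : ℕ := bif Nat.blt j 1076 then (eT_1068_1076 j) else (eT_1076_1084 j)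
def eT_1084_1086 (j : ℕ) : ℕ := bif Nat.blt j 1085 then E_1084 else E_1085
def eT_1086_1088 (j : ℕ) : ℕ := bif Nat.blt j 1087 then E_1086 else E_1087
def eT_1084_1088 (j : ℕ) : ℕ := bif Nat.blt j 1086 then (eT_1084_1086 j) else (eT_1086_1088 j)
def eT_1088_1090 (j : ℕ) : ℕ := bif Nat.blt j 1089 then E_1088 else E_1089
def eT_1090_1092 (j : ℕ) : ℕ := bif Nat.blt j 1091 then E_1090 else E_1091
def eT_1088_1092 (j : ℕ) : ℕ := bif Nat.blt j 1090 then (eT_1088_1090 j) else (eT_1090_1092 j)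
def eT_1084_1092 (j : ℕ) : ℕ := bif Nat.blt j 1088 then (eT_1084_1088 j) else (eT_1088_1092 j)
def eT_1092_1094 (j : ℕ) : ℕ := bif Nat.blt j 1093 then E_1092 else E_1093
def eT_1094_1096 (j : ℕ) : ℕ := bif Nat.blt j 1095 then E_1094 else E_1095
def eT_1092_1096 (j : ℕ) : ℕ := bif Nat.blt j 1094 then (eT_1092_1094 j) else (eT_1094_1096 j)
def eT_1096_1098 (j : ℕ) : ℕ := bif Nat.blt j 1097 then E_1096 else E_1097
def eT_1099_1101 (j : ℕ) : ℕ := bif Nat.blt j 1100 then E_1099 else E_1100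
def eT_1098_1101 (j : ℕ) : ℕ := bif Nat.blt j 1099 then E_1098 else (eT_1099_1101 j)
def eT_1096_1101 (j : ℕ) : ℕ := bif Nat.blt j 1098 then (eT_1096_1098 j) else (eT_1098_1101 j)
def eT_1092_1101 (j : ℕ) : ℕ := bif Nat.blt j 1096 then (eT_1092_1096 j) else (eT_1096_1101 j)
def eT_1084_1101 (j : ℕ) : ℕ := bif Nat.blt j 1092 then (eT_1084_1092 j) else (eT_1092_1101 j)
def eT_1068_1101 (j : ℕ) : ℕ := bif Nat.blt j 1084 then (eT_1068_1084 j) else (eT_1084_1101 j)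
def eT_1101_1103 (j : ℕ) : ℕ := bif Nat.blt j 1102 then E_1101 else E_1102
def eT_1103_1105 (j : ℕ) : ℕ := bif Nat.blt j 1104 then E_1103 else E_1104
def eT_1101_1105 (j : ℕ) : ℕ := bif Nat.blt j 1103 then (eT_1101_1103 j) else (eT_1103_1105 j)
def eT_1105_1107 (j : ℕ) : ℕ := bif Nat.blt j 1106 then E_1105 else E_1106
def eT_1107_1109 (j : ℕ) : ℕ := bif Nat.blt j 1108 then E_1107 else E_1108
def eT_1105_1109 (j : ℕ) : ℕ := bif Nat.blt j 1107 then (eT_1105_1107 j) else (eT_1107_1109 j)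
def eT_1101_1109 (j : ℕ) : ℕ := bif Nat.blt j 1105 then (eT_1101_1105 j) else (eT_1105_1109 j)
def eT_1109_1111 (j : ℕ) : ℕ := bif Nat.blt j 1110 then E_1109 else E_1110
def eT_1111_1113 (j : ℕ) : ℕ := bif Nat.blt j 1112 then E_1111 else E_1112
def eT_1109_1113 (j : ℕ) : ℕ := bif Nat.blt j 1111 then (eT_1109_1111 j) else (eT_1111_1113 j)
def eT_1113_1115 (j : ℕ) : ℕ := bif Nat.blt j 1114 then E_1113 else E_1114
def eT_1115_1117 (j : ℕ) : ℕ := bif Nat.blt j 1116 then E_1115 else E_1116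
def eT_1113_1117 (j : ℕ) : ℕ := bif Nat.blt j 1115 then (eT_1113_1115 j) else (eT_1115_1117 j)
def eT_1109_1117 (j : ℕ) : ℕ := bif Nat.blt j 1113 then (eT_1109_1113 j) else (eT_1113_1117 j)
def eT_1101_1117 (j : ℕ) : ℕ := bif Nat.blt j 1109 then (eT_1101_1109 j) else (eT_1109_1117 j)
def eT_1117_1119 (j : ℕ) : ℕ := bif Nat.blt j 1118 then E_1117 else E_1118
def eT_1119_1121 (j : ℕ) : ℕ := bif Nat.blt j 1120 then E_1119 else E_1120
def eT_1117_1121 (j : ℕ) : ℕ := bif Nat.blt j 1119 then (eT_1117_1119 j) else (eT_1119_1121 j)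
def eT_1121_1123 (j : ℕ) : ℕ := bif Nat.blt j 1122 then E_1121 else E_1122
def eT_1123_1125 (j : ℕ) : ℕ := bif Nat.blt j 1124 then E_1123 else E_1124
def eT_1121_1125 (j : ℕ) : ℕ := bif Nat.blt j 1123 then (eT_1121_1123 j) else (eT_1123_1125 j)
def eT_1117_1125 (j : ℕ) : ℕ := bif Nat.blt j 1121 then (eT_1117_1121 j) else (eT_1121_1125 j)
def eT_1125_1127 (j : ℕ) : ℕ := bif Nat.blt j 1126 then E_1125 else E_1126
def eT_1127_1129 (j : ℕ) : ℕ := bif Nat.blt j 1128 then E_1127 else E_1128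
def eT_1125_1129 (j : ℕ) : ℕ := bif Nat.blt j 1127 then (eT_1125_1127 j) else (eT_1127_1129 j)
def eT_1129_1131 (j : ℕ) : ℕ := bif Nat.blt j 1130 then E_1129 else E_1130
def eT_1132_1134 (j : ℕ) : ℕ := bif Nat.blt j 1133 then E_1132 else E_1133
def eT_1131_1134 (j : ℕ) : ℕ := bif Nat.blt j 1132 then E_1131 else (eT_1132_1134 j)
def eT_1129_1134 (j : ℕ) : ℕ := bif Nat.blt j 1131 then (eT_1129_1131 j) else (eT_1131_1134 j)
def eT_1125_1134 (j : ℕ) : ℕ := bif Nat.blt j 1129 then (eT_1125_1129 j) else (eT_1129_1134 j)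
def eT_1117_1134 (j : ℕ) : ℕ := bif Nat.blt j 1125 then (eT_1117_1125 j) else (eT_1125_1134 j)
def eT_1101_1134 (j : ℕ) : ℕ := bif Nat.blt j 1117 then (eT_1101_1117 j) else (eT_1117_1134 j)
def eT_1068_1134 (j : ℕ) : ℕ := bif Nat.blt j 1101 then (eT_1068_1101 j) else (eT_1101_1134 j)
def eT_1134_1136 (j : ℕ) : ℕ := bif Nat.blt j 1135 then E_1134 else E_1135
def eT_1136_1138 (j : ℕ) : ℕ := bif Nat.blt j 1137 then E_1136 else E_1137
def eT_1134_1138 (j : ℕ) : ℕ := bif Nat.blt j 1136 then (eT_1134_1136 j) else (eT_1136_1138 j)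
def eT_1138_1140 (j : ℕ) : ℕ := bif Nat.blt j 1139 then E_1138 else E_1139
def eT_1140_1142 (j : ℕ) : ℕ := bif Nat.blt j 1141 then E_1140 else E_1141
def eT_1138_1142 (j : ℕ) : ℕ := bif Nat.blt j 1140 then (eT_1138_1140 j) else (eT_1140_1142 j)
def eT_1134_1142 (j : ℕ) : ℕ := bif Nat.blt j 1138 then (eT_1134_1138 j) else (eT_1138_1142 j)
def eT_1142_1144 (j : ℕ) : ℕ := bif Nat.blt j 1143 then E_1142 else E_1143
def eT_1144_1146 (j : ℕ) : ℕ := bif Nat.blt j 1145 then E_1144 else E_1145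
def eT_1142_1146 (j : ℕ) : ℕ := bif Nat.blt j 1144 then (eT_1142_1144 j) else (eT_1144_1146 j)
def eT_1146_1148 (j : ℕ) : ℕ := bif Nat.blt j 1147 then E_1146 else E_1147
def eT_1148_1150 (j : ℕ) : ℕ := bif Nat.blt j 1149 then E_1148 else E_1149
def eT_1146_1150 (j : ℕ) : ℕ := bif Nat.blt j 1148 then (eT_1146_1148 j) else (eT_1148_1150 j)
def eT_1142_1150 (j : ℕ) : ℕ := bif Nat.blt j 1146 then (eT_1142_1146 j) else (eT_1146_1150 j)
def eT_1134_1150 (j : ℕ) : ℕ := bif Nat.blt j 1142 then (eT_1134_1142 j) else (eT_1142_1150 j)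
def eT_1150_1152 (j : ℕ) : ℕ := bif Nat.blt j 1151 then E_1150 else E_1151
def eT_1152_1154 (j : ℕ) : ℕ := bif Nat.blt j 1153 then E_1152 else E_1153
def eT_1150_1154 (j : ℕ) : ℕ := bif Nat.blt j 1152 then (eT_1150_1152 j) else (eT_1152_1154 j)
def eT_1154_1156 (j : ℕ) : ℕ := bif Nat.blt j 1155 then E_1154 else E_1155
def eT_1156_1158 (j : ℕ) : ℕ := bif Nat.blt j 1157 then E_1156 else E_1157
def eT_1154_1158 (j : ℕ) : ℕ := bif Nat.blt j 1156 then (eT_1154_1156 j) else (eT_1156_1158 j)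
def eT_1150_1158 (j : ℕ) : ℕ := bif Nat.blt j 1154 then (eT_1150_1154 j) else (eT_1154_1158 j)
def eT_1158_1160 (j : ℕ) : ℕ := bif Nat.blt j 1159 then E_1158 else E_1159
def eT_1160_1162 (j : ℕ) : ℕ := bif Nat.blt j 1161 then E_1160 else E_1161
def eT_1158_1162 (j : ℕ) : ℕ := bif Nat.blt j 1160 then (eT_1158_1160 j) else (eT_1160_1162 j)
def eT_1162_1164 (j : ℕ) : ℕ := bif Nat.blt j 1163 then E_1162 else E_1163
def eT_1165_1167 (j : ℕ) : ℕ := bif Nat.blt j 1166 then E_1165 else E_1166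
def eT_1164_1167 (j : ℕ) : ℕ := bif Nat.blt j 1165 then E_1164 else (eT_1165_1167 j)
def eT_1162_1167 (j : ℕ) : ℕ := bif Nat.blt j 1164 then (eT_1162_1164 j) else (eT_1164_1167 j)
def eT_1158_1167 (j : ℕ) : ℕ := bif Nat.blt j 1162 then (eT_1158_1162 j) else (eT_1162_1167 j)
def eT_1150_1167 (j : ℕ) : ℕ := bif Nat.blt j 1158 then (eT_1150_1158 j) else (eT_1158_1167 j)
def eT_1134_1167 (j : ℕ) : ℕ := bif Nat.blt j 1150 then (eT_1134_1150 j) else (eT_1150_1167 j)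
def eT_1167_1169 (j : ℕ) : ℕ := bif Nat.blt j 1168 then E_1167 else E_1168
def eT_1169_1171 (j : ℕ) : ℕ := bif Nat.blt j 1170 then E_1169 else E_1170
def eT_1167_1171 (j : ℕ) : ℕ := bif Nat.blt j 1169 then (eT_1167_1169 j) else (eT_1169_1171 j)
def eT_1171_1173 (j : ℕ) : ℕ := bif Nat.blt j 1172 then E_1171 else E_1172
def eT_1173_1175 (j : ℕ) : ℕ := bif Nat.blt j 1174 then E_1173 else E_1174
def eT_1171_1175 (j : ℕ) : ℕ := bif Nat.blt j 1173 then (eT_1171_1173 j) else (eT_1173_1175 j)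
def eT_1167_1175 (j : ℕ) : ℕ := bif Nat.blt j 1171 then (eT_1167_1171 j) else (eT_1171_1175 j)
def eT_1175_1177 (j : ℕ) : ℕ := bif Nat.blt j 1176 then E_1175 else E_1176
def eT_1177_1179 (j : ℕ) : ℕ := bif Nat.blt j 1178 then E_1177 else E_1178
def eT_1175_1179 (j : ℕ) : ℕ := bif Nat.blt j 1177 then (eT_1175_1177 j) else (eT_1177_1179 j)
def eT_1179_1181 (j : ℕ) : ℕ := bif Nat.blt j 1180 then E_1179 else E_1180
def eT_1182_1184 (j : ℕ) : ℕ := bif Nat.blt j 1183 then E_1182 else E_1183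
def eT_1181_1184 (j : ℕ) : ℕ := bif Nat.blt j 1182 then E_1181 else (eT_1182_1184 j)
def eT_1179_1184 (j : ℕ) : ℕ := bif Nat.blt j 1181 then (eT_1179_1181 j) else (eT_1181_1184 j)
def eT_1175_1184 (j : ℕ) : ℕ := bif Nat.blt j 1179 then (eT_1175_1179 j) else (eT_1179_1184 j)
def eT_1167_1184 (j : ℕ) : ℕ := bif Nat.blt j 1175 then (eT_1167_1175 j) else (eT_1175_1184 j)
def eT_1184_1186 (j : ℕ) : ℕ := bif Nat.blt j 1185 then E_1184 else E_1185
def eT_1186_1188 (j : ℕ) : ℕ := bif Nat.blt j 1187 then E_1186 else E_1187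
def eT_1184_1188 (j : ℕ) : ℕ := bif Nat.blt j 1186 then (eT_1184_1186 j) else (eT_1186_1188 j)
def eT_1188_1190 (j : ℕ) : ℕ := bif Nat.blt j 1189 then E_1188 else E_1189
def eT_1190_1192 (j : ℕ) : ℕ := bif Nat.blt j 1191 then E_1190 else E_1191
def eT_1188_1192 (j : ℕ) : ℕ := bif Nat.blt j 1190 then (eT_1188_1190 j) else (eT_1190_1192 j)
def eT_1184_1192 (j : ℕ) : ℕ := bif Nat.blt j 1188 then (eT_1184_1188 j) else (eT_1188_1192 j)
def eT_1192_1194 (j : ℕ) : ℕ := bif Nat.blt j 1193 then E_1192 else E_1193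
def eT_1194_1196 (j : ℕ) : ℕ := bif Nat.blt j 1195 then E_1194 else E_1195
def eT_1192_1196 (j : ℕ) : ℕ := bif Nat.blt j 1194 then (eT_1192_1194 j) else (eT_1194_1196 j)
def eT_1196_1198 (j : ℕ) : ℕ := bif Nat.blt j 1197 then E_1196 else E_1197
def eT_1199_1201 (j : ℕ) : ℕ := bif Nat.blt j 1200 then E_1199 else E_1200
def eT_1198_1201 (j : ℕ) : ℕ := bif Nat.blt j 1199 then E_1198 else (eT_1199_1201 j)
def eT_1196_1201 (j : ℕ) : ℕ := bif Nat.blt j 1198 then (eT_1196_1198 j) else (eT_1198_1201 j)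
def eT_1192_1201 (j : ℕ) : ℕ := bif Nat.blt j 1196 then (eT_1192_1196 j) else (eT_1196_1201 j)
def eT_1184_1201 (j : ℕ) : ℕ := bif Nat.blt j 1192 then (eT_1184_1192 j) else (eT_1192_1201 j)
def eT_1167_1201 (j : ℕ) : ℕ := bif Nat.blt j 1184 then (eT_1167_1184 j) else (eT_1184_1201 j)
def eT_1134_1201 (j : ℕ) : ℕ := bif Nat.blt j 1167 then (eT_1134_1167 j) else (eT_1167_1201 j)
def eT_1068_1201 (j : ℕ) : ℕ := bif Nat.blt j 1134 then (eT_1068_1134 j) else (eT_1134_1201 j)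
def eT_1201_1203 (j : ℕ) : ℕ := bif Nat.blt j 1202 then E_1201 else E_1202
def eT_1203_1205 (j : ℕ) : ℕ := bif Nat.blt j 1204 then E_1203 else E_1204
def eT_1201_1205 (j : ℕ) : ℕ := bif Nat.blt j 1203 then (eT_1201_1203 j) else (eT_1203_1205 j)
def eT_1205_1207 (j : ℕ) : ℕ := bif Nat.blt j 1206 then E_1205 else E_1206
def eT_1207_1209 (j : ℕ) : ℕ := bif Nat.blt j 1208 then E_1207 else E_1208
def eT_1205_1209 (j : ℕ) : ℕ := bif Nat.blt j 1207 then (eT_1205_1207 j) else (eT_1207_1209 j)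
def eT_1201_1209 (j : ℕ) : ℕ := bif Nat.blt j 1205 then (eT_1201_1205 j) else (eT_1205_1209 j)
def eT_1209_1211 (j : ℕ) : ℕ := bif Nat.blt j 1210 then E_1209 else E_1210
def eT_1211_1213 (j : ℕ) : ℕ := bif Nat.blt j 1212 then E_1211 else E_1212
def eT_1209_1213 (j : ℕ) : ℕ := bif Nat.blt j 1211 then (eT_1209_1211 j) else (eT_1211_1213 j)
def eT_1213_1215 (j : ℕ) : ℕ := bif Nat.blt j 1214 then E_1213 else E_1214
def eT_1215_1217 (j : ℕ) : ℕ := bif Nat.blt j 1216 then E_1215 else E_1216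
def eT_1213_1217 (j : ℕ) : ℕ := bif Nat.blt j 1215 then (eT_1213_1215 j) else (eT_1215_1217 j)
def eT_1209_1217 (j : ℕ) : ℕ := bif Nat.blt j 1213 then (eT_1209_1213 j) else (eT_1213_1217 j)
def eT_1201_1217 (j : ℕ) : ℕ := bif Nat.blt j 1209 then (eT_1201_1209 j) else (eT_1209_1217 j)
def eT_1217_1219 (j : ℕ) : ℕ := bif Nat.blt j 1218 then E_1217 else E_1218
def eT_1219_1221 (j : ℕ) : ℕ := bif Nat.blt j 1220 then E_1219 else E_1220
def eT_1217_1221 (j : ℕ) : ℕ := bif Nat.blt j 1219 then (eT_1217_1219 j) else (eT_1219_1221 j)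
def eT_1221_1223 (j : ℕ) : ℕ := bif Nat.blt j 1222 then E_1221 else E_1222
def eT_1223_1225 (j : ℕ) : ℕ := bif Nat.blt j 1224 then E_1223 else E_1224
def eT_1221_1225 (j : ℕ) : ℕ := bif Nat.blt j 1223 then (eT_1221_1223 j) else (eT_1223_1225 j)
def eT_1217_1225 (j : ℕ) : ℕ := bif Nat.blt j 1221 then (eT_1217_1221 j) else (eT_1221_1225 j)
def eT_1225_1227 (j : ℕ) : ℕ := bif Nat.blt j 1226 then E_1225 else E_1226
def eT_1227_1229 (j : ℕ) : ℕ := bif Nat.blt j 1228 then E_1227 else E_1228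
def eT_1225_1229 (j : ℕ) : ℕ := bif Nat.blt j 1227 then (eT_1225_1227 j) else (eT_1227_1229 j)
def eT_1229_1231 (j : ℕ) : ℕ := bif Nat.blt j 1230 then E_1229 else E_1230
def eT_1232_1234 (j : ℕ) : ℕ := bif Nat.blt j 1233 then E_1232 else E_1233
def eT_1231_1234 (j : ℕ) : ℕ := bif Nat.blt j 1232 then E_1231 else (eT_1232_1234 j)
def eT_1229_1234 (j : ℕ) : ℕ := bif Nat.blt j 1231 then (eT_1229_1231 j) else (eT_1231_1234 j)
def eT_1225_1234 (j : ℕ) : ℕ := bif Nat.blt j 1229 then (eT_1225_1229 j) else (eT_1229_1234 j)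
def eT_1217_1234 (j : ℕ) : ℕ := bif Nat.blt j 1225 then (eT_1217_1225 j) else (eT_1225_1234 j)
def eT_1201_1234 (j : ℕ) : ℕ := bif Nat.blt j 1217 then (eT_1201_1217 j) else (eT_1217_1234 j)
def eT_1234_1236 (j : ℕ) : ℕ := bif Nat.blt j 1235 then E_1234 else E_1235
def eT_1236_1238 (j : ℕ) : ℕ := bif Nat.blt j 1237 then E_1236 else E_1237
def eT_1234_1238 (j : ℕ) : ℕ := bif Nat.blt j 1236 then (eT_1234_1236 j) else (eT_1236_1238 j)
def eT_1238_1240 (j : ℕ) : ℕ := bif Nat.blt j 1239 then E_1238 else E_1239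
def eT_1240_1242 (j : ℕ) : ℕ := bif Nat.blt j 1241 then E_1240 else E_1241
def eT_1238_1242 (j : ℕ) : ℕ := bif Nat.blt j 1240 then (eT_1238_1240 j) else (eT_1240_1242 j)
def eT_1234_1242 (j : ℕ) : ℕ := bif Nat.blt j 1238 then (eT_1234_1238 j) else (eT_1238_1242 j)
def eT_1242_1244 (j : ℕ) : ℕ := bif Nat.blt j 1243 then E_1242 else E_1243
def eT_1244_1246 (j : ℕ) : ℕ := bif Nat.blt j 1245 then E_1244 else E_1245
def eT_1242_1246 (j : ℕ) : ℕ := bif Nat.blt j 1244 then (eT_1242_1244 j) else (eT_1244_1246 j)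
def eT_1246_1248 (j : ℕ) : ℕ := bif Nat.blt j 1247 then E_1246 else E_1247
def eT_1249_1251 (j : ℕ) : ℕ := bif Nat.blt j 1250 then E_1249 else E_1250
def eT_1248_1251 (j : ℕ) : ℕ := bif Nat.blt j 1249 then E_1248 else (eT_1249_1251 j)
def eT_1246_1251 (j : ℕ) : ℕ := bif Nat.blt j 1248 then (eT_1246_1248 j) else (eT_1248_1251 j)
def eT_1242_1251 (j : ℕ) : ℕ := bif Nat.blt j 1246 then (eT_1242_1246 j) else (eT_1246_1251 j)
def eT_1234_1251 (j : ℕ) : ℕ := bif Nat.blt j 1242 then (eT_1234_1242 j) else (eT_1242_1251 j)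
def eT_1251_1253 (j : ℕ) : ℕ := bif Nat.blt j 1252 then E_1251 else E_1252
def eT_1253_1255 (j : ℕ) : ℕ := bif Nat.blt j 1254 then E_1253 else E_1254
def eT_1251_1255 (j : ℕ) : ℕ := bif Nat.blt j 1253 then (eT_1251_1253 j) else (eT_1253_1255 j)
def eT_1255_1257 (j : ℕ) : ℕ := bif Nat.blt j 1256 then E_1255 else E_1256
def eT_1257_1259 (j : ℕ) : ℕ := bif Nat.blt j 1258 then E_1257 else E_1258
def eT_1255_1259 (j : ℕ) : ℕ := bif Nat.blt j 1257 then (eT_1255_1257 j) else (eT_1257_1259 j)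
def eT_1251_1259 (j : ℕ) : ℕ := bif Nat.blt j 1255 then (eT_1251_1255 j) else (eT_1255_1259 j)
def eT_1259_1261 (j : ℕ) : ℕ := bif Nat.blt j 1260 then E_1259 else E_1260
def eT_1261_1263 (j : ℕ) : ℕ := bif Nat.blt j 1262 then E_1261 else E_1262
def eT_1259_1263 (j : ℕ) : ℕ := bif Nat.blt j 1261 then (eT_1259_1261 j) else (eT_1261_1263 j)
def eT_1263_1265 (j : ℕ) : ℕ := bif Nat.blt j 1264 then E_1263 else E_1264
def eT_1266_1268 (j : ℕ) : ℕ := bif Nat.blt j 1267 then E_1266 else E_1267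
def eT_1265_1268 (j : ℕ) : ℕ := bif Nat.blt j 1266 then E_1265 else (eT_1266_1268 j)
def eT_1263_1268 (j : ℕ) : ℕ := bif Nat.blt j 1265 then (eT_1263_1265 j) else (eT_1265_1268 j)
def eT_1259_1268 (j : ℕ) : ℕ := bif Nat.blt j 1263 then (eT_1259_1263 j) else (eT_1263_1268 j)
def eT_1251_1268 (j : ℕ) : ℕ := bif Nat.blt j 1259 then (eT_1251_1259 j) else (eT_1259_1268 j)
def eT_1234_1268 (j : ℕ) : ℕ := bif Nat.blt j 1251 then (eT_1234_1251 j) else (eT_1251_1268 j)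
def eT_1201_1268 (j : ℕ) : ℕ := bif Nat.blt j 1234 then (eT_1201_1234 j) else (eT_1234_1268 j)
def eT_1268_1270 (j : ℕ) : ℕ := bif Nat.blt j 1269 then E_1268 else E_1269
def eT_1270_1272 (j : ℕ) : ℕ := bif Nat.blt j 1271 then E_1270 else E_1271
def eT_1268_1272 (j : ℕ) : ℕ := bif Nat.blt j 1270 then (eT_1268_1270 j) else (eT_1270_1272 j)
def eT_1272_1274 (j : ℕ) : ℕ := bif Nat.blt j 1273 then E_1272 else E_1273
def eT_1274_1276 (j : ℕ) : ℕ := bif Nat.blt j 1275 then E_1274 else E_1275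
def eT_1272_1276 (j : ℕ) : ℕ := bif Nat.blt j 1274 then (eT_1272_1274 j) else (eT_1274_1276 j)
def eT_1268_1276 (j : ℕ) : ℕ := bif Nat.blt j 1272 then (eT_1268_1272 j) else (eT_1272_1276 j)
def eT_1276_1278 (j : ℕ) : ℕ := bif Nat.blt j 1277 then E_1276 else E_1277
def eT_1278_1280 (j : ℕ) : ℕ := bif Nat.blt j 1279 then E_1278 else E_1279
def eT_1276_1280 (j : ℕ) : ℕ := bif Nat.blt j 1278 then (eT_1276_1278 j) else (eT_1278_1280 j)
def eT_1280_1282 (j : ℕ) : ℕ := bif Nat.blt j 1281 then E_1280 else E_1281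
def eT_1282_1284 (j : ℕ) : ℕ := bif Nat.blt j 1283 then E_1282 else E_1283
def eT_1280_1284 (j : ℕ) : ℕ := bif Nat.blt j 1282 then (eT_1280_1282 j) else (eT_1282_1284 j)
def eT_1276_1284 (j : ℕ) : ℕ := bif Nat.blt j 1280 then (eT_1276_1280 j) else (eT_1280_1284 j)
def eT_1268_1284 (j : ℕ) : ℕ := bif Nat.blt j 1276 then (eT_1268_1276 j) else (eT_1276_1284 j)
def eT_1284_1286 (j : ℕ) : ℕ := bif Nat.blt j 1285 then E_1284 else E_1285
def eT_1286_1288 (j : ℕ) : ℕ := bif Nat.blt j 1287 then E_1286 else E_1287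
def eT_1284_1288 (j : ℕ) : ℕ := bif Nat.blt j 1286 then (eT_1284_1286 j) else (eT_1286_1288 j)
def eT_1288_1290 (j : ℕ) : ℕ := bif Nat.blt j 1289 then E_1288 else E_1289
def eT_1290_1292 (j : ℕ) : ℕ := bif Nat.blt j 1291 then E_1290 else E_1291
def eT_1288_1292 (j : ℕ) : ℕ := bif Nat.blt j 1290 then (eT_1288_1290 j) else (eT_1290_1292 j)
def eT_1284_1292 (j : ℕ) : ℕ := bif Nat.blt j 1288 then (eT_1284_1288 j) else (eT_1288_1292 j)
def eT_1292_1294 (j : ℕ) : ℕ := bif Nat.blt j 1293 then E_1292 else E_1293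
def eT_1294_1296 (j : ℕ) : ℕ := bif Nat.blt j 1295 then E_1294 else E_1295
def eT_1292_1296 (j : ℕ) : ℕ := bif Nat.blt j 1294 then (eT_1292_1294 j) else (eT_1294_1296 j)
def eT_1296_1298 (j : ℕ) : ℕ := bif Nat.blt j 1297 then E_1296 else E_1297
def eT_1299_1301 (j : ℕ) : ℕ := bif Nat.blt j 1300 then E_1299 else E_1300
def eT_1298_1301 (j : ℕ) : ℕ := bif Nat.blt j 1299 then E_1298 else (eT_1299_1301 j)
def eT_1296_1301 (j : ℕ) : ℕ := bif Nat.blt j 1298 then (eT_1296_1298 j) else (eT_1298_1301 j)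
def eT_1292_1301 (j : ℕ) : ℕ := bif Nat.blt j 1296 then (eT_1292_1296 j) else (eT_1296_1301 j)
def eT_1284_1301 (j : ℕ) : ℕ := bif Nat.blt j 1292 then (eT_1284_1292 j) else (eT_1292_1301 j)
def eT_1268_1301 (j : ℕ) : ℕ := bif Nat.blt j 1284 then (eT_1268_1284 j) else (eT_1284_1301 j)
def eT_1301_1303 (j : ℕ) : ℕ := bif Nat.blt j 1302 then E_1301 else E_1302
def eT_1303_1305 (j : ℕ) : ℕ := bif Nat.blt j 1304 then E_1303 else E_1304
def eT_1301_1305 (j : ℕ) : ℕ := bif Nat.blt j 1303 then (eT_1301_1303 j) else (eT_1303_1305 j)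
def eT_1305_1307 (j : ℕ) : ℕ := bif Nat.blt j 1306 then E_1305 else E_1306
def eT_1307_1309 (j : ℕ) : ℕ := bif Nat.blt j 1308 then E_1307 else E_1308
def eT_1305_1309 (j : ℕ) : ℕ := bif Nat.blt j 1307 then (eT_1305_1307 j) else (eT_1307_1309 j)
def eT_1301_1309 (j : ℕ) : ℕ := bif Nat.blt j 1305 then (eT_1301_1305 j) else (eT_1305_1309 j)
def eT_1309_1311 (j : ℕ) : ℕ := bif Nat.blt j 1310 then E_1309 else E_1310
def eT_1311_1313 (j : ℕ) : ℕ := bif Nat.blt j 1312 then E_1311 else E_1312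
def eT_1309_1313 (j : ℕ) : ℕ := bif Nat.blt j 1311 then (eT_1309_1311 j) else (eT_1311_1313 j)
def eT_1313_1315 (j : ℕ) : ℕ := bif Nat.blt j 1314 then E_1313 else E_1314
def eT_1316_1318 (j : ℕ) : ℕ := bif Nat.blt j 1317 then E_1316 else E_1317
def eT_1315_1318 (j : ℕ) : ℕ := bif Nat.blt j 1316 then E_1315 else (eT_1316_1318 j)
def eT_1313_1318 (j : ℕ) : ℕ := bif Nat.blt j 1315 then (eT_1313_1315 j) else (eT_1315_1318 j)
def eT_1309_1318 (j : ℕ) : ℕ := bif Nat.blt j 1313 then (eT_1309_1313 j) else (eT_1313_1318 j)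
def eT_1301_1318 (j : ℕ) : ℕ := bif Nat.blt j 1309 then (eT_1301_1309 j) else (eT_1309_1318 j)
def eT_1318_1320 (j : ℕ) : ℕ := bif Nat.blt j 1319 then E_1318 else E_1319
def eT_1320_1322 (j : ℕ) : ℕ := bif Nat.blt j 1321 then E_1320 else E_1321
def eT_1318_1322 (j : ℕ) : ℕ := bif Nat.blt j 1320 then (eT_1318_1320 j) else (eT_1320_1322 j)
def eT_1322_1324 (j : ℕ) : ℕ := bif Nat.blt j 1323 then E_1322 else E_1323
def eT_1324_1326 (j : ℕ) : ℕ := bif Nat.blt j 1325 then E_1324 else E_1325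
def eT_1322_1326 (j : ℕ) : ℕ := bif Nat.blt j 1324 then (eT_1322_1324 j) else (eT_1324_1326 j)
def eT_1318_1326 (j : ℕ) : ℕ := bif Nat.blt j 1322 then (eT_1318_1322 j) else (eT_1322_1326 j)
def eT_1326_1328 (j : ℕ) : ℕ := bif Nat.blt j 1327 then E_1326 else E_1327
def eT_1328_1330 (j : ℕ) : ℕ := bif Nat.blt j 1329 then E_1328 else E_1329
def eT_1326_1330 (j : ℕ) : ℕ := bif Nat.blt j 1328 then (eT_1326_1328 j) else (eT_1328_1330 j)
def eT_1330_1332 (j : ℕ) : ℕ := bif Nat.blt j 1331 then E_1330 else E_1331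
def eT_1333_1335 (j : ℕ) : ℕ := bif Nat.blt j 1334 then E_1333 else E_1334
def eT_1332_1335 (j : ℕ) : ℕ := bif Nat.blt j 1333 then E_1332 else (eT_1333_1335 j)
def eT_1330_1335 (j : ℕ) : ℕ := bif Nat.blt j 1332 then (eT_1330_1332 j) else (eT_1332_1335 j)
def eT_1326_1335 (j : ℕ) : ℕ := bif Nat.blt j 1330 then (eT_1326_1330 j) else (eT_1330_1335 j)
def eT_1318_1335 (j : ℕ) : ℕ := bif Nat.blt j 1326 then (eT_1318_1326 j) else (eT_1326_1335 j)
def eT_1301_1335 (j : ℕ) : ℕ := bif Nat.blt j 1318 then (eT_1301_1318 j) else (eT_1318_1335 j)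
def eT_1268_1335 (j : ℕ) : ℕ := bif Nat.blt j 1301 then (eT_1268_1301 j) else (eT_1301_1335 j)
def eT_1201_1335 (j : ℕ) : ℕ := bif Nat.blt j 1268 then (eT_1201_1268 j) else (eT_1268_1335 j)
def eT_1068_1335 (j : ℕ) : ℕ := bif Nat.blt j 1201 then (eT_1068_1201 j) else (eT_1201_1335 j)
def eT_1335_1337 (j : ℕ) : ℕ := bif Nat.blt j 1336 then E_1335 else E_1336
def eT_1337_1339 (j : ℕ) : ℕ := bif Nat.blt j 1338 then E_1337 else E_1338
def eT_1335_1339 (j : ℕ) : ℕ := bif Nat.blt j 1337 then (eT_1335_1337 j) else (eT_1337_1339 j)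
def eT_1339_1341 (j : ℕ) : ℕ := bif Nat.blt j 1340 then E_1339 else E_1340
def eT_1341_1343 (j : ℕ) : ℕ := bif Nat.blt j 1342 then E_1341 else E_1342
def eT_1339_1343 (j : ℕ) : ℕ := bif Nat.blt j 1341 then (eT_1339_1341 j) else (eT_1341_1343 j)
def eT_1335_1343 (j : ℕ) : ℕ := bif Nat.blt j 1339 then (eT_1335_1339 j) else (eT_1339_1343 j)
def eT_1343_1345 (j : ℕ) : ℕ := bif Nat.blt j 1344 then E_1343 else E_1344
def eT_1345_1347 (j : ℕ) : ℕ := bif Nat.blt j 1346 then E_1345 else E_1346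
def eT_1343_1347 (j : ℕ) : ℕ := bif Nat.blt j 1345 then (eT_1343_1345 j) else (eT_1345_1347 j)
def eT_1347_1349 (j : ℕ) : ℕ := bif Nat.blt j 1348 then E_1347 else E_1348
def eT_1349_1351 (j : ℕ) : ℕ := bif Nat.blt j 1350 then E_1349 else E_1350
def eT_1347_1351 (j : ℕ) : ℕ := bif Nat.blt j 1349 then (eT_1347_1349 j) else (eT_1349_1351 j)
def eT_1343_1351 (j : ℕ) : ℕ := bif Nat.blt j 1347 then (eT_1343_1347 j) else (eT_1347_1351 j)
def eT_1335_1351 (j : ℕ) : ℕ := bif Nat.blt j 1343 then (eT_1335_1343 j) else (eT_1343_1351 j)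
def eT_1351_1353 (j : ℕ) : ℕ := bif Nat.blt j 1352 then E_1351 else E_1352
def eT_1353_1355 (j : ℕ) : ℕ := bif Nat.blt j 1354 then E_1353 else E_1354
def eT_1351_1355 (j : ℕ) : ℕ := bif Nat.blt j 1353 then (eT_1351_1353 j) else (eT_1353_1355 j)
def eT_1355_1357 (j : ℕ) : ℕ := bif Nat.blt j 1356 then E_1355 else E_1356
def eT_1357_1359 (j : ℕ) : ℕ := bif Nat.blt j 1358 then E_1357 else E_1358
def eT_1355_1359 (j : ℕ) : ℕ := bif Nat.blt j 1357 then (eT_1355_1357 j) else (eT_1357_1359 j)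
def eT_1351_1359 (j : ℕ) : ℕ := bif Nat.blt j 1355 then (eT_1351_1355 j) else (eT_1355_1359 j)
def eT_1359_1361 (j : ℕ) : ℕ := bif Nat.blt j 1360 then E_1359 else E_1360
def eT_1361_1363 (j : ℕ) : ℕ := bif Nat.blt j 1362 then E_1361 else E_1362
def eT_1359_1363 (j : ℕ) : ℕ := bif Nat.blt j 1361 then (eT_1359_1361 j) else (eT_1361_1363 j)
def eT_1363_1365 (j : ℕ) : ℕ := bif Nat.blt j 1364 then E_1363 else E_1364
def eT_1366_1368 (j : ℕ) : ℕ := bif Nat.blt j 1367 then E_1366 else E_1367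
def eT_1365_1368 (j : ℕ) : ℕ := bif Nat.blt j 1366 then E_1365 else (eT_1366_1368 j)
def eT_1363_1368 (j : ℕ) : ℕ := bif Nat.blt j 1365 then (eT_1363_1365 j) else (eT_1365_1368 j)
def eT_1359_1368 (j : ℕ) : ℕ := bif Nat.blt j 1363 then (eT_1359_1363 j) else (eT_1363_1368 j)
def eT_1351_1368 (j : ℕ) : ℕ := bif Nat.blt j 1359 then (eT_1351_1359 j) else (eT_1359_1368 j)
def eT_1335_1368 (j : ℕ) : ℕ := bif Nat.blt j 1351 then (eT_1335_1351 j) else (eT_1351_1368 j)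
def eT_1368_1370 (j : ℕ) : ℕ := bif Nat.blt j 1369 then E_1368 else E_1369
def eT_1370_1372 (j : ℕ) : ℕ := bif Nat.blt j 1371 then E_1370 else E_1371
def eT_1368_1372 (j : ℕ) : ℕ := bif Nat.blt j 1370 then (eT_1368_1370 j) else (eT_1370_1372 j)
def eT_1372_1374 (j : ℕ) : ℕ := bif Nat.blt j 1373 then E_1372 else E_1373
def eT_1374_1376 (j : ℕ) : ℕ := bif Nat.blt j 1375 then E_1374 else E_1375
def eT_1372_1376 (j : ℕ) : ℕ := bif Nat.blt j 1374 then (eT_1372_1374 j) else (eT_1374_1376 j)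
def eT_1368_1376 (j : ℕ) : ℕ := bif Nat.blt j 1372 then (eT_1368_1372 j) else (eT_1372_1376 j)
def eT_1376_1378 (j : ℕ) : ℕ := bif Nat.blt j 1377 then E_1376 else E_1377
def eT_1378_1380 (j : ℕ) : ℕ := bif Nat.blt j 1379 then E_1378 else E_1379
def eT_1376_1380 (j : ℕ) : ℕ := bif Nat.blt j 1378 then (eT_1376_1378 j) else (eT_1378_1380 j)
def eT_1380_1382 (j : ℕ) : ℕ := bif Nat.blt j 1381 then E_1380 else E_1381
def eT_1382_1384 (j : ℕ) : ℕ := bif Nat.blt j 1383 then E_1382 else E_1383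
def eT_1380_1384 (j : ℕ) : ℕ := bif Nat.blt j 1382 then (eT_1380_1382 j) else (eT_1382_1384 j)
def eT_1376_1384 (j : ℕ) : ℕ := bif Nat.blt j 1380 then (eT_1376_1380 j) else (eT_1380_1384 j)
def eT_1368_1384 (j : ℕ) : ℕ := bif Nat.blt j 1376 then (eT_1368_1376 j) else (eT_1376_1384 j)
def eT_1384_1386 (j : ℕ) : ℕ := bif Nat.blt j 1385 then E_1384 else E_1385
def eT_1386_1388 (j : ℕ) : ℕ := bif Nat.blt j 1387 then E_1386 else E_1387
def eT_1384_1388 (j : ℕ) : ℕ := bif Nat.blt j 1386 then (eT_1384_1386 j) else (eT_1386_1388 j)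
def eT_1388_1390 (j : ℕ) : ℕ := bif Nat.blt j 1389 then E_1388 else E_1389
def eT_1390_1392 (j : ℕ) : ℕ := bif Nat.blt j 1391 then E_1390 else E_1391
def eT_1388_1392 (j : ℕ) : ℕ := bif Nat.blt j 1390 then (eT_1388_1390 j) else (eT_1390_1392 j)
def eT_1384_1392 (j : ℕ) : ℕ := bif Nat.blt j 1388 then (eT_1384_1388 j) else (eT_1388_1392 j)
def eT_1392_1394 (j : ℕ) : ℕ := bif Nat.blt j 1393 then E_1392 else E_1393
def eT_1394_1396 (j : ℕ) : ℕ := bif Nat.blt j 1395 then E_1394 else E_1395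
def eT_1392_1396 (j : ℕ) : ℕ := bif Nat.blt j 1394 then (eT_1392_1394 j) else (eT_1394_1396 j)
def eT_1396_1398 (j : ℕ) : ℕ := bif Nat.blt j 1397 then E_1396 else E_1397
def eT_1399_1401 (j : ℕ) : ℕ := bif Nat.blt j 1400 then E_1399 else E_1400
def eT_1398_1401 (j : ℕ) : ℕ := bif Nat.blt j 1399 then E_1398 else (eT_1399_1401 j)
def eT_1396_1401 (j : ℕ) : ℕ := bif Nat.blt j 1398 then (eT_1396_1398 j) else (eT_1398_1401 j)
def eT_1392_1401 (j : ℕ) : ℕ := bif Nat.blt j 1396 then (eT_1392_1396 j) else (eT_1396_1401 j)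
def eT_1384_1401 (j : ℕ) : ℕ := bif Nat.blt j 1392 then (eT_1384_1392 j) else (eT_1392_1401 j)
def eT_1368_1401 (j : ℕ) : ℕ := bif Nat.blt j 1384 then (eT_1368_1384 j) else (eT_1384_1401 j)
def eT_1335_1401 (j : ℕ) : ℕ := bif Nat.blt j 1368 then (eT_1335_1368 j) else (eT_1368_1401 j)
def eT_1401_1403 (j : ℕ) : ℕ := bif Nat.blt j 1402 then E_1401 else E_1402
def eT_1403_1405 (j : ℕ) : ℕ := bif Nat.blt j 1404 then E_1403 else E_1404
def eT_1401_1405 (j : ℕ) : ℕ := bif Nat.blt j 1403 then (eT_1401_1403 j) else (eT_1403_1405 j)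
def eT_1405_1407 (j : ℕ) : ℕ := bif Nat.blt j 1406 then E_1405 else E_1406
def eT_1407_1409 (j : ℕ) : ℕ := bif Nat.blt j 1408 then E_1407 else E_1408
def eT_1405_1409 (j : ℕ) : ℕ := bif Nat.blt j 1407 then (eT_1405_1407 j) else (eT_1407_1409 j)
def eT_1401_1409 (j : ℕ) : ℕ := bif Nat.blt j 1405 then (eT_1401_1405 j) else (eT_1405_1409 j)
def eT_1409_1411 (j : ℕ) : ℕ := bif Nat.blt j 1410 then E_1409 else E_1410
def eT_1411_1413 (j : ℕ) : ℕ := bif Nat.blt j 1412 then E_1411 else E_1412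
def eT_1409_1413 (j : ℕ) : ℕ := bif Nat.blt j 1411 then (eT_1409_1411 j) else (eT_1411_1413 j)
def eT_1413_1415 (j : ℕ) : ℕ := bif Nat.blt j 1414 then E_1413 else E_1414
def eT_1415_1417 (j : ℕ) : ℕ := bif Nat.blt j 1416 then E_1415 else E_1416
def eT_1413_1417 (j : ℕ) : ℕ := bif Nat.blt j 1415 then (eT_1413_1415 j) else (eT_1415_1417 j)
def eT_1409_1417 (j : ℕ) : ℕ := bif Nat.blt j 1413 then (eT_1409_1413 j) else (eT_1413_1417 j)
def eT_1401_1417 (j : ℕ) : ℕ := bif Nat.blt j 1409 then (eT_1401_1409 j) else (eT_1409_1417 j)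
def eT_1417_1419 (j : ℕ) : ℕ := bif Nat.blt j 1418 then E_1417 else E_1418
def eT_1419_1421 (j : ℕ) : ℕ := bif Nat.blt j 1420 then E_1419 else E_1420
def eT_1417_1421 (j : ℕ) : ℕ := bif Nat.blt j 1419 then (eT_1417_1419 j) else (eT_1419_1421 j)
def eT_1421_1423 (j : ℕ) : ℕ := bif Nat.blt j 1422 then E_1421 else E_1422
def eT_1423_1425 (j : ℕ) : ℕ := bif Nat.blt j 1424 then E_1423 else E_1424
def eT_1421_1425 (j : ℕ) : ℕ := bif Nat.blt j 1423 then (eT_1421_1423 j) else (eT_1423_1425 j)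
def eT_1417_1425 (j : ℕ) : ℕ := bif Nat.blt j 1421 then (eT_1417_1421 j) else (eT_1421_1425 j)
def eT_1425_1427 (j : ℕ) : ℕ := bif Nat.blt j 1426 then E_1425 else E_1426
def eT_1427_1429 (j : ℕ) : ℕ := bif Nat.blt j 1428 then E_1427 else E_1428
def eT_1425_1429 (j : ℕ) : ℕ := bif Nat.blt j 1427 then (eT_1425_1427 j) else (eT_1427_1429 j)
def eT_1429_1431 (j : ℕ) : ℕ := bif Nat.blt j 1430 then E_1429 else E_1430
def eT_1432_1434 (j : ℕ) : ℕ := bif Nat.blt j 1433 then E_1432 else E_1433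
def eT_1431_1434 (j : ℕ) : ℕ := bif Nat.blt j 1432 then E_1431 else (eT_1432_1434 j)
def eT_1429_1434 (j : ℕ) : ℕ := bif Nat.blt j 1431 then (eT_1429_1431 j) else (eT_1431_1434 j)
def eT_1425_1434 (j : ℕ) : ℕ := bif Nat.blt j 1429 then (eT_1425_1429 j) else (eT_1429_1434 j)
def eT_1417_1434 (j : ℕ) : ℕ := bif Nat.blt j 1425 then (eT_1417_1425 j) else (eT_1425_1434 j)
def eT_1401_1434 (j : ℕ) : ℕ := bif Nat.blt j 1417 then (eT_1401_1417 j) else (eT_1417_1434 j)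
def eT_1434_1436 (j : ℕ) : ℕ := bif Nat.blt j 1435 then E_1434 else E_1435
def eT_1436_1438 (j : ℕ) : ℕ := bif Nat.blt j 1437 then E_1436 else E_1437
def eT_1434_1438 (j : ℕ) : ℕ := bif Nat.blt j 1436 then (eT_1434_1436 j) else (eT_1436_1438 j)
def eT_1438_1440 (j : ℕ) : ℕ := bif Nat.blt j 1439 then E_1438 else E_1439
def eT_1440_1442 (j : ℕ) : ℕ := bif Nat.blt j 1441 then E_1440 else E_1441
def eT_1438_1442 (j : ℕ) : ℕ := bif Nat.blt j 1440 then (eT_1438_1440 j) else (eT_1440_1442 j)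
def eT_1434_1442 (j : ℕ) : ℕ := bif Nat.blt j 1438 then (eT_1434_1438 j) else (eT_1438_1442 j)
def eT_1442_1444 (j : ℕ) : ℕ := bif Nat.blt j 1443 then E_1442 else E_1443
def eT_1444_1446 (j : ℕ) : ℕ := bif Nat.blt j 1445 then E_1444 else E_1445
def eT_1442_1446 (j : ℕ) : ℕ := bif Nat.blt j 1444 then (eT_1442_1444 j) else (eT_1444_1446 j)
def eT_1446_1448 (j : ℕ) : ℕ := bif Nat.blt j 1447 then E_1446 else E_1447
def eT_1449_1451 (j : ℕ) : ℕ := bif Nat.blt j 1450 then E_1449 else E_1450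
def eT_1448_1451 (j : ℕ) : ℕ := bif Nat.blt j 1449 then E_1448 else (eT_1449_1451 j)
def eT_1446_1451 (j : ℕ) : ℕ := bif Nat.blt j 1448 then (eT_1446_1448 j) else (eT_1448_1451 j)
def eT_1442_1451 (j : ℕ) : ℕ := bif Nat.blt j 1446 then (eT_1442_1446 j) else (eT_1446_1451 j)
def eT_1434_1451 (j : ℕ) : ℕ := bif Nat.blt j 1442 then (eT_1434_1442 j) else (eT_1442_1451 j)
def eT_1451_1453 (j : ℕ) : ℕ := bif Nat.blt j 1452 then E_1451 else E_1452
def eT_1453_1455 (j : ℕ) : ℕ := bif Nat.blt j 1454 then E_1453 else E_1454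
def eT_1451_1455 (j : ℕ) : ℕ := bif Nat.blt j 1453 then (eT_1451_1453 j) else (eT_1453_1455 j)
def eT_1455_1457 (j : ℕ) : ℕ := bif Nat.blt j 1456 then E_1455 else E_1456
def eT_1457_1459 (j : ℕ) : ℕ := bif Nat.blt j 1458 then E_1457 else E_1458
def eT_1455_1459 (j : ℕ) : ℕ := bif Nat.blt j 1457 then (eT_1455_1457 j) else (eT_1457_1459 j)
def eT_1451_1459 (j : ℕ) : ℕ := bif Nat.blt j 1455 then (eT_1451_1455 j) else (eT_1455_1459 j)
def eT_1459_1461 (j : ℕ) : ℕ := bif Nat.blt j 1460 then E_1459 else E_1460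
def eT_1461_1463 (j : ℕ) : ℕ := bif Nat.blt j 1462 then E_1461 else E_1462
def eT_1459_1463 (j : ℕ) : ℕ := bif Nat.blt j 1461 then (eT_1459_1461 j) else (eT_1461_1463 j)
def eT_1463_1465 (j : ℕ) : ℕ := bif Nat.blt j 1464 then E_1463 else E_1464
def eT_1466_1468 (j : ℕ) : ℕ := bif Nat.blt j 1467 then E_1466 else E_1467
def eT_1465_1468 (j : ℕ) : ℕ := bif Nat.blt j 1466 then E_1465 else (eT_1466_1468 j)
def eT_1463_1468 (j : ℕ) : ℕ := bif Nat.blt j 1465 then (eT_1463_1465 j) else (eT_1465_1468 j)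
def eT_1459_1468 (j : ℕ) : ℕ := bif Nat.blt j 1463 then (eT_1459_1463 j) else (eT_1463_1468 j)
def eT_1451_1468 (j : ℕ) : ℕ := bif Nat.blt j 1459 then (eT_1451_1459 j) else (eT_1459_1468 j)
def eT_1434_1468 (j : ℕ) : ℕ := bif Nat.blt j 1451 then (eT_1434_1451 j) else (eT_1451_1468 j)
def eT_1401_1468 (j : ℕ) : ℕ := bif Nat.blt j 1434 then (eT_1401_1434 j) else (eT_1434_1468 j)
def eT_1335_1468 (j : ℕ) : ℕ := bif Nat.blt j 1401 then (eT_1335_1401 j) else (eT_1401_1468 j)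
def eT_1468_1470 (j : ℕ) : ℕ := bif Nat.blt j 1469 then E_1468 else E_1469
def eT_1470_1472 (j : ℕ) : ℕ := bif Nat.blt j 1471 then E_1470 else E_1471
def eT_1468_1472 (j : ℕ) : ℕ := bif Nat.blt j 1470 then (eT_1468_1470 j) else (eT_1470_1472 j)
def eT_1472_1474 (j : ℕ) : ℕ := bif Nat.blt j 1473 then E_1472 else E_1473
def eT_1474_1476 (j : ℕ) : ℕ := bif Nat.blt j 1475 then E_1474 else E_1475
def eT_1472_1476 (j : ℕ) : ℕ := bif Nat.blt j 1474 then (eT_1472_1474 j) else (eT_1474_1476 j)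
def eT_1468_1476 (j : ℕ) : ℕ := bif Nat.blt j 1472 then (eT_1468_1472 j) else (eT_1472_1476 j)
def eT_1476_1478 (j : ℕ) : ℕ := bif Nat.blt j 1477 then E_1476 else E_1477
def eT_1478_1480 (j : ℕ) : ℕ := bif Nat.blt j 1479 then E_1478 else E_1479
def eT_1476_1480 (j : ℕ) : ℕ := bif Nat.blt j 1478 then (eT_1476_1478 j) else (eT_1478_1480 j)
def eT_1480_1482 (j : ℕ) : ℕ := bif Nat.blt j 1481 then E_1480 else E_1481
def eT_1482_1484 (j : ℕ) : ℕ := bif Nat.blt j 1483 then E_1482 else E_1483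
def eT_1480_1484 (j : ℕ) : ℕ := bif Nat.blt j 1482 then (eT_1480_1482 j) else (eT_1482_1484 j)
def eT_1476_1484 (j : ℕ) : ℕ := bif Nat.blt j 1480 then (eT_1476_1480 j) else (eT_1480_1484 j)
def eT_1468_1484 (j : ℕ) : ℕ := bif Nat.blt j 1476 then (eT_1468_1476 j) else (eT_1476_1484 j)
def eT_1484_1486 (j : ℕ) : ℕ := bif Nat.blt j 1485 then E_1484 else E_1485
def eT_1486_1488 (j : ℕ) : ℕ := bif Nat.blt j 1487 then E_1486 else E_1487
def eT_1484_1488 (j : ℕ) : ℕ := bif Nat.blt j 1486 then (eT_1484_1486 j) else (eT_1486_1488 j)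
def eT_1488_1490 (j : ℕ) : ℕ := bif Nat.blt j 1489 then E_1488 else E_1489
def eT_1490_1492 (j : ℕ) : ℕ := bif Nat.blt j 1491 then E_1490 else E_1491
def eT_1488_1492 (j : ℕ) : ℕ := bif Nat.blt j 1490 then (eT_1488_1490 j) else (eT_1490_1492 j)
def eT_1484_1492 (j : ℕ) : ℕ := bif Nat.blt j 1488 then (eT_1484_1488 j) else (eT_1488_1492 j)
def eT_1492_1494 (j : ℕ) : ℕ := bif Nat.blt j 1493 then E_1492 else E_1493
def eT_1494_1496 (j : ℕ) : ℕ := bif Nat.blt j 1495 then E_1494 else E_1495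
def eT_1492_1496 (j : ℕ) : ℕ := bif Nat.blt j 1494 then (eT_1492_1494 j) else (eT_1494_1496 j)
def eT_1496_1498 (j : ℕ) : ℕ := bif Nat.blt j 1497 then E_1496 else E_1497
def eT_1499_1501 (j : ℕ) : ℕ := bif Nat.blt j 1500 then E_1499 else E_1500
def eT_1498_1501 (j : ℕ) : ℕ := bif Nat.blt j 1499 then E_1498 else (eT_1499_1501 j)
def eT_1496_1501 (j : ℕ) : ℕ := bif Nat.blt j 1498 then (eT_1496_1498 j) else (eT_1498_1501 j)
def eT_1492_1501 (j : ℕ) : ℕ := bif Nat.blt j 1496 then (eT_1492_1496 j) else (eT_1496_1501 j)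
def eT_1484_1501 (j : ℕ) : ℕ := bif Nat.blt j 1492 then (eT_1484_1492 j) else (eT_1492_1501 j)
def eT_1468_1501 (j : ℕ) : ℕ := bif Nat.blt j 1484 then (eT_1468_1484 j) else (eT_1484_1501 j)
def eT_1501_1503 (j : ℕ) : ℕ := bif Nat.blt j 1502 then E_1501 else E_1502
def eT_1503_1505 (j : ℕ) : ℕ := bif Nat.blt j 1504 then E_1503 else E_1504
def eT_1501_1505 (j : ℕ) : ℕ := bif Nat.blt j 1503 then (eT_1501_1503 j) else (eT_1503_1505 j)
def eT_1505_1507 (j : ℕ) : ℕ := bif Nat.blt j 1506 then E_1505 else E_1506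
def eT_1507_1509 (j : ℕ) : ℕ := bif Nat.blt j 1508 then E_1507 else E_1508
def eT_1505_1509 (j : ℕ) : ℕ := bif Nat.blt j 1507 then (eT_1505_1507 j) else (eT_1507_1509 j)
def eT_1501_1509 (j : ℕ) : ℕ := bif Nat.blt j 1505 then (eT_1501_1505 j) else (eT_1505_1509 j)
def eT_1509_1511 (j : ℕ) : ℕ := bif Nat.blt j 1510 then E_1509 else E_1510
def eT_1511_1513 (j : ℕ) : ℕ := bif Nat.blt j 1512 then E_1511 else E_1512
def eT_1509_1513 (j : ℕ) : ℕ := bif Nat.blt j 1511 then (eT_1509_1511 j) else (eT_1511_1513 j)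
def eT_1513_1515 (j : ℕ) : ℕ := bif Nat.blt j 1514 then E_1513 else E_1514
def eT_1516_1518 (j : ℕ) : ℕ := bif Nat.blt j 1517 then E_1516 else E_1517
def eT_1515_1518 (j : ℕ) : ℕ := bif Nat.blt j 1516 then E_1515 else (eT_1516_1518 j)
def eT_1513_1518 (j : ℕ) : ℕ := bif Nat.blt j 1515 then (eT_1513_1515 j) else (eT_1515_1518 j)
def eT_1509_1518 (j : ℕ) : ℕ := bif Nat.blt j 1513 then (eT_1509_1513 j) else (eT_1513_1518 j)
def eT_1501_1518 (j : ℕ) : ℕ := bif Nat.blt j 1509 then (eT_1501_1509 j) else (eT_1509_1518 j)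
def eT_1518_1520 (j : ℕ) : ℕ := bif Nat.blt j 1519 then E_1518 else E_1519
def eT_1520_1522 (j : ℕ) : ℕ := bif Nat.blt j 1521 then E_1520 else E_1521
def eT_1518_1522 (j : ℕ) : ℕ := bif Nat.blt j 1520 then (eT_1518_1520 j) else (eT_1520_1522 j)
def eT_1522_1524 (j : ℕ) : ℕ := bif Nat.blt j 1523 then E_1522 else E_1523
def eT_1524_1526 (j : ℕ) : ℕ := bif Nat.blt j 1525 then E_1524 else E_1525
def eT_1522_1526 (j : ℕ) : ℕ := bif Nat.blt j 1524 then (eT_1522_1524 j) else (eT_1524_1526 j)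
def eT_1518_1526 (j : ℕ) : ℕ := bif Nat.blt j 1522 then (eT_1518_1522 j) else (eT_1522_1526 j)
def eT_1526_1528 (j : ℕ) : ℕ := bif Nat.blt j 1527 then E_1526 else E_1527
def eT_1528_1530 (j : ℕ) : ℕ := bif Nat.blt j 1529 then E_1528 else E_1529
def eT_1526_1530 (j : ℕ) : ℕ := bif Nat.blt j 1528 then (eT_1526_1528 j) else (eT_1528_1530 j)
def eT_1530_1532 (j : ℕ) : ℕ := bif Nat.blt j 1531 then E_1530 else E_1531
def eT_1533_1535 (j : ℕ) : ℕ := bif Nat.blt j 1534 then E_1533 else E_1534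
def eT_1532_1535 (j : ℕ) : ℕ := bif Nat.blt j 1533 then E_1532 else (eT_1533_1535 j)
def eT_1530_1535 (j : ℕ) : ℕ := bif Nat.blt j 1532 then (eT_1530_1532 j) else (eT_1532_1535 j)
def eT_1526_1535 (j : ℕ) : ℕ := bif Nat.blt j 1530 then (eT_1526_1530 j) else (eT_1530_1535 j)
def eT_1518_1535 (j : ℕ) : ℕ := bif Nat.blt j 1526 then (eT_1518_1526 j) else (eT_1526_1535 j)
def eT_1501_1535 (j : ℕ) : ℕ := bif Nat.blt j 1518 then (eT_1501_1518 j) else (eT_1518_1535 j)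
def eT_1468_1535 (j : ℕ) : ℕ := bif Nat.blt j 1501 then (eT_1468_1501 j) else (eT_1501_1535 j)
def eT_1535_1537 (j : ℕ) : ℕ := bif Nat.blt j 1536 then E_1535 else E_1536
def eT_1537_1539 (j : ℕ) : ℕ := bif Nat.blt j 1538 then E_1537 else E_1538
def eT_1535_1539 (j : ℕ) : ℕ := bif Nat.blt j 1537 then (eT_1535_1537 j) else (eT_1537_1539 j)
def eT_1539_1541 (j : ℕ) : ℕ := bif Nat.blt j 1540 then E_1539 else E_1540
def eT_1541_1543 (j : ℕ) : ℕ := bif Nat.blt j 1542 then E_1541 else E_1542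
def eT_1539_1543 (j : ℕ) : ℕ := bif Nat.blt j 1541 then (eT_1539_1541 j) else (eT_1541_1543 j)
def eT_1535_1543 (j : ℕ) : ℕ := bif Nat.blt j 1539 then (eT_1535_1539 j) else (eT_1539_1543 j)
def eT_1543_1545 (j : ℕ) : ℕ := bif Nat.blt j 1544 then E_1543 else E_1544
def eT_1545_1547 (j : ℕ) : ℕ := bif Nat.blt j 1546 then E_1545 else E_1546
def eT_1543_1547 (j : ℕ) : ℕ := bif Nat.blt j 1545 then (eT_1543_1545 j) else (eT_1545_1547 j)
def eT_1547_1549 (j : ℕ) : ℕ := bif Nat.blt j 1548 then E_1547 else E_1548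
def eT_1549_1551 (j : ℕ) : ℕ := bif Nat.blt j 1550 then E_1549 else E_1550
def eT_1547_1551 (j : ℕ) : ℕ := bif Nat.blt j 1549 then (eT_1547_1549 j) else (eT_1549_1551 j)
def eT_1543_1551 (j : ℕ) : ℕ := bif Nat.blt j 1547 then (eT_1543_1547 j) else (eT_1547_1551 j)
def eT_1535_1551 (j : ℕ) : ℕ := bif Nat.blt j 1543 then (eT_1535_1543 j) else (eT_1543_1551 j)
def eT_1551_1553 (j : ℕ) : ℕ := bif Nat.blt j 1552 then E_1551 else E_1552
def eT_1553_1555 (j : ℕ) : ℕ := bif Nat.blt j 1554 then E_1553 else E_1554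
def eT_1551_1555 (j : ℕ) : ℕ := bif Nat.blt j 1553 then (eT_1551_1553 j) else (eT_1553_1555 j)
def eT_1555_1557 (j : ℕ) : ℕ := bif Nat.blt j 1556 then E_1555 else E_1556
def eT_1557_1559 (j : ℕ) : ℕ := bif Nat.blt j 1558 then E_1557 else E_1558
def eT_1555_1559 (j : ℕ) : ℕ := bif Nat.blt j 1557 then (eT_1555_1557 j) else (eT_1557_1559 j)
def eT_1551_1559 (j : ℕ) : ℕ := bif Nat.blt j 1555 then (eT_1551_1555 j) else (eT_1555_1559 j)
def eT_1559_1561 (j : ℕ) : ℕ := bif Nat.blt j 1560 then E_1559 else E_1560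
def eT_1561_1563 (j : ℕ) : ℕ := bif Nat.blt j 1562 then E_1561 else E_1562
def eT_1559_1563 (j : ℕ) : ℕ := bif Nat.blt j 1561 then (eT_1559_1561 j) else (eT_1561_1563 j)
def eT_1563_1565 (j : ℕ) : ℕ := bif Nat.blt j 1564 then E_1563 else E_1564
def eT_1566_1568 (j : ℕ) : ℕ := bif Nat.blt j 1567 then E_1566 else E_1567
def eT_1565_1568 (j : ℕ) : ℕ := bif Nat.blt j 1566 then E_1565 else (eT_1566_1568 j)
def eT_1563_1568 (j : ℕ) : ℕ := bif Nat.blt j 1565 then (eT_1563_1565 j) else (eT_1565_1568 j)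
def eT_1559_1568 (j : ℕ) : ℕ := bif Nat.blt j 1563 then (eT_1559_1563 j) else (eT_1563_1568 j)
def eT_1551_1568 (j : ℕ) : ℕ := bif Nat.blt j 1559 then (eT_1551_1559 j) else (eT_1559_1568 j)
def eT_1535_1568 (j : ℕ) : ℕ := bif Nat.blt j 1551 then (eT_1535_1551 j) else (eT_1551_1568 j)
def eT_1568_1570 (j : ℕ) : ℕ := bif Nat.blt j 1569 then E_1568 else E_1569
def eT_1570_1572 (j : ℕ) : ℕ := bif Nat.blt j 1571 then E_1570 else E_1571
def eT_1568_1572 (j : ℕ) : ℕ := bif Nat.blt j 1570 then (eT_1568_1570 j) else (eT_1570_1572 j)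
def eT_1572_1574 (j : ℕ) : ℕ := bif Nat.blt j 1573 then E_1572 else E_1573
def eT_1574_1576 (j : ℕ) : ℕ := bif Nat.blt j 1575 then E_1574 else E_1575
def eT_1572_1576 (j : ℕ) : ℕ := bif Nat.blt j 1574 then (eT_1572_1574 j) else (eT_1574_1576 j)
def eT_1568_1576 (j : ℕ) : ℕ := bif Nat.blt j 1572 then (eT_1568_1572 j) else (eT_1572_1576 j)
def eT_1576_1578 (j : ℕ) : ℕ := bif Nat.blt j 1577 then E_1576 else E_1577
def eT_1578_1580 (j : ℕ) : ℕ := bif Nat.blt j 1579 then E_1578 else E_1579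
def eT_1576_1580 (j : ℕ) : ℕ := bif Nat.blt j 1578 then (eT_1576_1578 j) else (eT_1578_1580 j)
def eT_1580_1582 (j : ℕ) : ℕ := bif Nat.blt j 1581 then E_1580 else E_1581
def eT_1583_1585 (j : ℕ) : ℕ := bif Nat.blt j 1584 then E_1583 else E_1584
def eT_1582_1585 (j : ℕ) : ℕ := bif Nat.blt j 1583 then E_1582 else (eT_1583_1585 j)
def eT_1580_1585 (j : ℕ) : ℕ := bif Nat.blt j 1582 then (eT_1580_1582 j) else (eT_1582_1585 j)
def eT_1576_1585 (j : ℕ) : ℕ := bif Nat.blt j 1580 then (eT_1576_1580 j) else (eT_1580_1585 j)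
def eT_1568_1585 (j : ℕ) : ℕ := bif Nat.blt j 1576 then (eT_1568_1576 j) else (eT_1576_1585 j)
def eT_1585_1587 (j : ℕ) : ℕ := bif Nat.blt j 1586 then E_1585 else E_1586
def eT_1587_1589 (j : ℕ) : ℕ := bif Nat.blt j 1588 then E_1587 else E_1588
def eT_1585_1589 (j : ℕ) : ℕ := bif Nat.blt j 1587 then (eT_1585_1587 j) else (eT_1587_1589 j)
def eT_1589_1591 (j : ℕ) : ℕ := bif Nat.blt j 1590 then E_1589 else E_1590
def eT_1591_1593 (j : ℕ) : ℕ := bif Nat.blt j 1592 then E_1591 else E_1592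
def eT_1589_1593 (j : ℕ) : ℕ := bif Nat.blt j 1591 then (eT_1589_1591 j) else (eT_1591_1593 j)
def eT_1585_1593 (j : ℕ) : ℕ := bif Nat.blt j 1589 then (eT_1585_1589 j) else (eT_1589_1593 j)
def eT_1593_1595 (j : ℕ) : ℕ := bif Nat.blt j 1594 then E_1593 else E_1594
def eT_1595_1597 (j : ℕ) : ℕ := bif Nat.blt j 1596 then E_1595 else E_1596
def eT_1593_1597 (j : ℕ) : ℕ := bif Nat.blt j 1595 then (eT_1593_1595 j) else (eT_1595_1597 j)
def eT_1597_1599 (j : ℕ) : ℕ := bif Nat.blt j 1598 then E_1597 else E_1598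
def eT_1600_1602 (j : ℕ) : ℕ := bif Nat.blt j 1601 then E_1600 else E_1601
def eT_1599_1602 (j : ℕ) : ℕ := bif Nat.blt j 1600 then E_1599 else (eT_1600_1602 j)
def eT_1597_1602 (j : ℕ) : ℕ := bif Nat.blt j 1599 then (eT_1597_1599 j) else (eT_1599_1602 j)
def eT_1593_1602 (j : ℕ) : ℕ := bif Nat.blt j 1597 then (eT_1593_1597 j) else (eT_1597_1602 j)
def eT_1585_1602 (j : ℕ) : ℕ := bif Nat.blt j 1593 then (eT_1585_1593 j) else (eT_1593_1602 j)
def eT_1568_1602 (j : ℕ) : ℕ := bif Nat.blt j 1585 then (eT_1568_1585 j) else (eT_1585_1602 j)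
def eT_1535_1602 (j : ℕ) : ℕ := bif Nat.blt j 1568 then (eT_1535_1568 j) else (eT_1568_1602 j)
def eT_1468_1602 (j : ℕ) : ℕ := bif Nat.blt j 1535 then (eT_1468_1535 j) else (eT_1535_1602 j)
def eT_1335_1602 (j : ℕ) : ℕ := bif Nat.blt j 1468 then (eT_1335_1468 j) else (eT_1468_1602 j)
def eT_1068_1602 (j : ℕ) : ℕ := bif Nat.blt j 1335 then (eT_1068_1335 j) else (eT_1335_1602 j)
def eT_1602_1604 (j : ℕ) : ℕ := bif Nat.blt j 1603 then E_1602 else E_1603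
def eT_1604_1606 (j : ℕ) : ℕ := bif Nat.blt j 1605 then E_1604 else E_1605
def eT_1602_1606 (j : ℕ) : ℕ := bif Nat.blt j 1604 then (eT_1602_1604 j) else (eT_1604_1606 j)
def eT_1606_1608 (j : ℕ) : ℕ := bif Nat.blt j 1607 then E_1606 else E_1607
def eT_1608_1610 (j : ℕ) : ℕ := bif Nat.blt j 1609 then E_1608 else E_1609
def eT_1606_1610 (j : ℕ) : ℕ := bif Nat.blt j 1608 then (eT_1606_1608 j) else (eT_1608_1610 j)
def eT_1602_1610 (j : ℕ) : ℕ := bif Nat.blt j 1606 then (eT_1602_1606 j) else (eT_1606_1610 j)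
def eT_1610_1612 (j : ℕ) : ℕ := bif Nat.blt j 1611 then E_1610 else E_1611
def eT_1612_1614 (j : ℕ) : ℕ := bif Nat.blt j 1613 then E_1612 else E_1613
def eT_1610_1614 (j : ℕ) : ℕ := bif Nat.blt j 1612 then (eT_1610_1612 j) else (eT_1612_1614 j)
def eT_1614_1616 (j : ℕ) : ℕ := bif Nat.blt j 1615 then E_1614 else E_1615
def eT_1616_1618 (j : ℕ) : ℕ := bif Nat.blt j 1617 then E_1616 else E_1617
def eT_1614_1618 (j : ℕ) : ℕ := bif Nat.blt j 1616 then (eT_1614_1616 j) else (eT_1616_1618 j)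
def eT_1610_1618 (j : ℕ) : ℕ := bif Nat.blt j 1614 then (eT_1610_1614 j) else (eT_1614_1618 j)
def eT_1602_1618 (j : ℕ) : ℕ := bif Nat.blt j 1610 then (eT_1602_1610 j) else (eT_1610_1618 j)
def eT_1618_1620 (j : ℕ) : ℕ := bif Nat.blt j 1619 then E_1618 else E_1619
def eT_1620_1622 (j : ℕ) : ℕ := bif Nat.blt j 1621 then E_1620 else E_1621
def eT_1618_1622 (j : ℕ) : ℕ := bif Nat.blt j 1620 then (eT_1618_1620 j) else (eT_1620_1622 j)
def eT_1622_1624 (j : ℕ) : ℕ := bif Nat.blt j 1623 then E_1622 else E_1623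
def eT_1624_1626 (j : ℕ) : ℕ := bif Nat.blt j 1625 then E_1624 else E_1625
def eT_1622_1626 (j : ℕ) : ℕ := bif Nat.blt j 1624 then (eT_1622_1624 j) else (eT_1624_1626 j)
def eT_1618_1626 (j : ℕ) : ℕ := bif Nat.blt j 1622 then (eT_1618_1622 j) else (eT_1622_1626 j)
def eT_1626_1628 (j : ℕ) : ℕ := bif Nat.blt j 1627 then E_1626 else E_1627
def eT_1628_1630 (j : ℕ) : ℕ := bif Nat.blt j 1629 then E_1628 else E_1629
def eT_1626_1630 (j : ℕ) : ℕ := bif Nat.blt j 1628 then (eT_1626_1628 j) else (eT_1628_1630 j)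
def eT_1630_1632 (j : ℕ) : ℕ := bif Nat.blt j 1631 then E_1630 else E_1631
def eT_1633_1635 (j : ℕ) : ℕ := bif Nat.blt j 1634 then E_1633 else E_1634
def eT_1632_1635 (j : ℕ) : ℕ := bif Nat.blt j 1633 then E_1632 else (eT_1633_1635 j)
def eT_1630_1635 (j : ℕ) : ℕ := bif Nat.blt j 1632 then (eT_1630_1632 j) else (eT_1632_1635 j)
def eT_1626_1635 (j : ℕ) : ℕ := bif Nat.blt j 1630 then (eT_1626_1630 j) else (eT_1630_1635 j)
def eT_1618_1635 (j : ℕ) : ℕ := bif Nat.blt j 1626 then (eT_1618_1626 j) else (eT_1626_1635 j)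
def eT_1602_1635 (j : ℕ) : ℕ := bif Nat.blt j 1618 then (eT_1602_1618 j) else (eT_1618_1635 j)
def eT_1635_1637 (j : ℕ) : ℕ := bif Nat.blt j 1636 then E_1635 else E_1636
def eT_1637_1639 (j : ℕ) : ℕ := bif Nat.blt j 1638 then E_1637 else E_1638
def eT_1635_1639 (j : ℕ) : ℕ := bif Nat.blt j 1637 then (eT_1635_1637 j) else (eT_1637_1639 j)
def eT_1639_1641 (j : ℕ) : ℕ := bif Nat.blt j 1640 then E_1639 else E_1640
def eT_1641_1643 (j : ℕ) : ℕ := bif Nat.blt j 1642 then E_1641 else E_1642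
def eT_1639_1643 (j : ℕ) : ℕ := bif Nat.blt j 1641 then (eT_1639_1641 j) else (eT_1641_1643 j)
def eT_1635_1643 (j : ℕ) : ℕ := bif Nat.blt j 1639 then (eT_1635_1639 j) else (eT_1639_1643 j)
def eT_1643_1645 (j : ℕ) : ℕ := bif Nat.blt j 1644 then E_1643 else E_1644
def eT_1645_1647 (j : ℕ) : ℕ := bif Nat.blt j 1646 then E_1645 else E_1646
def eT_1643_1647 (j : ℕ) : ℕ := bif Nat.blt j 1645 then (eT_1643_1645 j) else (eT_1645_1647 j)
def eT_1647_1649 (j : ℕ) : ℕ := bif Nat.blt j 1648 then E_1647 else E_1648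
def eT_1649_1651 (j : ℕ) : ℕ := bif Nat.blt j 1650 then E_1649 else E_1650
def eT_1647_1651 (j : ℕ) : ℕ := bif Nat.blt j 1649 then (eT_1647_1649 j) else (eT_1649_1651 j)
def eT_1643_1651 (j : ℕ) : ℕ := bif Nat.blt j 1647 then (eT_1643_1647 j) else (eT_1647_1651 j)
def eT_1635_1651 (j : ℕ) : ℕ := bif Nat.blt j 1643 then (eT_1635_1643 j) else (eT_1643_1651 j)
def eT_1651_1653 (j : ℕ) : ℕ := bif Nat.blt j 1652 then E_1651 else E_1652
def eT_1653_1655 (j : ℕ) : ℕ := bif Nat.blt j 1654 then E_1653 else E_1654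
def eT_1651_1655 (j : ℕ) : ℕ := bif Nat.blt j 1653 then (eT_1651_1653 j) else (eT_1653_1655 j)
def eT_1655_1657 (j : ℕ) : ℕ := bif Nat.blt j 1656 then E_1655 else E_1656
def eT_1657_1659 (j : ℕ) : ℕ := bif Nat.blt j 1658 then E_1657 else E_1658
def eT_1655_1659 (j : ℕ) : ℕ := bif Nat.blt j 1657 then (eT_1655_1657 j) else (eT_1657_1659 j)
def eT_1651_1659 (j : ℕ) : ℕ := bif Nat.blt j 1655 then (eT_1651_1655 j) else (eT_1655_1659 j)
def eT_1659_1661 (j : ℕ) : ℕ := bif Nat.blt j 1660 then E_1659 else E_1660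
def eT_1661_1663 (j : ℕ) : ℕ := bif Nat.blt j 1662 then E_1661 else E_1662
def eT_1659_1663 (j : ℕ) : ℕ := bif Nat.blt j 1661 then (eT_1659_1661 j) else (eT_1661_1663 j)
def eT_1663_1665 (j : ℕ) : ℕ := bif Nat.blt j 1664 then E_1663 else E_1664
def eT_1666_1668 (j : ℕ) : ℕ := bif Nat.blt j 1667 then E_1666 else E_1667
def eT_1665_1668 (j : ℕ) : ℕ := bif Nat.blt j 1666 then E_1665 else (eT_1666_1668 j)
def eT_1663_1668 (j : ℕ) : ℕ := bif Nat.blt j 1665 then (eT_1663_1665 j) else (eT_1665_1668 j)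
def eT_1659_1668 (j : ℕ) : ℕ := bif Nat.blt j 1663 then (eT_1659_1663 j) else (eT_1663_1668 j)
def eT_1651_1668 (j : ℕ) : ℕ := bif Nat.blt j 1659 then (eT_1651_1659 j) else (eT_1659_1668 j)
def eT_1635_1668 (j : ℕ) : ℕ := bif Nat.blt j 1651 then (eT_1635_1651 j) else (eT_1651_1668 j)
def eT_1602_1668 (j : ℕ) : ℕ := bif Nat.blt j 1635 then (eT_1602_1635 j) else (eT_1635_1668 j)
def eT_1668_1670 (j : ℕ) : ℕ := bif Nat.blt j 1669 then E_1668 else E_1669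
def eT_1670_1672 (j : ℕ) : ℕ := bif Nat.blt j 1671 then E_1670 else E_1671
def eT_1668_1672 (j : ℕ) : ℕ := bif Nat.blt j 1670 then (eT_1668_1670 j) else (eT_1670_1672 j)
def eT_1672_1674 (j : ℕ) : ℕ := bif Nat.blt j 1673 then E_1672 else E_1673
def eT_1674_1676 (j : ℕ) : ℕ := bif Nat.blt j 1675 then E_1674 else E_1675
def eT_1672_1676 (j : ℕ) : ℕ := bif Nat.blt j 1674 then (eT_1672_1674 j) else (eT_1674_1676 j)
def eT_1668_1676 (j : ℕ) : ℕ := bif Nat.blt j 1672 then (eT_1668_1672 j) else (eT_1672_1676 j)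
def eT_1676_1678 (j : ℕ) : ℕ := bif Nat.blt j 1677 then E_1676 else E_1677
def eT_1678_1680 (j : ℕ) : ℕ := bif Nat.blt j 1679 then E_1678 else E_1679
def eT_1676_1680 (j : ℕ) : ℕ := bif Nat.blt j 1678 then (eT_1676_1678 j) else (eT_1678_1680 j)
def eT_1680_1682 (j : ℕ) : ℕ := bif Nat.blt j 1681 then E_1680 else E_1681
def eT_1682_1684 (j : ℕ) : ℕ := bif Nat.blt j 1683 then E_1682 else E_1683
def eT_1680_1684 (j : ℕ) : ℕ := bif Nat.blt j 1682 then (eT_1680_1682 j) else (eT_1682_1684 j)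
def eT_1676_1684 (j : ℕ) : ℕ := bif Nat.blt j 1680 then (eT_1676_1680 j) else (eT_1680_1684 j)
def eT_1668_1684 (j : ℕ) : ℕ := bif Nat.blt j 1676 then (eT_1668_1676 j) else (eT_1676_1684 j)
def eT_1684_1686 (j : ℕ) : ℕ := bif Nat.blt j 1685 then E_1684 else E_1685
def eT_1686_1688 (j : ℕ) : ℕ := bif Nat.blt j 1687 then E_1686 else E_1687
def eT_1684_1688 (j : ℕ) : ℕ := bif Nat.blt j 1686 then (eT_1684_1686 j) else (eT_1686_1688 j)
def eT_1688_1690 (j : ℕ) : ℕ := bif Nat.blt j 1689 then E_1688 else E_1689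
def eT_1690_1692 (j : ℕ) : ℕ := bif Nat.blt j 1691 then E_1690 else E_1691
def eT_1688_1692 (j : ℕ) : ℕ := bif Nat.blt j 1690 then (eT_1688_1690 j) else (eT_1690_1692 j)
def eT_1684_1692 (j : ℕ) : ℕ := bif Nat.blt j 1688 then (eT_1684_1688 j) else (eT_1688_1692 j)
def eT_1692_1694 (j : ℕ) : ℕ := bif Nat.blt j 1693 then E_1692 else E_1693
def eT_1694_1696 (j : ℕ) : ℕ := bif Nat.blt j 1695 then E_1694 else E_1695
def eT_1692_1696 (j : ℕ) : ℕ := bif Nat.blt j 1694 then (eT_1692_1694 j) else (eT_1694_1696 j)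
def eT_1696_1698 (j : ℕ) : ℕ := bif Nat.blt j 1697 then E_1696 else E_1697
def eT_1699_1701 (j : ℕ) : ℕ := bif Nat.blt j 1700 then E_1699 else E_1700
def eT_1698_1701 (j : ℕ) : ℕ := bif Nat.blt j 1699 then E_1698 else (eT_1699_1701 j)
def eT_1696_1701 (j : ℕ) : ℕ := bif Nat.blt j 1698 then (eT_1696_1698 j) else (eT_1698_1701 j)
def eT_1692_1701 (j : ℕ) : ℕ := bif Nat.blt j 1696 then (eT_1692_1696 j) else (eT_1696_1701 j)
def eT_1684_1701 (j : ℕ) : ℕ := bif Nat.blt j 1692 then (eT_1684_1692 j) else (eT_1692_1701 j)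
def eT_1668_1701 (j : ℕ) : ℕ := bif Nat.blt j 1684 then (eT_1668_1684 j) else (eT_1684_1701 j)
def eT_1701_1703 (j : ℕ) : ℕ := bif Nat.blt j 1702 then E_1701 else E_1702
def eT_1703_1705 (j : ℕ) : ℕ := bif Nat.blt j 1704 then E_1703 else E_1704
def eT_1701_1705 (j : ℕ) : ℕ := bif Nat.blt j 1703 then (eT_1701_1703 j) else (eT_1703_1705 j)
def eT_1705_1707 (j : ℕ) : ℕ := bif Nat.blt j 1706 then E_1705 else E_1706
def eT_1707_1709 (j : ℕ) : ℕ := bif Nat.blt j 1708 then E_1707 else E_1708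
def eT_1705_1709 (j : ℕ) : ℕ := bif Nat.blt j 1707 then (eT_1705_1707 j) else (eT_1707_1709 j)
def eT_1701_1709 (j : ℕ) : ℕ := bif Nat.blt j 1705 then (eT_1701_1705 j) else (eT_1705_1709 j)
def eT_1709_1711 (j : ℕ) : ℕ := bif Nat.blt j 1710 then E_1709 else E_1710
def eT_1711_1713 (j : ℕ) : ℕ := bif Nat.blt j 1712 then E_1711 else E_1712
def eT_1709_1713 (j : ℕ) : ℕ := bif Nat.blt j 1711 then (eT_1709_1711 j) else (eT_1711_1713 j)
def eT_1713_1715 (j : ℕ) : ℕ := bif Nat.blt j 1714 then E_1713 else E_1714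
def eT_1716_1718 (j : ℕ) : ℕ := bif Nat.blt j 1717 then E_1716 else E_1717
def eT_1715_1718 (j : ℕ) : ℕ := bif Nat.blt j 1716 then E_1715 else (eT_1716_1718 j)
def eT_1713_1718 (j : ℕ) : ℕ := bif Nat.blt j 1715 then (eT_1713_1715 j) else (eT_1715_1718 j)
def eT_1709_1718 (j : ℕ) : ℕ := bif Nat.blt j 1713 then (eT_1709_1713 j) else (eT_1713_1718 j)
def eT_1701_1718 (j : ℕ) : ℕ := bif Nat.blt j 1709 then (eT_1701_1709 j) else (eT_1709_1718 j)
def eT_1718_1720 (j : ℕ) : ℕ := bif Nat.blt j 1719 then E_1718 else E_1719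
def eT_1720_1722 (j : ℕ) : ℕ := bif Nat.blt j 1721 then E_1720 else E_1721
def eT_1718_1722 (j : ℕ) : ℕ := bif Nat.blt j 1720 then (eT_1718_1720 j) else (eT_1720_1722 j)
def eT_1722_1724 (j : ℕ) : ℕ := bif Nat.blt j 1723 then E_1722 else E_1723
def eT_1724_1726 (j : ℕ) : ℕ := bif Nat.blt j 1725 then E_1724 else E_1725
def eT_1722_1726 (j : ℕ) : ℕ := bif Nat.blt j 1724 then (eT_1722_1724 j) else (eT_1724_1726 j)
def eT_1718_1726 (j : ℕ) : ℕ := bif Nat.blt j 1722 then (eT_1718_1722 j) else (eT_1722_1726 j)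
def eT_1726_1728 (j : ℕ) : ℕ := bif Nat.blt j 1727 then E_1726 else E_1727
def eT_1728_1730 (j : ℕ) : ℕ := bif Nat.blt j 1729 then E_1728 else E_1729
def eT_1726_1730 (j : ℕ) : ℕ := bif Nat.blt j 1728 then (eT_1726_1728 j) else (eT_1728_1730 j)
def eT_1730_1732 (j : ℕ) : ℕ := bif Nat.blt j 1731 then E_1730 else E_1731
def eT_1733_1735 (j : ℕ) : ℕ := bif Nat.blt j 1734 then E_1733 else E_1734
def eT_1732_1735 (j : ℕ) : ℕ := bif Nat.blt j 1733 then E_1732 else (eT_1733_1735 j)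
def eT_1730_1735 (j : ℕ) : ℕ := bif Nat.blt j 1732 then (eT_1730_1732 j) else (eT_1732_1735 j)
def eT_1726_1735 (j : ℕ) : ℕ := bif Nat.blt j 1730 then (eT_1726_1730 j) else (eT_1730_1735 j)
def eT_1718_1735 (j : ℕ) : ℕ := bif Nat.blt j 1726 then (eT_1718_1726 j) else (eT_1726_1735 j)
def eT_1701_1735 (j : ℕ) : ℕ := bif Nat.blt j 1718 then (eT_1701_1718 j) else (eT_1718_1735 j)
def eT_1668_1735 (j : ℕ) : ℕ := bif Nat.blt j 1701 then (eT_1668_1701 j) else (eT_1701_1735 j)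
def eT_1602_1735 (j : ℕ) : ℕ := bif Nat.blt j 1668 then (eT_1602_1668 j) else (eT_1668_1735 j)
def eT_1735_1737 (j : ℕ) : ℕ := bif Nat.blt j 1736 then E_1735 else E_1736
def eT_1737_1739 (j : ℕ) : ℕ := bif Nat.blt j 1738 then E_1737 else E_1738
def eT_1735_1739 (j : ℕ) : ℕ := bif Nat.blt j 1737 then (eT_1735_1737 j) else (eT_1737_1739 j)
def eT_1739_1741 (j : ℕ) : ℕ := bif Nat.blt j 1740 then E_1739 else E_1740
def eT_1741_1743 (j : ℕ) : ℕ := bif Nat.blt j 1742 then E_1741 else E_1742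
def eT_1739_1743 (j : ℕ) : ℕ := bif Nat.blt j 1741 then (eT_1739_1741 j) else (eT_1741_1743 j)
def eT_1735_1743 (j : ℕ) : ℕ := bif Nat.blt j 1739 then (eT_1735_1739 j) else (eT_1739_1743 j)
def eT_1743_1745 (j : ℕ) : ℕ := bif Nat.blt j 1744 then E_1743 else E_1744
def eT_1745_1747 (j : ℕ) : ℕ := bif Nat.blt j 1746 then E_1745 else E_1746
def eT_1743_1747 (j : ℕ) : ℕ := bif Nat.blt j 1745 then (eT_1743_1745 j) else (eT_1745_1747 j)
def eT_1747_1749 (j : ℕ) : ℕ := bif Nat.blt j 1748 then E_1747 else E_1748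
def eT_1749_1751 (j : ℕ) : ℕ := bif Nat.blt j 1750 then E_1749 else E_1750
def eT_1747_1751 (j : ℕ) : ℕ := bif Nat.blt j 1749 then (eT_1747_1749 j) else (eT_1749_1751 j)
def eT_1743_1751 (j : ℕ) : ℕ := bif Nat.blt j 1747 then (eT_1743_1747 j) else (eT_1747_1751 j)
def eT_1735_1751 (j : ℕ) : ℕ := bif Nat.blt j 1743 then (eT_1735_1743 j) else (eT_1743_1751 j)
def eT_1751_1753 (j : ℕ) : ℕ := bif Nat.blt j 1752 then E_1751 else E_1752
def eT_1753_1755 (j : ℕ) : ℕ := bif Nat.blt j 1754 then E_1753 else E_1754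
def eT_1751_1755 (j : ℕ) : ℕ := bif Nat.blt j 1753 then (eT_1751_1753 j) else (eT_1753_1755 j)
def eT_1755_1757 (j : ℕ) : ℕ := bif Nat.blt j 1756 then E_1755 else E_1756
def eT_1757_1759 (j : ℕ) : ℕ := bif Nat.blt j 1758 then E_1757 else E_1758
def eT_1755_1759 (j : ℕ) : ℕ := bif Nat.blt j 1757 then (eT_1755_1757 j) else (eT_1757_1759 j)
def eT_1751_1759 (j : ℕ) : ℕ := bif Nat.blt j 1755 then (eT_1751_1755 j) else (eT_1755_1759 j)
def eT_1759_1761 (j : ℕ) : ℕ := bif Nat.blt j 1760 then E_1759 else E_1760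
def eT_1761_1763 (j : ℕ) : ℕ := bif Nat.blt j 1762 then E_1761 else E_1762
def eT_1759_1763 (j : ℕ) : ℕ := bif Nat.blt j 1761 then (eT_1759_1761 j) else (eT_1761_1763 j)
def eT_1763_1765 (j : ℕ) : ℕ := bif Nat.blt j 1764 then E_1763 else E_1764
def eT_1766_1768 (j : ℕ) : ℕ := bif Nat.blt j 1767 then E_1766 else E_1767
def eT_1765_1768 (j : ℕ) : ℕ := bif Nat.blt j 1766 then E_1765 else (eT_1766_1768 j)
def eT_1763_1768 (j : ℕ) : ℕ := bif Nat.blt j 1765 then (eT_1763_1765 j) else (eT_1765_1768 j)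
def eT_1759_1768 (j : ℕ) : ℕ := bif Nat.blt j 1763 then (eT_1759_1763 j) else (eT_1763_1768 j)
def eT_1751_1768 (j : ℕ) : ℕ := bif Nat.blt j 1759 then (eT_1751_1759 j) else (eT_1759_1768 j)
def eT_1735_1768 (j : ℕ) : ℕ := bif Nat.blt j 1751 then (eT_1735_1751 j) else (eT_1751_1768 j)
def eT_1768_1770 (j : ℕ) : ℕ := bif Nat.blt j 1769 then E_1768 else E_1769
def eT_1770_1772 (j : ℕ) : ℕ := bif Nat.blt j 1771 then E_1770 else E_1771
def eT_1768_1772 (j : ℕ) : ℕ := bif Nat.blt j 1770 then (eT_1768_1770 j) else (eT_1770_1772 j)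
def eT_1772_1774 (j : ℕ) : ℕ := bif Nat.blt j 1773 then E_1772 else E_1773
def eT_1774_1776 (j : ℕ) : ℕ := bif Nat.blt j 1775 then E_1774 else E_1775
def eT_1772_1776 (j : ℕ) : ℕ := bif Nat.blt j 1774 then (eT_1772_1774 j) else (eT_1774_1776 j)
def eT_1768_1776 (j : ℕ) : ℕ := bif Nat.blt j 1772 then (eT_1768_1772 j) else (eT_1772_1776 j)
def eT_1776_1778 (j : ℕ) : ℕ := bif Nat.blt j 1777 then E_1776 else E_1777
def eT_1778_1780 (j : ℕ) : ℕ := bif Nat.blt j 1779 then E_1778 else E_1779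
def eT_1776_1780 (j : ℕ) : ℕ := bif Nat.blt j 1778 then (eT_1776_1778 j) else (eT_1778_1780 j)
def eT_1780_1782 (j : ℕ) : ℕ := bif Nat.blt j 1781 then E_1780 else E_1781
def eT_1783_1785 (j : ℕ) : ℕ := bif Nat.blt j 1784 then E_1783 else E_1784
def eT_1782_1785 (j : ℕ) : ℕ := bif Nat.blt j 1783 then E_1782 else (eT_1783_1785 j)
def eT_1780_1785 (j : ℕ) : ℕ := bif Nat.blt j 1782 then (eT_1780_1782 j) else (eT_1782_1785 j)
def eT_1776_1785 (j : ℕ) : ℕ := bif Nat.blt j 1780 then (eT_1776_1780 j) else (eT_1780_1785 j)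
def eT_1768_1785 (j : ℕ) : ℕ := bif Nat.blt j 1776 then (eT_1768_1776 j) else (eT_1776_1785 j)
def eT_1785_1787 (j : ℕ) : ℕ := bif Nat.blt j 1786 then E_1785 else E_1786
def eT_1787_1789 (j : ℕ) : ℕ := bif Nat.blt j 1788 then E_1787 else E_1788
def eT_1785_1789 (j : ℕ) : ℕ := bif Nat.blt j 1787 then (eT_1785_1787 j) else (eT_1787_1789 j)
def eT_1789_1791 (j : ℕ) : ℕ := bif Nat.blt j 1790 then E_1789 else E_1790
def eT_1791_1793 (j : ℕ) : ℕ := bif Nat.blt j 1792 then E_1791 else E_1792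
def eT_1789_1793 (j : ℕ) : ℕ := bif Nat.blt j 1791 then (eT_1789_1791 j) else (eT_1791_1793 j)
def eT_1785_1793 (j : ℕ) : ℕ := bif Nat.blt j 1789 then (eT_1785_1789 j) else (eT_1789_1793 j)
def eT_1793_1795 (j : ℕ) : ℕ := bif Nat.blt j 1794 then E_1793 else E_1794
def eT_1795_1797 (j : ℕ) : ℕ := bif Nat.blt j 1796 then E_1795 else E_1796
def eT_1793_1797 (j : ℕ) : ℕ := bif Nat.blt j 1795 then (eT_1793_1795 j) else (eT_1795_1797 j)
def eT_1797_1799 (j : ℕ) : ℕ := bif Nat.blt j 1798 then E_1797 else E_1798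
def eT_1800_1802 (j : ℕ) : ℕ := bif Nat.blt j 1801 then E_1800 else E_1801
def eT_1799_1802 (j : ℕ) : ℕ := bif Nat.blt j 1800 then E_1799 else (eT_1800_1802 j)
def eT_1797_1802 (j : ℕ) : ℕ := bif Nat.blt j 1799 then (eT_1797_1799 j) else (eT_1799_1802 j)
def eT_1793_1802 (j : ℕ) : ℕ := bif Nat.blt j 1797 then (eT_1793_1797 j) else (eT_1797_1802 j)
def eT_1785_1802 (j : ℕ) : ℕ := bif Nat.blt j 1793 then (eT_1785_1793 j) else (eT_1793_1802 j)
def eT_1768_1802 (j : ℕ) : ℕ := bif Nat.blt j 1785 then (eT_1768_1785 j) else (eT_1785_1802 j)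
def eT_1735_1802 (j : ℕ) : ℕ := bif Nat.blt j 1768 then (eT_1735_1768 j) else (eT_1768_1802 j)
def eT_1802_1804 (j : ℕ) : ℕ := bif Nat.blt j 1803 then E_1802 else E_1803
def eT_1804_1806 (j : ℕ) : ℕ := bif Nat.blt j 1805 then E_1804 else E_1805
def eT_1802_1806 (j : ℕ) : ℕ := bif Nat.blt j 1804 then (eT_1802_1804 j) else (eT_1804_1806 j)
def eT_1806_1808 (j : ℕ) : ℕ := bif Nat.blt j 1807 then E_1806 else E_1807
def eT_1808_1810 (j : ℕ) : ℕ := bif Nat.blt j 1809 then E_1808 else E_1809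
def eT_1806_1810 (j : ℕ) : ℕ := bif Nat.blt j 1808 then (eT_1806_1808 j) else (eT_1808_1810 j)
def eT_1802_1810 (j : ℕ) : ℕ := bif Nat.blt j 1806 then (eT_1802_1806 j) else (eT_1806_1810 j)
def eT_1810_1812 (j : ℕ) : ℕ := bif Nat.blt j 1811 then E_1810 else E_1811
def eT_1812_1814 (j : ℕ) : ℕ := bif Nat.blt j 1813 then E_1812 else E_1813
def eT_1810_1814 (j : ℕ) : ℕ := bif Nat.blt j 1812 then (eT_1810_1812 j) else (eT_1812_1814 j)
def eT_1814_1816 (j : ℕ) : ℕ := bif Nat.blt j 1815 then E_1814 else E_1815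
def eT_1816_1818 (j : ℕ) : ℕ := bif Nat.blt j 1817 then E_1816 else E_1817
def eT_1814_1818 (j : ℕ) : ℕ := bif Nat.blt j 1816 then (eT_1814_1816 j) else (eT_1816_1818 j)
def eT_1810_1818 (j : ℕ) : ℕ := bif Nat.blt j 1814 then (eT_1810_1814 j) else (eT_1814_1818 j)
def eT_1802_1818 (j : ℕ) : ℕ := bif Nat.blt j 1810 then (eT_1802_1810 j) else (eT_1810_1818 j)
def eT_1818_1820 (j : ℕ) : ℕ := bif Nat.blt j 1819 then E_1818 else E_1819
def eT_1820_1822 (j : ℕ) : ℕ := bif Nat.blt j 1821 then E_1820 else E_1821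
def eT_1818_1822 (j : ℕ) : ℕ := bif Nat.blt j 1820 then (eT_1818_1820 j) else (eT_1820_1822 j)
def eT_1822_1824 (j : ℕ) : ℕ := bif Nat.blt j 1823 then E_1822 else E_1823
def eT_1824_1826 (j : ℕ) : ℕ := bif Nat.blt j 1825 then E_1824 else E_1825
def eT_1822_1826 (j : ℕ) : ℕ := bif Nat.blt j 1824 then (eT_1822_1824 j) else (eT_1824_1826 j)
def eT_1818_1826 (j : ℕ) : ℕ := bif Nat.blt j 1822 then (eT_1818_1822 j) else (eT_1822_1826 j)
def eT_1826_1828 (j : ℕ) : ℕ := bif Nat.blt j 1827 then E_1826 else E_1827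
def eT_1828_1830 (j : ℕ) : ℕ := bif Nat.blt j 1829 then E_1828 else E_1829
def eT_1826_1830 (j : ℕ) : ℕ := bif Nat.blt j 1828 then (eT_1826_1828 j) else (eT_1828_1830 j)
def eT_1830_1832 (j : ℕ) : ℕ := bif Nat.blt j 1831 then E_1830 else E_1831
def eT_1833_1835 (j : ℕ) : ℕ := bif Nat.blt j 1834 then E_1833 else E_1834
def eT_1832_1835 (j : ℕ) : ℕ := bif Nat.blt j 1833 then E_1832 else (eT_1833_1835 j)
def eT_1830_1835 (j : ℕ) : ℕ := bif Nat.blt j 1832 then (eT_1830_1832 j) else (eT_1832_1835 j)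
def eT_1826_1835 (j : ℕ) : ℕ := bif Nat.blt j 1830 then (eT_1826_1830 j) else (eT_1830_1835 j)
def eT_1818_1835 (j : ℕ) : ℕ := bif Nat.blt j 1826 then (eT_1818_1826 j) else (eT_1826_1835 j)
def eT_1802_1835 (j : ℕ) : ℕ := bif Nat.blt j 1818 then (eT_1802_1818 j) else (eT_1818_1835 j)
def eT_1835_1837 (j : ℕ) : ℕ := bif Nat.blt j 1836 then E_1835 else E_1836
def eT_1837_1839 (j : ℕ) : ℕ := bif Nat.blt j 1838 then E_1837 else E_1838
def eT_1835_1839 (j : ℕ) : ℕ := bif Nat.blt j 1837 then (eT_1835_1837 j) else (eT_1837_1839 j)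
def eT_1839_1841 (j : ℕ) : ℕ := bif Nat.blt j 1840 then E_1839 else E_1840
def eT_1841_1843 (j : ℕ) : ℕ := bif Nat.blt j 1842 then E_1841 else E_1842
def eT_1839_1843 (j : ℕ) : ℕ := bif Nat.blt j 1841 then (eT_1839_1841 j) else (eT_1841_1843 j)
def eT_1835_1843 (j : ℕ) : ℕ := bif Nat.blt j 1839 then (eT_1835_1839 j) else (eT_1839_1843 j)
def eT_1843_1845 (j : ℕ) : ℕ := bif Nat.blt j 1844 then E_1843 else E_1844
def eT_1845_1847 (j : ℕ) : ℕ := bif Nat.blt j 1846 then E_1845 else E_1846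
def eT_1843_1847 (j : ℕ) : ℕ := bif Nat.blt j 1845 then (eT_1843_1845 j) else (eT_1845_1847 j)
def eT_1847_1849 (j : ℕ) : ℕ := bif Nat.blt j 1848 then E_1847 else E_1848
def eT_1850_1852 (j : ℕ) : ℕ := bif Nat.blt j 1851 then E_1850 else E_1851
def eT_1849_1852 (j : ℕ) : ℕ := bif Nat.blt j 1850 then E_1849 else (eT_1850_1852 j)
def eT_1847_1852 (j : ℕ) : ℕ := bif Nat.blt j 1849 then (eT_1847_1849 j) else (eT_1849_1852 j)
def eT_1843_1852 (j : ℕ) : ℕ := bif Nat.blt j 1847 then (eT_1843_1847 j) else (eT_1847_1852 j)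
def eT_1835_1852 (j : ℕ) : ℕ := bif Nat.blt j 1843 then (eT_1835_1843 j) else (eT_1843_1852 j)
def eT_1852_1854 (j : ℕ) : ℕ := bif Nat.blt j 1853 then E_1852 else E_1853
def eT_1854_1856 (j : ℕ) : ℕ := bif Nat.blt j 1855 then E_1854 else E_1855
def eT_1852_1856 (j : ℕ) : ℕ := bif Nat.blt j 1854 then (eT_1852_1854 j) else (eT_1854_1856 j)
def eT_1856_1858 (j : ℕ) : ℕ := bif Nat.blt j 1857 then E_1856 else E_1857
def eT_1858_1860 (j : ℕ) : ℕ := bif Nat.blt j 1859 then E_1858 else E_1859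
def eT_1856_1860 (j : ℕ) : ℕ := bif Nat.blt j 1858 then (eT_1856_1858 j) else (eT_1858_1860 j)
def eT_1852_1860 (j : ℕ) : ℕ := bif Nat.blt j 1856 then (eT_1852_1856 j) else (eT_1856_1860 j)
def eT_1860_1862 (j : ℕ) : ℕ := bif Nat.blt j 1861 then E_1860 else E_1861
def eT_1862_1864 (j : ℕ) : ℕ := bif Nat.blt j 1863 then E_1862 else E_1863
def eT_1860_1864 (j : ℕ) : ℕ := bif Nat.blt j 1862 then (eT_1860_1862 j) else (eT_1862_1864 j)
def eT_1864_1866 (j : ℕ) : ℕ := bif Nat.blt j 1865 then E_1864 else E_1865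
def eT_1867_1869 (j : ℕ) : ℕ := bif Nat.blt j 1868 then E_1867 else E_1868
def eT_1866_1869 (j : ℕ) : ℕ := bif Nat.blt j 1867 then E_1866 else (eT_1867_1869 j)
def eT_1864_1869 (j : ℕ) : ℕ := bif Nat.blt j 1866 then (eT_1864_1866 j) else (eT_1866_1869 j)
def eT_1860_1869 (j : ℕ) : ℕ := bif Nat.blt j 1864 then (eT_1860_1864 j) else (eT_1864_1869 j)
def eT_1852_1869 (j : ℕ) : ℕ := bif Nat.blt j 1860 then (eT_1852_1860 j) else (eT_1860_1869 j)
def eT_1835_1869 (j : ℕ) : ℕ := bif Nat.blt j 1852 then (eT_1835_1852 j) else (eT_1852_1869 j)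
def eT_1802_1869 (j : ℕ) : ℕ := bif Nat.blt j 1835 then (eT_1802_1835 j) else (eT_1835_1869 j)
def eT_1735_1869 (j : ℕ) : ℕ := bif Nat.blt j 1802 then (eT_1735_1802 j) else (eT_1802_1869 j)
def eT_1602_1869 (j : ℕ) : ℕ := bif Nat.blt j 1735 then (eT_1602_1735 j) else (eT_1735_1869 j)
def eT_1869_1871 (j : ℕ) : ℕ := bif Nat.blt j 1870 then E_1869 else E_1870
def eT_1871_1873 (j : ℕ) : ℕ := bif Nat.blt j 1872 then E_1871 else E_1872
def eT_1869_1873 (j : ℕ) : ℕ := bif Nat.blt j 1871 then (eT_1869_1871 j) else (eT_1871_1873 j)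
def eT_1873_1875 (j : ℕ) : ℕ := bif Nat.blt j 1874 then E_1873 else E_1874
def eT_1875_1877 (j : ℕ) : ℕ := bif Nat.blt j 1876 then E_1875 else E_1876
def eT_1873_1877 (j : ℕ) : ℕ := bif Nat.blt j 1875 then (eT_1873_1875 j) else (eT_1875_1877 j)
def eT_1869_1877 (j : ℕ) : ℕ := bif Nat.blt j 1873 then (eT_1869_1873 j) else (eT_1873_1877 j)
def eT_1877_1879 (j : ℕ) : ℕ := bif Nat.blt j 1878 then E_1877 else E_1878
def eT_1879_1881 (j : ℕ) : ℕ := bif Nat.blt j 1880 then E_1879 else E_1880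
def eT_1877_1881 (j : ℕ) : ℕ := bif Nat.blt j 1879 then (eT_1877_1879 j) else (eT_1879_1881 j)
def eT_1881_1883 (j : ℕ) : ℕ := bif Nat.blt j 1882 then E_1881 else E_1882
def eT_1883_1885 (j : ℕ) : ℕ := bif Nat.blt j 1884 then E_1883 else E_1884
def eT_1881_1885 (j : ℕ) : ℕ := bif Nat.blt j 1883 then (eT_1881_1883 j) else (eT_1883_1885 j)
def eT_1877_1885 (j : ℕ) : ℕ := bif Nat.blt j 1881 then (eT_1877_1881 j) else (eT_1881_1885 j)
def eT_1869_1885 (j : ℕ) : ℕ := bif Nat.blt j 1877 then (eT_1869_1877 j) else (eT_1877_1885 j)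
def eT_1885_1887 (j : ℕ) : ℕ := bif Nat.blt j 1886 then E_1885 else E_1886
def eT_1887_1889 (j : ℕ) : ℕ := bif Nat.blt j 1888 then E_1887 else E_1888
def eT_1885_1889 (j : ℕ) : ℕ := bif Nat.blt j 1887 then (eT_1885_1887 j) else (eT_1887_1889 j)
def eT_1889_1891 (j : ℕ) : ℕ := bif Nat.blt j 1890 then E_1889 else E_1890
def eT_1891_1893 (j : ℕ) : ℕ := bif Nat.blt j 1892 then E_1891 else E_1892
def eT_1889_1893 (j : ℕ) : ℕ := bif Nat.blt j 1891 then (eT_1889_1891 j) else (eT_1891_1893 j)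
def eT_1885_1893 (j : ℕ) : ℕ := bif Nat.blt j 1889 then (eT_1885_1889 j) else (eT_1889_1893 j)
def eT_1893_1895 (j : ℕ) : ℕ := bif Nat.blt j 1894 then E_1893 else E_1894
def eT_1895_1897 (j : ℕ) : ℕ := bif Nat.blt j 1896 then E_1895 else E_1896
def eT_1893_1897 (j : ℕ) : ℕ := bif Nat.blt j 1895 then (eT_1893_1895 j) else (eT_1895_1897 j)
def eT_1897_1899 (j : ℕ) : ℕ := bif Nat.blt j 1898 then E_1897 else E_1898
def eT_1900_1902 (j : ℕ) : ℕ := bif Nat.blt j 1901 then E_1900 else E_1901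
def eT_1899_1902 (j : ℕ) : ℕ := bif Nat.blt j 1900 then E_1899 else (eT_1900_1902 j)
def eT_1897_1902 (j : ℕ) : ℕ := bif Nat.blt j 1899 then (eT_1897_1899 j) else (eT_1899_1902 j)
def eT_1893_1902 (j : ℕ) : ℕ := bif Nat.blt j 1897 then (eT_1893_1897 j) else (eT_1897_1902 j)
def eT_1885_1902 (j : ℕ) : ℕ := bif Nat.blt j 1893 then (eT_1885_1893 j) else (eT_1893_1902 j)
def eT_1869_1902 (j : ℕ) : ℕ := bif Nat.blt j 1885 then (eT_1869_1885 j) else (eT_1885_1902 j)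
def eT_1902_1904 (j : ℕ) : ℕ := bif Nat.blt j 1903 then E_1902 else E_1903
def eT_1904_1906 (j : ℕ) : ℕ := bif Nat.blt j 1905 then E_1904 else E_1905
def eT_1902_1906 (j : ℕ) : ℕ := bif Nat.blt j 1904 then (eT_1902_1904 j) else (eT_1904_1906 j)
def eT_1906_1908 (j : ℕ) : ℕ := bif Nat.blt j 1907 then E_1906 else E_1907
def eT_1908_1910 (j : ℕ) : ℕ := bif Nat.blt j 1909 then E_1908 else E_1909
def eT_1906_1910 (j : ℕ) : ℕ := bif Nat.blt j 1908 then (eT_1906_1908 j) else (eT_1908_1910 j)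
def eT_1902_1910 (j : ℕ) : ℕ := bif Nat.blt j 1906 then (eT_1902_1906 j) else (eT_1906_1910 j)
def eT_1910_1912 (j : ℕ) : ℕ := bif Nat.blt j 1911 then E_1910 else E_1911
def eT_1912_1914 (j : ℕ) : ℕ := bif Nat.blt j 1913 then E_1912 else E_1913
def eT_1910_1914 (j : ℕ) : ℕ := bif Nat.blt j 1912 then (eT_1910_1912 j) else (eT_1912_1914 j)
def eT_1914_1916 (j : ℕ) : ℕ := bif Nat.blt j 1915 then E_1914 else E_1915
def eT_1917_1919 (j : ℕ) : ℕ := bif Nat.blt j 1918 then E_1917 else E_1918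
def eT_1916_1919 (j : ℕ) : ℕ := bif Nat.blt j 1917 then E_1916 else (eT_1917_1919 j)
def eT_1914_1919 (j : ℕ) : ℕ := bif Nat.blt j 1916 then (eT_1914_1916 j) else (eT_1916_1919 j)
def eT_1910_1919 (j : ℕ) : ℕ := bif Nat.blt j 1914 then (eT_1910_1914 j) else (eT_1914_1919 j)
def eT_1902_1919 (j : ℕ) : ℕ := bif Nat.blt j 1910 then (eT_1902_1910 j) else (eT_1910_1919 j)
def eT_1919_1921 (j : ℕ) : ℕ := bif Nat.blt j 1920 then E_1919 else E_1920
def eT_1921_1923 (j : ℕ) : ℕ := bif Nat.blt j 1922 then E_1921 else E_1922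
def eT_1919_1923 (j : ℕ) : ℕ := bif Nat.blt j 1921 then (eT_1919_1921 j) else (eT_1921_1923 j)
def eT_1923_1925 (j : ℕ) : ℕ := bif Nat.blt j 1924 then E_1923 else E_1924
def eT_1925_1927 (j : ℕ) : ℕ := bif Nat.blt j 1926 then E_1925 else E_1926
def eT_1923_1927 (j : ℕ) : ℕ := bif Nat.blt j 1925 then (eT_1923_1925 j) else (eT_1925_1927 j)
def eT_1919_1927 (j : ℕ) : ℕ := bif Nat.blt j 1923 then (eT_1919_1923 j) else (eT_1923_1927 j)
def eT_1927_1929 (j : ℕ) : ℕ := bif Nat.blt j 1928 then E_1927 else E_1928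
def eT_1929_1931 (j : ℕ) : ℕ := bif Nat.blt j 1930 then E_1929 else E_1930
def eT_1927_1931 (j : ℕ) : ℕ := bif Nat.blt j 1929 then (eT_1927_1929 j) else (eT_1929_1931 j)
def eT_1931_1933 (j : ℕ) : ℕ := bif Nat.blt j 1932 then E_1931 else E_1932
def eT_1934_1936 (j : ℕ) : ℕ := bif Nat.blt j 1935 then E_1934 else E_1935
def eT_1933_1936 (j : ℕ) : ℕ := bif Nat.blt j 1934 then E_1933 else (eT_1934_1936 j)
def eT_1931_1936 (j : ℕ) : ℕ := bif Nat.blt j 1933 then (eT_1931_1933 j) else (eT_1933_1936 j)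
def eT_1927_1936 (j : ℕ) : ℕ := bif Nat.blt j 1931 then (eT_1927_1931 j) else (eT_1931_1936 j)
def eT_1919_1936 (j : ℕ) : ℕ := bif Nat.blt j 1927 then (eT_1919_1927 j) else (eT_1927_1936 j)
def eT_1902_1936 (j : ℕ) : ℕ := bif Nat.blt j 1919 then (eT_1902_1919 j) else (eT_1919_1936 j)
def eT_1869_1936 (j : ℕ) : ℕ := bif Nat.blt j 1902 then (eT_1869_1902 j) else (eT_1902_1936 j)
def eT_1936_1938 (j : ℕ) : ℕ := bif Nat.blt j 1937 then E_1936 else E_1937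
def eT_1938_1940 (j : ℕ) : ℕ := bif Nat.blt j 1939 then E_1938 else E_1939
def eT_1936_1940 (j : ℕ) : ℕ := bif Nat.blt j 1938 then (eT_1936_1938 j) else (eT_1938_1940 j)
def eT_1940_1942 (j : ℕ) : ℕ := bif Nat.blt j 1941 then E_1940 else E_1941
def eT_1942_1944 (j : ℕ) : ℕ := bif Nat.blt j 1943 then E_1942 else E_1943
def eT_1940_1944 (j : ℕ) : ℕ := bif Nat.blt j 1942 then (eT_1940_1942 j) else (eT_1942_1944 j)
def eT_1936_1944 (j : ℕ) : ℕ := bif Nat.blt j 1940 then (eT_1936_1940 j) else (eT_1940_1944 j)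
def eT_1944_1946 (j : ℕ) : ℕ := bif Nat.blt j 1945 then E_1944 else E_1945
def eT_1946_1948 (j : ℕ) : ℕ := bif Nat.blt j 1947 then E_1946 else E_1947
def eT_1944_1948 (j : ℕ) : ℕ := bif Nat.blt j 1946 then (eT_1944_1946 j) else (eT_1946_1948 j)
def eT_1948_1950 (j : ℕ) : ℕ := bif Nat.blt j 1949 then E_1948 else E_1949
def eT_1950_1952 (j : ℕ) : ℕ := bif Nat.blt j 1951 then E_1950 else E_1951
def eT_1948_1952 (j : ℕ) : ℕ := bif Nat.blt j 1950 then (eT_1948_1950 j) else (eT_1950_1952 j)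
def eT_1944_1952 (j : ℕ) : ℕ := bif Nat.blt j 1948 then (eT_1944_1948 j) else (eT_1948_1952 j)
def eT_1936_1952 (j : ℕ) : ℕ := bif Nat.blt j 1944 then (eT_1936_1944 j) else (eT_1944_1952 j)
def eT_1952_1954 (j : ℕ) : ℕ := bif Nat.blt j 1953 then E_1952 else E_1953
def eT_1954_1956 (j : ℕ) : ℕ := bif Nat.blt j 1955 then E_1954 else E_1955
def eT_1952_1956 (j : ℕ) : ℕ := bif Nat.blt j 1954 then (eT_1952_1954 j) else (eT_1954_1956 j)
def eT_1956_1958 (j : ℕ) : ℕ := bif Nat.blt j 1957 then E_1956 else E_1957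
def eT_1958_1960 (j : ℕ) : ℕ := bif Nat.blt j 1959 then E_1958 else E_1959
def eT_1956_1960 (j : ℕ) : ℕ := bif Nat.blt j 1958 then (eT_1956_1958 j) else (eT_1958_1960 j)
def eT_1952_1960 (j : ℕ) : ℕ := bif Nat.blt j 1956 then (eT_1952_1956 j) else (eT_1956_1960 j)
def eT_1960_1962 (j : ℕ) : ℕ := bif Nat.blt j 1961 then E_1960 else E_1961
def eT_1962_1964 (j : ℕ) : ℕ := bif Nat.blt j 1963 then E_1962 else E_1963
def eT_1960_1964 (j : ℕ) : ℕ := bif Nat.blt j 1962 then (eT_1960_1962 j) else (eT_1962_1964 j)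
def eT_1964_1966 (j : ℕ) : ℕ := bif Nat.blt j 1965 then E_1964 else E_1965
def eT_1967_1969 (j : ℕ) : ℕ := bif Nat.blt j 1968 then E_1967 else E_1968
def eT_1966_1969 (j : ℕ) : ℕ := bif Nat.blt j 1967 then E_1966 else (eT_1967_1969 j)
def eT_1964_1969 (j : ℕ) : ℕ := bif Nat.blt j 1966 then (eT_1964_1966 j) else (eT_1966_1969 j)
def eT_1960_1969 (j : ℕ) : ℕ := bif Nat.blt j 1964 then (eT_1960_1964 j) else (eT_1964_1969 j)
def eT_1952_1969 (j : ℕ) : ℕ := bif Nat.blt j 1960 then (eT_1952_1960 j) else (eT_1960_1969 j)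
def eT_1936_1969 (j : ℕ) : ℕ := bif Nat.blt j 1952 then (eT_1936_1952 j) else (eT_1952_1969 j)
def eT_1969_1971 (j : ℕ) : ℕ := bif Nat.blt j 1970 then E_1969 else E_1970
def eT_1971_1973 (j : ℕ) : ℕ := bif Nat.blt j 1972 then E_1971 else E_1972
def eT_1969_1973 (j : ℕ) : ℕ := bif Nat.blt j 1971 then (eT_1969_1971 j) else (eT_1971_1973 j)
def eT_1973_1975 (j : ℕ) : ℕ := bif Nat.blt j 1974 then E_1973 else E_1974
def eT_1975_1977 (j : ℕ) : ℕ := bif Nat.blt j 1976 then E_1975 else E_1976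
def eT_1973_1977 (j : ℕ) : ℕ := bif Nat.blt j 1975 then (eT_1973_1975 j) else (eT_1975_1977 j)
def eT_1969_1977 (j : ℕ) : ℕ := bif Nat.blt j 1973 then (eT_1969_1973 j) else (eT_1973_1977 j)
def eT_1977_1979 (j : ℕ) : ℕ := bif Nat.blt j 1978 then E_1977 else E_1978
def eT_1979_1981 (j : ℕ) : ℕ := bif Nat.blt j 1980 then E_1979 else E_1980
def eT_1977_1981 (j : ℕ) : ℕ := bif Nat.blt j 1979 then (eT_1977_1979 j) else (eT_1979_1981 j)
def eT_1981_1983 (j : ℕ) : ℕ := bif Nat.blt j 1982 then E_1981 else E_1982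
def eT_1984_1986 (j : ℕ) : ℕ := bif Nat.blt j 1985 then E_1984 else E_1985
def eT_1983_1986 (j : ℕ) : ℕ := bif Nat.blt j 1984 then E_1983 else (eT_1984_1986 j)
def eT_1981_1986 (j : ℕ) : ℕ := bif Nat.blt j 1983 then (eT_1981_1983 j) else (eT_1983_1986 j)
def eT_1977_1986 (j : ℕ) : ℕ := bif Nat.blt j 1981 then (eT_1977_1981 j) else (eT_1981_1986 j)
def eT_1969_1986 (j : ℕ) : ℕ := bif Nat.blt j 1977 then (eT_1969_1977 j) else (eT_1977_1986 j)
def eT_1986_1988 (j : ℕ) : ℕ := bif Nat.blt j 1987 then E_1986 else E_1987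
def eT_1988_1990 (j : ℕ) : ℕ := bif Nat.blt j 1989 then E_1988 else E_1989
def eT_1986_1990 (j : ℕ) : ℕ := bif Nat.blt j 1988 then (eT_1986_1988 j) else (eT_1988_1990 j)
def eT_1990_1992 (j : ℕ) : ℕ := bif Nat.blt j 1991 then E_1990 else E_1991
def eT_1992_1994 (j : ℕ) : ℕ := bif Nat.blt j 1993 then E_1992 else E_1993
def eT_1990_1994 (j : ℕ) : ℕ := bif Nat.blt j 1992 then (eT_1990_1992 j) else (eT_1992_1994 j)
def eT_1986_1994 (j : ℕ) : ℕ := bif Nat.blt j 1990 then (eT_1986_1990 j) else (eT_1990_1994 j)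
def eT_1994_1996 (j : ℕ) : ℕ := bif Nat.blt j 1995 then E_1994 else E_1995
def eT_1996_1998 (j : ℕ) : ℕ := bif Nat.blt j 1997 then E_1996 else E_1997
def eT_1994_1998 (j : ℕ) : ℕ := bif Nat.blt j 1996 then (eT_1994_1996 j) else (eT_1996_1998 j)
def eT_1998_2000 (j : ℕ) : ℕ := bif Nat.blt j 1999 then E_1998 else E_1999
def eT_2001_2003 (j : ℕ) : ℕ := bif Nat.blt j 2002 then E_2001 else E_2002
def eT_2000_2003 (j : ℕ) : ℕ := bif Nat.blt j 2001 then E_2000 else (eT_2001_2003 j)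
def eT_1998_2003 (j : ℕ) : ℕ := bif Nat.blt j 2000 then (eT_1998_2000 j) else (eT_2000_2003 j)
def eT_1994_2003 (j : ℕ) : ℕ := bif Nat.blt j 1998 then (eT_1994_1998 j) else (eT_1998_2003 j)
def eT_1986_2003 (j : ℕ) : ℕ := bif Nat.blt j 1994 then (eT_1986_1994 j) else (eT_1994_2003 j)
def eT_1969_2003 (j : ℕ) : ℕ := bif Nat.blt j 1986 then (eT_1969_1986 j) else (eT_1986_2003 j)
def eT_1936_2003 (j : ℕ) : ℕ := bif Nat.blt j 1969 then (eT_1936_1969 j) else (eT_1969_2003 j)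
def eT_1869_2003 (j : ℕ) : ℕ := bif Nat.blt j 1936 then (eT_1869_1936 j) else (eT_1936_2003 j)
def eT_2003_2005 (j : ℕ) : ℕ := bif Nat.blt j 2004 then E_2003 else E_2004
def eT_2005_2007 (j : ℕ) : ℕ := bif Nat.blt j 2006 then E_2005 else E_2006
def eT_2003_2007 (j : ℕ) : ℕ := bif Nat.blt j 2005 then (eT_2003_2005 j) else (eT_2005_2007 j)
def eT_2007_2009 (j : ℕ) : ℕ := bif Nat.blt j 2008 then E_2007 else E_2008
def eT_2009_2011 (j : ℕ) : ℕ := bif Nat.blt j 2010 then E_2009 else E_2010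
def eT_2007_2011 (j : ℕ) : ℕ := bif Nat.blt j 2009 then (eT_2007_2009 j) else (eT_2009_2011 j)
def eT_2003_2011 (j : ℕ) : ℕ := bif Nat.blt j 2007 then (eT_2003_2007 j) else (eT_2007_2011 j)
def eT_2011_2013 (j : ℕ) : ℕ := bif Nat.blt j 2012 then E_2011 else E_2012
def eT_2013_2015 (j : ℕ) : ℕ := bif Nat.blt j 2014 then E_2013 else E_2014
def eT_2011_2015 (j : ℕ) : ℕ := bif Nat.blt j 2013 then (eT_2011_2013 j) else (eT_2013_2015 j)
def eT_2015_2017 (j : ℕ) : ℕ := bif Nat.blt j 2016 then E_2015 else E_2016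
def eT_2017_2019 (j : ℕ) : ℕ := bif Nat.blt j 2018 then E_2017 else E_2018
def eT_2015_2019 (j : ℕ) : ℕ := bif Nat.blt j 2017 then (eT_2015_2017 j) else (eT_2017_2019 j)
def eT_2011_2019 (j : ℕ) : ℕ := bif Nat.blt j 2015 then (eT_2011_2015 j) else (eT_2015_2019 j)
def eT_2003_2019 (j : ℕ) : ℕ := bif Nat.blt j 2011 then (eT_2003_2011 j) else (eT_2011_2019 j)
def eT_2019_2021 (j : ℕ) : ℕ := bif Nat.blt j 2020 then E_2019 else E_2020
def eT_2021_2023 (j : ℕ) : ℕ := bif Nat.blt j 2022 then E_2021 else E_2022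
def eT_2019_2023 (j : ℕ) : ℕ := bif Nat.blt j 2021 then (eT_2019_2021 j) else (eT_2021_2023 j)
def eT_2023_2025 (j : ℕ) : ℕ := bif Nat.blt j 2024 then E_2023 else E_2024
def eT_2025_2027 (j : ℕ) : ℕ := bif Nat.blt j 2026 then E_2025 else E_2026
def eT_2023_2027 (j : ℕ) : ℕ := bif Nat.blt j 2025 then (eT_2023_2025 j) else (eT_2025_2027 j)
def eT_2019_2027 (j : ℕ) : ℕ := bif Nat.blt j 2023 then (eT_2019_2023 j) else (eT_2023_2027 j)
def eT_2027_2029 (j : ℕ) : ℕ := bif Nat.blt j 2028 then E_2027 else E_2028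
def eT_2029_2031 (j : ℕ) : ℕ := bif Nat.blt j 2030 then E_2029 else E_2030
def eT_2027_2031 (j : ℕ) : ℕ := bif Nat.blt j 2029 then (eT_2027_2029 j) else (eT_2029_2031 j)
def eT_2031_2033 (j : ℕ) : ℕ := bif Nat.blt j 2032 then E_2031 else E_2032
def eT_2034_2036 (j : ℕ) : ℕ := bif Nat.blt j 2035 then E_2034 else E_2035
def eT_2033_2036 (j : ℕ) : ℕ := bif Nat.blt j 2034 then E_2033 else (eT_2034_2036 j)
def eT_2031_2036 (j : ℕ) : ℕ := bif Nat.blt j 2033 then (eT_2031_2033 j) else (eT_2033_2036 j)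
def eT_2027_2036 (j : ℕ) : ℕ := bif Nat.blt j 2031 then (eT_2027_2031 j) else (eT_2031_2036 j)
def eT_2019_2036 (j : ℕ) : ℕ := bif Nat.blt j 2027 then (eT_2019_2027 j) else (eT_2027_2036 j)
def eT_2003_2036 (j : ℕ) : ℕ := bif Nat.blt j 2019 then (eT_2003_2019 j) else (eT_2019_2036 j)
def eT_2036_2038 (j : ℕ) : ℕ := bif Nat.blt j 2037 then E_2036 else E_2037
def eT_2038_2040 (j : ℕ) : ℕ := bif Nat.blt j 2039 then E_2038 else E_2039
def eT_2036_2040 (j : ℕ) : ℕ := bif Nat.blt j 2038 then (eT_2036_2038 j) else (eT_2038_2040 j)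
def eT_2040_2042 (j : ℕ) : ℕ := bif Nat.blt j 2041 then E_2040 else E_2041
def eT_2042_2044 (j : ℕ) : ℕ := bif Nat.blt j 2043 then E_2042 else E_2043
def eT_2040_2044 (j : ℕ) : ℕ := bif Nat.blt j 2042 then (eT_2040_2042 j) else (eT_2042_2044 j)
def eT_2036_2044 (j : ℕ) : ℕ := bif Nat.blt j 2040 then (eT_2036_2040 j) else (eT_2040_2044 j)
def eT_2044_2046 (j : ℕ) : ℕ := bif Nat.blt j 2045 then E_2044 else E_2045
def eT_2046_2048 (j : ℕ) : ℕ := bif Nat.blt j 2047 then E_2046 else E_2047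
def eT_2044_2048 (j : ℕ) : ℕ := bif Nat.blt j 2046 then (eT_2044_2046 j) else (eT_2046_2048 j)
def eT_2048_2050 (j : ℕ) : ℕ := bif Nat.blt j 2049 then E_2048 else E_2049
def eT_2051_2053 (j : ℕ) : ℕ := bif Nat.blt j 2052 then E_2051 else E_2052
def eT_2050_2053 (j : ℕ) : ℕ := bif Nat.blt j 2051 then E_2050 else (eT_2051_2053 j)
def eT_2048_2053 (j : ℕ) : ℕ := bif Nat.blt j 2050 then (eT_2048_2050 j) else (eT_2050_2053 j)
def eT_2044_2053 (j : ℕ) : ℕ := bif Nat.blt j 2048 then (eT_2044_2048 j) else (eT_2048_2053 j)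
def eT_2036_2053 (j : ℕ) : ℕ := bif Nat.blt j 2044 then (eT_2036_2044 j) else (eT_2044_2053 j)
def eT_2053_2055 (j : ℕ) : ℕ := bif Nat.blt j 2054 then E_2053 else E_2054
def eT_2055_2057 (j : ℕ) : ℕ := bif Nat.blt j 2056 then E_2055 else E_2056
def eT_2053_2057 (j : ℕ) : ℕ := bif Nat.blt j 2055 then (eT_2053_2055 j) else (eT_2055_2057 j)
def eT_2057_2059 (j : ℕ) : ℕ := bif Nat.blt j 2058 then E_2057 else E_2058
def eT_2059_2061 (j : ℕ) : ℕ := bif Nat.blt j 2060 then E_2059 else E_2060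
def eT_2057_2061 (j : ℕ) : ℕ := bif Nat.blt j 2059 then (eT_2057_2059 j) else (eT_2059_2061 j)
def eT_2053_2061 (j : ℕ) : ℕ := bif Nat.blt j 2057 then (eT_2053_2057 j) else (eT_2057_2061 j)
def eT_2061_2063 (j : ℕ) : ℕ := bif Nat.blt j 2062 then E_2061 else E_2062
def eT_2063_2065 (j : ℕ) : ℕ := bif Nat.blt j 2064 then E_2063 else E_2064
def eT_2061_2065 (j : ℕ) : ℕ := bif Nat.blt j 2063 then (eT_2061_2063 j) else (eT_2063_2065 j)
def eT_2065_2067 (j : ℕ) : ℕ := bif Nat.blt j 2066 then E_2065 else E_2066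
def eT_2068_2070 (j : ℕ) : ℕ := bif Nat.blt j 2069 then E_2068 else E_2069
def eT_2067_2070 (j : ℕ) : ℕ := bif Nat.blt j 2068 then E_2067 else (eT_2068_2070 j)
def eT_2065_2070 (j : ℕ) : ℕ := bif Nat.blt j 2067 then (eT_2065_2067 j) else (eT_2067_2070 j)
def eT_2061_2070 (j : ℕ) : ℕ := bif Nat.blt j 2065 then (eT_2061_2065 j) else (eT_2065_2070 j)
def eT_2053_2070 (j : ℕ) : ℕ := bif Nat.blt j 2061 then (eT_2053_2061 j) else (eT_2061_2070 j)
def eT_2036_2070 (j : ℕ) : ℕ := bif Nat.blt j 2053 then (eT_2036_2053 j) else (eT_2053_2070 j)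
def eT_2003_2070 (j : ℕ) : ℕ := bif Nat.blt j 2036 then (eT_2003_2036 j) else (eT_2036_2070 j)
def eT_2070_2072 (j : ℕ) : ℕ := bif Nat.blt j 2071 then E_2070 else E_2071
def eT_2072_2074 (j : ℕ) : ℕ := bif Nat.blt j 2073 then E_2072 else E_2073
def eT_2070_2074 (j : ℕ) : ℕ := bif Nat.blt j 2072 then (eT_2070_2072 j) else (eT_2072_2074 j)
def eT_2074_2076 (j : ℕ) : ℕ := bif Nat.blt j 2075 then E_2074 else E_2075
def eT_2076_2078 (j : ℕ) : ℕ := bif Nat.blt j 2077 then E_2076 else E_2077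
def eT_2074_2078 (j : ℕ) : ℕ := bif Nat.blt j 2076 then (eT_2074_2076 j) else (eT_2076_2078 j)
def eT_2070_2078 (j : ℕ) : ℕ := bif Nat.blt j 2074 then (eT_2070_2074 j) else (eT_2074_2078 j)
def eT_2078_2080 (j : ℕ) : ℕ := bif Nat.blt j 2079 then E_2078 else E_2079
def eT_2080_2082 (j : ℕ) : ℕ := bif Nat.blt j 2081 then E_2080 else E_2081
def eT_2078_2082 (j : ℕ) : ℕ := bif Nat.blt j 2080 then (eT_2078_2080 j) else (eT_2080_2082 j)
def eT_2082_2084 (j : ℕ) : ℕ := bif Nat.blt j 2083 then E_2082 else E_2083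
def eT_2084_2086 (j : ℕ) : ℕ := bif Nat.blt j 2085 then E_2084 else E_2085
def eT_2082_2086 (j : ℕ) : ℕ := bif Nat.blt j 2084 then (eT_2082_2084 j) else (eT_2084_2086 j)
def eT_2078_2086 (j : ℕ) : ℕ := bif Nat.blt j 2082 then (eT_2078_2082 j) else (eT_2082_2086 j)
def eT_2070_2086 (j : ℕ) : ℕ := bif Nat.blt j 2078 then (eT_2070_2078 j) else (eT_2078_2086 j)
def eT_2086_2088 (j : ℕ) : ℕ := bif Nat.blt j 2087 then E_2086 else E_2087
def eT_2088_2090 (j : ℕ) : ℕ := bif Nat.blt j 2089 then E_2088 else E_2089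
def eT_2086_2090 (j : ℕ) : ℕ := bif Nat.blt j 2088 then (eT_2086_2088 j) else (eT_2088_2090 j)
def eT_2090_2092 (j : ℕ) : ℕ := bif Nat.blt j 2091 then E_2090 else E_2091
def eT_2092_2094 (j : ℕ) : ℕ := bif Nat.blt j 2093 then E_2092 else E_2093
def eT_2090_2094 (j : ℕ) : ℕ := bif Nat.blt j 2092 then (eT_2090_2092 j) else (eT_2092_2094 j)
def eT_2086_2094 (j : ℕ) : ℕ := bif Nat.blt j 2090 then (eT_2086_2090 j) else (eT_2090_2094 j)
def eT_2094_2096 (j : ℕ) : ℕ := bif Nat.blt j 2095 then E_2094 else E_2095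
def eT_2096_2098 (j : ℕ) : ℕ := bif Nat.blt j 2097 then E_2096 else E_2097
def eT_2094_2098 (j : ℕ) : ℕ := bif Nat.blt j 2096 then (eT_2094_2096 j) else (eT_2096_2098 j)
def eT_2098_2100 (j : ℕ) : ℕ := bif Nat.blt j 2099 then E_2098 else E_2099
def eT_2101_2103 (j : ℕ) : ℕ := bif Nat.blt j 2102 then E_2101 else E_2102
def eT_2100_2103 (j : ℕ) : ℕ := bif Nat.blt j 2101 then E_2100 else (eT_2101_2103 j)
def eT_2098_2103 (j : ℕ) : ℕ := bif Nat.blt j 2100 then (eT_2098_2100 j) else (eT_2100_2103 j)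
def eT_2094_2103 (j : ℕ) : ℕ := bif Nat.blt j 2098 then (eT_2094_2098 j) else (eT_2098_2103 j)
def eT_2086_2103 (j : ℕ) : ℕ := bif Nat.blt j 2094 then (eT_2086_2094 j) else (eT_2094_2103 j)
def eT_2070_2103 (j : ℕ) : ℕ := bif Nat.blt j 2086 then (eT_2070_2086 j) else (eT_2086_2103 j)
def eT_2103_2105 (j : ℕ) : ℕ := bif Nat.blt j 2104 then E_2103 else E_2104
def eT_2105_2107 (j : ℕ) : ℕ := bif Nat.blt j 2106 then E_2105 else E_2106
def eT_2103_2107 (j : ℕ) : ℕ := bif Nat.blt j 2105 then (eT_2103_2105 j) else (eT_2105_2107 j)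
def eT_2107_2109 (j : ℕ) : ℕ := bif Nat.blt j 2108 then E_2107 else E_2108
def eT_2109_2111 (j : ℕ) : ℕ := bif Nat.blt j 2110 then E_2109 else E_2110
def eT_2107_2111 (j : ℕ) : ℕ := bif Nat.blt j 2109 then (eT_2107_2109 j) else (eT_2109_2111 j)
def eT_2103_2111 (j : ℕ) : ℕ := bif Nat.blt j 2107 then (eT_2103_2107 j) else (eT_2107_2111 j)
def eT_2111_2113 (j : ℕ) : ℕ := bif Nat.blt j 2112 then E_2111 else E_2112
def eT_2113_2115 (j : ℕ) : ℕ := bif Nat.blt j 2114 then E_2113 else E_2114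
def eT_2111_2115 (j : ℕ) : ℕ := bif Nat.blt j 2113 then (eT_2111_2113 j) else (eT_2113_2115 j)
def eT_2115_2117 (j : ℕ) : ℕ := bif Nat.blt j 2116 then E_2115 else E_2116
def eT_2118_2120 (j : ℕ) : ℕ := bif Nat.blt j 2119 then E_2118 else E_2119
def eT_2117_2120 (j : ℕ) : ℕ := bif Nat.blt j 2118 then E_2117 else (eT_2118_2120 j)
def eT_2115_2120 (j : ℕ) : ℕ := bif Nat.blt j 2117 then (eT_2115_2117 j) else (eT_2117_2120 j)
def eT_2111_2120 (j : ℕ) : ℕ := bif Nat.blt j 2115 then (eT_2111_2115 j) else (eT_2115_2120 j)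
def eT_2103_2120 (j : ℕ) : ℕ := bif Nat.blt j 2111 then (eT_2103_2111 j) else (eT_2111_2120 j)
def eT_2120_2122 (j : ℕ) : ℕ := bif Nat.blt j 2121 then E_2120 else E_2121
def eT_2122_2124 (j : ℕ) : ℕ := bif Nat.blt j 2123 then E_2122 else E_2123
def eT_2120_2124 (j : ℕ) : ℕ := bif Nat.blt j 2122 then (eT_2120_2122 j) else (eT_2122_2124 j)
def eT_2124_2126 (j : ℕ) : ℕ := bif Nat.blt j 2125 then E_2124 else E_2125
def eT_2126_2128 (j : ℕ) : ℕ := bif Nat.blt j 2127 then E_2126 else E_2127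
def eT_2124_2128 (j : ℕ) : ℕ := bif Nat.blt j 2126 then (eT_2124_2126 j) else (eT_2126_2128 j)
def eT_2120_2128 (j : ℕ) : ℕ := bif Nat.blt j 2124 then (eT_2120_2124 j) else (eT_2124_2128 j)
def eT_2128_2130 (j : ℕ) : ℕ := bif Nat.blt j 2129 then E_2128 else E_2129
def eT_2130_2132 (j : ℕ) : ℕ := bif Nat.blt j 2131 then E_2130 else E_2131
def eT_2128_2132 (j : ℕ) : ℕ := bif Nat.blt j 2130 then (eT_2128_2130 j) else (eT_2130_2132 j)
def eT_2132_2134 (j : ℕ) : ℕ := bif Nat.blt j 2133 then E_2132 else E_2133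
def eT_2135_2137 (j : ℕ) : ℕ := bif Nat.blt j 2136 then E_2135 else E_2136
def eT_2134_2137 (j : ℕ) : ℕ := bif Nat.blt j 2135 then E_2134 else (eT_2135_2137 j)
def eT_2132_2137 (j : ℕ) : ℕ := bif Nat.blt j 2134 then (eT_2132_2134 j) else (eT_2134_2137 j)
def eT_2128_2137 (j : ℕ) : ℕ := bif Nat.blt j 2132 then (eT_2128_2132 j) else (eT_2132_2137 j)
def eT_2120_2137 (j : ℕ) : ℕ := bif Nat.blt j 2128 then (eT_2120_2128 j) else (eT_2128_2137 j)
def eT_2103_2137 (j : ℕ) : ℕ := bif Nat.blt j 2120 then (eT_2103_2120 j) else (eT_2120_2137 j)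
def eT_2070_2137 (j : ℕ) : ℕ := bif Nat.blt j 2103 then (eT_2070_2103 j) else (eT_2103_2137 j)
def eT_2003_2137 (j : ℕ) : ℕ := bif Nat.blt j 2070 then (eT_2003_2070 j) else (eT_2070_2137 j)
def eT_1869_2137 (j : ℕ) : ℕ := bif Nat.blt j 2003 then (eT_1869_2003 j) else (eT_2003_2137 j)
def eT_1602_2137 (j : ℕ) : ℕ := bif Nat.blt j 1869 then (eT_1602_1869 j) else (eT_1869_2137 j)
def eT_1068_2137 (j : ℕ) : ℕ := bif Nat.blt j 1602 then (eT_1068_1602 j) else (eT_1602_2137 j)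
def eT_0_2137 (j : ℕ) : ℕ := bif Nat.blt j 1068 then (eT_0_1068 j) else (eT_1068_2137 j)
def eT_2137_2139 (j : ℕ) : ℕ := bif Nat.blt j 2138 then E_2137 else E_2138
def eT_2139_2141 (j : ℕ) : ℕ := bif Nat.blt j 2140 then E_2139 else E_2140
def eT_2137_2141 (j : ℕ) : ℕ := bif Nat.blt j 2139 then (eT_2137_2139 j) else (eT_2139_2141 j)
def eT_2141_2143 (j : ℕ) : ℕ := bif Nat.blt j 2142 then E_2141 else E_2142
def eT_2143_2145 (j : ℕ) : ℕ := bif Nat.blt j 2144 then E_2143 else E_2144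
def eT_2141_2145 (j : ℕ) : ℕ := bif Nat.blt j 2143 then (eT_2141_2143 j) else (eT_2143_2145 j)
def eT_2137_2145 (j : ℕ) : ℕ := bif Nat.blt j 2141 then (eT_2137_2141 j) else (eT_2141_2145 j)
def eT_2145_2147 (j : ℕ) : ℕ := bif Nat.blt j 2146 then E_2145 else E_2146
def eT_2147_2149 (j : ℕ) : ℕ := bif Nat.blt j 2148 then E_2147 else E_2148
def eT_2145_2149 (j : ℕ) : ℕ := bif Nat.blt j 2147 then (eT_2145_2147 j) else (eT_2147_2149 j)
def eT_2149_2151 (j : ℕ) : ℕ := bif Nat.blt j 2150 then E_2149 else E_2150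
def eT_2151_2153 (j : ℕ) : ℕ := bif Nat.blt j 2152 then E_2151 else E_2152
def eT_2149_2153 (j : ℕ) : ℕ := bif Nat.blt j 2151 then (eT_2149_2151 j) else (eT_2151_2153 j)
def eT_2145_2153 (j : ℕ) : ℕ := bif Nat.blt j 2149 then (eT_2145_2149 j) else (eT_2149_2153 j)
def eT_2137_2153 (j : ℕ) : ℕ := bif Nat.blt j 2145 then (eT_2137_2145 j) else (eT_2145_2153 j)
def eT_2153_2155 (j : ℕ) : ℕ := bif Nat.blt j 2154 then E_2153 else E_2154
def eT_2155_2157 (j : ℕ) : ℕ := bif Nat.blt j 2156 then E_2155 else E_2156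
def eT_2153_2157 (j : ℕ) : ℕ := bif Nat.blt j 2155 then (eT_2153_2155 j) else (eT_2155_2157 j)
def eT_2157_2159 (j : ℕ) : ℕ := bif Nat.blt j 2158 then E_2157 else E_2158
def eT_2159_2161 (j : ℕ) : ℕ := bif Nat.blt j 2160 then E_2159 else E_2160
def eT_2157_2161 (j : ℕ) : ℕ := bif Nat.blt j 2159 then (eT_2157_2159 j) else (eT_2159_2161 j)
def eT_2153_2161 (j : ℕ) : ℕ := bif Nat.blt j 2157 then (eT_2153_2157 j) else (eT_2157_2161 j)
def eT_2161_2163 (j : ℕ) : ℕ := bif Nat.blt j 2162 then E_2161 else E_2162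
def eT_2163_2165 (j : ℕ) : ℕ := bif Nat.blt j 2164 then E_2163 else E_2164
def eT_2161_2165 (j : ℕ) : ℕ := bif Nat.blt j 2163 then (eT_2161_2163 j) else (eT_2163_2165 j)
def eT_2165_2167 (j : ℕ) : ℕ := bif Nat.blt j 2166 then E_2165 else E_2166
def eT_2168_2170 (j : ℕ) : ℕ := bif Nat.blt j 2169 then E_2168 else E_2169
def eT_2167_2170 (j : ℕ) : ℕ := bif Nat.blt j 2168 then E_2167 else (eT_2168_2170 j)
def eT_2165_2170 (j : ℕ) : ℕ := bif Nat.blt j 2167 then (eT_2165_2167 j) else (eT_2167_2170 j)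
def eT_2161_2170 (j : ℕ) : ℕ := bif Nat.blt j 2165 then (eT_2161_2165 j) else (eT_2165_2170 j)
def eT_2153_2170 (j : ℕ) : ℕ := bif Nat.blt j 2161 then (eT_2153_2161 j) else (eT_2161_2170 j)
def eT_2137_2170 (j : ℕ) : ℕ := bif Nat.blt j 2153 then (eT_2137_2153 j) else (eT_2153_2170 j)
def eT_2170_2172 (j : ℕ) : ℕ := bif Nat.blt j 2171 then E_2170 else E_2171
def eT_2172_2174 (j : ℕ) : ℕ := bif Nat.blt j 2173 then E_2172 else E_2173
def eT_2170_2174 (j : ℕ) : ℕ := bif Nat.blt j 2172 then (eT_2170_2172 j) else (eT_2172_2174 j)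
def eT_2174_2176 (j : ℕ) : ℕ := bif Nat.blt j 2175 then E_2174 else E_2175
def eT_2176_2178 (j : ℕ) : ℕ := bif Nat.blt j 2177 then E_2176 else E_2177
def eT_2174_2178 (j : ℕ) : ℕ := bif Nat.blt j 2176 then (eT_2174_2176 j) else (eT_2176_2178 j)
def eT_2170_2178 (j : ℕ) : ℕ := bif Nat.blt j 2174 then (eT_2170_2174 j) else (eT_2174_2178 j)
def eT_2178_2180 (j : ℕ) : ℕ := bif Nat.blt j 2179 then E_2178 else E_2179
def eT_2180_2182 (j : ℕ) : ℕ := bif Nat.blt j 2181 then E_2180 else E_2181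
def eT_2178_2182 (j : ℕ) : ℕ := bif Nat.blt j 2180 then (eT_2178_2180 j) else (eT_2180_2182 j)
def eT_2182_2184 (j : ℕ) : ℕ := bif Nat.blt j 2183 then E_2182 else E_2183
def eT_2184_2186 (j : ℕ) : ℕ := bif Nat.blt j 2185 then E_2184 else E_2185
def eT_2182_2186 (j : ℕ) : ℕ := bif Nat.blt j 2184 then (eT_2182_2184 j) else (eT_2184_2186 j)
def eT_2178_2186 (j : ℕ) : ℕ := bif Nat.blt j 2182 then (eT_2178_2182 j) else (eT_2182_2186 j)
def eT_2170_2186 (j : ℕ) : ℕ := bif Nat.blt j 2178 then (eT_2170_2178 j) else (eT_2178_2186 j)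
def eT_2186_2188 (j : ℕ) : ℕ := bif Nat.blt j 2187 then E_2186 else E_2187
def eT_2188_2190 (j : ℕ) : ℕ := bif Nat.blt j 2189 then E_2188 else E_2189
def eT_2186_2190 (j : ℕ) : ℕ := bif Nat.blt j 2188 then (eT_2186_2188 j) else (eT_2188_2190 j)
def eT_2190_2192 (j : ℕ) : ℕ := bif Nat.blt j 2191 then E_2190 else E_2191
def eT_2192_2194 (j : ℕ) : ℕ := bif Nat.blt j 2193 then E_2192 else E_2193
def eT_2190_2194 (j : ℕ) : ℕ := bif Nat.blt j 2192 then (eT_2190_2192 j) else (eT_2192_2194 j)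
def eT_2186_2194 (j : ℕ) : ℕ := bif Nat.blt j 2190 then (eT_2186_2190 j) else (eT_2190_2194 j)
def eT_2194_2196 (j : ℕ) : ℕ := bif Nat.blt j 2195 then E_2194 else E_2195
def eT_2196_2198 (j : ℕ) : ℕ := bif Nat.blt j 2197 then E_2196 else E_2197
def eT_2194_2198 (j : ℕ) : ℕ := bif Nat.blt j 2196 then (eT_2194_2196 j) else (eT_2196_2198 j)
def eT_2198_2200 (j : ℕ) : ℕ := bif Nat.blt j 2199 then E_2198 else E_2199
def eT_2201_2203 (j : ℕ) : ℕ := bif Nat.blt j 2202 then E_2201 else E_2202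
def eT_2200_2203 (j : ℕ) : ℕ := bif Nat.blt j 2201 then E_2200 else (eT_2201_2203 j)
def eT_2198_2203 (j : ℕ) : ℕ := bif Nat.blt j 2200 then (eT_2198_2200 j) else (eT_2200_2203 j)
def eT_2194_2203 (j : ℕ) : ℕ := bif Nat.blt j 2198 then (eT_2194_2198 j) else (eT_2198_2203 j)
def eT_2186_2203 (j : ℕ) : ℕ := bif Nat.blt j 2194 then (eT_2186_2194 j) else (eT_2194_2203 j)
def eT_2170_2203 (j : ℕ) : ℕ := bif Nat.blt j 2186 then (eT_2170_2186 j) else (eT_2186_2203 j)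
def eT_2137_2203 (j : ℕ) : ℕ := bif Nat.blt j 2170 then (eT_2137_2170 j) else (eT_2170_2203 j)
def eT_2203_2205 (j : ℕ) : ℕ := bif Nat.blt j 2204 then E_2203 else E_2204
def eT_2205_2207 (j : ℕ) : ℕ := bif Nat.blt j 2206 then E_2205 else E_2206
def eT_2203_2207 (j : ℕ) : ℕ := bif Nat.blt j 2205 then (eT_2203_2205 j) else (eT_2205_2207 j)
def eT_2207_2209 (j : ℕ) : ℕ := bif Nat.blt j 2208 then E_2207 else E_2208
def eT_2209_2211 (j : ℕ) : ℕ := bif Nat.blt j 2210 then E_2209 else E_2210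
def eT_2207_2211 (j : ℕ) : ℕ := bif Nat.blt j 2209 then (eT_2207_2209 j) else (eT_2209_2211 j)
def eT_2203_2211 (j : ℕ) : ℕ := bif Nat.blt j 2207 then (eT_2203_2207 j) else (eT_2207_2211 j)
def eT_2211_2213 (j : ℕ) : ℕ := bif Nat.blt j 2212 then E_2211 else E_2212
def eT_2213_2215 (j : ℕ) : ℕ := bif Nat.blt j 2214 then E_2213 else E_2214
def eT_2211_2215 (j : ℕ) : ℕ := bif Nat.blt j 2213 then (eT_2211_2213 j) else (eT_2213_2215 j)
def eT_2215_2217 (j : ℕ) : ℕ := bif Nat.blt j 2216 then E_2215 else E_2216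
def eT_2217_2219 (j : ℕ) : ℕ := bif Nat.blt j 2218 then E_2217 else E_2218
def eT_2215_2219 (j : ℕ) : ℕ := bif Nat.blt j 2217 then (eT_2215_2217 j) else (eT_2217_2219 j)
def eT_2211_2219 (j : ℕ) : ℕ := bif Nat.blt j 2215 then (eT_2211_2215 j) else (eT_2215_2219 j)
def eT_2203_2219 (j : ℕ) : ℕ := bif Nat.blt j 2211 then (eT_2203_2211 j) else (eT_2211_2219 j)
def eT_2219_2221 (j : ℕ) : ℕ := bif Nat.blt j 2220 then E_2219 else E_2220
def eT_2221_2223 (j : ℕ) : ℕ := bif Nat.blt j 2222 then E_2221 else E_2222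
def eT_2219_2223 (j : ℕ) : ℕ := bif Nat.blt j 2221 then (eT_2219_2221 j) else (eT_2221_2223 j)
def eT_2223_2225 (j : ℕ) : ℕ := bif Nat.blt j 2224 then E_2223 else E_2224
def eT_2225_2227 (j : ℕ) : ℕ := bif Nat.blt j 2226 then E_2225 else E_2226
def eT_2223_2227 (j : ℕ) : ℕ := bif Nat.blt j 2225 then (eT_2223_2225 j) else (eT_2225_2227 j)
def eT_2219_2227 (j : ℕ) : ℕ := bif Nat.blt j 2223 then (eT_2219_2223 j) else (eT_2223_2227 j)
def eT_2227_2229 (j : ℕ) : ℕ := bif Nat.blt j 2228 then E_2227 else E_2228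
def eT_2229_2231 (j : ℕ) : ℕ := bif Nat.blt j 2230 then E_2229 else E_2230
def eT_2227_2231 (j : ℕ) : ℕ := bif Nat.blt j 2229 then (eT_2227_2229 j) else (eT_2229_2231 j)
def eT_2231_2233 (j : ℕ) : ℕ := bif Nat.blt j 2232 then E_2231 else E_2232
def eT_2234_2236 (j : ℕ) : ℕ := bif Nat.blt j 2235 then E_2234 else E_2235
def eT_2233_2236 (j : ℕ) : ℕ := bif Nat.blt j 2234 then E_2233 else (eT_2234_2236 j)
def eT_2231_2236 (j : ℕ) : ℕ := bif Nat.blt j 2233 then (eT_2231_2233 j) else (eT_2233_2236 j)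
def eT_2227_2236 (j : ℕ) : ℕ := bif Nat.blt j 2231 then (eT_2227_2231 j) else (eT_2231_2236 j)
def eT_2219_2236 (j : ℕ) : ℕ := bif Nat.blt j 2227 then (eT_2219_2227 j) else (eT_2227_2236 j)
def eT_2203_2236 (j : ℕ) : ℕ := bif Nat.blt j 2219 then (eT_2203_2219 j) else (eT_2219_2236 j)
def eT_2236_2238 (j : ℕ) : ℕ := bif Nat.blt j 2237 then E_2236 else E_2237
def eT_2238_2240 (j : ℕ) : ℕ := bif Nat.blt j 2239 then E_2238 else E_2239
def eT_2236_2240 (j : ℕ) : ℕ := bif Nat.blt j 2238 then (eT_2236_2238 j) else (eT_2238_2240 j)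
def eT_2240_2242 (j : ℕ) : ℕ := bif Nat.blt j 2241 then E_2240 else E_2241
def eT_2242_2244 (j : ℕ) : ℕ := bif Nat.blt j 2243 then E_2242 else E_2243
def eT_2240_2244 (j : ℕ) : ℕ := bif Nat.blt j 2242 then (eT_2240_2242 j) else (eT_2242_2244 j)
def eT_2236_2244 (j : ℕ) : ℕ := bif Nat.blt j 2240 then (eT_2236_2240 j) else (eT_2240_2244 j)
def eT_2244_2246 (j : ℕ) : ℕ := bif Nat.blt j 2245 then E_2244 else E_2245
def eT_2246_2248 (j : ℕ) : ℕ := bif Nat.blt j 2247 then E_2246 else E_2247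
def eT_2244_2248 (j : ℕ) : ℕ := bif Nat.blt j 2246 then (eT_2244_2246 j) else (eT_2246_2248 j)
def eT_2248_2250 (j : ℕ) : ℕ := bif Nat.blt j 2249 then E_2248 else E_2249
def eT_2251_2253 (j : ℕ) : ℕ := bif Nat.blt j 2252 then E_2251 else E_2252
def eT_2250_2253 (j : ℕ) : ℕ := bif Nat.blt j 2251 then E_2250 else (eT_2251_2253 j)
def eT_2248_2253 (j : ℕ) : ℕ := bif Nat.blt j 2250 then (eT_2248_2250 j) else (eT_2250_2253 j)
def eT_2244_2253 (j : ℕ) : ℕ := bif Nat.blt j 2248 then (eT_2244_2248 j) else (eT_2248_2253 j)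
def eT_2236_2253 (j : ℕ) : ℕ := bif Nat.blt j 2244 then (eT_2236_2244 j) else (eT_2244_2253 j)
def eT_2253_2255 (j : ℕ) : ℕ := bif Nat.blt j 2254 then E_2253 else E_2254
def eT_2255_2257 (j : ℕ) : ℕ := bif Nat.blt j 2256 then E_2255 else E_2256
def eT_2253_2257 (j : ℕ) : ℕ := bif Nat.blt j 2255 then (eT_2253_2255 j) else (eT_2255_2257 j)
def eT_2257_2259 (j : ℕ) : ℕ := bif Nat.blt j 2258 then E_2257 else E_2258
def eT_2259_2261 (j : ℕ) : ℕ := bif Nat.blt j 2260 then E_2259 else E_2260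
def eT_2257_2261 (j : ℕ) : ℕ := bif Nat.blt j 2259 then (eT_2257_2259 j) else (eT_2259_2261 j)
def eT_2253_2261 (j : ℕ) : ℕ := bif Nat.blt j 2257 then (eT_2253_2257 j) else (eT_2257_2261 j)
def eT_2261_2263 (j : ℕ) : ℕ := bif Nat.blt j 2262 then E_2261 else E_2262
def eT_2263_2265 (j : ℕ) : ℕ := bif Nat.blt j 2264 then E_2263 else E_2264
def eT_2261_2265 (j : ℕ) : ℕ := bif Nat.blt j 2263 then (eT_2261_2263 j) else (eT_2263_2265 j)
def eT_2265_2267 (j : ℕ) : ℕ := bif Nat.blt j 2266 then E_2265 else E_2266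
def eT_2268_2270 (j : ℕ) : ℕ := bif Nat.blt j 2269 then E_2268 else E_2269
def eT_2267_2270 (j : ℕ) : ℕ := bif Nat.blt j 2268 then E_2267 else (eT_2268_2270 j)
def eT_2265_2270 (j : ℕ) : ℕ := bif Nat.blt j 2267 then (eT_2265_2267 j) else (eT_2267_2270 j)
def eT_2261_2270 (j : ℕ) : ℕ := bif Nat.blt j 2265 then (eT_2261_2265 j) else (eT_2265_2270 j)
def eT_2253_2270 (j : ℕ) : ℕ := bif Nat.blt j 2261 then (eT_2253_2261 j) else (eT_2261_2270 j)
def eT_2236_2270 (j : ℕ) : ℕ := bif Nat.blt j 2253 then (eT_2236_2253 j) else (eT_2253_2270 j)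
def eT_2203_2270 (j : ℕ) : ℕ := bif Nat.blt j 2236 then (eT_2203_2236 j) else (eT_2236_2270 j)
def eT_2137_2270 (j : ℕ) : ℕ := bif Nat.blt j 2203 then (eT_2137_2203 j) else (eT_2203_2270 j)
def eT_2270_2272 (j : ℕ) : ℕ := bif Nat.blt j 2271 then E_2270 else E_2271
def eT_2272_2274 (j : ℕ) : ℕ := bif Nat.blt j 2273 then E_2272 else E_2273
def eT_2270_2274 (j : ℕ) : ℕ := bif Nat.blt j 2272 then (eT_2270_2272 j) else (eT_2272_2274 j)
def eT_2274_2276 (j : ℕ) : ℕ := bif Nat.blt j 2275 then E_2274 else E_2275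
def eT_2276_2278 (j : ℕ) : ℕ := bif Nat.blt j 2277 then E_2276 else E_2277
def eT_2274_2278 (j : ℕ) : ℕ := bif Nat.blt j 2276 then (eT_2274_2276 j) else (eT_2276_2278 j)
def eT_2270_2278 (j : ℕ) : ℕ := bif Nat.blt j 2274 then (eT_2270_2274 j) else (eT_2274_2278 j)
def eT_2278_2280 (j : ℕ) : ℕ := bif Nat.blt j 2279 then E_2278 else E_2279
def eT_2280_2282 (j : ℕ) : ℕ := bif Nat.blt j 2281 then E_2280 else E_2281
def eT_2278_2282 (j : ℕ) : ℕ := bif Nat.blt j 2280 then (eT_2278_2280 j) else (eT_2280_2282 j)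
def eT_2282_2284 (j : ℕ) : ℕ := bif Nat.blt j 2283 then E_2282 else E_2283
def eT_2284_2286 (j : ℕ) : ℕ := bif Nat.blt j 2285 then E_2284 else E_2285
def eT_2282_2286 (j : ℕ) : ℕ := bif Nat.blt j 2284 then (eT_2282_2284 j) else (eT_2284_2286 j)
def eT_2278_2286 (j : ℕ) : ℕ := bif Nat.blt j 2282 then (eT_2278_2282 j) else (eT_2282_2286 j)
def eT_2270_2286 (j : ℕ) : ℕ := bif Nat.blt j 2278 then (eT_2270_2278 j) else (eT_2278_2286 j)
def eT_2286_2288 (j : ℕ) : ℕ := bif Nat.blt j 2287 then E_2286 else E_2287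
def eT_2288_2290 (j : ℕ) : ℕ := bif Nat.blt j 2289 then E_2288 else E_2289
def eT_2286_2290 (j : ℕ) : ℕ := bif Nat.blt j 2288 then (eT_2286_2288 j) else (eT_2288_2290 j)
def eT_2290_2292 (j : ℕ) : ℕ := bif Nat.blt j 2291 then E_2290 else E_2291
def eT_2292_2294 (j : ℕ) : ℕ := bif Nat.blt j 2293 then E_2292 else E_2293
def eT_2290_2294 (j : ℕ) : ℕ := bif Nat.blt j 2292 then (eT_2290_2292 j) else (eT_2292_2294 j)
def eT_2286_2294 (j : ℕ) : ℕ := bif Nat.blt j 2290 then (eT_2286_2290 j) else (eT_2290_2294 j)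
def eT_2294_2296 (j : ℕ) : ℕ := bif Nat.blt j 2295 then E_2294 else E_2295
def eT_2296_2298 (j : ℕ) : ℕ := bif Nat.blt j 2297 then E_2296 else E_2297
def eT_2294_2298 (j : ℕ) : ℕ := bif Nat.blt j 2296 then (eT_2294_2296 j) else (eT_2296_2298 j)
def eT_2298_2300 (j : ℕ) : ℕ := bif Nat.blt j 2299 then E_2298 else E_2299
def eT_2301_2303 (j : ℕ) : ℕ := bif Nat.blt j 2302 then E_2301 else E_2302
def eT_2300_2303 (j : ℕ) : ℕ := bif Nat.blt j 2301 then E_2300 else (eT_2301_2303 j)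
def eT_2298_2303 (j : ℕ) : ℕ := bif Nat.blt j 2300 then (eT_2298_2300 j) else (eT_2300_2303 j)
def eT_2294_2303 (j : ℕ) : ℕ := bif Nat.blt j 2298 then (eT_2294_2298 j) else (eT_2298_2303 j)
def eT_2286_2303 (j : ℕ) : ℕ := bif Nat.blt j 2294 then (eT_2286_2294 j) else (eT_2294_2303 j)
def eT_2270_2303 (j : ℕ) : ℕ := bif Nat.blt j 2286 then (eT_2270_2286 j) else (eT_2286_2303 j)
def eT_2303_2305 (j : ℕ) : ℕ := bif Nat.blt j 2304 then E_2303 else E_2304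
def eT_2305_2307 (j : ℕ) : ℕ := bif Nat.blt j 2306 then E_2305 else E_2306
def eT_2303_2307 (j : ℕ) : ℕ := bif Nat.blt j 2305 then (eT_2303_2305 j) else (eT_2305_2307 j)
def eT_2307_2309 (j : ℕ) : ℕ := bif Nat.blt j 2308 then E_2307 else E_2308
def eT_2309_2311 (j : ℕ) : ℕ := bif Nat.blt j 2310 then E_2309 else E_2310
def eT_2307_2311 (j : ℕ) : ℕ := bif Nat.blt j 2309 then (eT_2307_2309 j) else (eT_2309_2311 j)
def eT_2303_2311 (j : ℕ) : ℕ := bif Nat.blt j 2307 then (eT_2303_2307 j) else (eT_2307_2311 j)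
def eT_2311_2313 (j : ℕ) : ℕ := bif Nat.blt j 2312 then E_2311 else E_2312
def eT_2313_2315 (j : ℕ) : ℕ := bif Nat.blt j 2314 then E_2313 else E_2314
def eT_2311_2315 (j : ℕ) : ℕ := bif Nat.blt j 2313 then (eT_2311_2313 j) else (eT_2313_2315 j)
def eT_2315_2317 (j : ℕ) : ℕ := bif Nat.blt j 2316 then E_2315 else E_2316
def eT_2318_2320 (j : ℕ) : ℕ := bif Nat.blt j 2319 then E_2318 else E_2319
def eT_2317_2320 (j : ℕ) : ℕ := bif Nat.blt j 2318 then E_2317 else (eT_2318_2320 j)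
def eT_2315_2320 (j : ℕ) : ℕ := bif Nat.blt j 2317 then (eT_2315_2317 j) else (eT_2317_2320 j)
def eT_2311_2320 (j : ℕ) : ℕ := bif Nat.blt j 2315 then (eT_2311_2315 j) else (eT_2315_2320 j)
def eT_2303_2320 (j : ℕ) : ℕ := bif Nat.blt j 2311 then (eT_2303_2311 j) else (eT_2311_2320 j)
def eT_2320_2322 (j : ℕ) : ℕ := bif Nat.blt j 2321 then E_2320 else E_2321
def eT_2322_2324 (j : ℕ) : ℕ := bif Nat.blt j 2323 then E_2322 else E_2323
def eT_2320_2324 (j : ℕ) : ℕ := bif Nat.blt j 2322 then (eT_2320_2322 j) else (eT_2322_2324 j)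
def eT_2324_2326 (j : ℕ) : ℕ := bif Nat.blt j 2325 then E_2324 else E_2325
def eT_2326_2328 (j : ℕ) : ℕ := bif Nat.blt j 2327 then E_2326 else E_2327
def eT_2324_2328 (j : ℕ) : ℕ := bif Nat.blt j 2326 then (eT_2324_2326 j) else (eT_2326_2328 j)
def eT_2320_2328 (j : ℕ) : ℕ := bif Nat.blt j 2324 then (eT_2320_2324 j) else (eT_2324_2328 j)
def eT_2328_2330 (j : ℕ) : ℕ := bif Nat.blt j 2329 then E_2328 else E_2329
def eT_2330_2332 (j : ℕ) : ℕ := bif Nat.blt j 2331 then E_2330 else E_2331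
def eT_2328_2332 (j : ℕ) : ℕ := bif Nat.blt j 2330 then (eT_2328_2330 j) else (eT_2330_2332 j)
def eT_2332_2334 (j : ℕ) : ℕ := bif Nat.blt j 2333 then E_2332 else E_2333
def eT_2335_2337 (j : ℕ) : ℕ := bif Nat.blt j 2336 then E_2335 else E_2336
def eT_2334_2337 (j : ℕ) : ℕ := bif Nat.blt j 2335 then E_2334 else (eT_2335_2337 j)
def eT_2332_2337 (j : ℕ) : ℕ := bif Nat.blt j 2334 then (eT_2332_2334 j) else (eT_2334_2337 j)
def eT_2328_2337 (j : ℕ) : ℕ := bif Nat.blt j 2332 then (eT_2328_2332 j) else (eT_2332_2337 j)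
def eT_2320_2337 (j : ℕ) : ℕ := bif Nat.blt j 2328 then (eT_2320_2328 j) else (eT_2328_2337 j)
def eT_2303_2337 (j : ℕ) : ℕ := bif Nat.blt j 2320 then (eT_2303_2320 j) else (eT_2320_2337 j)
def eT_2270_2337 (j : ℕ) : ℕ := bif Nat.blt j 2303 then (eT_2270_2303 j) else (eT_2303_2337 j)
def eT_2337_2339 (j : ℕ) : ℕ := bif Nat.blt j 2338 then E_2337 else E_2338
def eT_2339_2341 (j : ℕ) : ℕ := bif Nat.blt j 2340 then E_2339 else E_2340
def eT_2337_2341 (j : ℕ) : ℕ := bif Nat.blt j 2339 then (eT_2337_2339 j) else (eT_2339_2341 j)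
def eT_2341_2343 (j : ℕ) : ℕ := bif Nat.blt j 2342 then E_2341 else E_2342
def eT_2343_2345 (j : ℕ) : ℕ := bif Nat.blt j 2344 then E_2343 else E_2344
def eT_2341_2345 (j : ℕ) : ℕ := bif Nat.blt j 2343 then (eT_2341_2343 j) else (eT_2343_2345 j)
def eT_2337_2345 (j : ℕ) : ℕ := bif Nat.blt j 2341 then (eT_2337_2341 j) else (eT_2341_2345 j)
def eT_2345_2347 (j : ℕ) : ℕ := bif Nat.blt j 2346 then E_2345 else E_2346
def eT_2347_2349 (j : ℕ) : ℕ := bif Nat.blt j 2348 then E_2347 else E_2348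
def eT_2345_2349 (j : ℕ) : ℕ := bif Nat.blt j 2347 then (eT_2345_2347 j) else (eT_2347_2349 j)
def eT_2349_2351 (j : ℕ) : ℕ := bif Nat.blt j 2350 then E_2349 else E_2350
def eT_2351_2353 (j : ℕ) : ℕ := bif Nat.blt j 2352 then E_2351 else E_2352
def eT_2349_2353 (j : ℕ) : ℕ := bif Nat.blt j 2351 then (eT_2349_2351 j) else (eT_2351_2353 j)
def eT_2345_2353 (j : ℕ) : ℕ := bif Nat.blt j 2349 then (eT_2345_2349 j) else (eT_2349_2353 j)
def eT_2337_2353 (j : ℕ) : ℕ := bif Nat.blt j 2345 then (eT_2337_2345 j) else (eT_2345_2353 j)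
def eT_2353_2355 (j : ℕ) : ℕ := bif Nat.blt j 2354 then E_2353 else E_2354
def eT_2355_2357 (j : ℕ) : ℕ := bif Nat.blt j 2356 then E_2355 else E_2356
def eT_2353_2357 (j : ℕ) : ℕ := bif Nat.blt j 2355 then (eT_2353_2355 j) else (eT_2355_2357 j)
def eT_2357_2359 (j : ℕ) : ℕ := bif Nat.blt j 2358 then E_2357 else E_2358
def eT_2359_2361 (j : ℕ) : ℕ := bif Nat.blt j 2360 then E_2359 else E_2360
def eT_2357_2361 (j : ℕ) : ℕ := bif Nat.blt j 2359 then (eT_2357_2359 j) else (eT_2359_2361 j)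
def eT_2353_2361 (j : ℕ) : ℕ := bif Nat.blt j 2357 then (eT_2353_2357 j) else (eT_2357_2361 j)
def eT_2361_2363 (j : ℕ) : ℕ := bif Nat.blt j 2362 then E_2361 else E_2362
def eT_2363_2365 (j : ℕ) : ℕ := bif Nat.blt j 2364 then E_2363 else E_2364
def eT_2361_2365 (j : ℕ) : ℕ := bif Nat.blt j 2363 then (eT_2361_2363 j) else (eT_2363_2365 j)
def eT_2365_2367 (j : ℕ) : ℕ := bif Nat.blt j 2366 then E_2365 else E_2366
def eT_2368_2370 (j : ℕ) : ℕ := bif Nat.blt j 2369 then E_2368 else E_2369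
def eT_2367_2370 (j : ℕ) : ℕ := bif Nat.blt j 2368 then E_2367 else (eT_2368_2370 j)
def eT_2365_2370 (j : ℕ) : ℕ := bif Nat.blt j 2367 then (eT_2365_2367 j) else (eT_2367_2370 j)
def eT_2361_2370 (j : ℕ) : ℕ := bif Nat.blt j 2365 then (eT_2361_2365 j) else (eT_2365_2370 j)
def eT_2353_2370 (j : ℕ) : ℕ := bif Nat.blt j 2361 then (eT_2353_2361 j) else (eT_2361_2370 j)
def eT_2337_2370 (j : ℕ) : ℕ := bif Nat.blt j 2353 then (eT_2337_2353 j) else (eT_2353_2370 j)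
def eT_2370_2372 (j : ℕ) : ℕ := bif Nat.blt j 2371 then E_2370 else E_2371
def eT_2372_2374 (j : ℕ) : ℕ := bif Nat.blt j 2373 then E_2372 else E_2373
def eT_2370_2374 (j : ℕ) : ℕ := bif Nat.blt j 2372 then (eT_2370_2372 j) else (eT_2372_2374 j)
def eT_2374_2376 (j : ℕ) : ℕ := bif Nat.blt j 2375 then E_2374 else E_2375
def eT_2376_2378 (j : ℕ) : ℕ := bif Nat.blt j 2377 then E_2376 else E_2377
def eT_2374_2378 (j : ℕ) : ℕ := bif Nat.blt j 2376 then (eT_2374_2376 j) else (eT_2376_2378 j)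
def eT_2370_2378 (j : ℕ) : ℕ := bif Nat.blt j 2374 then (eT_2370_2374 j) else (eT_2374_2378 j)
def eT_2378_2380 (j : ℕ) : ℕ := bif Nat.blt j 2379 then E_2378 else E_2379
def eT_2380_2382 (j : ℕ) : ℕ := bif Nat.blt j 2381 then E_2380 else E_2381
def eT_2378_2382 (j : ℕ) : ℕ := bif Nat.blt j 2380 then (eT_2378_2380 j) else (eT_2380_2382 j)
def eT_2382_2384 (j : ℕ) : ℕ := bif Nat.blt j 2383 then E_2382 else E_2383
def eT_2385_2387 (j : ℕ) : ℕ := bif Nat.blt j 2386 then E_2385 else E_2386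
def eT_2384_2387 (j : ℕ) : ℕ := bif Nat.blt j 2385 then E_2384 else (eT_2385_2387 j)
def eT_2382_2387 (j : ℕ) : ℕ := bif Nat.blt j 2384 then (eT_2382_2384 j) else (eT_2384_2387 j)
def eT_2378_2387 (j : ℕ) : ℕ := bif Nat.blt j 2382 then (eT_2378_2382 j) else (eT_2382_2387 j)
def eT_2370_2387 (j : ℕ) : ℕ := bif Nat.blt j 2378 then (eT_2370_2378 j) else (eT_2378_2387 j)
def eT_2387_2389 (j : ℕ) : ℕ := bif Nat.blt j 2388 then E_2387 else E_2388
def eT_2389_2391 (j : ℕ) : ℕ := bif Nat.blt j 2390 then E_2389 else E_2390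
def eT_2387_2391 (j : ℕ) : ℕ := bif Nat.blt j 2389 then (eT_2387_2389 j) else (eT_2389_2391 j)
def eT_2391_2393 (j : ℕ) : ℕ := bif Nat.blt j 2392 then E_2391 else E_2392
def eT_2393_2395 (j : ℕ) : ℕ := bif Nat.blt j 2394 then E_2393 else E_2394
def eT_2391_2395 (j : ℕ) : ℕ := bif Nat.blt j 2393 then (eT_2391_2393 j) else (eT_2393_2395 j)
def eT_2387_2395 (j : ℕ) : ℕ := bif Nat.blt j 2391 then (eT_2387_2391 j) else (eT_2391_2395 j)
def eT_2395_2397 (j : ℕ) : ℕ := bif Nat.blt j 2396 then E_2395 else E_2396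
def eT_2397_2399 (j : ℕ) : ℕ := bif Nat.blt j 2398 then E_2397 else E_2398
def eT_2395_2399 (j : ℕ) : ℕ := bif Nat.blt j 2397 then (eT_2395_2397 j) else (eT_2397_2399 j)
def eT_2399_2401 (j : ℕ) : ℕ := bif Nat.blt j 2400 then E_2399 else E_2400
def eT_2402_2404 (j : ℕ) : ℕ := bif Nat.blt j 2403 then E_2402 else E_2403
def eT_2401_2404 (j : ℕ) : ℕ := bif Nat.blt j 2402 then E_2401 else (eT_2402_2404 j)
def eT_2399_2404 (j : ℕ) : ℕ := bif Nat.blt j 2401 then (eT_2399_2401 j) else (eT_2401_2404 j)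
def eT_2395_2404 (j : ℕ) : ℕ := bif Nat.blt j 2399 then (eT_2395_2399 j) else (eT_2399_2404 j)
def eT_2387_2404 (j : ℕ) : ℕ := bif Nat.blt j 2395 then (eT_2387_2395 j) else (eT_2395_2404 j)
def eT_2370_2404 (j : ℕ) : ℕ := bif Nat.blt j 2387 then (eT_2370_2387 j) else (eT_2387_2404 j)
def eT_2337_2404 (j : ℕ) : ℕ := bif Nat.blt j 2370 then (eT_2337_2370 j) else (eT_2370_2404 j)
def eT_2270_2404 (j : ℕ) : ℕ := bif Nat.blt j 2337 then (eT_2270_2337 j) else (eT_2337_2404 j)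
def eT_2137_2404 (j : ℕ) : ℕ := bif Nat.blt j 2270 then (eT_2137_2270 j) else (eT_2270_2404 j)
def eT_2404_2406 (j : ℕ) : ℕ := bif Nat.blt j 2405 then E_2404 else E_2405
def eT_2406_2408 (j : ℕ) : ℕ := bif Nat.blt j 2407 then E_2406 else E_2407
def eT_2404_2408 (j : ℕ) : ℕ := bif Nat.blt j 2406 then (eT_2404_2406 j) else (eT_2406_2408 j)
def eT_2408_2410 (j : ℕ) : ℕ := bif Nat.blt j 2409 then E_2408 else E_2409
def eT_2410_2412 (j : ℕ) : ℕ := bif Nat.blt j 2411 then E_2410 else E_2411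
def eT_2408_2412 (j : ℕ) : ℕ := bif Nat.blt j 2410 then (eT_2408_2410 j) else (eT_2410_2412 j)
def eT_2404_2412 (j : ℕ) : ℕ := bif Nat.blt j 2408 then (eT_2404_2408 j) else (eT_2408_2412 j)
def eT_2412_2414 (j : ℕ) : ℕ := bif Nat.blt j 2413 then E_2412 else E_2413
def eT_2414_2416 (j : ℕ) : ℕ := bif Nat.blt j 2415 then E_2414 else E_2415
def eT_2412_2416 (j : ℕ) : ℕ := bif Nat.blt j 2414 then (eT_2412_2414 j) else (eT_2414_2416 j)
def eT_2416_2418 (j : ℕ) : ℕ := bif Nat.blt j 2417 then E_2416 else E_2417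
def eT_2418_2420 (j : ℕ) : ℕ := bif Nat.blt j 2419 then E_2418 else E_2419
def eT_2416_2420 (j : ℕ) : ℕ := bif Nat.blt j 2418 then (eT_2416_2418 j) else (eT_2418_2420 j)
def eT_2412_2420 (j : ℕ) : ℕ := bif Nat.blt j 2416 then (eT_2412_2416 j) else (eT_2416_2420 j)
def eT_2404_2420 (j : ℕ) : ℕ := bif Nat.blt j 2412 then (eT_2404_2412 j) else (eT_2412_2420 j)
def eT_2420_2422 (j : ℕ) : ℕ := bif Nat.blt j 2421 then E_2420 else E_2421
def eT_2422_2424 (j : ℕ) : ℕ := bif Nat.blt j 2423 then E_2422 else E_2423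
def eT_2420_2424 (j : ℕ) : ℕ := bif Nat.blt j 2422 then (eT_2420_2422 j) else (eT_2422_2424 j)
def eT_2424_2426 (j : ℕ) : ℕ := bif Nat.blt j 2425 then E_2424 else E_2425
def eT_2426_2428 (j : ℕ) : ℕ := bif Nat.blt j 2427 then E_2426 else E_2427
def eT_2424_2428 (j : ℕ) : ℕ := bif Nat.blt j 2426 then (eT_2424_2426 j) else (eT_2426_2428 j)
def eT_2420_2428 (j : ℕ) : ℕ := bif Nat.blt j 2424 then (eT_2420_2424 j) else (eT_2424_2428 j)
def eT_2428_2430 (j : ℕ) : ℕ := bif Nat.blt j 2429 then E_2428 else E_2429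
def eT_2430_2432 (j : ℕ) : ℕ := bif Nat.blt j 2431 then E_2430 else E_2431
def eT_2428_2432 (j : ℕ) : ℕ := bif Nat.blt j 2430 then (eT_2428_2430 j) else (eT_2430_2432 j)
def eT_2432_2434 (j : ℕ) : ℕ := bif Nat.blt j 2433 then E_2432 else E_2433
def eT_2435_2437 (j : ℕ) : ℕ := bif Nat.blt j 2436 then E_2435 else E_2436
def eT_2434_2437 (j : ℕ) : ℕ := bif Nat.blt j 2435 then E_2434 else (eT_2435_2437 j)
def eT_2432_2437 (j : ℕ) : ℕ := bif Nat.blt j 2434 then (eT_2432_2434 j) else (eT_2434_2437 j)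
def eT_2428_2437 (j : ℕ) : ℕ := bif Nat.blt j 2432 then (eT_2428_2432 j) else (eT_2432_2437 j)
def eT_2420_2437 (j : ℕ) : ℕ := bif Nat.blt j 2428 then (eT_2420_2428 j) else (eT_2428_2437 j)
def eT_2404_2437 (j : ℕ) : ℕ := bif Nat.blt j 2420 then (eT_2404_2420 j) else (eT_2420_2437 j)
def eT_2437_2439 (j : ℕ) : ℕ := bif Nat.blt j 2438 then E_2437 else E_2438
def eT_2439_2441 (j : ℕ) : ℕ := bif Nat.blt j 2440 then E_2439 else E_2440
def eT_2437_2441 (j : ℕ) : ℕ := bif Nat.blt j 2439 then (eT_2437_2439 j) else (eT_2439_2441 j)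
def eT_2441_2443 (j : ℕ) : ℕ := bif Nat.blt j 2442 then E_2441 else E_2442
def eT_2443_2445 (j : ℕ) : ℕ := bif Nat.blt j 2444 then E_2443 else E_2444
def eT_2441_2445 (j : ℕ) : ℕ := bif Nat.blt j 2443 then (eT_2441_2443 j) else (eT_2443_2445 j)
def eT_2437_2445 (j : ℕ) : ℕ := bif Nat.blt j 2441 then (eT_2437_2441 j) else (eT_2441_2445 j)
def eT_2445_2447 (j : ℕ) : ℕ := bif Nat.blt j 2446 then E_2445 else E_2446
def eT_2447_2449 (j : ℕ) : ℕ := bif Nat.blt j 2448 then E_2447 else E_2448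
def eT_2445_2449 (j : ℕ) : ℕ := bif Nat.blt j 2447 then (eT_2445_2447 j) else (eT_2447_2449 j)
def eT_2449_2451 (j : ℕ) : ℕ := bif Nat.blt j 2450 then E_2449 else E_2450
def eT_2451_2453 (j : ℕ) : ℕ := bif Nat.blt j 2452 then E_2451 else E_2452
def eT_2449_2453 (j : ℕ) : ℕ := bif Nat.blt j 2451 then (eT_2449_2451 j) else (eT_2451_2453 j)
def eT_2445_2453 (j : ℕ) : ℕ := bif Nat.blt j 2449 then (eT_2445_2449 j) else (eT_2449_2453 j)
def eT_2437_2453 (j : ℕ) : ℕ := bif Nat.blt j 2445 then (eT_2437_2445 j) else (eT_2445_2453 j)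
def eT_2453_2455 (j : ℕ) : ℕ := bif Nat.blt j 2454 then E_2453 else E_2454
def eT_2455_2457 (j : ℕ) : ℕ := bif Nat.blt j 2456 then E_2455 else E_2456
def eT_2453_2457 (j : ℕ) : ℕ := bif Nat.blt j 2455 then (eT_2453_2455 j) else (eT_2455_2457 j)
def eT_2457_2459 (j : ℕ) : ℕ := bif Nat.blt j 2458 then E_2457 else E_2458
def eT_2459_2461 (j : ℕ) : ℕ := bif Nat.blt j 2460 then E_2459 else E_2460
def eT_2457_2461 (j : ℕ) : ℕ := bif Nat.blt j 2459 then (eT_2457_2459 j) else (eT_2459_2461 j)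
def eT_2453_2461 (j : ℕ) : ℕ := bif Nat.blt j 2457 then (eT_2453_2457 j) else (eT_2457_2461 j)
def eT_2461_2463 (j : ℕ) : ℕ := bif Nat.blt j 2462 then E_2461 else E_2462
def eT_2463_2465 (j : ℕ) : ℕ := bif Nat.blt j 2464 then E_2463 else E_2464
def eT_2461_2465 (j : ℕ) : ℕ := bif Nat.blt j 2463 then (eT_2461_2463 j) else (eT_2463_2465 j)
def eT_2465_2467 (j : ℕ) : ℕ := bif Nat.blt j 2466 then E_2465 else E_2466
def eT_2468_2470 (j : ℕ) : ℕ := bif Nat.blt j 2469 then E_2468 else E_2469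
def eT_2467_2470 (j : ℕ) : ℕ := bif Nat.blt j 2468 then E_2467 else (eT_2468_2470 j)
def eT_2465_2470 (j : ℕ) : ℕ := bif Nat.blt j 2467 then (eT_2465_2467 j) else (eT_2467_2470 j)
def eT_2461_2470 (j : ℕ) : ℕ := bif Nat.blt j 2465 then (eT_2461_2465 j) else (eT_2465_2470 j)
def eT_2453_2470 (j : ℕ) : ℕ := bif Nat.blt j 2461 then (eT_2453_2461 j) else (eT_2461_2470 j)
def eT_2437_2470 (j : ℕ) : ℕ := bif Nat.blt j 2453 then (eT_2437_2453 j) else (eT_2453_2470 j)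
def eT_2404_2470 (j : ℕ) : ℕ := bif Nat.blt j 2437 then (eT_2404_2437 j) else (eT_2437_2470 j)
def eT_2470_2472 (j : ℕ) : ℕ := bif Nat.blt j 2471 then E_2470 else E_2471
def eT_2472_2474 (j : ℕ) : ℕ := bif Nat.blt j 2473 then E_2472 else E_2473
def eT_2470_2474 (j : ℕ) : ℕ := bif Nat.blt j 2472 then (eT_2470_2472 j) else (eT_2472_2474 j)
def eT_2474_2476 (j : ℕ) : ℕ := bif Nat.blt j 2475 then E_2474 else E_2475
def eT_2476_2478 (j : ℕ) : ℕ := bif Nat.blt j 2477 then E_2476 else E_2477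
def eT_2474_2478 (j : ℕ) : ℕ := bif Nat.blt j 2476 then (eT_2474_2476 j) else (eT_2476_2478 j)
def eT_2470_2478 (j : ℕ) : ℕ := bif Nat.blt j 2474 then (eT_2470_2474 j) else (eT_2474_2478 j)
def eT_2478_2480 (j : ℕ) : ℕ := bif Nat.blt j 2479 then E_2478 else E_2479
def eT_2480_2482 (j : ℕ) : ℕ := bif Nat.blt j 2481 then E_2480 else E_2481
def eT_2478_2482 (j : ℕ) : ℕ := bif Nat.blt j 2480 then (eT_2478_2480 j) else (eT_2480_2482 j)
def eT_2482_2484 (j : ℕ) : ℕ := bif Nat.blt j 2483 then E_2482 else E_2483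
def eT_2484_2486 (j : ℕ) : ℕ := bif Nat.blt j 2485 then E_2484 else E_2485
def eT_2482_2486 (j : ℕ) : ℕ := bif Nat.blt j 2484 then (eT_2482_2484 j) else (eT_2484_2486 j)
def eT_2478_2486 (j : ℕ) : ℕ := bif Nat.blt j 2482 then (eT_2478_2482 j) else (eT_2482_2486 j)
def eT_2470_2486 (j : ℕ) : ℕ := bif Nat.blt j 2478 then (eT_2470_2478 j) else (eT_2478_2486 j)
def eT_2486_2488 (j : ℕ) : ℕ := bif Nat.blt j 2487 then E_2486 else E_2487
def eT_2488_2490 (j : ℕ) : ℕ := bif Nat.blt j 2489 then E_2488 else E_2489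
def eT_2486_2490 (j : ℕ) : ℕ := bif Nat.blt j 2488 then (eT_2486_2488 j) else (eT_2488_2490 j)
def eT_2490_2492 (j : ℕ) : ℕ := bif Nat.blt j 2491 then E_2490 else E_2491
def eT_2492_2494 (j : ℕ) : ℕ := bif Nat.blt j 2493 then E_2492 else E_2493
def eT_2490_2494 (j : ℕ) : ℕ := bif Nat.blt j 2492 then (eT_2490_2492 j) else (eT_2492_2494 j)
def eT_2486_2494 (j : ℕ) : ℕ := bif Nat.blt j 2490 then (eT_2486_2490 j) else (eT_2490_2494 j)
def eT_2494_2496 (j : ℕ) : ℕ := bif Nat.blt j 2495 then E_2494 else E_2495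
def eT_2496_2498 (j : ℕ) : ℕ := bif Nat.blt j 2497 then E_2496 else E_2497
def eT_2494_2498 (j : ℕ) : ℕ := bif Nat.blt j 2496 then (eT_2494_2496 j) else (eT_2496_2498 j)
def eT_2498_2500 (j : ℕ) : ℕ := bif Nat.blt j 2499 then E_2498 else E_2499
def eT_2501_2503 (j : ℕ) : ℕ := bif Nat.blt j 2502 then E_2501 else E_2502
def eT_2500_2503 (j : ℕ) : ℕ := bif Nat.blt j 2501 then E_2500 else (eT_2501_2503 j)
def eT_2498_2503 (j : ℕ) : ℕ := bif Nat.blt j 2500 then (eT_2498_2500 j) else (eT_2500_2503 j)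
def eT_2494_2503 (j : ℕ) : ℕ := bif Nat.blt j 2498 then (eT_2494_2498 j) else (eT_2498_2503 j)
def eT_2486_2503 (j : ℕ) : ℕ := bif Nat.blt j 2494 then (eT_2486_2494 j) else (eT_2494_2503 j)
def eT_2470_2503 (j : ℕ) : ℕ := bif Nat.blt j 2486 then (eT_2470_2486 j) else (eT_2486_2503 j)
def eT_2503_2505 (j : ℕ) : ℕ := bif Nat.blt j 2504 then E_2503 else E_2504
def eT_2505_2507 (j : ℕ) : ℕ := bif Nat.blt j 2506 then E_2505 else E_2506
def eT_2503_2507 (j : ℕ) : ℕ := bif Nat.blt j 2505 then (eT_2503_2505 j) else (eT_2505_2507 j)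
def eT_2507_2509 (j : ℕ) : ℕ := bif Nat.blt j 2508 then E_2507 else E_2508
def eT_2509_2511 (j : ℕ) : ℕ := bif Nat.blt j 2510 then E_2509 else E_2510
def eT_2507_2511 (j : ℕ) : ℕ := bif Nat.blt j 2509 then (eT_2507_2509 j) else (eT_2509_2511 j)
def eT_2503_2511 (j : ℕ) : ℕ := bif Nat.blt j 2507 then (eT_2503_2507 j) else (eT_2507_2511 j)
def eT_2511_2513 (j : ℕ) : ℕ := bif Nat.blt j 2512 then E_2511 else E_2512
def eT_2513_2515 (j : ℕ) : ℕ := bif Nat.blt j 2514 then E_2513 else E_2514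
def eT_2511_2515 (j : ℕ) : ℕ := bif Nat.blt j 2513 then (eT_2511_2513 j) else (eT_2513_2515 j)
def eT_2515_2517 (j : ℕ) : ℕ := bif Nat.blt j 2516 then E_2515 else E_2516
def eT_2518_2520 (j : ℕ) : ℕ := bif Nat.blt j 2519 then E_2518 else E_2519
def eT_2517_2520 (j : ℕ) : ℕ := bif Nat.blt j 2518 then E_2517 else (eT_2518_2520 j)
def eT_2515_2520 (j : ℕ) : ℕ := bif Nat.blt j 2517 then (eT_2515_2517 j) else (eT_2517_2520 j)
def eT_2511_2520 (j : ℕ) : ℕ := bif Nat.blt j 2515 then (eT_2511_2515 j) else (eT_2515_2520 j)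
def eT_2503_2520 (j : ℕ) : ℕ := bif Nat.blt j 2511 then (eT_2503_2511 j) else (eT_2511_2520 j)
def eT_2520_2522 (j : ℕ) : ℕ := bif Nat.blt j 2521 then E_2520 else E_2521
def eT_2522_2524 (j : ℕ) : ℕ := bif Nat.blt j 2523 then E_2522 else E_2523
def eT_2520_2524 (j : ℕ) : ℕ := bif Nat.blt j 2522 then (eT_2520_2522 j) else (eT_2522_2524 j)
def eT_2524_2526 (j : ℕ) : ℕ := bif Nat.blt j 2525 then E_2524 else E_2525
def eT_2526_2528 (j : ℕ) : ℕ := bif Nat.blt j 2527 then E_2526 else E_2527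
def eT_2524_2528 (j : ℕ) : ℕ := bif Nat.blt j 2526 then (eT_2524_2526 j) else (eT_2526_2528 j)
def eT_2520_2528 (j : ℕ) : ℕ := bif Nat.blt j 2524 then (eT_2520_2524 j) else (eT_2524_2528 j)
def eT_2528_2530 (j : ℕ) : ℕ := bif Nat.blt j 2529 then E_2528 else E_2529
def eT_2530_2532 (j : ℕ) : ℕ := bif Nat.blt j 2531 then E_2530 else E_2531
def eT_2528_2532 (j : ℕ) : ℕ := bif Nat.blt j 2530 then (eT_2528_2530 j) else (eT_2530_2532 j)
def eT_2532_2534 (j : ℕ) : ℕ := bif Nat.blt j 2533 then E_2532 else E_2533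
def eT_2535_2537 (j : ℕ) : ℕ := bif Nat.blt j 2536 then E_2535 else E_2536
def eT_2534_2537 (j : ℕ) : ℕ := bif Nat.blt j 2535 then E_2534 else (eT_2535_2537 j)
def eT_2532_2537 (j : ℕ) : ℕ := bif Nat.blt j 2534 then (eT_2532_2534 j) else (eT_2534_2537 j)
def eT_2528_2537 (j : ℕ) : ℕ := bif Nat.blt j 2532 then (eT_2528_2532 j) else (eT_2532_2537 j)
def eT_2520_2537 (j : ℕ) : ℕ := bif Nat.blt j 2528 then (eT_2520_2528 j) else (eT_2528_2537 j)
def eT_2503_2537 (j : ℕ) : ℕ := bif Nat.blt j 2520 then (eT_2503_2520 j) else (eT_2520_2537 j)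
def eT_2470_2537 (j : ℕ) : ℕ := bif Nat.blt j 2503 then (eT_2470_2503 j) else (eT_2503_2537 j)
def eT_2404_2537 (j : ℕ) : ℕ := bif Nat.blt j 2470 then (eT_2404_2470 j) else (eT_2470_2537 j)
def eT_2537_2539 (j : ℕ) : ℕ := bif Nat.blt j 2538 then E_2537 else E_2538
def eT_2539_2541 (j : ℕ) : ℕ := bif Nat.blt j 2540 then E_2539 else E_2540
def eT_2537_2541 (j : ℕ) : ℕ := bif Nat.blt j 2539 then (eT_2537_2539 j) else (eT_2539_2541 j)
def eT_2541_2543 (j : ℕ) : ℕ := bif Nat.blt j 2542 then E_2541 else E_2542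
def eT_2543_2545 (j : ℕ) : ℕ := bif Nat.blt j 2544 then E_2543 else E_2544
def eT_2541_2545 (j : ℕ) : ℕ := bif Nat.blt j 2543 then (eT_2541_2543 j) else (eT_2543_2545 j)
def eT_2537_2545 (j : ℕ) : ℕ := bif Nat.blt j 2541 then (eT_2537_2541 j) else (eT_2541_2545 j)
def eT_2545_2547 (j : ℕ) : ℕ := bif Nat.blt j 2546 then E_2545 else E_2546
def eT_2547_2549 (j : ℕ) : ℕ := bif Nat.blt j 2548 then E_2547 else E_2548
def eT_2545_2549 (j : ℕ) : ℕ := bif Nat.blt j 2547 then (eT_2545_2547 j) else (eT_2547_2549 j)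
def eT_2549_2551 (j : ℕ) : ℕ := bif Nat.blt j 2550 then E_2549 else E_2550
def eT_2551_2553 (j : ℕ) : ℕ := bif Nat.blt j 2552 then E_2551 else E_2552
def eT_2549_2553 (j : ℕ) : ℕ := bif Nat.blt j 2551 then (eT_2549_2551 j) else (eT_2551_2553 j)
def eT_2545_2553 (j : ℕ) : ℕ := bif Nat.blt j 2549 then (eT_2545_2549 j) else (eT_2549_2553 j)
def eT_2537_2553 (j : ℕ) : ℕ := bif Nat.blt j 2545 then (eT_2537_2545 j) else (eT_2545_2553 j)
def eT_2553_2555 (j : ℕ) : ℕ := bif Nat.blt j 2554 then E_2553 else E_2554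
def eT_2555_2557 (j : ℕ) : ℕ := bif Nat.blt j 2556 then E_2555 else E_2556
def eT_2553_2557 (j : ℕ) : ℕ := bif Nat.blt j 2555 then (eT_2553_2555 j) else (eT_2555_2557 j)
def eT_2557_2559 (j : ℕ) : ℕ := bif Nat.blt j 2558 then E_2557 else E_2558
def eT_2559_2561 (j : ℕ) : ℕ := bif Nat.blt j 2560 then E_2559 else E_2560
def eT_2557_2561 (j : ℕ) : ℕ := bif Nat.blt j 2559 then (eT_2557_2559 j) else (eT_2559_2561 j)
def eT_2553_2561 (j : ℕ) : ℕ := bif Nat.blt j 2557 then (eT_2553_2557 j) else (eT_2557_2561 j)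
def eT_2561_2563 (j : ℕ) : ℕ := bif Nat.blt j 2562 then E_2561 else E_2562
def eT_2563_2565 (j : ℕ) : ℕ := bif Nat.blt j 2564 then E_2563 else E_2564
def eT_2561_2565 (j : ℕ) : ℕ := bif Nat.blt j 2563 then (eT_2561_2563 j) else (eT_2563_2565 j)
def eT_2565_2567 (j : ℕ) : ℕ := bif Nat.blt j 2566 then E_2565 else E_2566
def eT_2568_2570 (j : ℕ) : ℕ := bif Nat.blt j 2569 then E_2568 else E_2569
def eT_2567_2570 (j : ℕ) : ℕ := bif Nat.blt j 2568 then E_2567 else (eT_2568_2570 j)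
def eT_2565_2570 (j : ℕ) : ℕ := bif Nat.blt j 2567 then (eT_2565_2567 j) else (eT_2567_2570 j)
def eT_2561_2570 (j : ℕ) : ℕ := bif Nat.blt j 2565 then (eT_2561_2565 j) else (eT_2565_2570 j)
def eT_2553_2570 (j : ℕ) : ℕ := bif Nat.blt j 2561 then (eT_2553_2561 j) else (eT_2561_2570 j)
def eT_2537_2570 (j : ℕ) : ℕ := bif Nat.blt j 2553 then (eT_2537_2553 j) else (eT_2553_2570 j)
def eT_2570_2572 (j : ℕ) : ℕ := bif Nat.blt j 2571 then E_2570 else E_2571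
def eT_2572_2574 (j : ℕ) : ℕ := bif Nat.blt j 2573 then E_2572 else E_2573
def eT_2570_2574 (j : ℕ) : ℕ := bif Nat.blt j 2572 then (eT_2570_2572 j) else (eT_2572_2574 j)
def eT_2574_2576 (j : ℕ) : ℕ := bif Nat.blt j 2575 then E_2574 else E_2575
def eT_2576_2578 (j : ℕ) : ℕ := bif Nat.blt j 2577 then E_2576 else E_2577
def eT_2574_2578 (j : ℕ) : ℕ := bif Nat.blt j 2576 then (eT_2574_2576 j) else (eT_2576_2578 j)
def eT_2570_2578 (j : ℕ) : ℕ := bif Nat.blt j 2574 then (eT_2570_2574 j) else (eT_2574_2578 j)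
def eT_2578_2580 (j : ℕ) : ℕ := bif Nat.blt j 2579 then E_2578 else E_2579
def eT_2580_2582 (j : ℕ) : ℕ := bif Nat.blt j 2581 then E_2580 else E_2581
def eT_2578_2582 (j : ℕ) : ℕ := bif Nat.blt j 2580 then (eT_2578_2580 j) else (eT_2580_2582 j)
def eT_2582_2584 (j : ℕ) : ℕ := bif Nat.blt j 2583 then E_2582 else E_2583
def eT_2585_2587 (j : ℕ) : ℕ := bif Nat.blt j 2586 then E_2585 else E_2586
def eT_2584_2587 (j : ℕ) : ℕ := bif Nat.blt j 2585 then E_2584 else (eT_2585_2587 j)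
def eT_2582_2587 (j : ℕ) : ℕ := bif Nat.blt j 2584 then (eT_2582_2584 j) else (eT_2584_2587 j)
def eT_2578_2587 (j : ℕ) : ℕ := bif Nat.blt j 2582 then (eT_2578_2582 j) else (eT_2582_2587 j)
def eT_2570_2587 (j : ℕ) : ℕ := bif Nat.blt j 2578 then (eT_2570_2578 j) else (eT_2578_2587 j)
def eT_2587_2589 (j : ℕ) : ℕ := bif Nat.blt j 2588 then E_2587 else E_2588
def eT_2589_2591 (j : ℕ) : ℕ := bif Nat.blt j 2590 then E_2589 else E_2590
def eT_2587_2591 (j : ℕ) : ℕ := bif Nat.blt j 2589 then (eT_2587_2589 j) else (eT_2589_2591 j)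
def eT_2591_2593 (j : ℕ) : ℕ := bif Nat.blt j 2592 then E_2591 else E_2592
def eT_2593_2595 (j : ℕ) : ℕ := bif Nat.blt j 2594 then E_2593 else E_2594
def eT_2591_2595 (j : ℕ) : ℕ := bif Nat.blt j 2593 then (eT_2591_2593 j) else (eT_2593_2595 j)
def eT_2587_2595 (j : ℕ) : ℕ := bif Nat.blt j 2591 then (eT_2587_2591 j) else (eT_2591_2595 j)
def eT_2595_2597 (j : ℕ) : ℕ := bif Nat.blt j 2596 then E_2595 else E_2596
def eT_2597_2599 (j : ℕ) : ℕ := bif Nat.blt j 2598 then E_2597 else E_2598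
def eT_2595_2599 (j : ℕ) : ℕ := bif Nat.blt j 2597 then (eT_2595_2597 j) else (eT_2597_2599 j)
def eT_2599_2601 (j : ℕ) : ℕ := bif Nat.blt j 2600 then E_2599 else E_2600
def eT_2602_2604 (j : ℕ) : ℕ := bif Nat.blt j 2603 then E_2602 else E_2603
def eT_2601_2604 (j : ℕ) : ℕ := bif Nat.blt j 2602 then E_2601 else (eT_2602_2604 j)
def eT_2599_2604 (j : ℕ) : ℕ := bif Nat.blt j 2601 then (eT_2599_2601 j) else (eT_2601_2604 j)
def eT_2595_2604 (j : ℕ) : ℕ := bif Nat.blt j 2599 then (eT_2595_2599 j) else (eT_2599_2604 j)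
def eT_2587_2604 (j : ℕ) : ℕ := bif Nat.blt j 2595 then (eT_2587_2595 j) else (eT_2595_2604 j)
def eT_2570_2604 (j : ℕ) : ℕ := bif Nat.blt j 2587 then (eT_2570_2587 j) else (eT_2587_2604 j)
def eT_2537_2604 (j : ℕ) : ℕ := bif Nat.blt j 2570 then (eT_2537_2570 j) else (eT_2570_2604 j)
def eT_2604_2606 (j : ℕ) : ℕ := bif Nat.blt j 2605 then E_2604 else E_2605
def eT_2606_2608 (j : ℕ) : ℕ := bif Nat.blt j 2607 then E_2606 else E_2607
def eT_2604_2608 (j : ℕ) : ℕ := bif Nat.blt j 2606 then (eT_2604_2606 j) else (eT_2606_2608 j)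
def eT_2608_2610 (j : ℕ) : ℕ := bif Nat.blt j 2609 then E_2608 else E_2609
def eT_2610_2612 (j : ℕ) : ℕ := bif Nat.blt j 2611 then E_2610 else E_2611
def eT_2608_2612 (j : ℕ) : ℕ := bif Nat.blt j 2610 then (eT_2608_2610 j) else (eT_2610_2612 j)
def eT_2604_2612 (j : ℕ) : ℕ := bif Nat.blt j 2608 then (eT_2604_2608 j) else (eT_2608_2612 j)
def eT_2612_2614 (j : ℕ) : ℕ := bif Nat.blt j 2613 then E_2612 else E_2613
def eT_2614_2616 (j : ℕ) : ℕ := bif Nat.blt j 2615 then E_2614 else E_2615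
def eT_2612_2616 (j : ℕ) : ℕ := bif Nat.blt j 2614 then (eT_2612_2614 j) else (eT_2614_2616 j)
def eT_2616_2618 (j : ℕ) : ℕ := bif Nat.blt j 2617 then E_2616 else E_2617
def eT_2618_2620 (j : ℕ) : ℕ := bif Nat.blt j 2619 then E_2618 else E_2619
def eT_2616_2620 (j : ℕ) : ℕ := bif Nat.blt j 2618 then (eT_2616_2618 j) else (eT_2618_2620 j)
def eT_2612_2620 (j : ℕ) : ℕ := bif Nat.blt j 2616 then (eT_2612_2616 j) else (eT_2616_2620 j)
def eT_2604_2620 (j : ℕ) : ℕ := bif Nat.blt j 2612 then (eT_2604_2612 j) else (eT_2612_2620 j)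
def eT_2620_2622 (j : ℕ) : ℕ := bif Nat.blt j 2621 then E_2620 else E_2621
def eT_2622_2624 (j : ℕ) : ℕ := bif Nat.blt j 2623 then E_2622 else E_2623
def eT_2620_2624 (j : ℕ) : ℕ := bif Nat.blt j 2622 then (eT_2620_2622 j) else (eT_2622_2624 j)
def eT_2624_2626 (j : ℕ) : ℕ := bif Nat.blt j 2625 then E_2624 else E_2625
def eT_2626_2628 (j : ℕ) : ℕ := bif Nat.blt j 2627 then E_2626 else E_2627
def eT_2624_2628 (j : ℕ) : ℕ := bif Nat.blt j 2626 then (eT_2624_2626 j) else (eT_2626_2628 j)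
def eT_2620_2628 (j : ℕ) : ℕ := bif Nat.blt j 2624 then (eT_2620_2624 j) else (eT_2624_2628 j)
def eT_2628_2630 (j : ℕ) : ℕ := bif Nat.blt j 2629 then E_2628 else E_2629
def eT_2630_2632 (j : ℕ) : ℕ := bif Nat.blt j 2631 then E_2630 else E_2631
def eT_2628_2632 (j : ℕ) : ℕ := bif Nat.blt j 2630 then (eT_2628_2630 j) else (eT_2630_2632 j)
def eT_2632_2634 (j : ℕ) : ℕ := bif Nat.blt j 2633 then E_2632 else E_2633
def eT_2635_2637 (j : ℕ) : ℕ := bif Nat.blt j 2636 then E_2635 else E_2636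
def eT_2634_2637 (j : ℕ) : ℕ := bif Nat.blt j 2635 then E_2634 else (eT_2635_2637 j)
def eT_2632_2637 (j : ℕ) : ℕ := bif Nat.blt j 2634 then (eT_2632_2634 j) else (eT_2634_2637 j)
def eT_2628_2637 (j : ℕ) : ℕ := bif Nat.blt j 2632 then (eT_2628_2632 j) else (eT_2632_2637 j)
def eT_2620_2637 (j : ℕ) : ℕ := bif Nat.blt j 2628 then (eT_2620_2628 j) else (eT_2628_2637 j)
def eT_2604_2637 (j : ℕ) : ℕ := bif Nat.blt j 2620 then (eT_2604_2620 j) else (eT_2620_2637 j)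
def eT_2637_2639 (j : ℕ) : ℕ := bif Nat.blt j 2638 then E_2637 else E_2638
def eT_2639_2641 (j : ℕ) : ℕ := bif Nat.blt j 2640 then E_2639 else E_2640
def eT_2637_2641 (j : ℕ) : ℕ := bif Nat.blt j 2639 then (eT_2637_2639 j) else (eT_2639_2641 j)
def eT_2641_2643 (j : ℕ) : ℕ := bif Nat.blt j 2642 then E_2641 else E_2642
def eT_2643_2645 (j : ℕ) : ℕ := bif Nat.blt j 2644 then E_2643 else E_2644
def eT_2641_2645 (j : ℕ) : ℕ := bif Nat.blt j 2643 then (eT_2641_2643 j) else (eT_2643_2645 j)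
def eT_2637_2645 (j : ℕ) : ℕ := bif Nat.blt j 2641 then (eT_2637_2641 j) else (eT_2641_2645 j)
def eT_2645_2647 (j : ℕ) : ℕ := bif Nat.blt j 2646 then E_2645 else E_2646
def eT_2647_2649 (j : ℕ) : ℕ := bif Nat.blt j 2648 then E_2647 else E_2648
def eT_2645_2649 (j : ℕ) : ℕ := bif Nat.blt j 2647 then (eT_2645_2647 j) else (eT_2647_2649 j)
def eT_2649_2651 (j : ℕ) : ℕ := bif Nat.blt j 2650 then E_2649 else E_2650
def eT_2652_2654 (j : ℕ) : ℕ := bif Nat.blt j 2653 then E_2652 else E_2653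
def eT_2651_2654 (j : ℕ) : ℕ := bif Nat.blt j 2652 then E_2651 else (eT_2652_2654 j)
def eT_2649_2654 (j : ℕ) : ℕ := bif Nat.blt j 2651 then (eT_2649_2651 j) else (eT_2651_2654 j)
def eT_2645_2654 (j : ℕ) : ℕ := bif Nat.blt j 2649 then (eT_2645_2649 j) else (eT_2649_2654 j)
def eT_2637_2654 (j : ℕ) : ℕ := bif Nat.blt j 2645 then (eT_2637_2645 j) else (eT_2645_2654 j)
def eT_2654_2656 (j : ℕ) : ℕ := bif Nat.blt j 2655 then E_2654 else E_2655
def eT_2656_2658 (j : ℕ) : ℕ := bif Nat.blt j 2657 then E_2656 else E_2657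
def eT_2654_2658 (j : ℕ) : ℕ := bif Nat.blt j 2656 then (eT_2654_2656 j) else (eT_2656_2658 j)
def eT_2658_2660 (j : ℕ) : ℕ := bif Nat.blt j 2659 then E_2658 else E_2659
def eT_2660_2662 (j : ℕ) : ℕ := bif Nat.blt j 2661 then E_2660 else E_2661
def eT_2658_2662 (j : ℕ) : ℕ := bif Nat.blt j 2660 then (eT_2658_2660 j) else (eT_2660_2662 j)
def eT_2654_2662 (j : ℕ) : ℕ := bif Nat.blt j 2658 then (eT_2654_2658 j) else (eT_2658_2662 j)
def eT_2662_2664 (j : ℕ) : ℕ := bif Nat.blt j 2663 then E_2662 else E_2663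
def eT_2664_2666 (j : ℕ) : ℕ := bif Nat.blt j 2665 then E_2664 else E_2665
def eT_2662_2666 (j : ℕ) : ℕ := bif Nat.blt j 2664 then (eT_2662_2664 j) else (eT_2664_2666 j)
def eT_2666_2668 (j : ℕ) : ℕ := bif Nat.blt j 2667 then E_2666 else E_2667
def eT_2669_2671 (j : ℕ) : ℕ := bif Nat.blt j 2670 then E_2669 else E_2670
def eT_2668_2671 (j : ℕ) : ℕ := bif Nat.blt j 2669 then E_2668 else (eT_2669_2671 j)
def eT_2666_2671 (j : ℕ) : ℕ := bif Nat.blt j 2668 then (eT_2666_2668 j) else (eT_2668_2671 j)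
def eT_2662_2671 (j : ℕ) : ℕ := bif Nat.blt j 2666 then (eT_2662_2666 j) else (eT_2666_2671 j)
def eT_2654_2671 (j : ℕ) : ℕ := bif Nat.blt j 2662 then (eT_2654_2662 j) else (eT_2662_2671 j)
def eT_2637_2671 (j : ℕ) : ℕ := bif Nat.blt j 2654 then (eT_2637_2654 j) else (eT_2654_2671 j)
def eT_2604_2671 (j : ℕ) : ℕ := bif Nat.blt j 2637 then (eT_2604_2637 j) else (eT_2637_2671 j)
def eT_2537_2671 (j : ℕ) : ℕ := bif Nat.blt j 2604 then (eT_2537_2604 j) else (eT_2604_2671 j)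
def eT_2404_2671 (j : ℕ) : ℕ := bif Nat.blt j 2537 then (eT_2404_2537 j) else (eT_2537_2671 j)
def eT_2137_2671 (j : ℕ) : ℕ := bif Nat.blt j 2404 then (eT_2137_2404 j) else (eT_2404_2671 j)
def eT_2671_2673 (j : ℕ) : ℕ := bif Nat.blt j 2672 then E_2671 else E_2672
def eT_2673_2675 (j : ℕ) : ℕ := bif Nat.blt j 2674 then E_2673 else E_2674
def eT_2671_2675 (j : ℕ) : ℕ := bif Nat.blt j 2673 then (eT_2671_2673 j) else (eT_2673_2675 j)
def eT_2675_2677 (j : ℕ) : ℕ := bif Nat.blt j 2676 then E_2675 else E_2676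
def eT_2677_2679 (j : ℕ) : ℕ := bif Nat.blt j 2678 then E_2677 else E_2678
def eT_2675_2679 (j : ℕ) : ℕ := bif Nat.blt j 2677 then (eT_2675_2677 j) else (eT_2677_2679 j)
def eT_2671_2679 (j : ℕ) : ℕ := bif Nat.blt j 2675 then (eT_2671_2675 j) else (eT_2675_2679 j)
def eT_2679_2681 (j : ℕ) : ℕ := bif Nat.blt j 2680 then E_2679 else E_2680
def eT_2681_2683 (j : ℕ) : ℕ := bif Nat.blt j 2682 then E_2681 else E_2682
def eT_2679_2683 (j : ℕ) : ℕ := bif Nat.blt j 2681 then (eT_2679_2681 j) else (eT_2681_2683 j)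
def eT_2683_2685 (j : ℕ) : ℕ := bif Nat.blt j 2684 then E_2683 else E_2684
def eT_2685_2687 (j : ℕ) : ℕ := bif Nat.blt j 2686 then E_2685 else E_2686
def eT_2683_2687 (j : ℕ) : ℕ := bif Nat.blt j 2685 then (eT_2683_2685 j) else (eT_2685_2687 j)
def eT_2679_2687 (j : ℕ) : ℕ := bif Nat.blt j 2683 then (eT_2679_2683 j) else (eT_2683_2687 j)
def eT_2671_2687 (j : ℕ) : ℕ := bif Nat.blt j 2679 then (eT_2671_2679 j) else (eT_2679_2687 j)
def eT_2687_2689 (j : ℕ) : ℕ := bif Nat.blt j 2688 then E_2687 else E_2688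
def eT_2689_2691 (j : ℕ) : ℕ := bif Nat.blt j 2690 then E_2689 else E_2690
def eT_2687_2691 (j : ℕ) : ℕ := bif Nat.blt j 2689 then (eT_2687_2689 j) else (eT_2689_2691 j)
def eT_2691_2693 (j : ℕ) : ℕ := bif Nat.blt j 2692 then E_2691 else E_2692
def eT_2693_2695 (j : ℕ) : ℕ := bif Nat.blt j 2694 then E_2693 else E_2694
def eT_2691_2695 (j : ℕ) : ℕ := bif Nat.blt j 2693 then (eT_2691_2693 j) else (eT_2693_2695 j)
def eT_2687_2695 (j : ℕ) : ℕ := bif Nat.blt j 2691 then (eT_2687_2691 j) else (eT_2691_2695 j)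
def eT_2695_2697 (j : ℕ) : ℕ := bif Nat.blt j 2696 then E_2695 else E_2696
def eT_2697_2699 (j : ℕ) : ℕ := bif Nat.blt j 2698 then E_2697 else E_2698
def eT_2695_2699 (j : ℕ) : ℕ := bif Nat.blt j 2697 then (eT_2695_2697 j) else (eT_2697_2699 j)
def eT_2699_2701 (j : ℕ) : ℕ := bif Nat.blt j 2700 then E_2699 else E_2700
def eT_2702_2704 (j : ℕ) : ℕ := bif Nat.blt j 2703 then E_2702 else E_2703
def eT_2701_2704 (j : ℕ) : ℕ := bif Nat.blt j 2702 then E_2701 else (eT_2702_2704 j)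
def eT_2699_2704 (j : ℕ) : ℕ := bif Nat.blt j 2701 then (eT_2699_2701 j) else (eT_2701_2704 j)
def eT_2695_2704 (j : ℕ) : ℕ := bif Nat.blt j 2699 then (eT_2695_2699 j) else (eT_2699_2704 j)
def eT_2687_2704 (j : ℕ) : ℕ := bif Nat.blt j 2695 then (eT_2687_2695 j) else (eT_2695_2704 j)
def eT_2671_2704 (j : ℕ) : ℕ := bif Nat.blt j 2687 then (eT_2671_2687 j) else (eT_2687_2704 j)
def eT_2704_2706 (j : ℕ) : ℕ := bif Nat.blt j 2705 then E_2704 else E_2705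
def eT_2706_2708 (j : ℕ) : ℕ := bif Nat.blt j 2707 then E_2706 else E_2707
def eT_2704_2708 (j : ℕ) : ℕ := bif Nat.blt j 2706 then (eT_2704_2706 j) else (eT_2706_2708 j)
def eT_2708_2710 (j : ℕ) : ℕ := bif Nat.blt j 2709 then E_2708 else E_2709
def eT_2710_2712 (j : ℕ) : ℕ := bif Nat.blt j 2711 then E_2710 else E_2711
def eT_2708_2712 (j : ℕ) : ℕ := bif Nat.blt j 2710 then (eT_2708_2710 j) else (eT_2710_2712 j)
def eT_2704_2712 (j : ℕ) : ℕ := bif Nat.blt j 2708 then (eT_2704_2708 j) else (eT_2708_2712 j)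
def eT_2712_2714 (j : ℕ) : ℕ := bif Nat.blt j 2713 then E_2712 else E_2713
def eT_2714_2716 (j : ℕ) : ℕ := bif Nat.blt j 2715 then E_2714 else E_2715
def eT_2712_2716 (j : ℕ) : ℕ := bif Nat.blt j 2714 then (eT_2712_2714 j) else (eT_2714_2716 j)
def eT_2716_2718 (j : ℕ) : ℕ := bif Nat.blt j 2717 then E_2716 else E_2717
def eT_2718_2720 (j : ℕ) : ℕ := bif Nat.blt j 2719 then E_2718 else E_2719
def eT_2716_2720 (j : ℕ) : ℕ := bif Nat.blt j 2718 then (eT_2716_2718 j) else (eT_2718_2720 j)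
def eT_2712_2720 (j : ℕ) : ℕ := bif Nat.blt j 2716 then (eT_2712_2716 j) else (eT_2716_2720 j)
def eT_2704_2720 (j : ℕ) : ℕ := bif Nat.blt j 2712 then (eT_2704_2712 j) else (eT_2712_2720 j)
def eT_2720_2722 (j : ℕ) : ℕ := bif Nat.blt j 2721 then E_2720 else E_2721
def eT_2722_2724 (j : ℕ) : ℕ := bif Nat.blt j 2723 then E_2722 else E_2723
def eT_2720_2724 (j : ℕ) : ℕ := bif Nat.blt j 2722 then (eT_2720_2722 j) else (eT_2722_2724 j)
def eT_2724_2726 (j : ℕ) : ℕ := bif Nat.blt j 2725 then E_2724 else E_2725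
def eT_2726_2728 (j : ℕ) : ℕ := bif Nat.blt j 2727 then E_2726 else E_2727
def eT_2724_2728 (j : ℕ) : ℕ := bif Nat.blt j 2726 then (eT_2724_2726 j) else (eT_2726_2728 j)
def eT_2720_2728 (j : ℕ) : ℕ := bif Nat.blt j 2724 then (eT_2720_2724 j) else (eT_2724_2728 j)
def eT_2728_2730 (j : ℕ) : ℕ := bif Nat.blt j 2729 then E_2728 else E_2729
def eT_2730_2732 (j : ℕ) : ℕ := bif Nat.blt j 2731 then E_2730 else E_2731
def eT_2728_2732 (j : ℕ) : ℕ := bif Nat.blt j 2730 then (eT_2728_2730 j) else (eT_2730_2732 j)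
def eT_2732_2734 (j : ℕ) : ℕ := bif Nat.blt j 2733 then E_2732 else E_2733
def eT_2735_2737 (j : ℕ) : ℕ := bif Nat.blt j 2736 then E_2735 else E_2736
def eT_2734_2737 (j : ℕ) : ℕ := bif Nat.blt j 2735 then E_2734 else (eT_2735_2737 j)
def eT_2732_2737 (j : ℕ) : ℕ := bif Nat.blt j 2734 then (eT_2732_2734 j) else (eT_2734_2737 j)
def eT_2728_2737 (j : ℕ) : ℕ := bif Nat.blt j 2732 then (eT_2728_2732 j) else (eT_2732_2737 j)
def eT_2720_2737 (j : ℕ) : ℕ := bif Nat.blt j 2728 then (eT_2720_2728 j) else (eT_2728_2737 j)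
def eT_2704_2737 (j : ℕ) : ℕ := bif Nat.blt j 2720 then (eT_2704_2720 j) else (eT_2720_2737 j)
def eT_2671_2737 (j : ℕ) : ℕ := bif Nat.blt j 2704 then (eT_2671_2704 j) else (eT_2704_2737 j)
def eT_2737_2739 (j : ℕ) : ℕ := bif Nat.blt j 2738 then E_2737 else E_2738
def eT_2739_2741 (j : ℕ) : ℕ := bif Nat.blt j 2740 then E_2739 else E_2740
def eT_2737_2741 (j : ℕ) : ℕ := bif Nat.blt j 2739 then (eT_2737_2739 j) else (eT_2739_2741 j)
def eT_2741_2743 (j : ℕ) : ℕ := bif Nat.blt j 2742 then E_2741 else E_2742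
def eT_2743_2745 (j : ℕ) : ℕ := bif Nat.blt j 2744 then E_2743 else E_2744
def eT_2741_2745 (j : ℕ) : ℕ := bif Nat.blt j 2743 then (eT_2741_2743 j) else (eT_2743_2745 j)
def eT_2737_2745 (j : ℕ) : ℕ := bif Nat.blt j 2741 then (eT_2737_2741 j) else (eT_2741_2745 j)
def eT_2745_2747 (j : ℕ) : ℕ := bif Nat.blt j 2746 then E_2745 else E_2746
def eT_2747_2749 (j : ℕ) : ℕ := bif Nat.blt j 2748 then E_2747 else E_2748
def eT_2745_2749 (j : ℕ) : ℕ := bif Nat.blt j 2747 then (eT_2745_2747 j) else (eT_2747_2749 j)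
def eT_2749_2751 (j : ℕ) : ℕ := bif Nat.blt j 2750 then E_2749 else E_2750
def eT_2751_2753 (j : ℕ) : ℕ := bif Nat.blt j 2752 then E_2751 else E_2752
def eT_2749_2753 (j : ℕ) : ℕ := bif Nat.blt j 2751 then (eT_2749_2751 j) else (eT_2751_2753 j)
def eT_2745_2753 (j : ℕ) : ℕ := bif Nat.blt j 2749 then (eT_2745_2749 j) else (eT_2749_2753 j)
def eT_2737_2753 (j : ℕ) : ℕ := bif Nat.blt j 2745 then (eT_2737_2745 j) else (eT_2745_2753 j)
def eT_2753_2755 (j : ℕ) : ℕ := bif Nat.blt j 2754 then E_2753 else E_2754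
def eT_2755_2757 (j : ℕ) : ℕ := bif Nat.blt j 2756 then E_2755 else E_2756
def eT_2753_2757 (j : ℕ) : ℕ := bif Nat.blt j 2755 then (eT_2753_2755 j) else (eT_2755_2757 j)
def eT_2757_2759 (j : ℕ) : ℕ := bif Nat.blt j 2758 then E_2757 else E_2758
def eT_2759_2761 (j : ℕ) : ℕ := bif Nat.blt j 2760 then E_2759 else E_2760
def eT_2757_2761 (j : ℕ) : ℕ := bif Nat.blt j 2759 then (eT_2757_2759 j) else (eT_2759_2761 j)
def eT_2753_2761 (j : ℕ) : ℕ := bif Nat.blt j 2757 then (eT_2753_2757 j) else (eT_2757_2761 j)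
def eT_2761_2763 (j : ℕ) : ℕ := bif Nat.blt j 2762 then E_2761 else E_2762
def eT_2763_2765 (j : ℕ) : ℕ := bif Nat.blt j 2764 then E_2763 else E_2764
def eT_2761_2765 (j : ℕ) : ℕ := bif Nat.blt j 2763 then (eT_2761_2763 j) else (eT_2763_2765 j)
def eT_2765_2767 (j : ℕ) : ℕ := bif Nat.blt j 2766 then E_2765 else E_2766
def eT_2768_2770 (j : ℕ) : ℕ := bif Nat.blt j 2769 then E_2768 else E_2769
def eT_2767_2770 (j : ℕ) : ℕ := bif Nat.blt j 2768 then E_2767 else (eT_2768_2770 j)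
def eT_2765_2770 (j : ℕ) : ℕ := bif Nat.blt j 2767 then (eT_2765_2767 j) else (eT_2767_2770 j)
def eT_2761_2770 (j : ℕ) : ℕ := bif Nat.blt j 2765 then (eT_2761_2765 j) else (eT_2765_2770 j)
def eT_2753_2770 (j : ℕ) : ℕ := bif Nat.blt j 2761 then (eT_2753_2761 j) else (eT_2761_2770 j)
def eT_2737_2770 (j : ℕ) : ℕ := bif Nat.blt j 2753 then (eT_2737_2753 j) else (eT_2753_2770 j)
def eT_2770_2772 (j : ℕ) : ℕ := bif Nat.blt j 2771 then E_2770 else E_2771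
def eT_2772_2774 (j : ℕ) : ℕ := bif Nat.blt j 2773 then E_2772 else E_2773
def eT_2770_2774 (j : ℕ) : ℕ := bif Nat.blt j 2772 then (eT_2770_2772 j) else (eT_2772_2774 j)
def eT_2774_2776 (j : ℕ) : ℕ := bif Nat.blt j 2775 then E_2774 else E_2775
def eT_2776_2778 (j : ℕ) : ℕ := bif Nat.blt j 2777 then E_2776 else E_2777
def eT_2774_2778 (j : ℕ) : ℕ := bif Nat.blt j 2776 then (eT_2774_2776 j) else (eT_2776_2778 j)
def eT_2770_2778 (j : ℕ) : ℕ := bif Nat.blt j 2774 then (eT_2770_2774 j) else (eT_2774_2778 j)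
def eT_2778_2780 (j : ℕ) : ℕ := bif Nat.blt j 2779 then E_2778 else E_2779
def eT_2780_2782 (j : ℕ) : ℕ := bif Nat.blt j 2781 then E_2780 else E_2781
def eT_2778_2782 (j : ℕ) : ℕ := bif Nat.blt j 2780 then (eT_2778_2780 j) else (eT_2780_2782 j)
def eT_2782_2784 (j : ℕ) : ℕ := bif Nat.blt j 2783 then E_2782 else E_2783
def eT_2785_2787 (j : ℕ) : ℕ := bif Nat.blt j 2786 then E_2785 else E_2786
def eT_2784_2787 (j : ℕ) : ℕ := bif Nat.blt j 2785 then E_2784 else (eT_2785_2787 j)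
def eT_2782_2787 (j : ℕ) : ℕ := bif Nat.blt j 2784 then (eT_2782_2784 j) else (eT_2784_2787 j)
def eT_2778_2787 (j : ℕ) : ℕ := bif Nat.blt j 2782 then (eT_2778_2782 j) else (eT_2782_2787 j)
def eT_2770_2787 (j : ℕ) : ℕ := bif Nat.blt j 2778 then (eT_2770_2778 j) else (eT_2778_2787 j)
def eT_2787_2789 (j : ℕ) : ℕ := bif Nat.blt j 2788 then E_2787 else E_2788
def eT_2789_2791 (j : ℕ) : ℕ := bif Nat.blt j 2790 then E_2789 else E_2790
def eT_2787_2791 (j : ℕ) : ℕ := bif Nat.blt j 2789 then (eT_2787_2789 j) else (eT_2789_2791 j)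
def eT_2791_2793 (j : ℕ) : ℕ := bif Nat.blt j 2792 then E_2791 else E_2792
def eT_2793_2795 (j : ℕ) : ℕ := bif Nat.blt j 2794 then E_2793 else E_2794
def eT_2791_2795 (j : ℕ) : ℕ := bif Nat.blt j 2793 then (eT_2791_2793 j) else (eT_2793_2795 j)
def eT_2787_2795 (j : ℕ) : ℕ := bif Nat.blt j 2791 then (eT_2787_2791 j) else (eT_2791_2795 j)
def eT_2795_2797 (j : ℕ) : ℕ := bif Nat.blt j 2796 then E_2795 else E_2796
def eT_2797_2799 (j : ℕ) : ℕ := bif Nat.blt j 2798 then E_2797 else E_2798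
def eT_2795_2799 (j : ℕ) : ℕ := bif Nat.blt j 2797 then (eT_2795_2797 j) else (eT_2797_2799 j)
def eT_2799_2801 (j : ℕ) : ℕ := bif Nat.blt j 2800 then E_2799 else E_2800
def eT_2802_2804 (j : ℕ) : ℕ := bif Nat.blt j 2803 then E_2802 else E_2803
def eT_2801_2804 (j : ℕ) : ℕ := bif Nat.blt j 2802 then E_2801 else (eT_2802_2804 j)
def eT_2799_2804 (j : ℕ) : ℕ := bif Nat.blt j 2801 then (eT_2799_2801 j) else (eT_2801_2804 j)
def eT_2795_2804 (j : ℕ) : ℕ := bif Nat.blt j 2799 then (eT_2795_2799 j) else (eT_2799_2804 j)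
def eT_2787_2804 (j : ℕ) : ℕ := bif Nat.blt j 2795 then (eT_2787_2795 j) else (eT_2795_2804 j)
def eT_2770_2804 (j : ℕ) : ℕ := bif Nat.blt j 2787 then (eT_2770_2787 j) else (eT_2787_2804 j)
def eT_2737_2804 (j : ℕ) : ℕ := bif Nat.blt j 2770 then (eT_2737_2770 j) else (eT_2770_2804 j)
def eT_2671_2804 (j : ℕ) : ℕ := bif Nat.blt j 2737 then (eT_2671_2737 j) else (eT_2737_2804 j)
def eT_2804_2806 (j : ℕ) : ℕ := bif Nat.blt j 2805 then E_2804 else E_2805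
def eT_2806_2808 (j : ℕ) : ℕ := bif Nat.blt j 2807 then E_2806 else E_2807
def eT_2804_2808 (j : ℕ) : ℕ := bif Nat.blt j 2806 then (eT_2804_2806 j) else (eT_2806_2808 j)
def eT_2808_2810 (j : ℕ) : ℕ := bif Nat.blt j 2809 then E_2808 else E_2809
def eT_2810_2812 (j : ℕ) : ℕ := bif Nat.blt j 2811 then E_2810 else E_2811
def eT_2808_2812 (j : ℕ) : ℕ := bif Nat.blt j 2810 then (eT_2808_2810 j) else (eT_2810_2812 j)
def eT_2804_2812 (j : ℕ) : ℕ := bif Nat.blt j 2808 then (eT_2804_2808 j) else (eT_2808_2812 j)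
def eT_2812_2814 (j : ℕ) : ℕ := bif Nat.blt j 2813 then E_2812 else E_2813
def eT_2814_2816 (j : ℕ) : ℕ := bif Nat.blt j 2815 then E_2814 else E_2815
def eT_2812_2816 (j : ℕ) : ℕ := bif Nat.blt j 2814 then (eT_2812_2814 j) else (eT_2814_2816 j)
def eT_2816_2818 (j : ℕ) : ℕ := bif Nat.blt j 2817 then E_2816 else E_2817
def eT_2818_2820 (j : ℕ) : ℕ := bif Nat.blt j 2819 then E_2818 else E_2819
def eT_2816_2820 (j : ℕ) : ℕ := bif Nat.blt j 2818 then (eT_2816_2818 j) else (eT_2818_2820 j)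
def eT_2812_2820 (j : ℕ) : ℕ := bif Nat.blt j 2816 then (eT_2812_2816 j) else (eT_2816_2820 j)
def eT_2804_2820 (j : ℕ) : ℕ := bif Nat.blt j 2812 then (eT_2804_2812 j) else (eT_2812_2820 j)
def eT_2820_2822 (j : ℕ) : ℕ := bif Nat.blt j 2821 then E_2820 else E_2821
def eT_2822_2824 (j : ℕ) : ℕ := bif Nat.blt j 2823 then E_2822 else E_2823
def eT_2820_2824 (j : ℕ) : ℕ := bif Nat.blt j 2822 then (eT_2820_2822 j) else (eT_2822_2824 j)
def eT_2824_2826 (j : ℕ) : ℕ := bif Nat.blt j 2825 then E_2824 else E_2825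
def eT_2826_2828 (j : ℕ) : ℕ := bif Nat.blt j 2827 then E_2826 else E_2827
def eT_2824_2828 (j : ℕ) : ℕ := bif Nat.blt j 2826 then (eT_2824_2826 j) else (eT_2826_2828 j)
def eT_2820_2828 (j : ℕ) : ℕ := bif Nat.blt j 2824 then (eT_2820_2824 j) else (eT_2824_2828 j)
def eT_2828_2830 (j : ℕ) : ℕ := bif Nat.blt j 2829 then E_2828 else E_2829
def eT_2830_2832 (j : ℕ) : ℕ := bif Nat.blt j 2831 then E_2830 else E_2831
def eT_2828_2832 (j : ℕ) : ℕ := bif Nat.blt j 2830 then (eT_2828_2830 j) else (eT_2830_2832 j)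
def eT_2832_2834 (j : ℕ) : ℕ := bif Nat.blt j 2833 then E_2832 else E_2833
def eT_2835_2837 (j : ℕ) : ℕ := bif Nat.blt j 2836 then E_2835 else E_2836
def eT_2834_2837 (j : ℕ) : ℕ := bif Nat.blt j 2835 then E_2834 else (eT_2835_2837 j)
def eT_2832_2837 (j : ℕ) : ℕ := bif Nat.blt j 2834 then (eT_2832_2834 j) else (eT_2834_2837 j)
def eT_2828_2837 (j : ℕ) : ℕ := bif Nat.blt j 2832 then (eT_2828_2832 j) else (eT_2832_2837 j)
def eT_2820_2837 (j : ℕ) : ℕ := bif Nat.blt j 2828 then (eT_2820_2828 j) else (eT_2828_2837 j)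
def eT_2804_2837 (j : ℕ) : ℕ := bif Nat.blt j 2820 then (eT_2804_2820 j) else (eT_2820_2837 j)
def eT_2837_2839 (j : ℕ) : ℕ := bif Nat.blt j 2838 then E_2837 else E_2838
def eT_2839_2841 (j : ℕ) : ℕ := bif Nat.blt j 2840 then E_2839 else E_2840
def eT_2837_2841 (j : ℕ) : ℕ := bif Nat.blt j 2839 then (eT_2837_2839 j) else (eT_2839_2841 j)
def eT_2841_2843 (j : ℕ) : ℕ := bif Nat.blt j 2842 then E_2841 else E_2842
def eT_2843_2845 (j : ℕ) : ℕ := bif Nat.blt j 2844 then E_2843 else E_2844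
def eT_2841_2845 (j : ℕ) : ℕ := bif Nat.blt j 2843 then (eT_2841_2843 j) else (eT_2843_2845 j)
def eT_2837_2845 (j : ℕ) : ℕ := bif Nat.blt j 2841 then (eT_2837_2841 j) else (eT_2841_2845 j)
def eT_2845_2847 (j : ℕ) : ℕ := bif Nat.blt j 2846 then E_2845 else E_2846
def eT_2847_2849 (j : ℕ) : ℕ := bif Nat.blt j 2848 then E_2847 else E_2848
def eT_2845_2849 (j : ℕ) : ℕ := bif Nat.blt j 2847 then (eT_2845_2847 j) else (eT_2847_2849 j)
def eT_2849_2851 (j : ℕ) : ℕ := bif Nat.blt j 2850 then E_2849 else E_2850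
def eT_2852_2854 (j : ℕ) : ℕ := bif Nat.blt j 2853 then E_2852 else E_2853
def eT_2851_2854 (j : ℕ) : ℕ := bif Nat.blt j 2852 then E_2851 else (eT_2852_2854 j)
def eT_2849_2854 (j : ℕ) : ℕ := bif Nat.blt j 2851 then (eT_2849_2851 j) else (eT_2851_2854 j)
def eT_2845_2854 (j : ℕ) : ℕ := bif Nat.blt j 2849 then (eT_2845_2849 j) else (eT_2849_2854 j)
def eT_2837_2854 (j : ℕ) : ℕ := bif Nat.blt j 2845 then (eT_2837_2845 j) else (eT_2845_2854 j)
def eT_2854_2856 (j : ℕ) : ℕ := bif Nat.blt j 2855 then E_2854 else E_2855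
def eT_2856_2858 (j : ℕ) : ℕ := bif Nat.blt j 2857 then E_2856 else E_2857
def eT_2854_2858 (j : ℕ) : ℕ := bif Nat.blt j 2856 then (eT_2854_2856 j) else (eT_2856_2858 j)
def eT_2858_2860 (j : ℕ) : ℕ := bif Nat.blt j 2859 then E_2858 else E_2859
def eT_2860_2862 (j : ℕ) : ℕ := bif Nat.blt j 2861 then E_2860 else E_2861
def eT_2858_2862 (j : ℕ) : ℕ := bif Nat.blt j 2860 then (eT_2858_2860 j) else (eT_2860_2862 j)
def eT_2854_2862 (j : ℕ) : ℕ := bif Nat.blt j 2858 then (eT_2854_2858 j) else (eT_2858_2862 j)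
def eT_2862_2864 (j : ℕ) : ℕ := bif Nat.blt j 2863 then E_2862 else E_2863
def eT_2864_2866 (j : ℕ) : ℕ := bif Nat.blt j 2865 then E_2864 else E_2865
def eT_2862_2866 (j : ℕ) : ℕ := bif Nat.blt j 2864 then (eT_2862_2864 j) else (eT_2864_2866 j)
def eT_2866_2868 (j : ℕ) : ℕ := bif Nat.blt j 2867 then E_2866 else E_2867
def eT_2869_2871 (j : ℕ) : ℕ := bif Nat.blt j 2870 then E_2869 else E_2870
def eT_2868_2871 (j : ℕ) : ℕ := bif Nat.blt j 2869 then E_2868 else (eT_2869_2871 j)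
def eT_2866_2871 (j : ℕ) : ℕ := bif Nat.blt j 2868 then (eT_2866_2868 j) else (eT_2868_2871 j)
def eT_2862_2871 (j : ℕ) : ℕ := bif Nat.blt j 2866 then (eT_2862_2866 j) else (eT_2866_2871 j)
def eT_2854_2871 (j : ℕ) : ℕ := bif Nat.blt j 2862 then (eT_2854_2862 j) else (eT_2862_2871 j)
def eT_2837_2871 (j : ℕ) : ℕ := bif Nat.blt j 2854 then (eT_2837_2854 j) else (eT_2854_2871 j)
def eT_2804_2871 (j : ℕ) : ℕ := bif Nat.blt j 2837 then (eT_2804_2837 j) else (eT_2837_2871 j)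
def eT_2871_2873 (j : ℕ) : ℕ := bif Nat.blt j 2872 then E_2871 else E_2872
def eT_2873_2875 (j : ℕ) : ℕ := bif Nat.blt j 2874 then E_2873 else E_2874
def eT_2871_2875 (j : ℕ) : ℕ := bif Nat.blt j 2873 then (eT_2871_2873 j) else (eT_2873_2875 j)
def eT_2875_2877 (j : ℕ) : ℕ := bif Nat.blt j 2876 then E_2875 else E_2876
def eT_2877_2879 (j : ℕ) : ℕ := bif Nat.blt j 2878 then E_2877 else E_2878
def eT_2875_2879 (j : ℕ) : ℕ := bif Nat.blt j 2877 then (eT_2875_2877 j) else (eT_2877_2879 j)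
def eT_2871_2879 (j : ℕ) : ℕ := bif Nat.blt j 2875 then (eT_2871_2875 j) else (eT_2875_2879 j)
def eT_2879_2881 (j : ℕ) : ℕ := bif Nat.blt j 2880 then E_2879 else E_2880
def eT_2881_2883 (j : ℕ) : ℕ := bif Nat.blt j 2882 then E_2881 else E_2882
def eT_2879_2883 (j : ℕ) : ℕ := bif Nat.blt j 2881 then (eT_2879_2881 j) else (eT_2881_2883 j)
def eT_2883_2885 (j : ℕ) : ℕ := bif Nat.blt j 2884 then E_2883 else E_2884
def eT_2885_2887 (j : ℕ) : ℕ := bif Nat.blt j 2886 then E_2885 else E_2886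
def eT_2883_2887 (j : ℕ) : ℕ := bif Nat.blt j 2885 then (eT_2883_2885 j) else (eT_2885_2887 j)
def eT_2879_2887 (j : ℕ) : ℕ := bif Nat.blt j 2883 then (eT_2879_2883 j) else (eT_2883_2887 j)
def eT_2871_2887 (j : ℕ) : ℕ := bif Nat.blt j 2879 then (eT_2871_2879 j) else (eT_2879_2887 j)
def eT_2887_2889 (j : ℕ) : ℕ := bif Nat.blt j 2888 then E_2887 else E_2888
def eT_2889_2891 (j : ℕ) : ℕ := bif Nat.blt j 2890 then E_2889 else E_2890
def eT_2887_2891 (j : ℕ) : ℕ := bif Nat.blt j 2889 then (eT_2887_2889 j) else (eT_2889_2891 j)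
def eT_2891_2893 (j : ℕ) : ℕ := bif Nat.blt j 2892 then E_2891 else E_2892
def eT_2893_2895 (j : ℕ) : ℕ := bif Nat.blt j 2894 then E_2893 else E_2894
def eT_2891_2895 (j : ℕ) : ℕ := bif Nat.blt j 2893 then (eT_2891_2893 j) else (eT_2893_2895 j)
def eT_2887_2895 (j : ℕ) : ℕ := bif Nat.blt j 2891 then (eT_2887_2891 j) else (eT_2891_2895 j)
def eT_2895_2897 (j : ℕ) : ℕ := bif Nat.blt j 2896 then E_2895 else E_2896
def eT_2897_2899 (j : ℕ) : ℕ := bif Nat.blt j 2898 then E_2897 else E_2898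
def eT_2895_2899 (j : ℕ) : ℕ := bif Nat.blt j 2897 then (eT_2895_2897 j) else (eT_2897_2899 j)
def eT_2899_2901 (j : ℕ) : ℕ := bif Nat.blt j 2900 then E_2899 else E_2900
def eT_2902_2904 (j : ℕ) : ℕ := bif Nat.blt j 2903 then E_2902 else E_2903
def eT_2901_2904 (j : ℕ) : ℕ := bif Nat.blt j 2902 then E_2901 else (eT_2902_2904 j)
def eT_2899_2904 (j : ℕ) : ℕ := bif Nat.blt j 2901 then (eT_2899_2901 j) else (eT_2901_2904 j)
def eT_2895_2904 (j : ℕ) : ℕ := bif Nat.blt j 2899 then (eT_2895_2899 j) else (eT_2899_2904 j)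
def eT_2887_2904 (j : ℕ) : ℕ := bif Nat.blt j 2895 then (eT_2887_2895 j) else (eT_2895_2904 j)
def eT_2871_2904 (j : ℕ) : ℕ := bif Nat.blt j 2887 then (eT_2871_2887 j) else (eT_2887_2904 j)
def eT_2904_2906 (j : ℕ) : ℕ := bif Nat.blt j 2905 then E_2904 else E_2905
def eT_2906_2908 (j : ℕ) : ℕ := bif Nat.blt j 2907 then E_2906 else E_2907
def eT_2904_2908 (j : ℕ) : ℕ := bif Nat.blt j 2906 then (eT_2904_2906 j) else (eT_2906_2908 j)
def eT_2908_2910 (j : ℕ) : ℕ := bif Nat.blt j 2909 then E_2908 else E_2909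
def eT_2910_2912 (j : ℕ) : ℕ := bif Nat.blt j 2911 then E_2910 else E_2911
def eT_2908_2912 (j : ℕ) : ℕ := bif Nat.blt j 2910 then (eT_2908_2910 j) else (eT_2910_2912 j)
def eT_2904_2912 (j : ℕ) : ℕ := bif Nat.blt j 2908 then (eT_2904_2908 j) else (eT_2908_2912 j)
def eT_2912_2914 (j : ℕ) : ℕ := bif Nat.blt j 2913 then E_2912 else E_2913
def eT_2914_2916 (j : ℕ) : ℕ := bif Nat.blt j 2915 then E_2914 else E_2915
def eT_2912_2916 (j : ℕ) : ℕ := bif Nat.blt j 2914 then (eT_2912_2914 j) else (eT_2914_2916 j)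
def eT_2916_2918 (j : ℕ) : ℕ := bif Nat.blt j 2917 then E_2916 else E_2917
def eT_2919_2921 (j : ℕ) : ℕ := bif Nat.blt j 2920 then E_2919 else E_2920
def eT_2918_2921 (j : ℕ) : ℕ := bif Nat.blt j 2919 then E_2918 else (eT_2919_2921 j)
def eT_2916_2921 (j : ℕ) : ℕ := bif Nat.blt j 2918 then (eT_2916_2918 j) else (eT_2918_2921 j)
def eT_2912_2921 (j : ℕ) : ℕ := bif Nat.blt j 2916 then (eT_2912_2916 j) else (eT_2916_2921 j)
def eT_2904_2921 (j : ℕ) : ℕ := bif Nat.blt j 2912 then (eT_2904_2912 j) else (eT_2912_2921 j)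
def eT_2921_2923 (j : ℕ) : ℕ := bif Nat.blt j 2922 then E_2921 else E_2922
def eT_2923_2925 (j : ℕ) : ℕ := bif Nat.blt j 2924 then E_2923 else E_2924
def eT_2921_2925 (j : ℕ) : ℕ := bif Nat.blt j 2923 then (eT_2921_2923 j) else (eT_2923_2925 j)
def eT_2925_2927 (j : ℕ) : ℕ := bif Nat.blt j 2926 then E_2925 else E_2926
def eT_2927_2929 (j : ℕ) : ℕ := bif Nat.blt j 2928 then E_2927 else E_2928
def eT_2925_2929 (j : ℕ) : ℕ := bif Nat.blt j 2927 then (eT_2925_2927 j) else (eT_2927_2929 j)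
def eT_2921_2929 (j : ℕ) : ℕ := bif Nat.blt j 2925 then (eT_2921_2925 j) else (eT_2925_2929 j)
def eT_2929_2931 (j : ℕ) : ℕ := bif Nat.blt j 2930 then E_2929 else E_2930
def eT_2931_2933 (j : ℕ) : ℕ := bif Nat.blt j 2932 then E_2931 else E_2932
def eT_2929_2933 (j : ℕ) : ℕ := bif Nat.blt j 2931 then (eT_2929_2931 j) else (eT_2931_2933 j)
def eT_2933_2935 (j : ℕ) : ℕ := bif Nat.blt j 2934 then E_2933 else E_2934
def eT_2936_2938 (j : ℕ) : ℕ := bif Nat.blt j 2937 then E_2936 else E_2937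
def eT_2935_2938 (j : ℕ) : ℕ := bif Nat.blt j 2936 then E_2935 else (eT_2936_2938 j)
def eT_2933_2938 (j : ℕ) : ℕ := bif Nat.blt j 2935 then (eT_2933_2935 j) else (eT_2935_2938 j)
def eT_2929_2938 (j : ℕ) : ℕ := bif Nat.blt j 2933 then (eT_2929_2933 j) else (eT_2933_2938 j)
def eT_2921_2938 (j : ℕ) : ℕ := bif Nat.blt j 2929 then (eT_2921_2929 j) else (eT_2929_2938 j)
def eT_2904_2938 (j : ℕ) : ℕ := bif Nat.blt j 2921 then (eT_2904_2921 j) else (eT_2921_2938 j)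
def eT_2871_2938 (j : ℕ) : ℕ := bif Nat.blt j 2904 then (eT_2871_2904 j) else (eT_2904_2938 j)
def eT_2804_2938 (j : ℕ) : ℕ := bif Nat.blt j 2871 then (eT_2804_2871 j) else (eT_2871_2938 j)
def eT_2671_2938 (j : ℕ) : ℕ := bif Nat.blt j 2804 then (eT_2671_2804 j) else (eT_2804_2938 j)
def eT_2938_2940 (j : ℕ) : ℕ := bif Nat.blt j 2939 then E_2938 else E_2939
def eT_2940_2942 (j : ℕ) : ℕ := bif Nat.blt j 2941 then E_2940 else E_2941
def eT_2938_2942 (j : ℕ) : ℕ := bif Nat.blt j 2940 then (eT_2938_2940 j) else (eT_2940_2942 j)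
def eT_2942_2944 (j : ℕ) : ℕ := bif Nat.blt j 2943 then E_2942 else E_2943
def eT_2944_2946 (j : ℕ) : ℕ := bif Nat.blt j 2945 then E_2944 else E_2945
def eT_2942_2946 (j : ℕ) : ℕ := bif Nat.blt j 2944 then (eT_2942_2944 j) else (eT_2944_2946 j)
def eT_2938_2946 (j : ℕ) : ℕ := bif Nat.blt j 2942 then (eT_2938_2942 j) else (eT_2942_2946 j)
def eT_2946_2948 (j : ℕ) : ℕ := bif Nat.blt j 2947 then E_2946 else E_2947
def eT_2948_2950 (j : ℕ) : ℕ := bif Nat.blt j 2949 then E_2948 else E_2949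
def eT_2946_2950 (j : ℕ) : ℕ := bif Nat.blt j 2948 then (eT_2946_2948 j) else (eT_2948_2950 j)
def eT_2950_2952 (j : ℕ) : ℕ := bif Nat.blt j 2951 then E_2950 else E_2951
def eT_2952_2954 (j : ℕ) : ℕ := bif Nat.blt j 2953 then E_2952 else E_2953
def eT_2950_2954 (j : ℕ) : ℕ := bif Nat.blt j 2952 then (eT_2950_2952 j) else (eT_2952_2954 j)
def eT_2946_2954 (j : ℕ) : ℕ := bif Nat.blt j 2950 then (eT_2946_2950 j) else (eT_2950_2954 j)
def eT_2938_2954 (j : ℕ) : ℕ := bif Nat.blt j 2946 then (eT_2938_2946 j) else (eT_2946_2954 j)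
def eT_2954_2956 (j : ℕ) : ℕ := bif Nat.blt j 2955 then E_2954 else E_2955
def eT_2956_2958 (j : ℕ) : ℕ := bif Nat.blt j 2957 then E_2956 else E_2957
def eT_2954_2958 (j : ℕ) : ℕ := bif Nat.blt j 2956 then (eT_2954_2956 j) else (eT_2956_2958 j)
def eT_2958_2960 (j : ℕ) : ℕ := bif Nat.blt j 2959 then E_2958 else E_2959
def eT_2960_2962 (j : ℕ) : ℕ := bif Nat.blt j 2961 then E_2960 else E_2961
def eT_2958_2962 (j : ℕ) : ℕ := bif Nat.blt j 2960 then (eT_2958_2960 j) else (eT_2960_2962 j)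
def eT_2954_2962 (j : ℕ) : ℕ := bif Nat.blt j 2958 then (eT_2954_2958 j) else (eT_2958_2962 j)
def eT_2962_2964 (j : ℕ) : ℕ := bif Nat.blt j 2963 then E_2962 else E_2963
def eT_2964_2966 (j : ℕ) : ℕ := bif Nat.blt j 2965 then E_2964 else E_2965
def eT_2962_2966 (j : ℕ) : ℕ := bif Nat.blt j 2964 then (eT_2962_2964 j) else (eT_2964_2966 j)
def eT_2966_2968 (j : ℕ) : ℕ := bif Nat.blt j 2967 then E_2966 else E_2967
def eT_2969_2971 (j : ℕ) : ℕ := bif Nat.blt j 2970 then E_2969 else E_2970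
def eT_2968_2971 (j : ℕ) : ℕ := bif Nat.blt j 2969 then E_2968 else (eT_2969_2971 j)
def eT_2966_2971 (j : ℕ) : ℕ := bif Nat.blt j 2968 then (eT_2966_2968 j) else (eT_2968_2971 j)
def eT_2962_2971 (j : ℕ) : ℕ := bif Nat.blt j 2966 then (eT_2962_2966 j) else (eT_2966_2971 j)
def eT_2954_2971 (j : ℕ) : ℕ := bif Nat.blt j 2962 then (eT_2954_2962 j) else (eT_2962_2971 j)
def eT_2938_2971 (j : ℕ) : ℕ := bif Nat.blt j 2954 then (eT_2938_2954 j) else (eT_2954_2971 j)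
def eT_2971_2973 (j : ℕ) : ℕ := bif Nat.blt j 2972 then E_2971 else E_2972
def eT_2973_2975 (j : ℕ) : ℕ := bif Nat.blt j 2974 then E_2973 else E_2974
def eT_2971_2975 (j : ℕ) : ℕ := bif Nat.blt j 2973 then (eT_2971_2973 j) else (eT_2973_2975 j)
def eT_2975_2977 (j : ℕ) : ℕ := bif Nat.blt j 2976 then E_2975 else E_2976
def eT_2977_2979 (j : ℕ) : ℕ := bif Nat.blt j 2978 then E_2977 else E_2978
def eT_2975_2979 (j : ℕ) : ℕ := bif Nat.blt j 2977 then (eT_2975_2977 j) else (eT_2977_2979 j)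
def eT_2971_2979 (j : ℕ) : ℕ := bif Nat.blt j 2975 then (eT_2971_2975 j) else (eT_2975_2979 j)
def eT_2979_2981 (j : ℕ) : ℕ := bif Nat.blt j 2980 then E_2979 else E_2980
def eT_2981_2983 (j : ℕ) : ℕ := bif Nat.blt j 2982 then E_2981 else E_2982
def eT_2979_2983 (j : ℕ) : ℕ := bif Nat.blt j 2981 then (eT_2979_2981 j) else (eT_2981_2983 j)
def eT_2983_2985 (j : ℕ) : ℕ := bif Nat.blt j 2984 then E_2983 else E_2984
def eT_2986_2988 (j : ℕ) : ℕ := bif Nat.blt j 2987 then E_2986 else E_2987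
def eT_2985_2988 (j : ℕ) : ℕ := bif Nat.blt j 2986 then E_2985 else (eT_2986_2988 j)
def eT_2983_2988 (j : ℕ) : ℕ := bif Nat.blt j 2985 then (eT_2983_2985 j) else (eT_2985_2988 j)
def eT_2979_2988 (j : ℕ) : ℕ := bif Nat.blt j 2983 then (eT_2979_2983 j) else (eT_2983_2988 j)
def eT_2971_2988 (j : ℕ) : ℕ := bif Nat.blt j 2979 then (eT_2971_2979 j) else (eT_2979_2988 j)
def eT_2988_2990 (j : ℕ) : ℕ := bif Nat.blt j 2989 then E_2988 else E_2989
def eT_2990_2992 (j : ℕ) : ℕ := bif Nat.blt j 2991 then E_2990 else E_2991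
def eT_2988_2992 (j : ℕ) : ℕ := bif Nat.blt j 2990 then (eT_2988_2990 j) else (eT_2990_2992 j)
def eT_2992_2994 (j : ℕ) : ℕ := bif Nat.blt j 2993 then E_2992 else E_2993
def eT_2994_2996 (j : ℕ) : ℕ := bif Nat.blt j 2995 then E_2994 else E_2995
def eT_2992_2996 (j : ℕ) : ℕ := bif Nat.blt j 2994 then (eT_2992_2994 j) else (eT_2994_2996 j)
def eT_2988_2996 (j : ℕ) : ℕ := bif Nat.blt j 2992 then (eT_2988_2992 j) else (eT_2992_2996 j)
def eT_2996_2998 (j : ℕ) : ℕ := bif Nat.blt j 2997 then E_2996 else E_2997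
def eT_2998_3000 (j : ℕ) : ℕ := bif Nat.blt j 2999 then E_2998 else E_2999
def eT_2996_3000 (j : ℕ) : ℕ := bif Nat.blt j 2998 then (eT_2996_2998 j) else (eT_2998_3000 j)
def eT_3000_3002 (j : ℕ) : ℕ := bif Nat.blt j 3001 then E_3000 else E_3001
def eT_3003_3005 (j : ℕ) : ℕ := bif Nat.blt j 3004 then E_3003 else E_3004
def eT_3002_3005 (j : ℕ) : ℕ := bif Nat.blt j 3003 then E_3002 else (eT_3003_3005 j)
def eT_3000_3005 (j : ℕ) : ℕ := bif Nat.blt j 3002 then (eT_3000_3002 j) else (eT_3002_3005 j)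
def eT_2996_3005 (j : ℕ) : ℕ := bif Nat.blt j 3000 then (eT_2996_3000 j) else (eT_3000_3005 j)
def eT_2988_3005 (j : ℕ) : ℕ := bif Nat.blt j 2996 then (eT_2988_2996 j) else (eT_2996_3005 j)
def eT_2971_3005 (j : ℕ) : ℕ := bif Nat.blt j 2988 then (eT_2971_2988 j) else (eT_2988_3005 j)
def eT_2938_3005 (j : ℕ) : ℕ := bif Nat.blt j 2971 then (eT_2938_2971 j) else (eT_2971_3005 j)
def eT_3005_3007 (j : ℕ) : ℕ := bif Nat.blt j 3006 then E_3005 else E_3006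
def eT_3007_3009 (j : ℕ) : ℕ := bif Nat.blt j 3008 then E_3007 else E_3008
def eT_3005_3009 (j : ℕ) : ℕ := bif Nat.blt j 3007 then (eT_3005_3007 j) else (eT_3007_3009 j)
def eT_3009_3011 (j : ℕ) : ℕ := bif Nat.blt j 3010 then E_3009 else E_3010
def eT_3011_3013 (j : ℕ) : ℕ := bif Nat.blt j 3012 then E_3011 else E_3012
def eT_3009_3013 (j : ℕ) : ℕ := bif Nat.blt j 3011 then (eT_3009_3011 j) else (eT_3011_3013 j)
def eT_3005_3013 (j : ℕ) : ℕ := bif Nat.blt j 3009 then (eT_3005_3009 j) else (eT_3009_3013 j)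
def eT_3013_3015 (j : ℕ) : ℕ := bif Nat.blt j 3014 then E_3013 else E_3014
def eT_3015_3017 (j : ℕ) : ℕ := bif Nat.blt j 3016 then E_3015 else E_3016
def eT_3013_3017 (j : ℕ) : ℕ := bif Nat.blt j 3015 then (eT_3013_3015 j) else (eT_3015_3017 j)
def eT_3017_3019 (j : ℕ) : ℕ := bif Nat.blt j 3018 then E_3017 else E_3018
def eT_3019_3021 (j : ℕ) : ℕ := bif Nat.blt j 3020 then E_3019 else E_3020
def eT_3017_3021 (j : ℕ) : ℕ := bif Nat.blt j 3019 then (eT_3017_3019 j) else (eT_3019_3021 j)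
def eT_3013_3021 (j : ℕ) : ℕ := bif Nat.blt j 3017 then (eT_3013_3017 j) else (eT_3017_3021 j)
def eT_3005_3021 (j : ℕ) : ℕ := bif Nat.blt j 3013 then (eT_3005_3013 j) else (eT_3013_3021 j)
def eT_3021_3023 (j : ℕ) : ℕ := bif Nat.blt j 3022 then E_3021 else E_3022
def eT_3023_3025 (j : ℕ) : ℕ := bif Nat.blt j 3024 then E_3023 else E_3024
def eT_3021_3025 (j : ℕ) : ℕ := bif Nat.blt j 3023 then (eT_3021_3023 j) else (eT_3023_3025 j)
def eT_3025_3027 (j : ℕ) : ℕ := bif Nat.blt j 3026 then E_3025 else E_3026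
def eT_3027_3029 (j : ℕ) : ℕ := bif Nat.blt j 3028 then E_3027 else E_3028
def eT_3025_3029 (j : ℕ) : ℕ := bif Nat.blt j 3027 then (eT_3025_3027 j) else (eT_3027_3029 j)
def eT_3021_3029 (j : ℕ) : ℕ := bif Nat.blt j 3025 then (eT_3021_3025 j) else (eT_3025_3029 j)
def eT_3029_3031 (j : ℕ) : ℕ := bif Nat.blt j 3030 then E_3029 else E_3030
def eT_3031_3033 (j : ℕ) : ℕ := bif Nat.blt j 3032 then E_3031 else E_3032
def eT_3029_3033 (j : ℕ) : ℕ := bif Nat.blt j 3031 then (eT_3029_3031 j) else (eT_3031_3033 j)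
def eT_3033_3035 (j : ℕ) : ℕ := bif Nat.blt j 3034 then E_3033 else E_3034
def eT_3036_3038 (j : ℕ) : ℕ := bif Nat.blt j 3037 then E_3036 else E_3037
def eT_3035_3038 (j : ℕ) : ℕ := bif Nat.blt j 3036 then E_3035 else (eT_3036_3038 j)
def eT_3033_3038 (j : ℕ) : ℕ := bif Nat.blt j 3035 then (eT_3033_3035 j) else (eT_3035_3038 j)
def eT_3029_3038 (j : ℕ) : ℕ := bif Nat.blt j 3033 then (eT_3029_3033 j) else (eT_3033_3038 j)
def eT_3021_3038 (j : ℕ) : ℕ := bif Nat.blt j 3029 then (eT_3021_3029 j) else (eT_3029_3038 j)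
def eT_3005_3038 (j : ℕ) : ℕ := bif Nat.blt j 3021 then (eT_3005_3021 j) else (eT_3021_3038 j)
def eT_3038_3040 (j : ℕ) : ℕ := bif Nat.blt j 3039 then E_3038 else E_3039
def eT_3040_3042 (j : ℕ) : ℕ := bif Nat.blt j 3041 then E_3040 else E_3041
def eT_3038_3042 (j : ℕ) : ℕ := bif Nat.blt j 3040 then (eT_3038_3040 j) else (eT_3040_3042 j)
def eT_3042_3044 (j : ℕ) : ℕ := bif Nat.blt j 3043 then E_3042 else E_3043
def eT_3044_3046 (j : ℕ) : ℕ := bif Nat.blt j 3045 then E_3044 else E_3045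
def eT_3042_3046 (j : ℕ) : ℕ := bif Nat.blt j 3044 then (eT_3042_3044 j) else (eT_3044_3046 j)
def eT_3038_3046 (j : ℕ) : ℕ := bif Nat.blt j 3042 then (eT_3038_3042 j) else (eT_3042_3046 j)
def eT_3046_3048 (j : ℕ) : ℕ := bif Nat.blt j 3047 then E_3046 else E_3047
def eT_3048_3050 (j : ℕ) : ℕ := bif Nat.blt j 3049 then E_3048 else E_3049
def eT_3046_3050 (j : ℕ) : ℕ := bif Nat.blt j 3048 then (eT_3046_3048 j) else (eT_3048_3050 j)
def eT_3050_3052 (j : ℕ) : ℕ := bif Nat.blt j 3051 then E_3050 else E_3051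
def eT_3053_3055 (j : ℕ) : ℕ := bif Nat.blt j 3054 then E_3053 else E_3054
def eT_3052_3055 (j : ℕ) : ℕ := bif Nat.blt j 3053 then E_3052 else (eT_3053_3055 j)
def eT_3050_3055 (j : ℕ) : ℕ := bif Nat.blt j 3052 then (eT_3050_3052 j) else (eT_3052_3055 j)
def eT_3046_3055 (j : ℕ) : ℕ := bif Nat.blt j 3050 then (eT_3046_3050 j) else (eT_3050_3055 j)
def eT_3038_3055 (j : ℕ) : ℕ := bif Nat.blt j 3046 then (eT_3038_3046 j) else (eT_3046_3055 j)
def eT_3055_3057 (j : ℕ) : ℕ := bif Nat.blt j 3056 then E_3055 else E_3056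
def eT_3057_3059 (j : ℕ) : ℕ := bif Nat.blt j 3058 then E_3057 else E_3058
def eT_3055_3059 (j : ℕ) : ℕ := bif Nat.blt j 3057 then (eT_3055_3057 j) else (eT_3057_3059 j)
def eT_3059_3061 (j : ℕ) : ℕ := bif Nat.blt j 3060 then E_3059 else E_3060
def eT_3061_3063 (j : ℕ) : ℕ := bif Nat.blt j 3062 then E_3061 else E_3062
def eT_3059_3063 (j : ℕ) : ℕ := bif Nat.blt j 3061 then (eT_3059_3061 j) else (eT_3061_3063 j)
def eT_3055_3063 (j : ℕ) : ℕ := bif Nat.blt j 3059 then (eT_3055_3059 j) else (eT_3059_3063 j)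
def eT_3063_3065 (j : ℕ) : ℕ := bif Nat.blt j 3064 then E_3063 else E_3064
def eT_3065_3067 (j : ℕ) : ℕ := bif Nat.blt j 3066 then E_3065 else E_3066
def eT_3063_3067 (j : ℕ) : ℕ := bif Nat.blt j 3065 then (eT_3063_3065 j) else (eT_3065_3067 j)
def eT_3067_3069 (j : ℕ) : ℕ := bif Nat.blt j 3068 then E_3067 else E_3068
def eT_3070_3072 (j : ℕ) : ℕ := bif Nat.blt j 3071 then E_3070 else E_3071
def eT_3069_3072 (j : ℕ) : ℕ := bif Nat.blt j 3070 then E_3069 else (eT_3070_3072 j)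
def eT_3067_3072 (j : ℕ) : ℕ := bif Nat.blt j 3069 then (eT_3067_3069 j) else (eT_3069_3072 j)
def eT_3063_3072 (j : ℕ) : ℕ := bif Nat.blt j 3067 then (eT_3063_3067 j) else (eT_3067_3072 j)
def eT_3055_3072 (j : ℕ) : ℕ := bif Nat.blt j 3063 then (eT_3055_3063 j) else (eT_3063_3072 j)
def eT_3038_3072 (j : ℕ) : ℕ := bif Nat.blt j 3055 then (eT_3038_3055 j) else (eT_3055_3072 j)
def eT_3005_3072 (j : ℕ) : ℕ := bif Nat.blt j 3038 then (eT_3005_3038 j) else (eT_3038_3072 j)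
def eT_2938_3072 (j : ℕ) : ℕ := bif Nat.blt j 3005 then (eT_2938_3005 j) else (eT_3005_3072 j)
def eT_3072_3074 (j : ℕ) : ℕ := bif Nat.blt j 3073 then E_3072 else E_3073
def eT_3074_3076 (j : ℕ) : ℕ := bif Nat.blt j 3075 then E_3074 else E_3075
def eT_3072_3076 (j : ℕ) : ℕ := bif Nat.blt j 3074 then (eT_3072_3074 j) else (eT_3074_3076 j)
def eT_3076_3078 (j : ℕ) : ℕ := bif Nat.blt j 3077 then E_3076 else E_3077
def eT_3078_3080 (j : ℕ) : ℕ := bif Nat.blt j 3079 then E_3078 else E_3079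
def eT_3076_3080 (j : ℕ) : ℕ := bif Nat.blt j 3078 then (eT_3076_3078 j) else (eT_3078_3080 j)
def eT_3072_3080 (j : ℕ) : ℕ := bif Nat.blt j 3076 then (eT_3072_3076 j) else (eT_3076_3080 j)
def eT_3080_3082 (j : ℕ) : ℕ := bif Nat.blt j 3081 then E_3080 else E_3081
def eT_3082_3084 (j : ℕ) : ℕ := bif Nat.blt j 3083 then E_3082 else E_3083
def eT_3080_3084 (j : ℕ) : ℕ := bif Nat.blt j 3082 then (eT_3080_3082 j) else (eT_3082_3084 j)
def eT_3084_3086 (j : ℕ) : ℕ := bif Nat.blt j 3085 then E_3084 else E_3085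
def eT_3086_3088 (j : ℕ) : ℕ := bif Nat.blt j 3087 then E_3086 else E_3087
def eT_3084_3088 (j : ℕ) : ℕ := bif Nat.blt j 3086 then (eT_3084_3086 j) else (eT_3086_3088 j)
def eT_3080_3088 (j : ℕ) : ℕ := bif Nat.blt j 3084 then (eT_3080_3084 j) else (eT_3084_3088 j)
def eT_3072_3088 (j : ℕ) : ℕ := bif Nat.blt j 3080 then (eT_3072_3080 j) else (eT_3080_3088 j)
def eT_3088_3090 (j : ℕ) : ℕ := bif Nat.blt j 3089 then E_3088 else E_3089
def eT_3090_3092 (j : ℕ) : ℕ := bif Nat.blt j 3091 then E_3090 else E_3091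
def eT_3088_3092 (j : ℕ) : ℕ := bif Nat.blt j 3090 then (eT_3088_3090 j) else (eT_3090_3092 j)
def eT_3092_3094 (j : ℕ) : ℕ := bif Nat.blt j 3093 then E_3092 else E_3093
def eT_3094_3096 (j : ℕ) : ℕ := bif Nat.blt j 3095 then E_3094 else E_3095
def eT_3092_3096 (j : ℕ) : ℕ := bif Nat.blt j 3094 then (eT_3092_3094 j) else (eT_3094_3096 j)
def eT_3088_3096 (j : ℕ) : ℕ := bif Nat.blt j 3092 then (eT_3088_3092 j) else (eT_3092_3096 j)
def eT_3096_3098 (j : ℕ) : ℕ := bif Nat.blt j 3097 then E_3096 else E_3097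
def eT_3098_3100 (j : ℕ) : ℕ := bif Nat.blt j 3099 then E_3098 else E_3099
def eT_3096_3100 (j : ℕ) : ℕ := bif Nat.blt j 3098 then (eT_3096_3098 j) else (eT_3098_3100 j)
def eT_3100_3102 (j : ℕ) : ℕ := bif Nat.blt j 3101 then E_3100 else E_3101
def eT_3103_3105 (j : ℕ) : ℕ := bif Nat.blt j 3104 then E_3103 else E_3104
def eT_3102_3105 (j : ℕ) : ℕ := bif Nat.blt j 3103 then E_3102 else (eT_3103_3105 j)
def eT_3100_3105 (j : ℕ) : ℕ := bif Nat.blt j 3102 then (eT_3100_3102 j) else (eT_3102_3105 j)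
def eT_3096_3105 (j : ℕ) : ℕ := bif Nat.blt j 3100 then (eT_3096_3100 j) else (eT_3100_3105 j)
def eT_3088_3105 (j : ℕ) : ℕ := bif Nat.blt j 3096 then (eT_3088_3096 j) else (eT_3096_3105 j)
def eT_3072_3105 (j : ℕ) : ℕ := bif Nat.blt j 3088 then (eT_3072_3088 j) else (eT_3088_3105 j)
def eT_3105_3107 (j : ℕ) : ℕ := bif Nat.blt j 3106 then E_3105 else E_3106
def eT_3107_3109 (j : ℕ) : ℕ := bif Nat.blt j 3108 then E_3107 else E_3108
def eT_3105_3109 (j : ℕ) : ℕ := bif Nat.blt j 3107 then (eT_3105_3107 j) else (eT_3107_3109 j)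
def eT_3109_3111 (j : ℕ) : ℕ := bif Nat.blt j 3110 then E_3109 else E_3110
def eT_3111_3113 (j : ℕ) : ℕ := bif Nat.blt j 3112 then E_3111 else E_3112
def eT_3109_3113 (j : ℕ) : ℕ := bif Nat.blt j 3111 then (eT_3109_3111 j) else (eT_3111_3113 j)
def eT_3105_3113 (j : ℕ) : ℕ := bif Nat.blt j 3109 then (eT_3105_3109 j) else (eT_3109_3113 j)
def eT_3113_3115 (j : ℕ) : ℕ := bif Nat.blt j 3114 then E_3113 else E_3114
def eT_3115_3117 (j : ℕ) : ℕ := bif Nat.blt j 3116 then E_3115 else E_3116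
def eT_3113_3117 (j : ℕ) : ℕ := bif Nat.blt j 3115 then (eT_3113_3115 j) else (eT_3115_3117 j)
def eT_3117_3119 (j : ℕ) : ℕ := bif Nat.blt j 3118 then E_3117 else E_3118
def eT_3120_3122 (j : ℕ) : ℕ := bif Nat.blt j 3121 then E_3120 else E_3121
def eT_3119_3122 (j : ℕ) : ℕ := bif Nat.blt j 3120 then E_3119 else (eT_3120_3122 j)
def eT_3117_3122 (j : ℕ) : ℕ := bif Nat.blt j 3119 then (eT_3117_3119 j) else (eT_3119_3122 j)
def eT_3113_3122 (j : ℕ) : ℕ := bif Nat.blt j 3117 then (eT_3113_3117 j) else (eT_3117_3122 j)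
def eT_3105_3122 (j : ℕ) : ℕ := bif Nat.blt j 3113 then (eT_3105_3113 j) else (eT_3113_3122 j)
def eT_3122_3124 (j : ℕ) : ℕ := bif Nat.blt j 3123 then E_3122 else E_3123
def eT_3124_3126 (j : ℕ) : ℕ := bif Nat.blt j 3125 then E_3124 else E_3125
def eT_3122_3126 (j : ℕ) : ℕ := bif Nat.blt j 3124 then (eT_3122_3124 j) else (eT_3124_3126 j)
def eT_3126_3128 (j : ℕ) : ℕ := bif Nat.blt j 3127 then E_3126 else E_3127
def eT_3128_3130 (j : ℕ) : ℕ := bif Nat.blt j 3129 then E_3128 else E_3129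
def eT_3126_3130 (j : ℕ) : ℕ := bif Nat.blt j 3128 then (eT_3126_3128 j) else (eT_3128_3130 j)
def eT_3122_3130 (j : ℕ) : ℕ := bif Nat.blt j 3126 then (eT_3122_3126 j) else (eT_3126_3130 j)
def eT_3130_3132 (j : ℕ) : ℕ := bif Nat.blt j 3131 then E_3130 else E_3131
def eT_3132_3134 (j : ℕ) : ℕ := bif Nat.blt j 3133 then E_3132 else E_3133
def eT_3130_3134 (j : ℕ) : ℕ := bif Nat.blt j 3132 then (eT_3130_3132 j) else (eT_3132_3134 j)
def eT_3134_3136 (j : ℕ) : ℕ := bif Nat.blt j 3135 then E_3134 else E_3135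
def eT_3137_3139 (j : ℕ) : ℕ := bif Nat.blt j 3138 then E_3137 else E_3138
def eT_3136_3139 (j : ℕ) : ℕ := bif Nat.blt j 3137 then E_3136 else (eT_3137_3139 j)
def eT_3134_3139 (j : ℕ) : ℕ := bif Nat.blt j 3136 then (eT_3134_3136 j) else (eT_3136_3139 j)
def eT_3130_3139 (j : ℕ) : ℕ := bif Nat.blt j 3134 then (eT_3130_3134 j) else (eT_3134_3139 j)
def eT_3122_3139 (j : ℕ) : ℕ := bif Nat.blt j 3130 then (eT_3122_3130 j) else (eT_3130_3139 j)
def eT_3105_3139 (j : ℕ) : ℕ := bif Nat.blt j 3122 then (eT_3105_3122 j) else (eT_3122_3139 j)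
def eT_3072_3139 (j : ℕ) : ℕ := bif Nat.blt j 3105 then (eT_3072_3105 j) else (eT_3105_3139 j)
def eT_3139_3141 (j : ℕ) : ℕ := bif Nat.blt j 3140 then E_3139 else E_3140
def eT_3141_3143 (j : ℕ) : ℕ := bif Nat.blt j 3142 then E_3141 else E_3142
def eT_3139_3143 (j : ℕ) : ℕ := bif Nat.blt j 3141 then (eT_3139_3141 j) else (eT_3141_3143 j)
def eT_3143_3145 (j : ℕ) : ℕ := bif Nat.blt j 3144 then E_3143 else E_3144
def eT_3145_3147 (j : ℕ) : ℕ := bif Nat.blt j 3146 then E_3145 else E_3146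
def eT_3143_3147 (j : ℕ) : ℕ := bif Nat.blt j 3145 then (eT_3143_3145 j) else (eT_3145_3147 j)
def eT_3139_3147 (j : ℕ) : ℕ := bif Nat.blt j 3143 then (eT_3139_3143 j) else (eT_3143_3147 j)
def eT_3147_3149 (j : ℕ) : ℕ := bif Nat.blt j 3148 then E_3147 else E_3148
def eT_3149_3151 (j : ℕ) : ℕ := bif Nat.blt j 3150 then E_3149 else E_3150
def eT_3147_3151 (j : ℕ) : ℕ := bif Nat.blt j 3149 then (eT_3147_3149 j) else (eT_3149_3151 j)
def eT_3151_3153 (j : ℕ) : ℕ := bif Nat.blt j 3152 then E_3151 else E_3152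
def eT_3153_3155 (j : ℕ) : ℕ := bif Nat.blt j 3154 then E_3153 else E_3154
def eT_3151_3155 (j : ℕ) : ℕ := bif Nat.blt j 3153 then (eT_3151_3153 j) else (eT_3153_3155 j)
def eT_3147_3155 (j : ℕ) : ℕ := bif Nat.blt j 3151 then (eT_3147_3151 j) else (eT_3151_3155 j)
def eT_3139_3155 (j : ℕ) : ℕ := bif Nat.blt j 3147 then (eT_3139_3147 j) else (eT_3147_3155 j)
def eT_3155_3157 (j : ℕ) : ℕ := bif Nat.blt j 3156 then E_3155 else E_3156
def eT_3157_3159 (j : ℕ) : ℕ := bif Nat.blt j 3158 then E_3157 else E_3158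
def eT_3155_3159 (j : ℕ) : ℕ := bif Nat.blt j 3157 then (eT_3155_3157 j) else (eT_3157_3159 j)
def eT_3159_3161 (j : ℕ) : ℕ := bif Nat.blt j 3160 then E_3159 else E_3160
def eT_3161_3163 (j : ℕ) : ℕ := bif Nat.blt j 3162 then E_3161 else E_3162
def eT_3159_3163 (j : ℕ) : ℕ := bif Nat.blt j 3161 then (eT_3159_3161 j) else (eT_3161_3163 j)
def eT_3155_3163 (j : ℕ) : ℕ := bif Nat.blt j 3159 then (eT_3155_3159 j) else (eT_3159_3163 j)
def eT_3163_3165 (j : ℕ) : ℕ := bif Nat.blt j 3164 then E_3163 else E_3164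
def eT_3165_3167 (j : ℕ) : ℕ := bif Nat.blt j 3166 then E_3165 else E_3166
def eT_3163_3167 (j : ℕ) : ℕ := bif Nat.blt j 3165 then (eT_3163_3165 j) else (eT_3165_3167 j)
def eT_3167_3169 (j : ℕ) : ℕ := bif Nat.blt j 3168 then E_3167 else E_3168
def eT_3170_3172 (j : ℕ) : ℕ := bif Nat.blt j 3171 then E_3170 else E_3171
def eT_3169_3172 (j : ℕ) : ℕ := bif Nat.blt j 3170 then E_3169 else (eT_3170_3172 j)
def eT_3167_3172 (j : ℕ) : ℕ := bif Nat.blt j 3169 then (eT_3167_3169 j) else (eT_3169_3172 j)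
def eT_3163_3172 (j : ℕ) : ℕ := bif Nat.blt j 3167 then (eT_3163_3167 j) else (eT_3167_3172 j)
def eT_3155_3172 (j : ℕ) : ℕ := bif Nat.blt j 3163 then (eT_3155_3163 j) else (eT_3163_3172 j)
def eT_3139_3172 (j : ℕ) : ℕ := bif Nat.blt j 3155 then (eT_3139_3155 j) else (eT_3155_3172 j)
def eT_3172_3174 (j : ℕ) : ℕ := bif Nat.blt j 3173 then E_3172 else E_3173
def eT_3174_3176 (j : ℕ) : ℕ := bif Nat.blt j 3175 then E_3174 else E_3175
def eT_3172_3176 (j : ℕ) : ℕ := bif Nat.blt j 3174 then (eT_3172_3174 j) else (eT_3174_3176 j)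
def eT_3176_3178 (j : ℕ) : ℕ := bif Nat.blt j 3177 then E_3176 else E_3177
def eT_3178_3180 (j : ℕ) : ℕ := bif Nat.blt j 3179 then E_3178 else E_3179
def eT_3176_3180 (j : ℕ) : ℕ := bif Nat.blt j 3178 then (eT_3176_3178 j) else (eT_3178_3180 j)
def eT_3172_3180 (j : ℕ) : ℕ := bif Nat.blt j 3176 then (eT_3172_3176 j) else (eT_3176_3180 j)
def eT_3180_3182 (j : ℕ) : ℕ := bif Nat.blt j 3181 then E_3180 else E_3181
def eT_3182_3184 (j : ℕ) : ℕ := bif Nat.blt j 3183 then E_3182 else E_3183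
def eT_3180_3184 (j : ℕ) : ℕ := bif Nat.blt j 3182 then (eT_3180_3182 j) else (eT_3182_3184 j)
def eT_3184_3186 (j : ℕ) : ℕ := bif Nat.blt j 3185 then E_3184 else E_3185
def eT_3187_3189 (j : ℕ) : ℕ := bif Nat.blt j 3188 then E_3187 else E_3188
def eT_3186_3189 (j : ℕ) : ℕ := bif Nat.blt j 3187 then E_3186 else (eT_3187_3189 j)
def eT_3184_3189 (j : ℕ) : ℕ := bif Nat.blt j 3186 then (eT_3184_3186 j) else (eT_3186_3189 j)
def eT_3180_3189 (j : ℕ) : ℕ := bif Nat.blt j 3184 then (eT_3180_3184 j) else (eT_3184_3189 j)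
def eT_3172_3189 (j : ℕ) : ℕ := bif Nat.blt j 3180 then (eT_3172_3180 j) else (eT_3180_3189 j)
def eT_3189_3191 (j : ℕ) : ℕ := bif Nat.blt j 3190 then E_3189 else E_3190
def eT_3191_3193 (j : ℕ) : ℕ := bif Nat.blt j 3192 then E_3191 else E_3192
def eT_3189_3193 (j : ℕ) : ℕ := bif Nat.blt j 3191 then (eT_3189_3191 j) else (eT_3191_3193 j)
def eT_3193_3195 (j : ℕ) : ℕ := bif Nat.blt j 3194 then E_3193 else E_3194
def eT_3195_3197 (j : ℕ) : ℕ := bif Nat.blt j 3196 then E_3195 else E_3196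
def eT_3193_3197 (j : ℕ) : ℕ := bif Nat.blt j 3195 then (eT_3193_3195 j) else (eT_3195_3197 j)
def eT_3189_3197 (j : ℕ) : ℕ := bif Nat.blt j 3193 then (eT_3189_3193 j) else (eT_3193_3197 j)
def eT_3197_3199 (j : ℕ) : ℕ := bif Nat.blt j 3198 then E_3197 else E_3198
def eT_3199_3201 (j : ℕ) : ℕ := bif Nat.blt j 3200 then E_3199 else E_3200
def eT_3197_3201 (j : ℕ) : ℕ := bif Nat.blt j 3199 then (eT_3197_3199 j) else (eT_3199_3201 j)
def eT_3201_3203 (j : ℕ) : ℕ := bif Nat.blt j 3202 then E_3201 else E_3202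
def eT_3204_3206 (j : ℕ) : ℕ := bif Nat.blt j 3205 then E_3204 else E_3205
def eT_3203_3206 (j : ℕ) : ℕ := bif Nat.blt j 3204 then E_3203 else (eT_3204_3206 j)
def eT_3201_3206 (j : ℕ) : ℕ := bif Nat.blt j 3203 then (eT_3201_3203 j) else (eT_3203_3206 j)
def eT_3197_3206 (j : ℕ) : ℕ := bif Nat.blt j 3201 then (eT_3197_3201 j) else (eT_3201_3206 j)
def eT_3189_3206 (j : ℕ) : ℕ := bif Nat.blt j 3197 then (eT_3189_3197 j) else (eT_3197_3206 j)
def eT_3172_3206 (j : ℕ) : ℕ := bif Nat.blt j 3189 then (eT_3172_3189 j) else (eT_3189_3206 j)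
def eT_3139_3206 (j : ℕ) : ℕ := bif Nat.blt j 3172 then (eT_3139_3172 j) else (eT_3172_3206 j)
def eT_3072_3206 (j : ℕ) : ℕ := bif Nat.blt j 3139 then (eT_3072_3139 j) else (eT_3139_3206 j)
def eT_2938_3206 (j : ℕ) : ℕ := bif Nat.blt j 3072 then (eT_2938_3072 j) else (eT_3072_3206 j)
def eT_2671_3206 (j : ℕ) : ℕ := bif Nat.blt j 2938 then (eT_2671_2938 j) else (eT_2938_3206 j)
def eT_2137_3206 (j : ℕ) : ℕ := bif Nat.blt j 2671 then (eT_2137_2671 j) else (eT_2671_3206 j)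
def eT_3206_3208 (j : ℕ) : ℕ := bif Nat.blt j 3207 then E_3206 else E_3207
def eT_3208_3210 (j : ℕ) : ℕ := bif Nat.blt j 3209 then E_3208 else E_3209
def eT_3206_3210 (j : ℕ) : ℕ := bif Nat.blt j 3208 then (eT_3206_3208 j) else (eT_3208_3210 j)
def eT_3210_3212 (j : ℕ) : ℕ := bif Nat.blt j 3211 then E_3210 else E_3211
def eT_3212_3214 (j : ℕ) : ℕ := bif Nat.blt j 3213 then E_3212 else E_3213
def eT_3210_3214 (j : ℕ) : ℕ := bif Nat.blt j 3212 then (eT_3210_3212 j) else (eT_3212_3214 j)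
def eT_3206_3214 (j : ℕ) : ℕ := bif Nat.blt j 3210 then (eT_3206_3210 j) else (eT_3210_3214 j)
def eT_3214_3216 (j : ℕ) : ℕ := bif Nat.blt j 3215 then E_3214 else E_3215
def eT_3216_3218 (j : ℕ) : ℕ := bif Nat.blt j 3217 then E_3216 else E_3217
def eT_3214_3218 (j : ℕ) : ℕ := bif Nat.blt j 3216 then (eT_3214_3216 j) else (eT_3216_3218 j)
def eT_3218_3220 (j : ℕ) : ℕ := bif Nat.blt j 3219 then E_3218 else E_3219
def eT_3220_3222 (j : ℕ) : ℕ := bif Nat.blt j 3221 then E_3220 else E_3221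
def eT_3218_3222 (j : ℕ) : ℕ := bif Nat.blt j 3220 then (eT_3218_3220 j) else (eT_3220_3222 j)
def eT_3214_3222 (j : ℕ) : ℕ := bif Nat.blt j 3218 then (eT_3214_3218 j) else (eT_3218_3222 j)
def eT_3206_3222 (j : ℕ) : ℕ := bif Nat.blt j 3214 then (eT_3206_3214 j) else (eT_3214_3222 j)
def eT_3222_3224 (j : ℕ) : ℕ := bif Nat.blt j 3223 then E_3222 else E_3223
def eT_3224_3226 (j : ℕ) : ℕ := bif Nat.blt j 3225 then E_3224 else E_3225
def eT_3222_3226 (j : ℕ) : ℕ := bif Nat.blt j 3224 then (eT_3222_3224 j) else (eT_3224_3226 j)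
def eT_3226_3228 (j : ℕ) : ℕ := bif Nat.blt j 3227 then E_3226 else E_3227
def eT_3228_3230 (j : ℕ) : ℕ := bif Nat.blt j 3229 then E_3228 else E_3229
def eT_3226_3230 (j : ℕ) : ℕ := bif Nat.blt j 3228 then (eT_3226_3228 j) else (eT_3228_3230 j)
def eT_3222_3230 (j : ℕ) : ℕ := bif Nat.blt j 3226 then (eT_3222_3226 j) else (eT_3226_3230 j)
def eT_3230_3232 (j : ℕ) : ℕ := bif Nat.blt j 3231 then E_3230 else E_3231
def eT_3232_3234 (j : ℕ) : ℕ := bif Nat.blt j 3233 then E_3232 else E_3233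
def eT_3230_3234 (j : ℕ) : ℕ := bif Nat.blt j 3232 then (eT_3230_3232 j) else (eT_3232_3234 j)
def eT_3234_3236 (j : ℕ) : ℕ := bif Nat.blt j 3235 then E_3234 else E_3235
def eT_3237_3239 (j : ℕ) : ℕ := bif Nat.blt j 3238 then E_3237 else E_3238
def eT_3236_3239 (j : ℕ) : ℕ := bif Nat.blt j 3237 then E_3236 else (eT_3237_3239 j)
def eT_3234_3239 (j : ℕ) : ℕ := bif Nat.blt j 3236 then (eT_3234_3236 j) else (eT_3236_3239 j)
def eT_3230_3239 (j : ℕ) : ℕ := bif Nat.blt j 3234 then (eT_3230_3234 j) else (eT_3234_3239 j)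
def eT_3222_3239 (j : ℕ) : ℕ := bif Nat.blt j 3230 then (eT_3222_3230 j) else (eT_3230_3239 j)
def eT_3206_3239 (j : ℕ) : ℕ := bif Nat.blt j 3222 then (eT_3206_3222 j) else (eT_3222_3239 j)
def eT_3239_3241 (j : ℕ) : ℕ := bif Nat.blt j 3240 then E_3239 else E_3240
def eT_3241_3243 (j : ℕ) : ℕ := bif Nat.blt j 3242 then E_3241 else E_3242
def eT_3239_3243 (j : ℕ) : ℕ := bif Nat.blt j 3241 then (eT_3239_3241 j) else (eT_3241_3243 j)
def eT_3243_3245 (j : ℕ) : ℕ := bif Nat.blt j 3244 then E_3243 else E_3244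
def eT_3245_3247 (j : ℕ) : ℕ := bif Nat.blt j 3246 then E_3245 else E_3246
def eT_3243_3247 (j : ℕ) : ℕ := bif Nat.blt j 3245 then (eT_3243_3245 j) else (eT_3245_3247 j)
def eT_3239_3247 (j : ℕ) : ℕ := bif Nat.blt j 3243 then (eT_3239_3243 j) else (eT_3243_3247 j)
def eT_3247_3249 (j : ℕ) : ℕ := bif Nat.blt j 3248 then E_3247 else E_3248
def eT_3249_3251 (j : ℕ) : ℕ := bif Nat.blt j 3250 then E_3249 else E_3250
def eT_3247_3251 (j : ℕ) : ℕ := bif Nat.blt j 3249 then (eT_3247_3249 j) else (eT_3249_3251 j)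
def eT_3251_3253 (j : ℕ) : ℕ := bif Nat.blt j 3252 then E_3251 else E_3252
def eT_3253_3255 (j : ℕ) : ℕ := bif Nat.blt j 3254 then E_3253 else E_3254
def eT_3251_3255 (j : ℕ) : ℕ := bif Nat.blt j 3253 then (eT_3251_3253 j) else (eT_3253_3255 j)
def eT_3247_3255 (j : ℕ) : ℕ := bif Nat.blt j 3251 then (eT_3247_3251 j) else (eT_3251_3255 j)
def eT_3239_3255 (j : ℕ) : ℕ := bif Nat.blt j 3247 then (eT_3239_3247 j) else (eT_3247_3255 j)
def eT_3255_3257 (j : ℕ) : ℕ := bif Nat.blt j 3256 then E_3255 else E_3256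
def eT_3257_3259 (j : ℕ) : ℕ := bif Nat.blt j 3258 then E_3257 else E_3258
def eT_3255_3259 (j : ℕ) : ℕ := bif Nat.blt j 3257 then (eT_3255_3257 j) else (eT_3257_3259 j)
def eT_3259_3261 (j : ℕ) : ℕ := bif Nat.blt j 3260 then E_3259 else E_3260
def eT_3261_3263 (j : ℕ) : ℕ := bif Nat.blt j 3262 then E_3261 else E_3262
def eT_3259_3263 (j : ℕ) : ℕ := bif Nat.blt j 3261 then (eT_3259_3261 j) else (eT_3261_3263 j)
def eT_3255_3263 (j : ℕ) : ℕ := bif Nat.blt j 3259 then (eT_3255_3259 j) else (eT_3259_3263 j)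
def eT_3263_3265 (j : ℕ) : ℕ := bif Nat.blt j 3264 then E_3263 else E_3264
def eT_3265_3267 (j : ℕ) : ℕ := bif Nat.blt j 3266 then E_3265 else E_3266
def eT_3263_3267 (j : ℕ) : ℕ := bif Nat.blt j 3265 then (eT_3263_3265 j) else (eT_3265_3267 j)
def eT_3267_3269 (j : ℕ) : ℕ := bif Nat.blt j 3268 then E_3267 else E_3268
def eT_3270_3272 (j : ℕ) : ℕ := bif Nat.blt j 3271 then E_3270 else E_3271
def eT_3269_3272 (j : ℕ) : ℕ := bif Nat.blt j 3270 then E_3269 else (eT_3270_3272 j)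
def eT_3267_3272 (j : ℕ) : ℕ := bif Nat.blt j 3269 then (eT_3267_3269 j) else (eT_3269_3272 j)
def eT_3263_3272 (j : ℕ) : ℕ := bif Nat.blt j 3267 then (eT_3263_3267 j) else (eT_3267_3272 j)
def eT_3255_3272 (j : ℕ) : ℕ := bif Nat.blt j 3263 then (eT_3255_3263 j) else (eT_3263_3272 j)
def eT_3239_3272 (j : ℕ) : ℕ := bif Nat.blt j 3255 then (eT_3239_3255 j) else (eT_3255_3272 j)
def eT_3206_3272 (j : ℕ) : ℕ := bif Nat.blt j 3239 then (eT_3206_3239 j) else (eT_3239_3272 j)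
def eT_3272_3274 (j : ℕ) : ℕ := bif Nat.blt j 3273 then E_3272 else E_3273
def eT_3274_3276 (j : ℕ) : ℕ := bif Nat.blt j 3275 then E_3274 else E_3275
def eT_3272_3276 (j : ℕ) : ℕ := bif Nat.blt j 3274 then (eT_3272_3274 j) else (eT_3274_3276 j)
def eT_3276_3278 (j : ℕ) : ℕ := bif Nat.blt j 3277 then E_3276 else E_3277
def eT_3278_3280 (j : ℕ) : ℕ := bif Nat.blt j 3279 then E_3278 else E_3279
def eT_3276_3280 (j : ℕ) : ℕ := bif Nat.blt j 3278 then (eT_3276_3278 j) else (eT_3278_3280 j)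
def eT_3272_3280 (j : ℕ) : ℕ := bif Nat.blt j 3276 then (eT_3272_3276 j) else (eT_3276_3280 j)
def eT_3280_3282 (j : ℕ) : ℕ := bif Nat.blt j 3281 then E_3280 else E_3281
def eT_3282_3284 (j : ℕ) : ℕ := bif Nat.blt j 3283 then E_3282 else E_3283
def eT_3280_3284 (j : ℕ) : ℕ := bif Nat.blt j 3282 then (eT_3280_3282 j) else (eT_3282_3284 j)
def eT_3284_3286 (j : ℕ) : ℕ := bif Nat.blt j 3285 then E_3284 else E_3285
def eT_3286_3288 (j : ℕ) : ℕ := bif Nat.blt j 3287 then E_3286 else E_3287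
def eT_3284_3288 (j : ℕ) : ℕ := bif Nat.blt j 3286 then (eT_3284_3286 j) else (eT_3286_3288 j)
def eT_3280_3288 (j : ℕ) : ℕ := bif Nat.blt j 3284 then (eT_3280_3284 j) else (eT_3284_3288 j)
def eT_3272_3288 (j : ℕ) : ℕ := bif Nat.blt j 3280 then (eT_3272_3280 j) else (eT_3280_3288 j)
def eT_3288_3290 (j : ℕ) : ℕ := bif Nat.blt j 3289 then E_3288 else E_3289
def eT_3290_3292 (j : ℕ) : ℕ := bif Nat.blt j 3291 then E_3290 else E_3291
def eT_3288_3292 (j : ℕ) : ℕ := bif Nat.blt j 3290 then (eT_3288_3290 j) else (eT_3290_3292 j)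
def eT_3292_3294 (j : ℕ) : ℕ := bif Nat.blt j 3293 then E_3292 else E_3293
def eT_3294_3296 (j : ℕ) : ℕ := bif Nat.blt j 3295 then E_3294 else E_3295
def eT_3292_3296 (j : ℕ) : ℕ := bif Nat.blt j 3294 then (eT_3292_3294 j) else (eT_3294_3296 j)
def eT_3288_3296 (j : ℕ) : ℕ := bif Nat.blt j 3292 then (eT_3288_3292 j) else (eT_3292_3296 j)
def eT_3296_3298 (j : ℕ) : ℕ := bif Nat.blt j 3297 then E_3296 else E_3297
def eT_3298_3300 (j : ℕ) : ℕ := bif Nat.blt j 3299 then E_3298 else E_3299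
def eT_3296_3300 (j : ℕ) : ℕ := bif Nat.blt j 3298 then (eT_3296_3298 j) else (eT_3298_3300 j)
def eT_3300_3302 (j : ℕ) : ℕ := bif Nat.blt j 3301 then E_3300 else E_3301
def eT_3303_3305 (j : ℕ) : ℕ := bif Nat.blt j 3304 then E_3303 else E_3304
def eT_3302_3305 (j : ℕ) : ℕ := bif Nat.blt j 3303 then E_3302 else (eT_3303_3305 j)
def eT_3300_3305 (j : ℕ) : ℕ := bif Nat.blt j 3302 then (eT_3300_3302 j) else (eT_3302_3305 j)
def eT_3296_3305 (j : ℕ) : ℕ := bif Nat.blt j 3300 then (eT_3296_3300 j) else (eT_3300_3305 j)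
def eT_3288_3305 (j : ℕ) : ℕ := bif Nat.blt j 3296 then (eT_3288_3296 j) else (eT_3296_3305 j)
def eT_3272_3305 (j : ℕ) : ℕ := bif Nat.blt j 3288 then (eT_3272_3288 j) else (eT_3288_3305 j)
def eT_3305_3307 (j : ℕ) : ℕ := bif Nat.blt j 3306 then E_3305 else E_3306
def eT_3307_3309 (j : ℕ) : ℕ := bif Nat.blt j 3308 then E_3307 else E_3308
def eT_3305_3309 (j : ℕ) : ℕ := bif Nat.blt j 3307 then (eT_3305_3307 j) else (eT_3307_3309 j)
def eT_3309_3311 (j : ℕ) : ℕ := bif Nat.blt j 3310 then E_3309 else E_3310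
def eT_3311_3313 (j : ℕ) : ℕ := bif Nat.blt j 3312 then E_3311 else E_3312
def eT_3309_3313 (j : ℕ) : ℕ := bif Nat.blt j 3311 then (eT_3309_3311 j) else (eT_3311_3313 j)
def eT_3305_3313 (j : ℕ) : ℕ := bif Nat.blt j 3309 then (eT_3305_3309 j) else (eT_3309_3313 j)
def eT_3313_3315 (j : ℕ) : ℕ := bif Nat.blt j 3314 then E_3313 else E_3314
def eT_3315_3317 (j : ℕ) : ℕ := bif Nat.blt j 3316 then E_3315 else E_3316
def eT_3313_3317 (j : ℕ) : ℕ := bif Nat.blt j 3315 then (eT_3313_3315 j) else (eT_3315_3317 j)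
def eT_3317_3319 (j : ℕ) : ℕ := bif Nat.blt j 3318 then E_3317 else E_3318
def eT_3320_3322 (j : ℕ) : ℕ := bif Nat.blt j 3321 then E_3320 else E_3321
def eT_3319_3322 (j : ℕ) : ℕ := bif Nat.blt j 3320 then E_3319 else (eT_3320_3322 j)
def eT_3317_3322 (j : ℕ) : ℕ := bif Nat.blt j 3319 then (eT_3317_3319 j) else (eT_3319_3322 j)
def eT_3313_3322 (j : ℕ) : ℕ := bif Nat.blt j 3317 then (eT_3313_3317 j) else (eT_3317_3322 j)
def eT_3305_3322 (j : ℕ) : ℕ := bif Nat.blt j 3313 then (eT_3305_3313 j) else (eT_3313_3322 j)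
def eT_3322_3324 (j : ℕ) : ℕ := bif Nat.blt j 3323 then E_3322 else E_3323
def eT_3324_3326 (j : ℕ) : ℕ := bif Nat.blt j 3325 then E_3324 else E_3325
def eT_3322_3326 (j : ℕ) : ℕ := bif Nat.blt j 3324 then (eT_3322_3324 j) else (eT_3324_3326 j)
def eT_3326_3328 (j : ℕ) : ℕ := bif Nat.blt j 3327 then E_3326 else E_3327
def eT_3328_3330 (j : ℕ) : ℕ := bif Nat.blt j 3329 then E_3328 else E_3329
def eT_3326_3330 (j : ℕ) : ℕ := bif Nat.blt j 3328 then (eT_3326_3328 j) else (eT_3328_3330 j)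
def eT_3322_3330 (j : ℕ) : ℕ := bif Nat.blt j 3326 then (eT_3322_3326 j) else (eT_3326_3330 j)
def eT_3330_3332 (j : ℕ) : ℕ := bif Nat.blt j 3331 then E_3330 else E_3331
def eT_3332_3334 (j : ℕ) : ℕ := bif Nat.blt j 3333 then E_3332 else E_3333
def eT_3330_3334 (j : ℕ) : ℕ := bif Nat.blt j 3332 then (eT_3330_3332 j) else (eT_3332_3334 j)
def eT_3334_3336 (j : ℕ) : ℕ := bif Nat.blt j 3335 then E_3334 else E_3335
def eT_3337_3339 (j : ℕ) : ℕ := bif Nat.blt j 3338 then E_3337 else E_3338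
def eT_3336_3339 (j : ℕ) : ℕ := bif Nat.blt j 3337 then E_3336 else (eT_3337_3339 j)
def eT_3334_3339 (j : ℕ) : ℕ := bif Nat.blt j 3336 then (eT_3334_3336 j) else (eT_3336_3339 j)
def eT_3330_3339 (j : ℕ) : ℕ := bif Nat.blt j 3334 then (eT_3330_3334 j) else (eT_3334_3339 j)
def eT_3322_3339 (j : ℕ) : ℕ := bif Nat.blt j 3330 then (eT_3322_3330 j) else (eT_3330_3339 j)
def eT_3305_3339 (j : ℕ) : ℕ := bif Nat.blt j 3322 then (eT_3305_3322 j) else (eT_3322_3339 j)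
def eT_3272_3339 (j : ℕ) : ℕ := bif Nat.blt j 3305 then (eT_3272_3305 j) else (eT_3305_3339 j)
def eT_3206_3339 (j : ℕ) : ℕ := bif Nat.blt j 3272 then (eT_3206_3272 j) else (eT_3272_3339 j)
def eT_3339_3341 (j : ℕ) : ℕ := bif Nat.blt j 3340 then E_3339 else E_3340
def eT_3341_3343 (j : ℕ) : ℕ := bif Nat.blt j 3342 then E_3341 else E_3342
def eT_3339_3343 (j : ℕ) : ℕ := bif Nat.blt j 3341 then (eT_3339_3341 j) else (eT_3341_3343 j)
def eT_3343_3345 (j : ℕ) : ℕ := bif Nat.blt j 3344 then E_3343 else E_3344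
def eT_3345_3347 (j : ℕ) : ℕ := bif Nat.blt j 3346 then E_3345 else E_3346
def eT_3343_3347 (j : ℕ) : ℕ := bif Nat.blt j 3345 then (eT_3343_3345 j) else (eT_3345_3347 j)
def eT_3339_3347 (j : ℕ) : ℕ := bif Nat.blt j 3343 then (eT_3339_3343 j) else (eT_3343_3347 j)
def eT_3347_3349 (j : ℕ) : ℕ := bif Nat.blt j 3348 then E_3347 else E_3348
def eT_3349_3351 (j : ℕ) : ℕ := bif Nat.blt j 3350 then E_3349 else E_3350
def eT_3347_3351 (j : ℕ) : ℕ := bif Nat.blt j 3349 then (eT_3347_3349 j) else (eT_3349_3351 j)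
def eT_3351_3353 (j : ℕ) : ℕ := bif Nat.blt j 3352 then E_3351 else E_3352
def eT_3353_3355 (j : ℕ) : ℕ := bif Nat.blt j 3354 then E_3353 else E_3354
def eT_3351_3355 (j : ℕ) : ℕ := bif Nat.blt j 3353 then (eT_3351_3353 j) else (eT_3353_3355 j)
def eT_3347_3355 (j : ℕ) : ℕ := bif Nat.blt j 3351 then (eT_3347_3351 j) else (eT_3351_3355 j)
def eT_3339_3355 (j : ℕ) : ℕ := bif Nat.blt j 3347 then (eT_3339_3347 j) else (eT_3347_3355 j)
def eT_3355_3357 (j : ℕ) : ℕ := bif Nat.blt j 3356 then E_3355 else E_3356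
def eT_3357_3359 (j : ℕ) : ℕ := bif Nat.blt j 3358 then E_3357 else E_3358
def eT_3355_3359 (j : ℕ) : ℕ := bif Nat.blt j 3357 then (eT_3355_3357 j) else (eT_3357_3359 j)
def eT_3359_3361 (j : ℕ) : ℕ := bif Nat.blt j 3360 then E_3359 else E_3360
def eT_3361_3363 (j : ℕ) : ℕ := bif Nat.blt j 3362 then E_3361 else E_3362
def eT_3359_3363 (j : ℕ) : ℕ := bif Nat.blt j 3361 then (eT_3359_3361 j) else (eT_3361_3363 j)
def eT_3355_3363 (j : ℕ) : ℕ := bif Nat.blt j 3359 then (eT_3355_3359 j) else (eT_3359_3363 j)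
def eT_3363_3365 (j : ℕ) : ℕ := bif Nat.blt j 3364 then E_3363 else E_3364
def eT_3365_3367 (j : ℕ) : ℕ := bif Nat.blt j 3366 then E_3365 else E_3366
def eT_3363_3367 (j : ℕ) : ℕ := bif Nat.blt j 3365 then (eT_3363_3365 j) else (eT_3365_3367 j)
def eT_3367_3369 (j : ℕ) : ℕ := bif Nat.blt j 3368 then E_3367 else E_3368
def eT_3370_3372 (j : ℕ) : ℕ := bif Nat.blt j 3371 then E_3370 else E_3371
def eT_3369_3372 (j : ℕ) : ℕ := bif Nat.blt j 3370 then E_3369 else (eT_3370_3372 j)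
def eT_3367_3372 (j : ℕ) : ℕ := bif Nat.blt j 3369 then (eT_3367_3369 j) else (eT_3369_3372 j)
def eT_3363_3372 (j : ℕ) : ℕ := bif Nat.blt j 3367 then (eT_3363_3367 j) else (eT_3367_3372 j)
def eT_3355_3372 (j : ℕ) : ℕ := bif Nat.blt j 3363 then (eT_3355_3363 j) else (eT_3363_3372 j)
def eT_3339_3372 (j : ℕ) : ℕ := bif Nat.blt j 3355 then (eT_3339_3355 j) else (eT_3355_3372 j)
def eT_3372_3374 (j : ℕ) : ℕ := bif Nat.blt j 3373 then E_3372 else E_3373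
def eT_3374_3376 (j : ℕ) : ℕ := bif Nat.blt j 3375 then E_3374 else E_3375
def eT_3372_3376 (j : ℕ) : ℕ := bif Nat.blt j 3374 then (eT_3372_3374 j) else (eT_3374_3376 j)
def eT_3376_3378 (j : ℕ) : ℕ := bif Nat.blt j 3377 then E_3376 else E_3377
def eT_3378_3380 (j : ℕ) : ℕ := bif Nat.blt j 3379 then E_3378 else E_3379
def eT_3376_3380 (j : ℕ) : ℕ := bif Nat.blt j 3378 then (eT_3376_3378 j) else (eT_3378_3380 j)
def eT_3372_3380 (j : ℕ) : ℕ := bif Nat.blt j 3376 then (eT_3372_3376 j) else (eT_3376_3380 j)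
def eT_3380_3382 (j : ℕ) : ℕ := bif Nat.blt j 3381 then E_3380 else E_3381
def eT_3382_3384 (j : ℕ) : ℕ := bif Nat.blt j 3383 then E_3382 else E_3383
def eT_3380_3384 (j : ℕ) : ℕ := bif Nat.blt j 3382 then (eT_3380_3382 j) else (eT_3382_3384 j)
def eT_3384_3386 (j : ℕ) : ℕ := bif Nat.blt j 3385 then E_3384 else E_3385
def eT_3387_3389 (j : ℕ) : ℕ := bif Nat.blt j 3388 then E_3387 else E_3388
def eT_3386_3389 (j : ℕ) : ℕ := bif Nat.blt j 3387 then E_3386 else (eT_3387_3389 j)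
def eT_3384_3389 (j : ℕ) : ℕ := bif Nat.blt j 3386 then (eT_3384_3386 j) else (eT_3386_3389 j)
def eT_3380_3389 (j : ℕ) : ℕ := bif Nat.blt j 3384 then (eT_3380_3384 j) else (eT_3384_3389 j)
def eT_3372_3389 (j : ℕ) : ℕ := bif Nat.blt j 3380 then (eT_3372_3380 j) else (eT_3380_3389 j)
def eT_3389_3391 (j : ℕ) : ℕ := bif Nat.blt j 3390 then E_3389 else E_3390
def eT_3391_3393 (j : ℕ) : ℕ := bif Nat.blt j 3392 then E_3391 else E_3392
def eT_3389_3393 (j : ℕ) : ℕ := bif Nat.blt j 3391 then (eT_3389_3391 j) else (eT_3391_3393 j)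
def eT_3393_3395 (j : ℕ) : ℕ := bif Nat.blt j 3394 then E_3393 else E_3394
def eT_3395_3397 (j : ℕ) : ℕ := bif Nat.blt j 3396 then E_3395 else E_3396
def eT_3393_3397 (j : ℕ) : ℕ := bif Nat.blt j 3395 then (eT_3393_3395 j) else (eT_3395_3397 j)
def eT_3389_3397 (j : ℕ) : ℕ := bif Nat.blt j 3393 then (eT_3389_3393 j) else (eT_3393_3397 j)
def eT_3397_3399 (j : ℕ) : ℕ := bif Nat.blt j 3398 then E_3397 else E_3398
def eT_3399_3401 (j : ℕ) : ℕ := bif Nat.blt j 3400 then E_3399 else E_3400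
def eT_3397_3401 (j : ℕ) : ℕ := bif Nat.blt j 3399 then (eT_3397_3399 j) else (eT_3399_3401 j)
def eT_3401_3403 (j : ℕ) : ℕ := bif Nat.blt j 3402 then E_3401 else E_3402
def eT_3404_3406 (j : ℕ) : ℕ := bif Nat.blt j 3405 then E_3404 else E_3405
def eT_3403_3406 (j : ℕ) : ℕ := bif Nat.blt j 3404 then E_3403 else (eT_3404_3406 j)
def eT_3401_3406 (j : ℕ) : ℕ := bif Nat.blt j 3403 then (eT_3401_3403 j) else (eT_3403_3406 j)
def eT_3397_3406 (j : ℕ) : ℕ := bif Nat.blt j 3401 then (eT_3397_3401 j) else (eT_3401_3406 j)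
def eT_3389_3406 (j : ℕ) : ℕ := bif Nat.blt j 3397 then (eT_3389_3397 j) else (eT_3397_3406 j)
def eT_3372_3406 (j : ℕ) : ℕ := bif Nat.blt j 3389 then (eT_3372_3389 j) else (eT_3389_3406 j)
def eT_3339_3406 (j : ℕ) : ℕ := bif Nat.blt j 3372 then (eT_3339_3372 j) else (eT_3372_3406 j)
def eT_3406_3408 (j : ℕ) : ℕ := bif Nat.blt j 3407 then E_3406 else E_3407
def eT_3408_3410 (j : ℕ) : ℕ := bif Nat.blt j 3409 then E_3408 else E_3409
def eT_3406_3410 (j : ℕ) : ℕ := bif Nat.blt j 3408 then (eT_3406_3408 j) else (eT_3408_3410 j)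
def eT_3410_3412 (j : ℕ) : ℕ := bif Nat.blt j 3411 then E_3410 else E_3411
def eT_3412_3414 (j : ℕ) : ℕ := bif Nat.blt j 3413 then E_3412 else E_3413
def eT_3410_3414 (j : ℕ) : ℕ := bif Nat.blt j 3412 then (eT_3410_3412 j) else (eT_3412_3414 j)
def eT_3406_3414 (j : ℕ) : ℕ := bif Nat.blt j 3410 then (eT_3406_3410 j) else (eT_3410_3414 j)
def eT_3414_3416 (j : ℕ) : ℕ := bif Nat.blt j 3415 then E_3414 else E_3415
def eT_3416_3418 (j : ℕ) : ℕ := bif Nat.blt j 3417 then E_3416 else E_3417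
def eT_3414_3418 (j : ℕ) : ℕ := bif Nat.blt j 3416 then (eT_3414_3416 j) else (eT_3416_3418 j)
def eT_3418_3420 (j : ℕ) : ℕ := bif Nat.blt j 3419 then E_3418 else E_3419
def eT_3420_3422 (j : ℕ) : ℕ := bif Nat.blt j 3421 then E_3420 else E_3421
def eT_3418_3422 (j : ℕ) : ℕ := bif Nat.blt j 3420 then (eT_3418_3420 j) else (eT_3420_3422 j)
def eT_3414_3422 (j : ℕ) : ℕ := bif Nat.blt j 3418 then (eT_3414_3418 j) else (eT_3418_3422 j)
def eT_3406_3422 (j : ℕ) : ℕ := bif Nat.blt j 3414 then (eT_3406_3414 j) else (eT_3414_3422 j)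
def eT_3422_3424 (j : ℕ) : ℕ := bif Nat.blt j 3423 then E_3422 else E_3423
def eT_3424_3426 (j : ℕ) : ℕ := bif Nat.blt j 3425 then E_3424 else E_3425
def eT_3422_3426 (j : ℕ) : ℕ := bif Nat.blt j 3424 then (eT_3422_3424 j) else (eT_3424_3426 j)
def eT_3426_3428 (j : ℕ) : ℕ := bif Nat.blt j 3427 then E_3426 else E_3427
def eT_3428_3430 (j : ℕ) : ℕ := bif Nat.blt j 3429 then E_3428 else E_3429
def eT_3426_3430 (j : ℕ) : ℕ := bif Nat.blt j 3428 then (eT_3426_3428 j) else (eT_3428_3430 j)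
def eT_3422_3430 (j : ℕ) : ℕ := bif Nat.blt j 3426 then (eT_3422_3426 j) else (eT_3426_3430 j)
def eT_3430_3432 (j : ℕ) : ℕ := bif Nat.blt j 3431 then E_3430 else E_3431
def eT_3432_3434 (j : ℕ) : ℕ := bif Nat.blt j 3433 then E_3432 else E_3433
def eT_3430_3434 (j : ℕ) : ℕ := bif Nat.blt j 3432 then (eT_3430_3432 j) else (eT_3432_3434 j)
def eT_3434_3436 (j : ℕ) : ℕ := bif Nat.blt j 3435 then E_3434 else E_3435
def eT_3437_3439 (j : ℕ) : ℕ := bif Nat.blt j 3438 then E_3437 else E_3438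
def eT_3436_3439 (j : ℕ) : ℕ := bif Nat.blt j 3437 then E_3436 else (eT_3437_3439 j)
def eT_3434_3439 (j : ℕ) : ℕ := bif Nat.blt j 3436 then (eT_3434_3436 j) else (eT_3436_3439 j)
def eT_3430_3439 (j : ℕ) : ℕ := bif Nat.blt j 3434 then (eT_3430_3434 j) else (eT_3434_3439 j)
def eT_3422_3439 (j : ℕ) : ℕ := bif Nat.blt j 3430 then (eT_3422_3430 j) else (eT_3430_3439 j)
def eT_3406_3439 (j : ℕ) : ℕ := bif Nat.blt j 3422 then (eT_3406_3422 j) else (eT_3422_3439 j)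
def eT_3439_3441 (j : ℕ) : ℕ := bif Nat.blt j 3440 then E_3439 else E_3440
def eT_3441_3443 (j : ℕ) : ℕ := bif Nat.blt j 3442 then E_3441 else E_3442
def eT_3439_3443 (j : ℕ) : ℕ := bif Nat.blt j 3441 then (eT_3439_3441 j) else (eT_3441_3443 j)
def eT_3443_3445 (j : ℕ) : ℕ := bif Nat.blt j 3444 then E_3443 else E_3444
def eT_3445_3447 (j : ℕ) : ℕ := bif Nat.blt j 3446 then E_3445 else E_3446
def eT_3443_3447 (j : ℕ) : ℕ := bif Nat.blt j 3445 then (eT_3443_3445 j) else (eT_3445_3447 j)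
def eT_3439_3447 (j : ℕ) : ℕ := bif Nat.blt j 3443 then (eT_3439_3443 j) else (eT_3443_3447 j)
def eT_3447_3449 (j : ℕ) : ℕ := bif Nat.blt j 3448 then E_3447 else E_3448
def eT_3449_3451 (j : ℕ) : ℕ := bif Nat.blt j 3450 then E_3449 else E_3450
def eT_3447_3451 (j : ℕ) : ℕ := bif Nat.blt j 3449 then (eT_3447_3449 j) else (eT_3449_3451 j)
def eT_3451_3453 (j : ℕ) : ℕ := bif Nat.blt j 3452 then E_3451 else E_3452
def eT_3454_3456 (j : ℕ) : ℕ := bif Nat.blt j 3455 then E_3454 else E_3455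
def eT_3453_3456 (j : ℕ) : ℕ := bif Nat.blt j 3454 then E_3453 else (eT_3454_3456 j)
def eT_3451_3456 (j : ℕ) : ℕ := bif Nat.blt j 3453 then (eT_3451_3453 j) else (eT_3453_3456 j)
def eT_3447_3456 (j : ℕ) : ℕ := bif Nat.blt j 3451 then (eT_3447_3451 j) else (eT_3451_3456 j)
def eT_3439_3456 (j : ℕ) : ℕ := bif Nat.blt j 3447 then (eT_3439_3447 j) else (eT_3447_3456 j)
def eT_3456_3458 (j : ℕ) : ℕ := bif Nat.blt j 3457 then E_3456 else E_3457
def eT_3458_3460 (j : ℕ) : ℕ := bif Nat.blt j 3459 then E_3458 else E_3459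
def eT_3456_3460 (j : ℕ) : ℕ := bif Nat.blt j 3458 then (eT_3456_3458 j) else (eT_3458_3460 j)
def eT_3460_3462 (j : ℕ) : ℕ := bif Nat.blt j 3461 then E_3460 else E_3461
def eT_3462_3464 (j : ℕ) : ℕ := bif Nat.blt j 3463 then E_3462 else E_3463
def eT_3460_3464 (j : ℕ) : ℕ := bif Nat.blt j 3462 then (eT_3460_3462 j) else (eT_3462_3464 j)
def eT_3456_3464 (j : ℕ) : ℕ := bif Nat.blt j 3460 then (eT_3456_3460 j) else (eT_3460_3464 j)
def eT_3464_3466 (j : ℕ) : ℕ := bif Nat.blt j 3465 then E_3464 else E_3465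
def eT_3466_3468 (j : ℕ) : ℕ := bif Nat.blt j 3467 then E_3466 else E_3467
def eT_3464_3468 (j : ℕ) : ℕ := bif Nat.blt j 3466 then (eT_3464_3466 j) else (eT_3466_3468 j)
def eT_3468_3470 (j : ℕ) : ℕ := bif Nat.blt j 3469 then E_3468 else E_3469
def eT_3471_3473 (j : ℕ) : ℕ := bif Nat.blt j 3472 then E_3471 else E_3472
def eT_3470_3473 (j : ℕ) : ℕ := bif Nat.blt j 3471 then E_3470 else (eT_3471_3473 j)
def eT_3468_3473 (j : ℕ) : ℕ := bif Nat.blt j 3470 then (eT_3468_3470 j) else (eT_3470_3473 j)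
def eT_3464_3473 (j : ℕ) : ℕ := bif Nat.blt j 3468 then (eT_3464_3468 j) else (eT_3468_3473 j)
def eT_3456_3473 (j : ℕ) : ℕ := bif Nat.blt j 3464 then (eT_3456_3464 j) else (eT_3464_3473 j)
def eT_3439_3473 (j : ℕ) : ℕ := bif Nat.blt j 3456 then (eT_3439_3456 j) else (eT_3456_3473 j)
def eT_3406_3473 (j : ℕ) : ℕ := bif Nat.blt j 3439 then (eT_3406_3439 j) else (eT_3439_3473 j)
def eT_3339_3473 (j : ℕ) : ℕ := bif Nat.blt j 3406 then (eT_3339_3406 j) else (eT_3406_3473 j)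
def eT_3206_3473 (j : ℕ) : ℕ := bif Nat.blt j 3339 then (eT_3206_3339 j) else (eT_3339_3473 j)
def eT_3473_3475 (j : ℕ) : ℕ := bif Nat.blt j 3474 then E_3473 else E_3474
def eT_3475_3477 (j : ℕ) : ℕ := bif Nat.blt j 3476 then E_3475 else E_3476
def eT_3473_3477 (j : ℕ) : ℕ := bif Nat.blt j 3475 then (eT_3473_3475 j) else (eT_3475_3477 j)
def eT_3477_3479 (j : ℕ) : ℕ := bif Nat.blt j 3478 then E_3477 else E_3478
def eT_3479_3481 (j : ℕ) : ℕ := bif Nat.blt j 3480 then E_3479 else E_3480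
def eT_3477_3481 (j : ℕ) : ℕ := bif Nat.blt j 3479 then (eT_3477_3479 j) else (eT_3479_3481 j)
def eT_3473_3481 (j : ℕ) : ℕ := bif Nat.blt j 3477 then (eT_3473_3477 j) else (eT_3477_3481 j)
def eT_3481_3483 (j : ℕ) : ℕ := bif Nat.blt j 3482 then E_3481 else E_3482
def eT_3483_3485 (j : ℕ) : ℕ := bif Nat.blt j 3484 then E_3483 else E_3484
def eT_3481_3485 (j : ℕ) : ℕ := bif Nat.blt j 3483 then (eT_3481_3483 j) else (eT_3483_3485 j)
def eT_3485_3487 (j : ℕ) : ℕ := bif Nat.blt j 3486 then E_3485 else E_3486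
def eT_3487_3489 (j : ℕ) : ℕ := bif Nat.blt j 3488 then E_3487 else E_3488
def eT_3485_3489 (j : ℕ) : ℕ := bif Nat.blt j 3487 then (eT_3485_3487 j) else (eT_3487_3489 j)
def eT_3481_3489 (j : ℕ) : ℕ := bif Nat.blt j 3485 then (eT_3481_3485 j) else (eT_3485_3489 j)
def eT_3473_3489 (j : ℕ) : ℕ := bif Nat.blt j 3481 then (eT_3473_3481 j) else (eT_3481_3489 j)
def eT_3489_3491 (j : ℕ) : ℕ := bif Nat.blt j 3490 then E_3489 else E_3490
def eT_3491_3493 (j : ℕ) : ℕ := bif Nat.blt j 3492 then E_3491 else E_3492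
def eT_3489_3493 (j : ℕ) : ℕ := bif Nat.blt j 3491 then (eT_3489_3491 j) else (eT_3491_3493 j)
def eT_3493_3495 (j : ℕ) : ℕ := bif Nat.blt j 3494 then E_3493 else E_3494
def eT_3495_3497 (j : ℕ) : ℕ := bif Nat.blt j 3496 then E_3495 else E_3496
def eT_3493_3497 (j : ℕ) : ℕ := bif Nat.blt j 3495 then (eT_3493_3495 j) else (eT_3495_3497 j)
def eT_3489_3497 (j : ℕ) : ℕ := bif Nat.blt j 3493 then (eT_3489_3493 j) else (eT_3493_3497 j)
def eT_3497_3499 (j : ℕ) : ℕ := bif Nat.blt j 3498 then E_3497 else E_3498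
def eT_3499_3501 (j : ℕ) : ℕ := bif Nat.blt j 3500 then E_3499 else E_3500
def eT_3497_3501 (j : ℕ) : ℕ := bif Nat.blt j 3499 then (eT_3497_3499 j) else (eT_3499_3501 j)
def eT_3501_3503 (j : ℕ) : ℕ := bif Nat.blt j 3502 then E_3501 else E_3502
def eT_3504_3506 (j : ℕ) : ℕ := bif Nat.blt j 3505 then E_3504 else E_3505
def eT_3503_3506 (j : ℕ) : ℕ := bif Nat.blt j 3504 then E_3503 else (eT_3504_3506 j)
def eT_3501_3506 (j : ℕ) : ℕ := bif Nat.blt j 3503 then (eT_3501_3503 j) else (eT_3503_3506 j)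
def eT_3497_3506 (j : ℕ) : ℕ := bif Nat.blt j 3501 then (eT_3497_3501 j) else (eT_3501_3506 j)
def eT_3489_3506 (j : ℕ) : ℕ := bif Nat.blt j 3497 then (eT_3489_3497 j) else (eT_3497_3506 j)
def eT_3473_3506 (j : ℕ) : ℕ := bif Nat.blt j 3489 then (eT_3473_3489 j) else (eT_3489_3506 j)
def eT_3506_3508 (j : ℕ) : ℕ := bif Nat.blt j 3507 then E_3506 else E_3507
def eT_3508_3510 (j : ℕ) : ℕ := bif Nat.blt j 3509 then E_3508 else E_3509
def eT_3506_3510 (j : ℕ) : ℕ := bif Nat.blt j 3508 then (eT_3506_3508 j) else (eT_3508_3510 j)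
def eT_3510_3512 (j : ℕ) : ℕ := bif Nat.blt j 3511 then E_3510 else E_3511
def eT_3512_3514 (j : ℕ) : ℕ := bif Nat.blt j 3513 then E_3512 else E_3513
def eT_3510_3514 (j : ℕ) : ℕ := bif Nat.blt j 3512 then (eT_3510_3512 j) else (eT_3512_3514 j)
def eT_3506_3514 (j : ℕ) : ℕ := bif Nat.blt j 3510 then (eT_3506_3510 j) else (eT_3510_3514 j)
def eT_3514_3516 (j : ℕ) : ℕ := bif Nat.blt j 3515 then E_3514 else E_3515
def eT_3516_3518 (j : ℕ) : ℕ := bif Nat.blt j 3517 then E_3516 else E_3517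
def eT_3514_3518 (j : ℕ) : ℕ := bif Nat.blt j 3516 then (eT_3514_3516 j) else (eT_3516_3518 j)
def eT_3518_3520 (j : ℕ) : ℕ := bif Nat.blt j 3519 then E_3518 else E_3519
def eT_3520_3522 (j : ℕ) : ℕ := bif Nat.blt j 3521 then E_3520 else E_3521
def eT_3518_3522 (j : ℕ) : ℕ := bif Nat.blt j 3520 then (eT_3518_3520 j) else (eT_3520_3522 j)
def eT_3514_3522 (j : ℕ) : ℕ := bif Nat.blt j 3518 then (eT_3514_3518 j) else (eT_3518_3522 j)
def eT_3506_3522 (j : ℕ) : ℕ := bif Nat.blt j 3514 then (eT_3506_3514 j) else (eT_3514_3522 j)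
def eT_3522_3524 (j : ℕ) : ℕ := bif Nat.blt j 3523 then E_3522 else E_3523
def eT_3524_3526 (j : ℕ) : ℕ := bif Nat.blt j 3525 then E_3524 else E_3525
def eT_3522_3526 (j : ℕ) : ℕ := bif Nat.blt j 3524 then (eT_3522_3524 j) else (eT_3524_3526 j)
def eT_3526_3528 (j : ℕ) : ℕ := bif Nat.blt j 3527 then E_3526 else E_3527
def eT_3528_3530 (j : ℕ) : ℕ := bif Nat.blt j 3529 then E_3528 else E_3529
def eT_3526_3530 (j : ℕ) : ℕ := bif Nat.blt j 3528 then (eT_3526_3528 j) else (eT_3528_3530 j)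
def eT_3522_3530 (j : ℕ) : ℕ := bif Nat.blt j 3526 then (eT_3522_3526 j) else (eT_3526_3530 j)
def eT_3530_3532 (j : ℕ) : ℕ := bif Nat.blt j 3531 then E_3530 else E_3531
def eT_3532_3534 (j : ℕ) : ℕ := bif Nat.blt j 3533 then E_3532 else E_3533
def eT_3530_3534 (j : ℕ) : ℕ := bif Nat.blt j 3532 then (eT_3530_3532 j) else (eT_3532_3534 j)
def eT_3534_3536 (j : ℕ) : ℕ := bif Nat.blt j 3535 then E_3534 else E_3535
def eT_3537_3539 (j : ℕ) : ℕ := bif Nat.blt j 3538 then E_3537 else E_3538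
def eT_3536_3539 (j : ℕ) : ℕ := bif Nat.blt j 3537 then E_3536 else (eT_3537_3539 j)
def eT_3534_3539 (j : ℕ) : ℕ := bif Nat.blt j 3536 then (eT_3534_3536 j) else (eT_3536_3539 j)
def eT_3530_3539 (j : ℕ) : ℕ := bif Nat.blt j 3534 then (eT_3530_3534 j) else (eT_3534_3539 j)
def eT_3522_3539 (j : ℕ) : ℕ := bif Nat.blt j 3530 then (eT_3522_3530 j) else (eT_3530_3539 j)
def eT_3506_3539 (j : ℕ) : ℕ := bif Nat.blt j 3522 then (eT_3506_3522 j) else (eT_3522_3539 j)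
def eT_3473_3539 (j : ℕ) : ℕ := bif Nat.blt j 3506 then (eT_3473_3506 j) else (eT_3506_3539 j)
def eT_3539_3541 (j : ℕ) : ℕ := bif Nat.blt j 3540 then E_3539 else E_3540
def eT_3541_3543 (j : ℕ) : ℕ := bif Nat.blt j 3542 then E_3541 else E_3542
def eT_3539_3543 (j : ℕ) : ℕ := bif Nat.blt j 3541 then (eT_3539_3541 j) else (eT_3541_3543 j)
def eT_3543_3545 (j : ℕ) : ℕ := bif Nat.blt j 3544 then E_3543 else E_3544
def eT_3545_3547 (j : ℕ) : ℕ := bif Nat.blt j 3546 then E_3545 else E_3546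
def eT_3543_3547 (j : ℕ) : ℕ := bif Nat.blt j 3545 then (eT_3543_3545 j) else (eT_3545_3547 j)
def eT_3539_3547 (j : ℕ) : ℕ := bif Nat.blt j 3543 then (eT_3539_3543 j) else (eT_3543_3547 j)
def eT_3547_3549 (j : ℕ) : ℕ := bif Nat.blt j 3548 then E_3547 else E_3548
def eT_3549_3551 (j : ℕ) : ℕ := bif Nat.blt j 3550 then E_3549 else E_3550
def eT_3547_3551 (j : ℕ) : ℕ := bif Nat.blt j 3549 then (eT_3547_3549 j) else (eT_3549_3551 j)
def eT_3551_3553 (j : ℕ) : ℕ := bif Nat.blt j 3552 then E_3551 else E_3552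
def eT_3553_3555 (j : ℕ) : ℕ := bif Nat.blt j 3554 then E_3553 else E_3554
def eT_3551_3555 (j : ℕ) : ℕ := bif Nat.blt j 3553 then (eT_3551_3553 j) else (eT_3553_3555 j)
def eT_3547_3555 (j : ℕ) : ℕ := bif Nat.blt j 3551 then (eT_3547_3551 j) else (eT_3551_3555 j)
def eT_3539_3555 (j : ℕ) : ℕ := bif Nat.blt j 3547 then (eT_3539_3547 j) else (eT_3547_3555 j)
def eT_3555_3557 (j : ℕ) : ℕ := bif Nat.blt j 3556 then E_3555 else E_3556
def eT_3557_3559 (j : ℕ) : ℕ := bif Nat.blt j 3558 then E_3557 else E_3558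
def eT_3555_3559 (j : ℕ) : ℕ := bif Nat.blt j 3557 then (eT_3555_3557 j) else (eT_3557_3559 j)
def eT_3559_3561 (j : ℕ) : ℕ := bif Nat.blt j 3560 then E_3559 else E_3560
def eT_3561_3563 (j : ℕ) : ℕ := bif Nat.blt j 3562 then E_3561 else E_3562
def eT_3559_3563 (j : ℕ) : ℕ := bif Nat.blt j 3561 then (eT_3559_3561 j) else (eT_3561_3563 j)
def eT_3555_3563 (j : ℕ) : ℕ := bif Nat.blt j 3559 then (eT_3555_3559 j) else (eT_3559_3563 j)
def eT_3563_3565 (j : ℕ) : ℕ := bif Nat.blt j 3564 then E_3563 else E_3564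
def eT_3565_3567 (j : ℕ) : ℕ := bif Nat.blt j 3566 then E_3565 else E_3566
def eT_3563_3567 (j : ℕ) : ℕ := bif Nat.blt j 3565 then (eT_3563_3565 j) else (eT_3565_3567 j)
def eT_3567_3569 (j : ℕ) : ℕ := bif Nat.blt j 3568 then E_3567 else E_3568
def eT_3570_3572 (j : ℕ) : ℕ := bif Nat.blt j 3571 then E_3570 else E_3571
def eT_3569_3572 (j : ℕ) : ℕ := bif Nat.blt j 3570 then E_3569 else (eT_3570_3572 j)
def eT_3567_3572 (j : ℕ) : ℕ := bif Nat.blt j 3569 then (eT_3567_3569 j) else (eT_3569_3572 j)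
def eT_3563_3572 (j : ℕ) : ℕ := bif Nat.blt j 3567 then (eT_3563_3567 j) else (eT_3567_3572 j)
def eT_3555_3572 (j : ℕ) : ℕ := bif Nat.blt j 3563 then (eT_3555_3563 j) else (eT_3563_3572 j)
def eT_3539_3572 (j : ℕ) : ℕ := bif Nat.blt j 3555 then (eT_3539_3555 j) else (eT_3555_3572 j)
def eT_3572_3574 (j : ℕ) : ℕ := bif Nat.blt j 3573 then E_3572 else E_3573
def eT_3574_3576 (j : ℕ) : ℕ := bif Nat.blt j 3575 then E_3574 else E_3575
def eT_3572_3576 (j : ℕ) : ℕ := bif Nat.blt j 3574 then (eT_3572_3574 j) else (eT_3574_3576 j)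
def eT_3576_3578 (j : ℕ) : ℕ := bif Nat.blt j 3577 then E_3576 else E_3577
def eT_3578_3580 (j : ℕ) : ℕ := bif Nat.blt j 3579 then E_3578 else E_3579
def eT_3576_3580 (j : ℕ) : ℕ := bif Nat.blt j 3578 then (eT_3576_3578 j) else (eT_3578_3580 j)
def eT_3572_3580 (j : ℕ) : ℕ := bif Nat.blt j 3576 then (eT_3572_3576 j) else (eT_3576_3580 j)
def eT_3580_3582 (j : ℕ) : ℕ := bif Nat.blt j 3581 then E_3580 else E_3581
def eT_3582_3584 (j : ℕ) : ℕ := bif Nat.blt j 3583 then E_3582 else E_3583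
def eT_3580_3584 (j : ℕ) : ℕ := bif Nat.blt j 3582 then (eT_3580_3582 j) else (eT_3582_3584 j)
def eT_3584_3586 (j : ℕ) : ℕ := bif Nat.blt j 3585 then E_3584 else E_3585
def eT_3587_3589 (j : ℕ) : ℕ := bif Nat.blt j 3588 then E_3587 else E_3588
def eT_3586_3589 (j : ℕ) : ℕ := bif Nat.blt j 3587 then E_3586 else (eT_3587_3589 j)
def eT_3584_3589 (j : ℕ) : ℕ := bif Nat.blt j 3586 then (eT_3584_3586 j) else (eT_3586_3589 j)
def eT_3580_3589 (j : ℕ) : ℕ := bif Nat.blt j 3584 then (eT_3580_3584 j) else (eT_3584_3589 j)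
def eT_3572_3589 (j : ℕ) : ℕ := bif Nat.blt j 3580 then (eT_3572_3580 j) else (eT_3580_3589 j)
def eT_3589_3591 (j : ℕ) : ℕ := bif Nat.blt j 3590 then E_3589 else E_3590
def eT_3591_3593 (j : ℕ) : ℕ := bif Nat.blt j 3592 then E_3591 else E_3592
def eT_3589_3593 (j : ℕ) : ℕ := bif Nat.blt j 3591 then (eT_3589_3591 j) else (eT_3591_3593 j)
def eT_3593_3595 (j : ℕ) : ℕ := bif Nat.blt j 3594 then E_3593 else E_3594
def eT_3595_3597 (j : ℕ) : ℕ := bif Nat.blt j 3596 then E_3595 else E_3596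
def eT_3593_3597 (j : ℕ) : ℕ := bif Nat.blt j 3595 then (eT_3593_3595 j) else (eT_3595_3597 j)
def eT_3589_3597 (j : ℕ) : ℕ := bif Nat.blt j 3593 then (eT_3589_3593 j) else (eT_3593_3597 j)
def eT_3597_3599 (j : ℕ) : ℕ := bif Nat.blt j 3598 then E_3597 else E_3598
def eT_3599_3601 (j : ℕ) : ℕ := bif Nat.blt j 3600 then E_3599 else E_3600
def eT_3597_3601 (j : ℕ) : ℕ := bif Nat.blt j 3599 then (eT_3597_3599 j) else (eT_3599_3601 j)
def eT_3601_3603 (j : ℕ) : ℕ := bif Nat.blt j 3602 then E_3601 else E_3602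
def eT_3604_3606 (j : ℕ) : ℕ := bif Nat.blt j 3605 then E_3604 else E_3605
def eT_3603_3606 (j : ℕ) : ℕ := bif Nat.blt j 3604 then E_3603 else (eT_3604_3606 j)
def eT_3601_3606 (j : ℕ) : ℕ := bif Nat.blt j 3603 then (eT_3601_3603 j) else (eT_3603_3606 j)
def eT_3597_3606 (j : ℕ) : ℕ := bif Nat.blt j 3601 then (eT_3597_3601 j) else (eT_3601_3606 j)
def eT_3589_3606 (j : ℕ) : ℕ := bif Nat.blt j 3597 then (eT_3589_3597 j) else (eT_3597_3606 j)
def eT_3572_3606 (j : ℕ) : ℕ := bif Nat.blt j 3589 then (eT_3572_3589 j) else (eT_3589_3606 j)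
def eT_3539_3606 (j : ℕ) : ℕ := bif Nat.blt j 3572 then (eT_3539_3572 j) else (eT_3572_3606 j)
def eT_3473_3606 (j : ℕ) : ℕ := bif Nat.blt j 3539 then (eT_3473_3539 j) else (eT_3539_3606 j)
def eT_3606_3608 (j : ℕ) : ℕ := bif Nat.blt j 3607 then E_3606 else E_3607
def eT_3608_3610 (j : ℕ) : ℕ := bif Nat.blt j 3609 then E_3608 else E_3609
def eT_3606_3610 (j : ℕ) : ℕ := bif Nat.blt j 3608 then (eT_3606_3608 j) else (eT_3608_3610 j)
def eT_3610_3612 (j : ℕ) : ℕ := bif Nat.blt j 3611 then E_3610 else E_3611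
def eT_3612_3614 (j : ℕ) : ℕ := bif Nat.blt j 3613 then E_3612 else E_3613
def eT_3610_3614 (j : ℕ) : ℕ := bif Nat.blt j 3612 then (eT_3610_3612 j) else (eT_3612_3614 j)
def eT_3606_3614 (j : ℕ) : ℕ := bif Nat.blt j 3610 then (eT_3606_3610 j) else (eT_3610_3614 j)
def eT_3614_3616 (j : ℕ) : ℕ := bif Nat.blt j 3615 then E_3614 else E_3615
def eT_3616_3618 (j : ℕ) : ℕ := bif Nat.blt j 3617 then E_3616 else E_3617
def eT_3614_3618 (j : ℕ) : ℕ := bif Nat.blt j 3616 then (eT_3614_3616 j) else (eT_3616_3618 j)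
def eT_3618_3620 (j : ℕ) : ℕ := bif Nat.blt j 3619 then E_3618 else E_3619
def eT_3620_3622 (j : ℕ) : ℕ := bif Nat.blt j 3621 then E_3620 else E_3621
def eT_3618_3622 (j : ℕ) : ℕ := bif Nat.blt j 3620 then (eT_3618_3620 j) else (eT_3620_3622 j)
def eT_3614_3622 (j : ℕ) : ℕ := bif Nat.blt j 3618 then (eT_3614_3618 j) else (eT_3618_3622 j)
def eT_3606_3622 (j : ℕ) : ℕ := bif Nat.blt j 3614 then (eT_3606_3614 j) else (eT_3614_3622 j)
def eT_3622_3624 (j : ℕ) : ℕ := bif Nat.blt j 3623 then E_3622 else E_3623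
def eT_3624_3626 (j : ℕ) : ℕ := bif Nat.blt j 3625 then E_3624 else E_3625
def eT_3622_3626 (j : ℕ) : ℕ := bif Nat.blt j 3624 then (eT_3622_3624 j) else (eT_3624_3626 j)
def eT_3626_3628 (j : ℕ) : ℕ := bif Nat.blt j 3627 then E_3626 else E_3627
def eT_3628_3630 (j : ℕ) : ℕ := bif Nat.blt j 3629 then E_3628 else E_3629
def eT_3626_3630 (j : ℕ) : ℕ := bif Nat.blt j 3628 then (eT_3626_3628 j) else (eT_3628_3630 j)
def eT_3622_3630 (j : ℕ) : ℕ := bif Nat.blt j 3626 then (eT_3622_3626 j) else (eT_3626_3630 j)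
def eT_3630_3632 (j : ℕ) : ℕ := bif Nat.blt j 3631 then E_3630 else E_3631
def eT_3632_3634 (j : ℕ) : ℕ := bif Nat.blt j 3633 then E_3632 else E_3633
def eT_3630_3634 (j : ℕ) : ℕ := bif Nat.blt j 3632 then (eT_3630_3632 j) else (eT_3632_3634 j)
def eT_3634_3636 (j : ℕ) : ℕ := bif Nat.blt j 3635 then E_3634 else E_3635
def eT_3637_3639 (j : ℕ) : ℕ := bif Nat.blt j 3638 then E_3637 else E_3638
def eT_3636_3639 (j : ℕ) : ℕ := bif Nat.blt j 3637 then E_3636 else (eT_3637_3639 j)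
def eT_3634_3639 (j : ℕ) : ℕ := bif Nat.blt j 3636 then (eT_3634_3636 j) else (eT_3636_3639 j)
def eT_3630_3639 (j : ℕ) : ℕ := bif Nat.blt j 3634 then (eT_3630_3634 j) else (eT_3634_3639 j)
def eT_3622_3639 (j : ℕ) : ℕ := bif Nat.blt j 3630 then (eT_3622_3630 j) else (eT_3630_3639 j)
def eT_3606_3639 (j : ℕ) : ℕ := bif Nat.blt j 3622 then (eT_3606_3622 j) else (eT_3622_3639 j)
def eT_3639_3641 (j : ℕ) : ℕ := bif Nat.blt j 3640 then E_3639 else E_3640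
def eT_3641_3643 (j : ℕ) : ℕ := bif Nat.blt j 3642 then E_3641 else E_3642
def eT_3639_3643 (j : ℕ) : ℕ := bif Nat.blt j 3641 then (eT_3639_3641 j) else (eT_3641_3643 j)
def eT_3643_3645 (j : ℕ) : ℕ := bif Nat.blt j 3644 then E_3643 else E_3644
def eT_3645_3647 (j : ℕ) : ℕ := bif Nat.blt j 3646 then E_3645 else E_3646
def eT_3643_3647 (j : ℕ) : ℕ := bif Nat.blt j 3645 then (eT_3643_3645 j) else (eT_3645_3647 j)
def eT_3639_3647 (j : ℕ) : ℕ := bif Nat.blt j 3643 then (eT_3639_3643 j) else (eT_3643_3647 j)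
def eT_3647_3649 (j : ℕ) : ℕ := bif Nat.blt j 3648 then E_3647 else E_3648
def eT_3649_3651 (j : ℕ) : ℕ := bif Nat.blt j 3650 then E_3649 else E_3650
def eT_3647_3651 (j : ℕ) : ℕ := bif Nat.blt j 3649 then (eT_3647_3649 j) else (eT_3649_3651 j)
def eT_3651_3653 (j : ℕ) : ℕ := bif Nat.blt j 3652 then E_3651 else E_3652
def eT_3654_3656 (j : ℕ) : ℕ := bif Nat.blt j 3655 then E_3654 else E_3655
def eT_3653_3656 (j : ℕ) : ℕ := bif Nat.blt j 3654 then E_3653 else (eT_3654_3656 j)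
def eT_3651_3656 (j : ℕ) : ℕ := bif Nat.blt j 3653 then (eT_3651_3653 j) else (eT_3653_3656 j)
def eT_3647_3656 (j : ℕ) : ℕ := bif Nat.blt j 3651 then (eT_3647_3651 j) else (eT_3651_3656 j)
def eT_3639_3656 (j : ℕ) : ℕ := bif Nat.blt j 3647 then (eT_3639_3647 j) else (eT_3647_3656 j)
def eT_3656_3658 (j : ℕ) : ℕ := bif Nat.blt j 3657 then E_3656 else E_3657
def eT_3658_3660 (j : ℕ) : ℕ := bif Nat.blt j 3659 then E_3658 else E_3659
def eT_3656_3660 (j : ℕ) : ℕ := bif Nat.blt j 3658 then (eT_3656_3658 j) else (eT_3658_3660 j)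
def eT_3660_3662 (j : ℕ) : ℕ := bif Nat.blt j 3661 then E_3660 else E_3661
def eT_3662_3664 (j : ℕ) : ℕ := bif Nat.blt j 3663 then E_3662 else E_3663
def eT_3660_3664 (j : ℕ) : ℕ := bif Nat.blt j 3662 then (eT_3660_3662 j) else (eT_3662_3664 j)
def eT_3656_3664 (j : ℕ) : ℕ := bif Nat.blt j 3660 then (eT_3656_3660 j) else (eT_3660_3664 j)
def eT_3664_3666 (j : ℕ) : ℕ := bif Nat.blt j 3665 then E_3664 else E_3665
def eT_3666_3668 (j : ℕ) : ℕ := bif Nat.blt j 3667 then E_3666 else E_3667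
def eT_3664_3668 (j : ℕ) : ℕ := bif Nat.blt j 3666 then (eT_3664_3666 j) else (eT_3666_3668 j)
def eT_3668_3670 (j : ℕ) : ℕ := bif Nat.blt j 3669 then E_3668 else E_3669
def eT_3671_3673 (j : ℕ) : ℕ := bif Nat.blt j 3672 then E_3671 else E_3672
def eT_3670_3673 (j : ℕ) : ℕ := bif Nat.blt j 3671 then E_3670 else (eT_3671_3673 j)
def eT_3668_3673 (j : ℕ) : ℕ := bif Nat.blt j 3670 then (eT_3668_3670 j) else (eT_3670_3673 j)
def eT_3664_3673 (j : ℕ) : ℕ := bif Nat.blt j 3668 then (eT_3664_3668 j) else (eT_3668_3673 j)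
def eT_3656_3673 (j : ℕ) : ℕ := bif Nat.blt j 3664 then (eT_3656_3664 j) else (eT_3664_3673 j)
def eT_3639_3673 (j : ℕ) : ℕ := bif Nat.blt j 3656 then (eT_3639_3656 j) else (eT_3656_3673 j)
def eT_3606_3673 (j : ℕ) : ℕ := bif Nat.blt j 3639 then (eT_3606_3639 j) else (eT_3639_3673 j)
def eT_3673_3675 (j : ℕ) : ℕ := bif Nat.blt j 3674 then E_3673 else E_3674
def eT_3675_3677 (j : ℕ) : ℕ := bif Nat.blt j 3676 then E_3675 else E_3676
def eT_3673_3677 (j : ℕ) : ℕ := bif Nat.blt j 3675 then (eT_3673_3675 j) else (eT_3675_3677 j)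
def eT_3677_3679 (j : ℕ) : ℕ := bif Nat.blt j 3678 then E_3677 else E_3678
def eT_3679_3681 (j : ℕ) : ℕ := bif Nat.blt j 3680 then E_3679 else E_3680
def eT_3677_3681 (j : ℕ) : ℕ := bif Nat.blt j 3679 then (eT_3677_3679 j) else (eT_3679_3681 j)
def eT_3673_3681 (j : ℕ) : ℕ := bif Nat.blt j 3677 then (eT_3673_3677 j) else (eT_3677_3681 j)
def eT_3681_3683 (j : ℕ) : ℕ := bif Nat.blt j 3682 then E_3681 else E_3682
def eT_3683_3685 (j : ℕ) : ℕ := bif Nat.blt j 3684 then E_3683 else E_3684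
def eT_3681_3685 (j : ℕ) : ℕ := bif Nat.blt j 3683 then (eT_3681_3683 j) else (eT_3683_3685 j)
def eT_3685_3687 (j : ℕ) : ℕ := bif Nat.blt j 3686 then E_3685 else E_3686
def eT_3687_3689 (j : ℕ) : ℕ := bif Nat.blt j 3688 then E_3687 else E_3688
def eT_3685_3689 (j : ℕ) : ℕ := bif Nat.blt j 3687 then (eT_3685_3687 j) else (eT_3687_3689 j)
def eT_3681_3689 (j : ℕ) : ℕ := bif Nat.blt j 3685 then (eT_3681_3685 j) else (eT_3685_3689 j)
def eT_3673_3689 (j : ℕ) : ℕ := bif Nat.blt j 3681 then (eT_3673_3681 j) else (eT_3681_3689 j)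
def eT_3689_3691 (j : ℕ) : ℕ := bif Nat.blt j 3690 then E_3689 else E_3690
def eT_3691_3693 (j : ℕ) : ℕ := bif Nat.blt j 3692 then E_3691 else E_3692
def eT_3689_3693 (j : ℕ) : ℕ := bif Nat.blt j 3691 then (eT_3689_3691 j) else (eT_3691_3693 j)
def eT_3693_3695 (j : ℕ) : ℕ := bif Nat.blt j 3694 then E_3693 else E_3694
def eT_3695_3697 (j : ℕ) : ℕ := bif Nat.blt j 3696 then E_3695 else E_3696
def eT_3693_3697 (j : ℕ) : ℕ := bif Nat.blt j 3695 then (eT_3693_3695 j) else (eT_3695_3697 j)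
def eT_3689_3697 (j : ℕ) : ℕ := bif Nat.blt j 3693 then (eT_3689_3693 j) else (eT_3693_3697 j)
def eT_3697_3699 (j : ℕ) : ℕ := bif Nat.blt j 3698 then E_3697 else E_3698
def eT_3699_3701 (j : ℕ) : ℕ := bif Nat.blt j 3700 then E_3699 else E_3700
def eT_3697_3701 (j : ℕ) : ℕ := bif Nat.blt j 3699 then (eT_3697_3699 j) else (eT_3699_3701 j)
def eT_3701_3703 (j : ℕ) : ℕ := bif Nat.blt j 3702 then E_3701 else E_3702
def eT_3704_3706 (j : ℕ) : ℕ := bif Nat.blt j 3705 then E_3704 else E_3705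
def eT_3703_3706 (j : ℕ) : ℕ := bif Nat.blt j 3704 then E_3703 else (eT_3704_3706 j)
def eT_3701_3706 (j : ℕ) : ℕ := bif Nat.blt j 3703 then (eT_3701_3703 j) else (eT_3703_3706 j)
def eT_3697_3706 (j : ℕ) : ℕ := bif Nat.blt j 3701 then (eT_3697_3701 j) else (eT_3701_3706 j)
def eT_3689_3706 (j : ℕ) : ℕ := bif Nat.blt j 3697 then (eT_3689_3697 j) else (eT_3697_3706 j)
def eT_3673_3706 (j : ℕ) : ℕ := bif Nat.blt j 3689 then (eT_3673_3689 j) else (eT_3689_3706 j)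
def eT_3706_3708 (j : ℕ) : ℕ := bif Nat.blt j 3707 then E_3706 else E_3707
def eT_3708_3710 (j : ℕ) : ℕ := bif Nat.blt j 3709 then E_3708 else E_3709
def eT_3706_3710 (j : ℕ) : ℕ := bif Nat.blt j 3708 then (eT_3706_3708 j) else (eT_3708_3710 j)
def eT_3710_3712 (j : ℕ) : ℕ := bif Nat.blt j 3711 then E_3710 else E_3711
def eT_3712_3714 (j : ℕ) : ℕ := bif Nat.blt j 3713 then E_3712 else E_3713
def eT_3710_3714 (j : ℕ) : ℕ := bif Nat.blt j 3712 then (eT_3710_3712 j) else (eT_3712_3714 j)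
def eT_3706_3714 (j : ℕ) : ℕ := bif Nat.blt j 3710 then (eT_3706_3710 j) else (eT_3710_3714 j)
def eT_3714_3716 (j : ℕ) : ℕ := bif Nat.blt j 3715 then E_3714 else E_3715
def eT_3716_3718 (j : ℕ) : ℕ := bif Nat.blt j 3717 then E_3716 else E_3717
def eT_3714_3718 (j : ℕ) : ℕ := bif Nat.blt j 3716 then (eT_3714_3716 j) else (eT_3716_3718 j)
def eT_3718_3720 (j : ℕ) : ℕ := bif Nat.blt j 3719 then E_3718 else E_3719
def eT_3721_3723 (j : ℕ) : ℕ := bif Nat.blt j 3722 then E_3721 else E_3722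
def eT_3720_3723 (j : ℕ) : ℕ := bif Nat.blt j 3721 then E_3720 else (eT_3721_3723 j)
def eT_3718_3723 (j : ℕ) : ℕ := bif Nat.blt j 3720 then (eT_3718_3720 j) else (eT_3720_3723 j)
def eT_3714_3723 (j : ℕ) : ℕ := bif Nat.blt j 3718 then (eT_3714_3718 j) else (eT_3718_3723 j)
def eT_3706_3723 (j : ℕ) : ℕ := bif Nat.blt j 3714 then (eT_3706_3714 j) else (eT_3714_3723 j)
def eT_3723_3725 (j : ℕ) : ℕ := bif Nat.blt j 3724 then E_3723 else E_3724
def eT_3725_3727 (j : ℕ) : ℕ := bif Nat.blt j 3726 then E_3725 else E_3726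
def eT_3723_3727 (j : ℕ) : ℕ := bif Nat.blt j 3725 then (eT_3723_3725 j) else (eT_3725_3727 j)
def eT_3727_3729 (j : ℕ) : ℕ := bif Nat.blt j 3728 then E_3727 else E_3728
def eT_3729_3731 (j : ℕ) : ℕ := bif Nat.blt j 3730 then E_3729 else E_3730
def eT_3727_3731 (j : ℕ) : ℕ := bif Nat.blt j 3729 then (eT_3727_3729 j) else (eT_3729_3731 j)
def eT_3723_3731 (j : ℕ) : ℕ := bif Nat.blt j 3727 then (eT_3723_3727 j) else (eT_3727_3731 j)
def eT_3731_3733 (j : ℕ) : ℕ := bif Nat.blt j 3732 then E_3731 else E_3732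
def eT_3733_3735 (j : ℕ) : ℕ := bif Nat.blt j 3734 then E_3733 else E_3734
def eT_3731_3735 (j : ℕ) : ℕ := bif Nat.blt j 3733 then (eT_3731_3733 j) else (eT_3733_3735 j)
def eT_3735_3737 (j : ℕ) : ℕ := bif Nat.blt j 3736 then E_3735 else E_3736
def eT_3738_3740 (j : ℕ) : ℕ := bif Nat.blt j 3739 then E_3738 else E_3739
def eT_3737_3740 (j : ℕ) : ℕ := bif Nat.blt j 3738 then E_3737 else (eT_3738_3740 j)
def eT_3735_3740 (j : ℕ) : ℕ := bif Nat.blt j 3737 then (eT_3735_3737 j) else (eT_3737_3740 j)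
def eT_3731_3740 (j : ℕ) : ℕ := bif Nat.blt j 3735 then (eT_3731_3735 j) else (eT_3735_3740 j)
def eT_3723_3740 (j : ℕ) : ℕ := bif Nat.blt j 3731 then (eT_3723_3731 j) else (eT_3731_3740 j)
def eT_3706_3740 (j : ℕ) : ℕ := bif Nat.blt j 3723 then (eT_3706_3723 j) else (eT_3723_3740 j)
def eT_3673_3740 (j : ℕ) : ℕ := bif Nat.blt j 3706 then (eT_3673_3706 j) else (eT_3706_3740 j)
def eT_3606_3740 (j : ℕ) : ℕ := bif Nat.blt j 3673 then (eT_3606_3673 j) else (eT_3673_3740 j)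
def eT_3473_3740 (j : ℕ) : ℕ := bif Nat.blt j 3606 then (eT_3473_3606 j) else (eT_3606_3740 j)
def eT_3206_3740 (j : ℕ) : ℕ := bif Nat.blt j 3473 then (eT_3206_3473 j) else (eT_3473_3740 j)
def eT_3740_3742 (j : ℕ) : ℕ := bif Nat.blt j 3741 then E_3740 else E_3741
def eT_3742_3744 (j : ℕ) : ℕ := bif Nat.blt j 3743 then E_3742 else E_3743
def eT_3740_3744 (j : ℕ) : ℕ := bif Nat.blt j 3742 then (eT_3740_3742 j) else (eT_3742_3744 j)
def eT_3744_3746 (j : ℕ) : ℕ := bif Nat.blt j 3745 then E_3744 else E_3745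
def eT_3746_3748 (j : ℕ) : ℕ := bif Nat.blt j 3747 then E_3746 else E_3747
def eT_3744_3748 (j : ℕ) : ℕ := bif Nat.blt j 3746 then (eT_3744_3746 j) else (eT_3746_3748 j)
def eT_3740_3748 (j : ℕ) : ℕ := bif Nat.blt j 3744 then (eT_3740_3744 j) else (eT_3744_3748 j)
def eT_3748_3750 (j : ℕ) : ℕ := bif Nat.blt j 3749 then E_3748 else E_3749
def eT_3750_3752 (j : ℕ) : ℕ := bif Nat.blt j 3751 then E_3750 else E_3751
def eT_3748_3752 (j : ℕ) : ℕ := bif Nat.blt j 3750 then (eT_3748_3750 j) else (eT_3750_3752 j)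
def eT_3752_3754 (j : ℕ) : ℕ := bif Nat.blt j 3753 then E_3752 else E_3753
def eT_3754_3756 (j : ℕ) : ℕ := bif Nat.blt j 3755 then E_3754 else E_3755
def eT_3752_3756 (j : ℕ) : ℕ := bif Nat.blt j 3754 then (eT_3752_3754 j) else (eT_3754_3756 j)
def eT_3748_3756 (j : ℕ) : ℕ := bif Nat.blt j 3752 then (eT_3748_3752 j) else (eT_3752_3756 j)
def eT_3740_3756 (j : ℕ) : ℕ := bif Nat.blt j 3748 then (eT_3740_3748 j) else (eT_3748_3756 j)
def eT_3756_3758 (j : ℕ) : ℕ := bif Nat.blt j 3757 then E_3756 else E_3757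
def eT_3758_3760 (j : ℕ) : ℕ := bif Nat.blt j 3759 then E_3758 else E_3759
def eT_3756_3760 (j : ℕ) : ℕ := bif Nat.blt j 3758 then (eT_3756_3758 j) else (eT_3758_3760 j)
def eT_3760_3762 (j : ℕ) : ℕ := bif Nat.blt j 3761 then E_3760 else E_3761
def eT_3762_3764 (j : ℕ) : ℕ := bif Nat.blt j 3763 then E_3762 else E_3763
def eT_3760_3764 (j : ℕ) : ℕ := bif Nat.blt j 3762 then (eT_3760_3762 j) else (eT_3762_3764 j)
def eT_3756_3764 (j : ℕ) : ℕ := bif Nat.blt j 3760 then (eT_3756_3760 j) else (eT_3760_3764 j)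
def eT_3764_3766 (j : ℕ) : ℕ := bif Nat.blt j 3765 then E_3764 else E_3765
def eT_3766_3768 (j : ℕ) : ℕ := bif Nat.blt j 3767 then E_3766 else E_3767
def eT_3764_3768 (j : ℕ) : ℕ := bif Nat.blt j 3766 then (eT_3764_3766 j) else (eT_3766_3768 j)
def eT_3768_3770 (j : ℕ) : ℕ := bif Nat.blt j 3769 then E_3768 else E_3769
def eT_3771_3773 (j : ℕ) : ℕ := bif Nat.blt j 3772 then E_3771 else E_3772
def eT_3770_3773 (j : ℕ) : ℕ := bif Nat.blt j 3771 then E_3770 else (eT_3771_3773 j)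
def eT_3768_3773 (j : ℕ) : ℕ := bif Nat.blt j 3770 then (eT_3768_3770 j) else (eT_3770_3773 j)
def eT_3764_3773 (j : ℕ) : ℕ := bif Nat.blt j 3768 then (eT_3764_3768 j) else (eT_3768_3773 j)
def eT_3756_3773 (j : ℕ) : ℕ := bif Nat.blt j 3764 then (eT_3756_3764 j) else (eT_3764_3773 j)
def eT_3740_3773 (j : ℕ) : ℕ := bif Nat.blt j 3756 then (eT_3740_3756 j) else (eT_3756_3773 j)
def eT_3773_3775 (j : ℕ) : ℕ := bif Nat.blt j 3774 then E_3773 else E_3774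
def eT_3775_3777 (j : ℕ) : ℕ := bif Nat.blt j 3776 then E_3775 else E_3776
def eT_3773_3777 (j : ℕ) : ℕ := bif Nat.blt j 3775 then (eT_3773_3775 j) else (eT_3775_3777 j)
def eT_3777_3779 (j : ℕ) : ℕ := bif Nat.blt j 3778 then E_3777 else E_3778
def eT_3779_3781 (j : ℕ) : ℕ := bif Nat.blt j 3780 then E_3779 else E_3780
def eT_3777_3781 (j : ℕ) : ℕ := bif Nat.blt j 3779 then (eT_3777_3779 j) else (eT_3779_3781 j)
def eT_3773_3781 (j : ℕ) : ℕ := bif Nat.blt j 3777 then (eT_3773_3777 j) else (eT_3777_3781 j)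
def eT_3781_3783 (j : ℕ) : ℕ := bif Nat.blt j 3782 then E_3781 else E_3782
def eT_3783_3785 (j : ℕ) : ℕ := bif Nat.blt j 3784 then E_3783 else E_3784
def eT_3781_3785 (j : ℕ) : ℕ := bif Nat.blt j 3783 then (eT_3781_3783 j) else (eT_3783_3785 j)
def eT_3785_3787 (j : ℕ) : ℕ := bif Nat.blt j 3786 then E_3785 else E_3786
def eT_3787_3789 (j : ℕ) : ℕ := bif Nat.blt j 3788 then E_3787 else E_3788
def eT_3785_3789 (j : ℕ) : ℕ := bif Nat.blt j 3787 then (eT_3785_3787 j) else (eT_3787_3789 j)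
def eT_3781_3789 (j : ℕ) : ℕ := bif Nat.blt j 3785 then (eT_3781_3785 j) else (eT_3785_3789 j)
def eT_3773_3789 (j : ℕ) : ℕ := bif Nat.blt j 3781 then (eT_3773_3781 j) else (eT_3781_3789 j)
def eT_3789_3791 (j : ℕ) : ℕ := bif Nat.blt j 3790 then E_3789 else E_3790
def eT_3791_3793 (j : ℕ) : ℕ := bif Nat.blt j 3792 then E_3791 else E_3792
def eT_3789_3793 (j : ℕ) : ℕ := bif Nat.blt j 3791 then (eT_3789_3791 j) else (eT_3791_3793 j)
def eT_3793_3795 (j : ℕ) : ℕ := bif Nat.blt j 3794 then E_3793 else E_3794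
def eT_3795_3797 (j : ℕ) : ℕ := bif Nat.blt j 3796 then E_3795 else E_3796
def eT_3793_3797 (j : ℕ) : ℕ := bif Nat.blt j 3795 then (eT_3793_3795 j) else (eT_3795_3797 j)
def eT_3789_3797 (j : ℕ) : ℕ := bif Nat.blt j 3793 then (eT_3789_3793 j) else (eT_3793_3797 j)
def eT_3797_3799 (j : ℕ) : ℕ := bif Nat.blt j 3798 then E_3797 else E_3798
def eT_3799_3801 (j : ℕ) : ℕ := bif Nat.blt j 3800 then E_3799 else E_3800
def eT_3797_3801 (j : ℕ) : ℕ := bif Nat.blt j 3799 then (eT_3797_3799 j) else (eT_3799_3801 j)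
def eT_3801_3803 (j : ℕ) : ℕ := bif Nat.blt j 3802 then E_3801 else E_3802
def eT_3804_3806 (j : ℕ) : ℕ := bif Nat.blt j 3805 then E_3804 else E_3805
def eT_3803_3806 (j : ℕ) : ℕ := bif Nat.blt j 3804 then E_3803 else (eT_3804_3806 j)
def eT_3801_3806 (j : ℕ) : ℕ := bif Nat.blt j 3803 then (eT_3801_3803 j) else (eT_3803_3806 j)
def eT_3797_3806 (j : ℕ) : ℕ := bif Nat.blt j 3801 then (eT_3797_3801 j) else (eT_3801_3806 j)
def eT_3789_3806 (j : ℕ) : ℕ := bif Nat.blt j 3797 then (eT_3789_3797 j) else (eT_3797_3806 j)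
def eT_3773_3806 (j : ℕ) : ℕ := bif Nat.blt j 3789 then (eT_3773_3789 j) else (eT_3789_3806 j)
def eT_3740_3806 (j : ℕ) : ℕ := bif Nat.blt j 3773 then (eT_3740_3773 j) else (eT_3773_3806 j)
def eT_3806_3808 (j : ℕ) : ℕ := bif Nat.blt j 3807 then E_3806 else E_3807
def eT_3808_3810 (j : ℕ) : ℕ := bif Nat.blt j 3809 then E_3808 else E_3809
def eT_3806_3810 (j : ℕ) : ℕ := bif Nat.blt j 3808 then (eT_3806_3808 j) else (eT_3808_3810 j)
def eT_3810_3812 (j : ℕ) : ℕ := bif Nat.blt j 3811 then E_3810 else E_3811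
def eT_3812_3814 (j : ℕ) : ℕ := bif Nat.blt j 3813 then E_3812 else E_3813
def eT_3810_3814 (j : ℕ) : ℕ := bif Nat.blt j 3812 then (eT_3810_3812 j) else (eT_3812_3814 j)
def eT_3806_3814 (j : ℕ) : ℕ := bif Nat.blt j 3810 then (eT_3806_3810 j) else (eT_3810_3814 j)
def eT_3814_3816 (j : ℕ) : ℕ := bif Nat.blt j 3815 then E_3814 else E_3815
def eT_3816_3818 (j : ℕ) : ℕ := bif Nat.blt j 3817 then E_3816 else E_3817
def eT_3814_3818 (j : ℕ) : ℕ := bif Nat.blt j 3816 then (eT_3814_3816 j) else (eT_3816_3818 j)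
def eT_3818_3820 (j : ℕ) : ℕ := bif Nat.blt j 3819 then E_3818 else E_3819
def eT_3820_3822 (j : ℕ) : ℕ := bif Nat.blt j 3821 then E_3820 else E_3821
def eT_3818_3822 (j : ℕ) : ℕ := bif Nat.blt j 3820 then (eT_3818_3820 j) else (eT_3820_3822 j)
def eT_3814_3822 (j : ℕ) : ℕ := bif Nat.blt j 3818 then (eT_3814_3818 j) else (eT_3818_3822 j)
def eT_3806_3822 (j : ℕ) : ℕ := bif Nat.blt j 3814 then (eT_3806_3814 j) else (eT_3814_3822 j)
def eT_3822_3824 (j : ℕ) : ℕ := bif Nat.blt j 3823 then E_3822 else E_3823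
def eT_3824_3826 (j : ℕ) : ℕ := bif Nat.blt j 3825 then E_3824 else E_3825
def eT_3822_3826 (j : ℕ) : ℕ := bif Nat.blt j 3824 then (eT_3822_3824 j) else (eT_3824_3826 j)
def eT_3826_3828 (j : ℕ) : ℕ := bif Nat.blt j 3827 then E_3826 else E_3827
def eT_3828_3830 (j : ℕ) : ℕ := bif Nat.blt j 3829 then E_3828 else E_3829
def eT_3826_3830 (j : ℕ) : ℕ := bif Nat.blt j 3828 then (eT_3826_3828 j) else (eT_3828_3830 j)
def eT_3822_3830 (j : ℕ) : ℕ := bif Nat.blt j 3826 then (eT_3822_3826 j) else (eT_3826_3830 j)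
def eT_3830_3832 (j : ℕ) : ℕ := bif Nat.blt j 3831 then E_3830 else E_3831
def eT_3832_3834 (j : ℕ) : ℕ := bif Nat.blt j 3833 then E_3832 else E_3833
def eT_3830_3834 (j : ℕ) : ℕ := bif Nat.blt j 3832 then (eT_3830_3832 j) else (eT_3832_3834 j)
def eT_3834_3836 (j : ℕ) : ℕ := bif Nat.blt j 3835 then E_3834 else E_3835
def eT_3837_3839 (j : ℕ) : ℕ := bif Nat.blt j 3838 then E_3837 else E_3838
def eT_3836_3839 (j : ℕ) : ℕ := bif Nat.blt j 3837 then E_3836 else (eT_3837_3839 j)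
def eT_3834_3839 (j : ℕ) : ℕ := bif Nat.blt j 3836 then (eT_3834_3836 j) else (eT_3836_3839 j)
def eT_3830_3839 (j : ℕ) : ℕ := bif Nat.blt j 3834 then (eT_3830_3834 j) else (eT_3834_3839 j)
def eT_3822_3839 (j : ℕ) : ℕ := bif Nat.blt j 3830 then (eT_3822_3830 j) else (eT_3830_3839 j)
def eT_3806_3839 (j : ℕ) : ℕ := bif Nat.blt j 3822 then (eT_3806_3822 j) else (eT_3822_3839 j)
def eT_3839_3841 (j : ℕ) : ℕ := bif Nat.blt j 3840 then E_3839 else E_3840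
def eT_3841_3843 (j : ℕ) : ℕ := bif Nat.blt j 3842 then E_3841 else E_3842
def eT_3839_3843 (j : ℕ) : ℕ := bif Nat.blt j 3841 then (eT_3839_3841 j) else (eT_3841_3843 j)
def eT_3843_3845 (j : ℕ) : ℕ := bif Nat.blt j 3844 then E_3843 else E_3844
def eT_3845_3847 (j : ℕ) : ℕ := bif Nat.blt j 3846 then E_3845 else E_3846
def eT_3843_3847 (j : ℕ) : ℕ := bif Nat.blt j 3845 then (eT_3843_3845 j) else (eT_3845_3847 j)
def eT_3839_3847 (j : ℕ) : ℕ := bif Nat.blt j 3843 then (eT_3839_3843 j) else (eT_3843_3847 j)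
def eT_3847_3849 (j : ℕ) : ℕ := bif Nat.blt j 3848 then E_3847 else E_3848
def eT_3849_3851 (j : ℕ) : ℕ := bif Nat.blt j 3850 then E_3849 else E_3850
def eT_3847_3851 (j : ℕ) : ℕ := bif Nat.blt j 3849 then (eT_3847_3849 j) else (eT_3849_3851 j)
def eT_3851_3853 (j : ℕ) : ℕ := bif Nat.blt j 3852 then E_3851 else E_3852
def eT_3854_3856 (j : ℕ) : ℕ := bif Nat.blt j 3855 then E_3854 else E_3855
def eT_3853_3856 (j : ℕ) : ℕ := bif Nat.blt j 3854 then E_3853 else (eT_3854_3856 j)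
def eT_3851_3856 (j : ℕ) : ℕ := bif Nat.blt j 3853 then (eT_3851_3853 j) else (eT_3853_3856 j)
def eT_3847_3856 (j : ℕ) : ℕ := bif Nat.blt j 3851 then (eT_3847_3851 j) else (eT_3851_3856 j)
def eT_3839_3856 (j : ℕ) : ℕ := bif Nat.blt j 3847 then (eT_3839_3847 j) else (eT_3847_3856 j)
def eT_3856_3858 (j : ℕ) : ℕ := bif Nat.blt j 3857 then E_3856 else E_3857
def eT_3858_3860 (j : ℕ) : ℕ := bif Nat.blt j 3859 then E_3858 else E_3859
def eT_3856_3860 (j : ℕ) : ℕ := bif Nat.blt j 3858 then (eT_3856_3858 j) else (eT_3858_3860 j)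
def eT_3860_3862 (j : ℕ) : ℕ := bif Nat.blt j 3861 then E_3860 else E_3861
def eT_3862_3864 (j : ℕ) : ℕ := bif Nat.blt j 3863 then E_3862 else E_3863
def eT_3860_3864 (j : ℕ) : ℕ := bif Nat.blt j 3862 then (eT_3860_3862 j) else (eT_3862_3864 j)
def eT_3856_3864 (j : ℕ) : ℕ := bif Nat.blt j 3860 then (eT_3856_3860 j) else (eT_3860_3864 j)
def eT_3864_3866 (j : ℕ) : ℕ := bif Nat.blt j 3865 then E_3864 else E_3865
def eT_3866_3868 (j : ℕ) : ℕ := bif Nat.blt j 3867 then E_3866 else E_3867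
def eT_3864_3868 (j : ℕ) : ℕ := bif Nat.blt j 3866 then (eT_3864_3866 j) else (eT_3866_3868 j)
def eT_3868_3870 (j : ℕ) : ℕ := bif Nat.blt j 3869 then E_3868 else E_3869
def eT_3871_3873 (j : ℕ) : ℕ := bif Nat.blt j 3872 then E_3871 else E_3872
def eT_3870_3873 (j : ℕ) : ℕ := bif Nat.blt j 3871 then E_3870 else (eT_3871_3873 j)
def eT_3868_3873 (j : ℕ) : ℕ := bif Nat.blt j 3870 then (eT_3868_3870 j) else (eT_3870_3873 j)
def eT_3864_3873 (j : ℕ) : ℕ := bif Nat.blt j 3868 then (eT_3864_3868 j) else (eT_3868_3873 j)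
def eT_3856_3873 (j : ℕ) : ℕ := bif Nat.blt j 3864 then (eT_3856_3864 j) else (eT_3864_3873 j)
def eT_3839_3873 (j : ℕ) : ℕ := bif Nat.blt j 3856 then (eT_3839_3856 j) else (eT_3856_3873 j)
def eT_3806_3873 (j : ℕ) : ℕ := bif Nat.blt j 3839 then (eT_3806_3839 j) else (eT_3839_3873 j)
def eT_3740_3873 (j : ℕ) : ℕ := bif Nat.blt j 3806 then (eT_3740_3806 j) else (eT_3806_3873 j)
def eT_3873_3875 (j : ℕ) : ℕ := bif Nat.blt j 3874 then E_3873 else E_3874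
def eT_3875_3877 (j : ℕ) : ℕ := bif Nat.blt j 3876 then E_3875 else E_3876
def eT_3873_3877 (j : ℕ) : ℕ := bif Nat.blt j 3875 then (eT_3873_3875 j) else (eT_3875_3877 j)
def eT_3877_3879 (j : ℕ) : ℕ := bif Nat.blt j 3878 then E_3877 else E_3878
def eT_3879_3881 (j : ℕ) : ℕ := bif Nat.blt j 3880 then E_3879 else E_3880
def eT_3877_3881 (j : ℕ) : ℕ := bif Nat.blt j 3879 then (eT_3877_3879 j) else (eT_3879_3881 j)
def eT_3873_3881 (j : ℕ) : ℕ := bif Nat.blt j 3877 then (eT_3873_3877 j) else (eT_3877_3881 j)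
def eT_3881_3883 (j : ℕ) : ℕ := bif Nat.blt j 3882 then E_3881 else E_3882
def eT_3883_3885 (j : ℕ) : ℕ := bif Nat.blt j 3884 then E_3883 else E_3884
def eT_3881_3885 (j : ℕ) : ℕ := bif Nat.blt j 3883 then (eT_3881_3883 j) else (eT_3883_3885 j)
def eT_3885_3887 (j : ℕ) : ℕ := bif Nat.blt j 3886 then E_3885 else E_3886
def eT_3887_3889 (j : ℕ) : ℕ := bif Nat.blt j 3888 then E_3887 else E_3888
def eT_3885_3889 (j : ℕ) : ℕ := bif Nat.blt j 3887 then (eT_3885_3887 j) else (eT_3887_3889 j)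
def eT_3881_3889 (j : ℕ) : ℕ := bif Nat.blt j 3885 then (eT_3881_3885 j) else (eT_3885_3889 j)
def eT_3873_3889 (j : ℕ) : ℕ := bif Nat.blt j 3881 then (eT_3873_3881 j) else (eT_3881_3889 j)
def eT_3889_3891 (j : ℕ) : ℕ := bif Nat.blt j 3890 then E_3889 else E_3890
def eT_3891_3893 (j : ℕ) : ℕ := bif Nat.blt j 3892 then E_3891 else E_3892
def eT_3889_3893 (j : ℕ) : ℕ := bif Nat.blt j 3891 then (eT_3889_3891 j) else (eT_3891_3893 j)
def eT_3893_3895 (j : ℕ) : ℕ := bif Nat.blt j 3894 then E_3893 else E_3894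
def eT_3895_3897 (j : ℕ) : ℕ := bif Nat.blt j 3896 then E_3895 else E_3896
def eT_3893_3897 (j : ℕ) : ℕ := bif Nat.blt j 3895 then (eT_3893_3895 j) else (eT_3895_3897 j)
def eT_3889_3897 (j : ℕ) : ℕ := bif Nat.blt j 3893 then (eT_3889_3893 j) else (eT_3893_3897 j)
def eT_3897_3899 (j : ℕ) : ℕ := bif Nat.blt j 3898 then E_3897 else E_3898
def eT_3899_3901 (j : ℕ) : ℕ := bif Nat.blt j 3900 then E_3899 else E_3900
def eT_3897_3901 (j : ℕ) : ℕ := bif Nat.blt j 3899 then (eT_3897_3899 j) else (eT_3899_3901 j)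
def eT_3901_3903 (j : ℕ) : ℕ := bif Nat.blt j 3902 then E_3901 else E_3902
def eT_3904_3906 (j : ℕ) : ℕ := bif Nat.blt j 3905 then E_3904 else E_3905
def eT_3903_3906 (j : ℕ) : ℕ := bif Nat.blt j 3904 then E_3903 else (eT_3904_3906 j)
def eT_3901_3906 (j : ℕ) : ℕ := bif Nat.blt j 3903 then (eT_3901_3903 j) else (eT_3903_3906 j)
def eT_3897_3906 (j : ℕ) : ℕ := bif Nat.blt j 3901 then (eT_3897_3901 j) else (eT_3901_3906 j)
def eT_3889_3906 (j : ℕ) : ℕ := bif Nat.blt j 3897 then (eT_3889_3897 j) else (eT_3897_3906 j)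
def eT_3873_3906 (j : ℕ) : ℕ := bif Nat.blt j 3889 then (eT_3873_3889 j) else (eT_3889_3906 j)
def eT_3906_3908 (j : ℕ) : ℕ := bif Nat.blt j 3907 then E_3906 else E_3907
def eT_3908_3910 (j : ℕ) : ℕ := bif Nat.blt j 3909 then E_3908 else E_3909
def eT_3906_3910 (j : ℕ) : ℕ := bif Nat.blt j 3908 then (eT_3906_3908 j) else (eT_3908_3910 j)
def eT_3910_3912 (j : ℕ) : ℕ := bif Nat.blt j 3911 then E_3910 else E_3911
def eT_3912_3914 (j : ℕ) : ℕ := bif Nat.blt j 3913 then E_3912 else E_3913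
def eT_3910_3914 (j : ℕ) : ℕ := bif Nat.blt j 3912 then (eT_3910_3912 j) else (eT_3912_3914 j)
def eT_3906_3914 (j : ℕ) : ℕ := bif Nat.blt j 3910 then (eT_3906_3910 j) else (eT_3910_3914 j)
def eT_3914_3916 (j : ℕ) : ℕ := bif Nat.blt j 3915 then E_3914 else E_3915
def eT_3916_3918 (j : ℕ) : ℕ := bif Nat.blt j 3917 then E_3916 else E_3917
def eT_3914_3918 (j : ℕ) : ℕ := bif Nat.blt j 3916 then (eT_3914_3916 j) else (eT_3916_3918 j)
def eT_3918_3920 (j : ℕ) : ℕ := bif Nat.blt j 3919 then E_3918 else E_3919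
def eT_3921_3923 (j : ℕ) : ℕ := bif Nat.blt j 3922 then E_3921 else E_3922
def eT_3920_3923 (j : ℕ) : ℕ := bif Nat.blt j 3921 then E_3920 else (eT_3921_3923 j)
def eT_3918_3923 (j : ℕ) : ℕ := bif Nat.blt j 3920 then (eT_3918_3920 j) else (eT_3920_3923 j)
def eT_3914_3923 (j : ℕ) : ℕ := bif Nat.blt j 3918 then (eT_3914_3918 j) else (eT_3918_3923 j)
def eT_3906_3923 (j : ℕ) : ℕ := bif Nat.blt j 3914 then (eT_3906_3914 j) else (eT_3914_3923 j)
def eT_3923_3925 (j : ℕ) : ℕ := bif Nat.blt j 3924 then E_3923 else E_3924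
def eT_3925_3927 (j : ℕ) : ℕ := bif Nat.blt j 3926 then E_3925 else E_3926
def eT_3923_3927 (j : ℕ) : ℕ := bif Nat.blt j 3925 then (eT_3923_3925 j) else (eT_3925_3927 j)
def eT_3927_3929 (j : ℕ) : ℕ := bif Nat.blt j 3928 then E_3927 else E_3928
def eT_3929_3931 (j : ℕ) : ℕ := bif Nat.blt j 3930 then E_3929 else E_3930
def eT_3927_3931 (j : ℕ) : ℕ := bif Nat.blt j 3929 then (eT_3927_3929 j) else (eT_3929_3931 j)
def eT_3923_3931 (j : ℕ) : ℕ := bif Nat.blt j 3927 then (eT_3923_3927 j) else (eT_3927_3931 j)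
def eT_3931_3933 (j : ℕ) : ℕ := bif Nat.blt j 3932 then E_3931 else E_3932
def eT_3933_3935 (j : ℕ) : ℕ := bif Nat.blt j 3934 then E_3933 else E_3934
def eT_3931_3935 (j : ℕ) : ℕ := bif Nat.blt j 3933 then (eT_3931_3933 j) else (eT_3933_3935 j)
def eT_3935_3937 (j : ℕ) : ℕ := bif Nat.blt j 3936 then E_3935 else E_3936
def eT_3938_3940 (j : ℕ) : ℕ := bif Nat.blt j 3939 then E_3938 else E_3939
def eT_3937_3940 (j : ℕ) : ℕ := bif Nat.blt j 3938 then E_3937 else (eT_3938_3940 j)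
def eT_3935_3940 (j : ℕ) : ℕ := bif Nat.blt j 3937 then (eT_3935_3937 j) else (eT_3937_3940 j)
def eT_3931_3940 (j : ℕ) : ℕ := bif Nat.blt j 3935 then (eT_3931_3935 j) else (eT_3935_3940 j)
def eT_3923_3940 (j : ℕ) : ℕ := bif Nat.blt j 3931 then (eT_3923_3931 j) else (eT_3931_3940 j)
def eT_3906_3940 (j : ℕ) : ℕ := bif Nat.blt j 3923 then (eT_3906_3923 j) else (eT_3923_3940 j)
def eT_3873_3940 (j : ℕ) : ℕ := bif Nat.blt j 3906 then (eT_3873_3906 j) else (eT_3906_3940 j)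
def eT_3940_3942 (j : ℕ) : ℕ := bif Nat.blt j 3941 then E_3940 else E_3941
def eT_3942_3944 (j : ℕ) : ℕ := bif Nat.blt j 3943 then E_3942 else E_3943
def eT_3940_3944 (j : ℕ) : ℕ := bif Nat.blt j 3942 then (eT_3940_3942 j) else (eT_3942_3944 j)
def eT_3944_3946 (j : ℕ) : ℕ := bif Nat.blt j 3945 then E_3944 else E_3945
def eT_3946_3948 (j : ℕ) : ℕ := bif Nat.blt j 3947 then E_3946 else E_3947
def eT_3944_3948 (j : ℕ) : ℕ := bif Nat.blt j 3946 then (eT_3944_3946 j) else (eT_3946_3948 j)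
def eT_3940_3948 (j : ℕ) : ℕ := bif Nat.blt j 3944 then (eT_3940_3944 j) else (eT_3944_3948 j)
def eT_3948_3950 (j : ℕ) : ℕ := bif Nat.blt j 3949 then E_3948 else E_3949
def eT_3950_3952 (j : ℕ) : ℕ := bif Nat.blt j 3951 then E_3950 else E_3951
def eT_3948_3952 (j : ℕ) : ℕ := bif Nat.blt j 3950 then (eT_3948_3950 j) else (eT_3950_3952 j)
def eT_3952_3954 (j : ℕ) : ℕ := bif Nat.blt j 3953 then E_3952 else E_3953
def eT_3954_3956 (j : ℕ) : ℕ := bif Nat.blt j 3955 then E_3954 else E_3955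
def eT_3952_3956 (j : ℕ) : ℕ := bif Nat.blt j 3954 then (eT_3952_3954 j) else (eT_3954_3956 j)
def eT_3948_3956 (j : ℕ) : ℕ := bif Nat.blt j 3952 then (eT_3948_3952 j) else (eT_3952_3956 j)
def eT_3940_3956 (j : ℕ) : ℕ := bif Nat.blt j 3948 then (eT_3940_3948 j) else (eT_3948_3956 j)
def eT_3956_3958 (j : ℕ) : ℕ := bif Nat.blt j 3957 then E_3956 else E_3957
def eT_3958_3960 (j : ℕ) : ℕ := bif Nat.blt j 3959 then E_3958 else E_3959
def eT_3956_3960 (j : ℕ) : ℕ := bif Nat.blt j 3958 then (eT_3956_3958 j) else (eT_3958_3960 j)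
def eT_3960_3962 (j : ℕ) : ℕ := bif Nat.blt j 3961 then E_3960 else E_3961
def eT_3962_3964 (j : ℕ) : ℕ := bif Nat.blt j 3963 then E_3962 else E_3963
def eT_3960_3964 (j : ℕ) : ℕ := bif Nat.blt j 3962 then (eT_3960_3962 j) else (eT_3962_3964 j)
def eT_3956_3964 (j : ℕ) : ℕ := bif Nat.blt j 3960 then (eT_3956_3960 j) else (eT_3960_3964 j)
def eT_3964_3966 (j : ℕ) : ℕ := bif Nat.blt j 3965 then E_3964 else E_3965
def eT_3966_3968 (j : ℕ) : ℕ := bif Nat.blt j 3967 then E_3966 else E_3967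
def eT_3964_3968 (j : ℕ) : ℕ := bif Nat.blt j 3966 then (eT_3964_3966 j) else (eT_3966_3968 j)
def eT_3968_3970 (j : ℕ) : ℕ := bif Nat.blt j 3969 then E_3968 else E_3969
def eT_3971_3973 (j : ℕ) : ℕ := bif Nat.blt j 3972 then E_3971 else E_3972
def eT_3970_3973 (j : ℕ) : ℕ := bif Nat.blt j 3971 then E_3970 else (eT_3971_3973 j)
def eT_3968_3973 (j : ℕ) : ℕ := bif Nat.blt j 3970 then (eT_3968_3970 j) else (eT_3970_3973 j)
def eT_3964_3973 (j : ℕ) : ℕ := bif Nat.blt j 3968 then (eT_3964_3968 j) else (eT_3968_3973 j)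
def eT_3956_3973 (j : ℕ) : ℕ := bif Nat.blt j 3964 then (eT_3956_3964 j) else (eT_3964_3973 j)
def eT_3940_3973 (j : ℕ) : ℕ := bif Nat.blt j 3956 then (eT_3940_3956 j) else (eT_3956_3973 j)
def eT_3973_3975 (j : ℕ) : ℕ := bif Nat.blt j 3974 then E_3973 else E_3974
def eT_3975_3977 (j : ℕ) : ℕ := bif Nat.blt j 3976 then E_3975 else E_3976
def eT_3973_3977 (j : ℕ) : ℕ := bif Nat.blt j 3975 then (eT_3973_3975 j) else (eT_3975_3977 j)
def eT_3977_3979 (j : ℕ) : ℕ := bif Nat.blt j 3978 then E_3977 else E_3978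
def eT_3979_3981 (j : ℕ) : ℕ := bif Nat.blt j 3980 then E_3979 else E_3980
def eT_3977_3981 (j : ℕ) : ℕ := bif Nat.blt j 3979 then (eT_3977_3979 j) else (eT_3979_3981 j)
def eT_3973_3981 (j : ℕ) : ℕ := bif Nat.blt j 3977 then (eT_3973_3977 j) else (eT_3977_3981 j)
def eT_3981_3983 (j : ℕ) : ℕ := bif Nat.blt j 3982 then E_3981 else E_3982
def eT_3983_3985 (j : ℕ) : ℕ := bif Nat.blt j 3984 then E_3983 else E_3984
def eT_3981_3985 (j : ℕ) : ℕ := bif Nat.blt j 3983 then (eT_3981_3983 j) else (eT_3983_3985 j)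
def eT_3985_3987 (j : ℕ) : ℕ := bif Nat.blt j 3986 then E_3985 else E_3986
def eT_3988_3990 (j : ℕ) : ℕ := bif Nat.blt j 3989 then E_3988 else E_3989
def eT_3987_3990 (j : ℕ) : ℕ := bif Nat.blt j 3988 then E_3987 else (eT_3988_3990 j)
def eT_3985_3990 (j : ℕ) : ℕ := bif Nat.blt j 3987 then (eT_3985_3987 j) else (eT_3987_3990 j)
def eT_3981_3990 (j : ℕ) : ℕ := bif Nat.blt j 3985 then (eT_3981_3985 j) else (eT_3985_3990 j)
def eT_3973_3990 (j : ℕ) : ℕ := bif Nat.blt j 3981 then (eT_3973_3981 j) else (eT_3981_3990 j)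
def eT_3990_3992 (j : ℕ) : ℕ := bif Nat.blt j 3991 then E_3990 else E_3991
def eT_3992_3994 (j : ℕ) : ℕ := bif Nat.blt j 3993 then E_3992 else E_3993
def eT_3990_3994 (j : ℕ) : ℕ := bif Nat.blt j 3992 then (eT_3990_3992 j) else (eT_3992_3994 j)
def eT_3994_3996 (j : ℕ) : ℕ := bif Nat.blt j 3995 then E_3994 else E_3995
def eT_3996_3998 (j : ℕ) : ℕ := bif Nat.blt j 3997 then E_3996 else E_3997
def eT_3994_3998 (j : ℕ) : ℕ := bif Nat.blt j 3996 then (eT_3994_3996 j) else (eT_3996_3998 j)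
def eT_3990_3998 (j : ℕ) : ℕ := bif Nat.blt j 3994 then (eT_3990_3994 j) else (eT_3994_3998 j)
def eT_3998_4000 (j : ℕ) : ℕ := bif Nat.blt j 3999 then E_3998 else E_3999
def eT_4000_4002 (j : ℕ) : ℕ := bif Nat.blt j 4001 then E_4000 else E_4001
def eT_3998_4002 (j : ℕ) : ℕ := bif Nat.blt j 4000 then (eT_3998_4000 j) else (eT_4000_4002 j)
def eT_4002_4004 (j : ℕ) : ℕ := bif Nat.blt j 4003 then E_4002 else E_4003
def eT_4005_4007 (j : ℕ) : ℕ := bif Nat.blt j 4006 then E_4005 else E_4006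
def eT_4004_4007 (j : ℕ) : ℕ := bif Nat.blt j 4005 then E_4004 else (eT_4005_4007 j)
def eT_4002_4007 (j : ℕ) : ℕ := bif Nat.blt j 4004 then (eT_4002_4004 j) else (eT_4004_4007 j)
def eT_3998_4007 (j : ℕ) : ℕ := bif Nat.blt j 4002 then (eT_3998_4002 j) else (eT_4002_4007 j)
def eT_3990_4007 (j : ℕ) : ℕ := bif Nat.blt j 3998 then (eT_3990_3998 j) else (eT_3998_4007 j)
def eT_3973_4007 (j : ℕ) : ℕ := bif Nat.blt j 3990 then (eT_3973_3990 j) else (eT_3990_4007 j)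
def eT_3940_4007 (j : ℕ) : ℕ := bif Nat.blt j 3973 then (eT_3940_3973 j) else (eT_3973_4007 j)
def eT_3873_4007 (j : ℕ) : ℕ := bif Nat.blt j 3940 then (eT_3873_3940 j) else (eT_3940_4007 j)
def eT_3740_4007 (j : ℕ) : ℕ := bif Nat.blt j 3873 then (eT_3740_3873 j) else (eT_3873_4007 j)
def eT_4007_4009 (j : ℕ) : ℕ := bif Nat.blt j 4008 then E_4007 else E_4008
def eT_4009_4011 (j : ℕ) : ℕ := bif Nat.blt j 4010 then E_4009 else E_4010
def eT_4007_4011 (j : ℕ) : ℕ := bif Nat.blt j 4009 then (eT_4007_4009 j) else (eT_4009_4011 j)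
def eT_4011_4013 (j : ℕ) : ℕ := bif Nat.blt j 4012 then E_4011 else E_4012
def eT_4013_4015 (j : ℕ) : ℕ := bif Nat.blt j 4014 then E_4013 else E_4014
def eT_4011_4015 (j : ℕ) : ℕ := bif Nat.blt j 4013 then (eT_4011_4013 j) else (eT_4013_4015 j)
def eT_4007_4015 (j : ℕ) : ℕ := bif Nat.blt j 4011 then (eT_4007_4011 j) else (eT_4011_4015 j)
def eT_4015_4017 (j : ℕ) : ℕ := bif Nat.blt j 4016 then E_4015 else E_4016
def eT_4017_4019 (j : ℕ) : ℕ := bif Nat.blt j 4018 then E_4017 else E_4018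
def eT_4015_4019 (j : ℕ) : ℕ := bif Nat.blt j 4017 then (eT_4015_4017 j) else (eT_4017_4019 j)
def eT_4019_4021 (j : ℕ) : ℕ := bif Nat.blt j 4020 then E_4019 else E_4020
def eT_4021_4023 (j : ℕ) : ℕ := bif Nat.blt j 4022 then E_4021 else E_4022
def eT_4019_4023 (j : ℕ) : ℕ := bif Nat.blt j 4021 then (eT_4019_4021 j) else (eT_4021_4023 j)
def eT_4015_4023 (j : ℕ) : ℕ := bif Nat.blt j 4019 then (eT_4015_4019 j) else (eT_4019_4023 j)
def eT_4007_4023 (j : ℕ) : ℕ := bif Nat.blt j 4015 then (eT_4007_4015 j) else (eT_4015_4023 j)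
def eT_4023_4025 (j : ℕ) : ℕ := bif Nat.blt j 4024 then E_4023 else E_4024
def eT_4025_4027 (j : ℕ) : ℕ := bif Nat.blt j 4026 then E_4025 else E_4026
def eT_4023_4027 (j : ℕ) : ℕ := bif Nat.blt j 4025 then (eT_4023_4025 j) else (eT_4025_4027 j)
def eT_4027_4029 (j : ℕ) : ℕ := bif Nat.blt j 4028 then E_4027 else E_4028
def eT_4029_4031 (j : ℕ) : ℕ := bif Nat.blt j 4030 then E_4029 else E_4030
def eT_4027_4031 (j : ℕ) : ℕ := bif Nat.blt j 4029 then (eT_4027_4029 j) else (eT_4029_4031 j)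
def eT_4023_4031 (j : ℕ) : ℕ := bif Nat.blt j 4027 then (eT_4023_4027 j) else (eT_4027_4031 j)
def eT_4031_4033 (j : ℕ) : ℕ := bif Nat.blt j 4032 then E_4031 else E_4032
def eT_4033_4035 (j : ℕ) : ℕ := bif Nat.blt j 4034 then E_4033 else E_4034
def eT_4031_4035 (j : ℕ) : ℕ := bif Nat.blt j 4033 then (eT_4031_4033 j) else (eT_4033_4035 j)
def eT_4035_4037 (j : ℕ) : ℕ := bif Nat.blt j 4036 then E_4035 else E_4036
def eT_4038_4040 (j : ℕ) : ℕ := bif Nat.blt j 4039 then E_4038 else E_4039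
def eT_4037_4040 (j : ℕ) : ℕ := bif Nat.blt j 4038 then E_4037 else (eT_4038_4040 j)
def eT_4035_4040 (j : ℕ) : ℕ := bif Nat.blt j 4037 then (eT_4035_4037 j) else (eT_4037_4040 j)
def eT_4031_4040 (j : ℕ) : ℕ := bif Nat.blt j 4035 then (eT_4031_4035 j) else (eT_4035_4040 j)
def eT_4023_4040 (j : ℕ) : ℕ := bif Nat.blt j 4031 then (eT_4023_4031 j) else (eT_4031_4040 j)
def eT_4007_4040 (j : ℕ) : ℕ := bif Nat.blt j 4023 then (eT_4007_4023 j) else (eT_4023_4040 j)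
def eT_4040_4042 (j : ℕ) : ℕ := bif Nat.blt j 4041 then E_4040 else E_4041
def eT_4042_4044 (j : ℕ) : ℕ := bif Nat.blt j 4043 then E_4042 else E_4043
def eT_4040_4044 (j : ℕ) : ℕ := bif Nat.blt j 4042 then (eT_4040_4042 j) else (eT_4042_4044 j)
def eT_4044_4046 (j : ℕ) : ℕ := bif Nat.blt j 4045 then E_4044 else E_4045
def eT_4046_4048 (j : ℕ) : ℕ := bif Nat.blt j 4047 then E_4046 else E_4047
def eT_4044_4048 (j : ℕ) : ℕ := bif Nat.blt j 4046 then (eT_4044_4046 j) else (eT_4046_4048 j)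
def eT_4040_4048 (j : ℕ) : ℕ := bif Nat.blt j 4044 then (eT_4040_4044 j) else (eT_4044_4048 j)
def eT_4048_4050 (j : ℕ) : ℕ := bif Nat.blt j 4049 then E_4048 else E_4049
def eT_4050_4052 (j : ℕ) : ℕ := bif Nat.blt j 4051 then E_4050 else E_4051
def eT_4048_4052 (j : ℕ) : ℕ := bif Nat.blt j 4050 then (eT_4048_4050 j) else (eT_4050_4052 j)
def eT_4052_4054 (j : ℕ) : ℕ := bif Nat.blt j 4053 then E_4052 else E_4053
def eT_4055_4057 (j : ℕ) : ℕ := bif Nat.blt j 4056 then E_4055 else E_4056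
def eT_4054_4057 (j : ℕ) : ℕ := bif Nat.blt j 4055 then E_4054 else (eT_4055_4057 j)
def eT_4052_4057 (j : ℕ) : ℕ := bif Nat.blt j 4054 then (eT_4052_4054 j) else (eT_4054_4057 j)
def eT_4048_4057 (j : ℕ) : ℕ := bif Nat.blt j 4052 then (eT_4048_4052 j) else (eT_4052_4057 j)
def eT_4040_4057 (j : ℕ) : ℕ := bif Nat.blt j 4048 then (eT_4040_4048 j) else (eT_4048_4057 j)
def eT_4057_4059 (j : ℕ) : ℕ := bif Nat.blt j 4058 then E_4057 else E_4058
def eT_4059_4061 (j : ℕ) : ℕ := bif Nat.blt j 4060 then E_4059 else E_4060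
def eT_4057_4061 (j : ℕ) : ℕ := bif Nat.blt j 4059 then (eT_4057_4059 j) else (eT_4059_4061 j)
def eT_4061_4063 (j : ℕ) : ℕ := bif Nat.blt j 4062 then E_4061 else E_4062
def eT_4063_4065 (j : ℕ) : ℕ := bif Nat.blt j 4064 then E_4063 else E_4064
def eT_4061_4065 (j : ℕ) : ℕ := bif Nat.blt j 4063 then (eT_4061_4063 j) else (eT_4063_4065 j)
def eT_4057_4065 (j : ℕ) : ℕ := bif Nat.blt j 4061 then (eT_4057_4061 j) else (eT_4061_4065 j)
def eT_4065_4067 (j : ℕ) : ℕ := bif Nat.blt j 4066 then E_4065 else E_4066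
def eT_4067_4069 (j : ℕ) : ℕ := bif Nat.blt j 4068 then E_4067 else E_4068
def eT_4065_4069 (j : ℕ) : ℕ := bif Nat.blt j 4067 then (eT_4065_4067 j) else (eT_4067_4069 j)
def eT_4069_4071 (j : ℕ) : ℕ := bif Nat.blt j 4070 then E_4069 else E_4070
def eT_4072_4074 (j : ℕ) : ℕ := bif Nat.blt j 4073 then E_4072 else E_4073
def eT_4071_4074 (j : ℕ) : ℕ := bif Nat.blt j 4072 then E_4071 else (eT_4072_4074 j)
def eT_4069_4074 (j : ℕ) : ℕ := bif Nat.blt j 4071 then (eT_4069_4071 j) else (eT_4071_4074 j)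
def eT_4065_4074 (j : ℕ) : ℕ := bif Nat.blt j 4069 then (eT_4065_4069 j) else (eT_4069_4074 j)
def eT_4057_4074 (j : ℕ) : ℕ := bif Nat.blt j 4065 then (eT_4057_4065 j) else (eT_4065_4074 j)
def eT_4040_4074 (j : ℕ) : ℕ := bif Nat.blt j 4057 then (eT_4040_4057 j) else (eT_4057_4074 j)
def eT_4007_4074 (j : ℕ) : ℕ := bif Nat.blt j 4040 then (eT_4007_4040 j) else (eT_4040_4074 j)
def eT_4074_4076 (j : ℕ) : ℕ := bif Nat.blt j 4075 then E_4074 else E_4075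
def eT_4076_4078 (j : ℕ) : ℕ := bif Nat.blt j 4077 then E_4076 else E_4077
def eT_4074_4078 (j : ℕ) : ℕ := bif Nat.blt j 4076 then (eT_4074_4076 j) else (eT_4076_4078 j)
def eT_4078_4080 (j : ℕ) : ℕ := bif Nat.blt j 4079 then E_4078 else E_4079
def eT_4080_4082 (j : ℕ) : ℕ := bif Nat.blt j 4081 then E_4080 else E_4081
def eT_4078_4082 (j : ℕ) : ℕ := bif Nat.blt j 4080 then (eT_4078_4080 j) else (eT_4080_4082 j)
def eT_4074_4082 (j : ℕ) : ℕ := bif Nat.blt j 4078 then (eT_4074_4078 j) else (eT_4078_4082 j)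
def eT_4082_4084 (j : ℕ) : ℕ := bif Nat.blt j 4083 then E_4082 else E_4083
def eT_4084_4086 (j : ℕ) : ℕ := bif Nat.blt j 4085 then E_4084 else E_4085
def eT_4082_4086 (j : ℕ) : ℕ := bif Nat.blt j 4084 then (eT_4082_4084 j) else (eT_4084_4086 j)
def eT_4086_4088 (j : ℕ) : ℕ := bif Nat.blt j 4087 then E_4086 else E_4087
def eT_4088_4090 (j : ℕ) : ℕ := bif Nat.blt j 4089 then E_4088 else E_4089
def eT_4086_4090 (j : ℕ) : ℕ := bif Nat.blt j 4088 then (eT_4086_4088 j) else (eT_4088_4090 j)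
def eT_4082_4090 (j : ℕ) : ℕ := bif Nat.blt j 4086 then (eT_4082_4086 j) else (eT_4086_4090 j)
def eT_4074_4090 (j : ℕ) : ℕ := bif Nat.blt j 4082 then (eT_4074_4082 j) else (eT_4082_4090 j)
def eT_4090_4092 (j : ℕ) : ℕ := bif Nat.blt j 4091 then E_4090 else E_4091
def eT_4092_4094 (j : ℕ) : ℕ := bif Nat.blt j 4093 then E_4092 else E_4093
def eT_4090_4094 (j : ℕ) : ℕ := bif Nat.blt j 4092 then (eT_4090_4092 j) else (eT_4092_4094 j)
def eT_4094_4096 (j : ℕ) : ℕ := bif Nat.blt j 4095 then E_4094 else E_4095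
def eT_4096_4098 (j : ℕ) : ℕ := bif Nat.blt j 4097 then E_4096 else E_4097
def eT_4094_4098 (j : ℕ) : ℕ := bif Nat.blt j 4096 then (eT_4094_4096 j) else (eT_4096_4098 j)
def eT_4090_4098 (j : ℕ) : ℕ := bif Nat.blt j 4094 then (eT_4090_4094 j) else (eT_4094_4098 j)
def eT_4098_4100 (j : ℕ) : ℕ := bif Nat.blt j 4099 then E_4098 else E_4099
def eT_4100_4102 (j : ℕ) : ℕ := bif Nat.blt j 4101 then E_4100 else E_4101
def eT_4098_4102 (j : ℕ) : ℕ := bif Nat.blt j 4100 then (eT_4098_4100 j) else (eT_4100_4102 j)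
def eT_4102_4104 (j : ℕ) : ℕ := bif Nat.blt j 4103 then E_4102 else E_4103
def eT_4105_4107 (j : ℕ) : ℕ := bif Nat.blt j 4106 then E_4105 else E_4106
def eT_4104_4107 (j : ℕ) : ℕ := bif Nat.blt j 4105 then E_4104 else (eT_4105_4107 j)
def eT_4102_4107 (j : ℕ) : ℕ := bif Nat.blt j 4104 then (eT_4102_4104 j) else (eT_4104_4107 j)
def eT_4098_4107 (j : ℕ) : ℕ := bif Nat.blt j 4102 then (eT_4098_4102 j) else (eT_4102_4107 j)
def eT_4090_4107 (j : ℕ) : ℕ := bif Nat.blt j 4098 then (eT_4090_4098 j) else (eT_4098_4107 j)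
def eT_4074_4107 (j : ℕ) : ℕ := bif Nat.blt j 4090 then (eT_4074_4090 j) else (eT_4090_4107 j)
def eT_4107_4109 (j : ℕ) : ℕ := bif Nat.blt j 4108 then E_4107 else E_4108
def eT_4109_4111 (j : ℕ) : ℕ := bif Nat.blt j 4110 then E_4109 else E_4110
def eT_4107_4111 (j : ℕ) : ℕ := bif Nat.blt j 4109 then (eT_4107_4109 j) else (eT_4109_4111 j)
def eT_4111_4113 (j : ℕ) : ℕ := bif Nat.blt j 4112 then E_4111 else E_4112
def eT_4113_4115 (j : ℕ) : ℕ := bif Nat.blt j 4114 then E_4113 else E_4114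
def eT_4111_4115 (j : ℕ) : ℕ := bif Nat.blt j 4113 then (eT_4111_4113 j) else (eT_4113_4115 j)
def eT_4107_4115 (j : ℕ) : ℕ := bif Nat.blt j 4111 then (eT_4107_4111 j) else (eT_4111_4115 j)
def eT_4115_4117 (j : ℕ) : ℕ := bif Nat.blt j 4116 then E_4115 else E_4116
def eT_4117_4119 (j : ℕ) : ℕ := bif Nat.blt j 4118 then E_4117 else E_4118
def eT_4115_4119 (j : ℕ) : ℕ := bif Nat.blt j 4117 then (eT_4115_4117 j) else (eT_4117_4119 j)
def eT_4119_4121 (j : ℕ) : ℕ := bif Nat.blt j 4120 then E_4119 else E_4120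
def eT_4122_4124 (j : ℕ) : ℕ := bif Nat.blt j 4123 then E_4122 else E_4123
def eT_4121_4124 (j : ℕ) : ℕ := bif Nat.blt j 4122 then E_4121 else (eT_4122_4124 j)
def eT_4119_4124 (j : ℕ) : ℕ := bif Nat.blt j 4121 then (eT_4119_4121 j) else (eT_4121_4124 j)
def eT_4115_4124 (j : ℕ) : ℕ := bif Nat.blt j 4119 then (eT_4115_4119 j) else (eT_4119_4124 j)
def eT_4107_4124 (j : ℕ) : ℕ := bif Nat.blt j 4115 then (eT_4107_4115 j) else (eT_4115_4124 j)
def eT_4124_4126 (j : ℕ) : ℕ := bif Nat.blt j 4125 then E_4124 else E_4125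
def eT_4126_4128 (j : ℕ) : ℕ := bif Nat.blt j 4127 then E_4126 else E_4127
def eT_4124_4128 (j : ℕ) : ℕ := bif Nat.blt j 4126 then (eT_4124_4126 j) else (eT_4126_4128 j)
def eT_4128_4130 (j : ℕ) : ℕ := bif Nat.blt j 4129 then E_4128 else E_4129
def eT_4130_4132 (j : ℕ) : ℕ := bif Nat.blt j 4131 then E_4130 else E_4131
def eT_4128_4132 (j : ℕ) : ℕ := bif Nat.blt j 4130 then (eT_4128_4130 j) else (eT_4130_4132 j)
def eT_4124_4132 (j : ℕ) : ℕ := bif Nat.blt j 4128 then (eT_4124_4128 j) else (eT_4128_4132 j)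
def eT_4132_4134 (j : ℕ) : ℕ := bif Nat.blt j 4133 then E_4132 else E_4133
def eT_4134_4136 (j : ℕ) : ℕ := bif Nat.blt j 4135 then E_4134 else E_4135
def eT_4132_4136 (j : ℕ) : ℕ := bif Nat.blt j 4134 then (eT_4132_4134 j) else (eT_4134_4136 j)
def eT_4136_4138 (j : ℕ) : ℕ := bif Nat.blt j 4137 then E_4136 else E_4137
def eT_4139_4141 (j : ℕ) : ℕ := bif Nat.blt j 4140 then E_4139 else E_4140
def eT_4138_4141 (j : ℕ) : ℕ := bif Nat.blt j 4139 then E_4138 else (eT_4139_4141 j)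
def eT_4136_4141 (j : ℕ) : ℕ := bif Nat.blt j 4138 then (eT_4136_4138 j) else (eT_4138_4141 j)
def eT_4132_4141 (j : ℕ) : ℕ := bif Nat.blt j 4136 then (eT_4132_4136 j) else (eT_4136_4141 j)
def eT_4124_4141 (j : ℕ) : ℕ := bif Nat.blt j 4132 then (eT_4124_4132 j) else (eT_4132_4141 j)
def eT_4107_4141 (j : ℕ) : ℕ := bif Nat.blt j 4124 then (eT_4107_4124 j) else (eT_4124_4141 j)
def eT_4074_4141 (j : ℕ) : ℕ := bif Nat.blt j 4107 then (eT_4074_4107 j) else (eT_4107_4141 j)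
def eT_4007_4141 (j : ℕ) : ℕ := bif Nat.blt j 4074 then (eT_4007_4074 j) else (eT_4074_4141 j)
def eT_4141_4143 (j : ℕ) : ℕ := bif Nat.blt j 4142 then E_4141 else E_4142
def eT_4143_4145 (j : ℕ) : ℕ := bif Nat.blt j 4144 then E_4143 else E_4144
def eT_4141_4145 (j : ℕ) : ℕ := bif Nat.blt j 4143 then (eT_4141_4143 j) else (eT_4143_4145 j)
def eT_4145_4147 (j : ℕ) : ℕ := bif Nat.blt j 4146 then E_4145 else E_4146
def eT_4147_4149 (j : ℕ) : ℕ := bif Nat.blt j 4148 then E_4147 else E_4148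
def eT_4145_4149 (j : ℕ) : ℕ := bif Nat.blt j 4147 then (eT_4145_4147 j) else (eT_4147_4149 j)
def eT_4141_4149 (j : ℕ) : ℕ := bif Nat.blt j 4145 then (eT_4141_4145 j) else (eT_4145_4149 j)
def eT_4149_4151 (j : ℕ) : ℕ := bif Nat.blt j 4150 then E_4149 else E_4150
def eT_4151_4153 (j : ℕ) : ℕ := bif Nat.blt j 4152 then E_4151 else E_4152
def eT_4149_4153 (j : ℕ) : ℕ := bif Nat.blt j 4151 then (eT_4149_4151 j) else (eT_4151_4153 j)
def eT_4153_4155 (j : ℕ) : ℕ := bif Nat.blt j 4154 then E_4153 else E_4154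
def eT_4155_4157 (j : ℕ) : ℕ := bif Nat.blt j 4156 then E_4155 else E_4156
def eT_4153_4157 (j : ℕ) : ℕ := bif Nat.blt j 4155 then (eT_4153_4155 j) else (eT_4155_4157 j)
def eT_4149_4157 (j : ℕ) : ℕ := bif Nat.blt j 4153 then (eT_4149_4153 j) else (eT_4153_4157 j)
def eT_4141_4157 (j : ℕ) : ℕ := bif Nat.blt j 4149 then (eT_4141_4149 j) else (eT_4149_4157 j)
def eT_4157_4159 (j : ℕ) : ℕ := bif Nat.blt j 4158 then E_4157 else E_4158
def eT_4159_4161 (j : ℕ) : ℕ := bif Nat.blt j 4160 then E_4159 else E_4160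
def eT_4157_4161 (j : ℕ) : ℕ := bif Nat.blt j 4159 then (eT_4157_4159 j) else (eT_4159_4161 j)
def eT_4161_4163 (j : ℕ) : ℕ := bif Nat.blt j 4162 then E_4161 else E_4162
def eT_4163_4165 (j : ℕ) : ℕ := bif Nat.blt j 4164 then E_4163 else E_4164
def eT_4161_4165 (j : ℕ) : ℕ := bif Nat.blt j 4163 then (eT_4161_4163 j) else (eT_4163_4165 j)
def eT_4157_4165 (j : ℕ) : ℕ := bif Nat.blt j 4161 then (eT_4157_4161 j) else (eT_4161_4165 j)
def eT_4165_4167 (j : ℕ) : ℕ := bif Nat.blt j 4166 then E_4165 else E_4166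
def eT_4167_4169 (j : ℕ) : ℕ := bif Nat.blt j 4168 then E_4167 else E_4168
def eT_4165_4169 (j : ℕ) : ℕ := bif Nat.blt j 4167 then (eT_4165_4167 j) else (eT_4167_4169 j)
def eT_4169_4171 (j : ℕ) : ℕ := bif Nat.blt j 4170 then E_4169 else E_4170
def eT_4172_4174 (j : ℕ) : ℕ := bif Nat.blt j 4173 then E_4172 else E_4173
def eT_4171_4174 (j : ℕ) : ℕ := bif Nat.blt j 4172 then E_4171 else (eT_4172_4174 j)
def eT_4169_4174 (j : ℕ) : ℕ := bif Nat.blt j 4171 then (eT_4169_4171 j) else (eT_4171_4174 j)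
def eT_4165_4174 (j : ℕ) : ℕ := bif Nat.blt j 4169 then (eT_4165_4169 j) else (eT_4169_4174 j)
def eT_4157_4174 (j : ℕ) : ℕ := bif Nat.blt j 4165 then (eT_4157_4165 j) else (eT_4165_4174 j)
def eT_4141_4174 (j : ℕ) : ℕ := bif Nat.blt j 4157 then (eT_4141_4157 j) else (eT_4157_4174 j)
def eT_4174_4176 (j : ℕ) : ℕ := bif Nat.blt j 4175 then E_4174 else E_4175
def eT_4176_4178 (j : ℕ) : ℕ := bif Nat.blt j 4177 then E_4176 else E_4177
def eT_4174_4178 (j : ℕ) : ℕ := bif Nat.blt j 4176 then (eT_4174_4176 j) else (eT_4176_4178 j)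
def eT_4178_4180 (j : ℕ) : ℕ := bif Nat.blt j 4179 then E_4178 else E_4179
def eT_4180_4182 (j : ℕ) : ℕ := bif Nat.blt j 4181 then E_4180 else E_4181
def eT_4178_4182 (j : ℕ) : ℕ := bif Nat.blt j 4180 then (eT_4178_4180 j) else (eT_4180_4182 j)
def eT_4174_4182 (j : ℕ) : ℕ := bif Nat.blt j 4178 then (eT_4174_4178 j) else (eT_4178_4182 j)
def eT_4182_4184 (j : ℕ) : ℕ := bif Nat.blt j 4183 then E_4182 else E_4183
def eT_4184_4186 (j : ℕ) : ℕ := bif Nat.blt j 4185 then E_4184 else E_4185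
def eT_4182_4186 (j : ℕ) : ℕ := bif Nat.blt j 4184 then (eT_4182_4184 j) else (eT_4184_4186 j)
def eT_4186_4188 (j : ℕ) : ℕ := bif Nat.blt j 4187 then E_4186 else E_4187
def eT_4189_4191 (j : ℕ) : ℕ := bif Nat.blt j 4190 then E_4189 else E_4190
def eT_4188_4191 (j : ℕ) : ℕ := bif Nat.blt j 4189 then E_4188 else (eT_4189_4191 j)
def eT_4186_4191 (j : ℕ) : ℕ := bif Nat.blt j 4188 then (eT_4186_4188 j) else (eT_4188_4191 j)
def eT_4182_4191 (j : ℕ) : ℕ := bif Nat.blt j 4186 then (eT_4182_4186 j) else (eT_4186_4191 j)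
def eT_4174_4191 (j : ℕ) : ℕ := bif Nat.blt j 4182 then (eT_4174_4182 j) else (eT_4182_4191 j)
def eT_4191_4193 (j : ℕ) : ℕ := bif Nat.blt j 4192 then E_4191 else E_4192
def eT_4193_4195 (j : ℕ) : ℕ := bif Nat.blt j 4194 then E_4193 else E_4194
def eT_4191_4195 (j : ℕ) : ℕ := bif Nat.blt j 4193 then (eT_4191_4193 j) else (eT_4193_4195 j)
def eT_4195_4197 (j : ℕ) : ℕ := bif Nat.blt j 4196 then E_4195 else E_4196
def eT_4197_4199 (j : ℕ) : ℕ := bif Nat.blt j 4198 then E_4197 else E_4198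
def eT_4195_4199 (j : ℕ) : ℕ := bif Nat.blt j 4197 then (eT_4195_4197 j) else (eT_4197_4199 j)
def eT_4191_4199 (j : ℕ) : ℕ := bif Nat.blt j 4195 then (eT_4191_4195 j) else (eT_4195_4199 j)
def eT_4199_4201 (j : ℕ) : ℕ := bif Nat.blt j 4200 then E_4199 else E_4200
def eT_4201_4203 (j : ℕ) : ℕ := bif Nat.blt j 4202 then E_4201 else E_4202
def eT_4199_4203 (j : ℕ) : ℕ := bif Nat.blt j 4201 then (eT_4199_4201 j) else (eT_4201_4203 j)
def eT_4203_4205 (j : ℕ) : ℕ := bif Nat.blt j 4204 then E_4203 else E_4204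
def eT_4206_4208 (j : ℕ) : ℕ := bif Nat.blt j 4207 then E_4206 else E_4207
def eT_4205_4208 (j : ℕ) : ℕ := bif Nat.blt j 4206 then E_4205 else (eT_4206_4208 j)
def eT_4203_4208 (j : ℕ) : ℕ := bif Nat.blt j 4205 then (eT_4203_4205 j) else (eT_4205_4208 j)
def eT_4199_4208 (j : ℕ) : ℕ := bif Nat.blt j 4203 then (eT_4199_4203 j) else (eT_4203_4208 j)
def eT_4191_4208 (j : ℕ) : ℕ := bif Nat.blt j 4199 then (eT_4191_4199 j) else (eT_4199_4208 j)
def eT_4174_4208 (j : ℕ) : ℕ := bif Nat.blt j 4191 then (eT_4174_4191 j) else (eT_4191_4208 j)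
def eT_4141_4208 (j : ℕ) : ℕ := bif Nat.blt j 4174 then (eT_4141_4174 j) else (eT_4174_4208 j)
def eT_4208_4210 (j : ℕ) : ℕ := bif Nat.blt j 4209 then E_4208 else E_4209
def eT_4210_4212 (j : ℕ) : ℕ := bif Nat.blt j 4211 then E_4210 else E_4211
def eT_4208_4212 (j : ℕ) : ℕ := bif Nat.blt j 4210 then (eT_4208_4210 j) else (eT_4210_4212 j)
def eT_4212_4214 (j : ℕ) : ℕ := bif Nat.blt j 4213 then E_4212 else E_4213
def eT_4214_4216 (j : ℕ) : ℕ := bif Nat.blt j 4215 then E_4214 else E_4215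
def eT_4212_4216 (j : ℕ) : ℕ := bif Nat.blt j 4214 then (eT_4212_4214 j) else (eT_4214_4216 j)
def eT_4208_4216 (j : ℕ) : ℕ := bif Nat.blt j 4212 then (eT_4208_4212 j) else (eT_4212_4216 j)
def eT_4216_4218 (j : ℕ) : ℕ := bif Nat.blt j 4217 then E_4216 else E_4217
def eT_4218_4220 (j : ℕ) : ℕ := bif Nat.blt j 4219 then E_4218 else E_4219
def eT_4216_4220 (j : ℕ) : ℕ := bif Nat.blt j 4218 then (eT_4216_4218 j) else (eT_4218_4220 j)
def eT_4220_4222 (j : ℕ) : ℕ := bif Nat.blt j 4221 then E_4220 else E_4221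
def eT_4222_4224 (j : ℕ) : ℕ := bif Nat.blt j 4223 then E_4222 else E_4223
def eT_4220_4224 (j : ℕ) : ℕ := bif Nat.blt j 4222 then (eT_4220_4222 j) else (eT_4222_4224 j)
def eT_4216_4224 (j : ℕ) : ℕ := bif Nat.blt j 4220 then (eT_4216_4220 j) else (eT_4220_4224 j)
def eT_4208_4224 (j : ℕ) : ℕ := bif Nat.blt j 4216 then (eT_4208_4216 j) else (eT_4216_4224 j)
def eT_4224_4226 (j : ℕ) : ℕ := bif Nat.blt j 4225 then E_4224 else E_4225
def eT_4226_4228 (j : ℕ) : ℕ := bif Nat.blt j 4227 then E_4226 else E_4227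
def eT_4224_4228 (j : ℕ) : ℕ := bif Nat.blt j 4226 then (eT_4224_4226 j) else (eT_4226_4228 j)
def eT_4228_4230 (j : ℕ) : ℕ := bif Nat.blt j 4229 then E_4228 else E_4229
def eT_4230_4232 (j : ℕ) : ℕ := bif Nat.blt j 4231 then E_4230 else E_4231
def eT_4228_4232 (j : ℕ) : ℕ := bif Nat.blt j 4230 then (eT_4228_4230 j) else (eT_4230_4232 j)
def eT_4224_4232 (j : ℕ) : ℕ := bif Nat.blt j 4228 then (eT_4224_4228 j) else (eT_4228_4232 j)
def eT_4232_4234 (j : ℕ) : ℕ := bif Nat.blt j 4233 then E_4232 else E_4233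
def eT_4234_4236 (j : ℕ) : ℕ := bif Nat.blt j 4235 then E_4234 else E_4235
def eT_4232_4236 (j : ℕ) : ℕ := bif Nat.blt j 4234 then (eT_4232_4234 j) else (eT_4234_4236 j)
def eT_4236_4238 (j : ℕ) : ℕ := bif Nat.blt j 4237 then E_4236 else E_4237
def eT_4239_4241 (j : ℕ) : ℕ := bif Nat.blt j 4240 then E_4239 else E_4240
def eT_4238_4241 (j : ℕ) : ℕ := bif Nat.blt j 4239 then E_4238 else (eT_4239_4241 j)
def eT_4236_4241 (j : ℕ) : ℕ := bif Nat.blt j 4238 then (eT_4236_4238 j) else (eT_4238_4241 j)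
def eT_4232_4241 (j : ℕ) : ℕ := bif Nat.blt j 4236 then (eT_4232_4236 j) else (eT_4236_4241 j)
def eT_4224_4241 (j : ℕ) : ℕ := bif Nat.blt j 4232 then (eT_4224_4232 j) else (eT_4232_4241 j)
def eT_4208_4241 (j : ℕ) : ℕ := bif Nat.blt j 4224 then (eT_4208_4224 j) else (eT_4224_4241 j)
def eT_4241_4243 (j : ℕ) : ℕ := bif Nat.blt j 4242 then E_4241 else E_4242
def eT_4243_4245 (j : ℕ) : ℕ := bif Nat.blt j 4244 then E_4243 else E_4244
def eT_4241_4245 (j : ℕ) : ℕ := bif Nat.blt j 4243 then (eT_4241_4243 j) else (eT_4243_4245 j)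
def eT_4245_4247 (j : ℕ) : ℕ := bif Nat.blt j 4246 then E_4245 else E_4246
def eT_4247_4249 (j : ℕ) : ℕ := bif Nat.blt j 4248 then E_4247 else E_4248
def eT_4245_4249 (j : ℕ) : ℕ := bif Nat.blt j 4247 then (eT_4245_4247 j) else (eT_4247_4249 j)
def eT_4241_4249 (j : ℕ) : ℕ := bif Nat.blt j 4245 then (eT_4241_4245 j) else (eT_4245_4249 j)
def eT_4249_4251 (j : ℕ) : ℕ := bif Nat.blt j 4250 then E_4249 else E_4250
def eT_4251_4253 (j : ℕ) : ℕ := bif Nat.blt j 4252 then E_4251 else E_4252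
def eT_4249_4253 (j : ℕ) : ℕ := bif Nat.blt j 4251 then (eT_4249_4251 j) else (eT_4251_4253 j)
def eT_4253_4255 (j : ℕ) : ℕ := bif Nat.blt j 4254 then E_4253 else E_4254
def eT_4256_4258 (j : ℕ) : ℕ := bif Nat.blt j 4257 then E_4256 else E_4257
def eT_4255_4258 (j : ℕ) : ℕ := bif Nat.blt j 4256 then E_4255 else (eT_4256_4258 j)
def eT_4253_4258 (j : ℕ) : ℕ := bif Nat.blt j 4255 then (eT_4253_4255 j) else (eT_4255_4258 j)
def eT_4249_4258 (j : ℕ) : ℕ := bif Nat.blt j 4253 then (eT_4249_4253 j) else (eT_4253_4258 j)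
def eT_4241_4258 (j : ℕ) : ℕ := bif Nat.blt j 4249 then (eT_4241_4249 j) else (eT_4249_4258 j)
def eT_4258_4260 (j : ℕ) : ℕ := bif Nat.blt j 4259 then E_4258 else E_4259
def eT_4260_4262 (j : ℕ) : ℕ := bif Nat.blt j 4261 then E_4260 else E_4261
def eT_4258_4262 (j : ℕ) : ℕ := bif Nat.blt j 4260 then (eT_4258_4260 j) else (eT_4260_4262 j)
def eT_4262_4264 (j : ℕ) : ℕ := bif Nat.blt j 4263 then E_4262 else E_4263
def eT_4264_4266 (j : ℕ) : ℕ := bif Nat.blt j 4265 then E_4264 else E_4265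
def eT_4262_4266 (j : ℕ) : ℕ := bif Nat.blt j 4264 then (eT_4262_4264 j) else (eT_4264_4266 j)
def eT_4258_4266 (j : ℕ) : ℕ := bif Nat.blt j 4262 then (eT_4258_4262 j) else (eT_4262_4266 j)
def eT_4266_4268 (j : ℕ) : ℕ := bif Nat.blt j 4267 then E_4266 else E_4267
def eT_4268_4270 (j : ℕ) : ℕ := bif Nat.blt j 4269 then E_4268 else E_4269
def eT_4266_4270 (j : ℕ) : ℕ := bif Nat.blt j 4268 then (eT_4266_4268 j) else (eT_4268_4270 j)
def eT_4270_4272 (j : ℕ) : ℕ := bif Nat.blt j 4271 then E_4270 else E_4271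
def eT_4273_4275 (j : ℕ) : ℕ := bif Nat.blt j 4274 then E_4273 else E_4274
def eT_4272_4275 (j : ℕ) : ℕ := bif Nat.blt j 4273 then E_4272 else (eT_4273_4275 j)
def eT_4270_4275 (j : ℕ) : ℕ := bif Nat.blt j 4272 then (eT_4270_4272 j) else (eT_4272_4275 j)
def eT_4266_4275 (j : ℕ) : ℕ := bif Nat.blt j 4270 then (eT_4266_4270 j) else (eT_4270_4275 j)
def eT_4258_4275 (j : ℕ) : ℕ := bif Nat.blt j 4266 then (eT_4258_4266 j) else (eT_4266_4275 j)
def eT_4241_4275 (j : ℕ) : ℕ := bif Nat.blt j 4258 then (eT_4241_4258 j) else (eT_4258_4275 j)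
def eT_4208_4275 (j : ℕ) : ℕ := bif Nat.blt j 4241 then (eT_4208_4241 j) else (eT_4241_4275 j)
def eT_4141_4275 (j : ℕ) : ℕ := bif Nat.blt j 4208 then (eT_4141_4208 j) else (eT_4208_4275 j)
def eT_4007_4275 (j : ℕ) : ℕ := bif Nat.blt j 4141 then (eT_4007_4141 j) else (eT_4141_4275 j)
def eT_3740_4275 (j : ℕ) : ℕ := bif Nat.blt j 4007 then (eT_3740_4007 j) else (eT_4007_4275 j)
def eT_3206_4275 (j : ℕ) : ℕ := bif Nat.blt j 3740 then (eT_3206_3740 j) else (eT_3740_4275 j)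
def eT_2137_4275 (j : ℕ) : ℕ := bif Nat.blt j 3206 then (eT_2137_3206 j) else (eT_3206_4275 j)
def eT_0_4275 (j : ℕ) : ℕ := bif Nat.blt j 2137 then (eT_0_2137 j) else (eT_2137_4275 j)
def eT (j : ℕ) : ℕ := (eT_0_4275 j)
noncomputable def chunkF (h : ℕ) : ℕ := Nat.rec (motive := fun _ => ℕ) (eT 0) (fun n _ => eT (Nat.succ n)) h
noncomputable def Eo (r : ℕ) : ℕ := Nat.land (Nat.shiftRight (chunkF (Nat.shiftRight r 8)) (Nat.mul (Nat.land r 255) 54)) 18014398509481983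
def invT : ℕ := 0xffef7cefae78df6d74cf2c70beeb6caeaa689e69648e28607de75c6da6585d65544d24503ce34c2ca2481871440c2040
def inv (y : ℕ) : ℕ := invOf invT y
def Wt_0_2 (j : ℕ) : List ℕ := bif Nat.blt j 1 then [nat_lit 0, nat_lit 5, nat_lit 0, nat_lit 5] else [nat_lit 1, nat_lit 5, nat_lit 1, nat_lit 5]
def Wt_2_4 (j : ℕ) : List ℕ := bif Nat.blt j 3 then [nat_lit 2, nat_lit 5, nat_lit 2, nat_lit 5] else [nat_lit 3, nat_lit 5, nat_lit 2, nat_lit 3, nat_lit 5]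
def Wt_0_4 (j : ℕ) : List ℕ := bif Nat.blt j 2 then (Wt_0_2 j) else (Wt_2_4 j)
def Wt_4_6 (j : ℕ) : List ℕ := bif Nat.blt j 5 then [nat_lit 4, nat_lit 5, nat_lit 7, nat_lit 5, nat_lit 4, nat_lit 3, nat_lit 4, nat_lit 0, nat_lit 3, nat_lit 4, nat_lit 5, nat_lit 3, nat_lit 4, nat_lit 0, nat_lit 1] else [nat_lit 0, nat_lit 2, nat_lit 0, nat_lit 2]
def Wt_6_8 (j : ℕ) : List ℕ := bif Nat.blt j 7 then [nat_lit 2, nat_lit 3, nat_lit 2, nat_lit 3] else [nat_lit 5, nat_lit 3, nat_lit 5, nat_lit 3, nat_lit 5, nat_lit 3, nat_lit 5, nat_lit 3]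
def Wt_4_8 (j : ℕ) : List ℕ := bif Nat.blt j 6 then (Wt_4_6 j) else (Wt_6_8 j)
def Wt_0_8 (j : ℕ) : List ℕ := bif Nat.blt j 4 then (Wt_0_4 j) else (Wt_4_8 j)
def Wt_8_10 (j : ℕ) : List ℕ := bif Nat.blt j 9 then [nat_lit 3, nat_lit 1, nat_lit 4, nat_lit 1, nat_lit 0, nat_lit 4, nat_lit 3, nat_lit 1, nat_lit 0, nat_lit 1, nat_lit 2, nat_lit 0, nat_lit 1, nat_lit 4, nat_lit 0, nat_lit 1, nat_lit 4] else [nat_lit 63, nat_lit 3, nat_lit 5, nat_lit 3, nat_lit 5, nat_lit 2]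
def Wt_10_12 (j : ℕ) : List ℕ := bif Nat.blt j 11 then [nat_lit 2, nat_lit 2, nat_lit 63] else [nat_lit 63, nat_lit 2, nat_lit 5, nat_lit 3, nat_lit 5, nat_lit 3]
def Wt_8_12 (j : ℕ) : List ℕ := bif Nat.blt j 10 then (Wt_8_10 j) else (Wt_10_12 j)
def Wt_12_14 (j : ℕ) : List ℕ := bif Nat.blt j 13 then [nat_lit 3, nat_lit 3, nat_lit 63] else [nat_lit 2, nat_lit 0, nat_lit 2, nat_lit 0]
def Wt_15_17 (j : ℕ) : List ℕ := bif Nat.blt j 16 then [nat_lit 1, nat_lit 0, nat_lit 3, nat_lit 1, nat_lit 4, nat_lit 1, nat_lit 3, nat_lit 0, nat_lit 1, nat_lit 0, nat_lit 3, nat_lit 1, nat_lit 4, nat_lit 1, nat_lit 3, nat_lit 0] else [nat_lit 5, nat_lit 4, nat_lit 1, nat_lit 4, nat_lit 2, nat_lit 5, nat_lit 4, nat_lit 1, nat_lit 4, nat_lit 2, nat_lit 5, nat_lit 4, nat_lit 1, nat_lit 4, nat_lit 2]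
def Wt_14_17 (j : ℕ) : List ℕ := bif Nat.blt j 15 then [nat_lit 3, nat_lit 5, nat_lit 3, nat_lit 5, nat_lit 3, nat_lit 5, nat_lit 3, nat_lit 5] else (Wt_15_17 j)
def Wt_12_17 (j : ℕ) : List ℕ := bif Nat.blt j 14 then (Wt_12_14 j) else (Wt_14_17 j)
def Wt_8_17 (j : ℕ) : List ℕ := bif Nat.blt j 12 then (Wt_8_12 j) else (Wt_12_17 j)
def Wt_0_17 (j : ℕ) : List ℕ := bif Nat.blt j 8 then (Wt_0_8 j) else (Wt_8_17 j)
def Wt_17_19 (j : ℕ) : List ℕ := bif Nat.blt j 18 then [nat_lit 5, nat_lit 3, nat_lit 5, nat_lit 2, nat_lit 3] else [nat_lit 3, nat_lit 4, nat_lit 1, nat_lit 2, nat_lit 4, nat_lit 3, nat_lit 1, nat_lit 3, nat_lit 1, nat_lit 3, nat_lit 1, nat_lit 3, nat_lit 4, nat_lit 2, nat_lit 1, nat_lit 4]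
def Wt_19_21 (j : ℕ) : List ℕ := bif Nat.blt j 20 then [nat_lit 3, nat_lit 4, nat_lit 5, nat_lit 6, nat_lit 5, nat_lit 4, nat_lit 1, nat_lit 0, nat_lit 4, nat_lit 3, nat_lit 5, nat_lit 4, nat_lit 3, nat_lit 0, nat_lit 4] else [nat_lit 63, nat_lit 4, nat_lit 3, nat_lit 4, nat_lit 0, nat_lit 3, nat_lit 4, nat_lit 0, nat_lit 3, nat_lit 0, nat_lit 4, nat_lit 3, nat_lit 0, nat_lit 4, nat_lit 3, nat_lit 4, nat_lit 2, nat_lit 3]
def Wt_17_21 (j : ℕ) : List ℕ := bif Nat.blt j 19 then (Wt_17_19 j) else (Wt_19_21 j)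
def Wt_21_23 (j : ℕ) : List ℕ := bif Nat.blt j 22 then [nat_lit 63, nat_lit 2, nat_lit 63, nat_lit 2] else [nat_lit 63, nat_lit 5, nat_lit 63, nat_lit 5]
def Wt_23_25 (j : ℕ) : List ℕ := bif Nat.blt j 24 then [nat_lit 5, nat_lit 0, nat_lit 5, nat_lit 0] else [nat_lit 5, nat_lit 1, nat_lit 5, nat_lit 1]
def Wt_21_25 (j : ℕ) : List ℕ := bif Nat.blt j 23 then (Wt_21_23 j) else (Wt_23_25 j)
def Wt_17_25 (j : ℕ) : List ℕ := bif Nat.blt j 21 then (Wt_17_21 j) else (Wt_21_25 j)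
def Wt_25_27 (j : ℕ) : List ℕ := bif Nat.blt j 26 then [nat_lit 1, nat_lit 2, nat_lit 1, nat_lit 2, nat_lit 1, nat_lit 2, nat_lit 1, nat_lit 2] else [nat_lit 0, nat_lit 1, nat_lit 2, nat_lit 1, nat_lit 0, nat_lit 2, nat_lit 0, nat_lit 1, nat_lit 2, nat_lit 1, nat_lit 0, nat_lit 2]
def Wt_27_29 (j : ℕ) : List ℕ := bif Nat.blt j 28 then [nat_lit 3, nat_lit 2, nat_lit 3, nat_lit 2] else [nat_lit 2, nat_lit 4, nat_lit 2, nat_lit 4, nat_lit 2, nat_lit 4, nat_lit 2, nat_lit 4, nat_lit 2, nat_lit 4, nat_lit 2, nat_lit 4]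
def Wt_25_29 (j : ℕ) : List ℕ := bif Nat.blt j 27 then (Wt_25_27 j) else (Wt_27_29 j)
def Wt_29_31 (j : ℕ) : List ℕ := bif Nat.blt j 30 then [nat_lit 2, nat_lit 4, nat_lit 3, nat_lit 4, nat_lit 2, nat_lit 4, nat_lit 1, nat_lit 2, nat_lit 1, nat_lit 3, nat_lit 0, nat_lit 3, nat_lit 4, nat_lit 3, nat_lit 4, nat_lit 2, nat_lit 4] else [nat_lit 63, nat_lit 1, nat_lit 2, nat_lit 1, nat_lit 4, nat_lit 2, nat_lit 4, nat_lit 3, nat_lit 4, nat_lit 2, nat_lit 4, nat_lit 2, nat_lit 4, nat_lit 3, nat_lit 4, nat_lit 3, nat_lit 0, nat_lit 3]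
def Wt_32_34 (j : ℕ) : List ℕ := bif Nat.blt j 33 then [nat_lit 63, nat_lit 1, nat_lit 63, nat_lit 1] else [nat_lit 1, nat_lit 1, nat_lit 63]
def Wt_31_34 (j : ℕ) : List ℕ := bif Nat.blt j 32 then [nat_lit 63, nat_lit 3, nat_lit 63, nat_lit 3] else (Wt_32_34 j)
def Wt_29_34 (j : ℕ) : List ℕ := bif Nat.blt j 31 then (Wt_29_31 j) else (Wt_31_34 j)
def Wt_25_34 (j : ℕ) : List ℕ := bif Nat.blt j 29 then (Wt_25_29 j) else (Wt_29_34 j)
def Wt_17_34 (j : ℕ) : List ℕ := bif Nat.blt j 25 then (Wt_17_25 j) else (Wt_25_34 j)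
def Wt_0_34 (j : ℕ) : List ℕ := bif Nat.blt j 17 then (Wt_0_17 j) else (Wt_17_34 j)
def Wt_34_36 (j : ℕ) : List ℕ := bif Nat.blt j 35 then [nat_lit 2, nat_lit 0, nat_lit 1, nat_lit 2, nat_lit 1, nat_lit 0, nat_lit 2, nat_lit 0, nat_lit 1, nat_lit 2, nat_lit 1, nat_lit 0] else [nat_lit 3, nat_lit 4, nat_lit 2, nat_lit 4, nat_lit 1, nat_lit 2, nat_lit 1, nat_lit 3, nat_lit 0, nat_lit 3, nat_lit 4, nat_lit 3, nat_lit 4, nat_lit 2, nat_lit 4, nat_lit 2, nat_lit 4]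
def Wt_36_38 (j : ℕ) : List ℕ := bif Nat.blt j 37 then [nat_lit 5, nat_lit 2, nat_lit 5, nat_lit 2] else [nat_lit 0, nat_lit 4, nat_lit 1, nat_lit 2, nat_lit 1, nat_lit 4, nat_lit 1, nat_lit 2, nat_lit 1, nat_lit 4, nat_lit 0, nat_lit 1, nat_lit 4, nat_lit 3, nat_lit 2, nat_lit 4, nat_lit 1]
def Wt_34_38 (j : ℕ) : List ℕ := bif Nat.blt j 36 then (Wt_34_36 j) else (Wt_36_38 j)
def Wt_38_40 (j : ℕ) : List ℕ := bif Nat.blt j 39 then [nat_lit 4, nat_lit 3, nat_lit 2, nat_lit 4, nat_lit 3, nat_lit 4, nat_lit 0, nat_lit 1, nat_lit 3, nat_lit 2, nat_lit 1, nat_lit 4, nat_lit 0, nat_lit 1, nat_lit 0, nat_lit 4, nat_lit 1] else [nat_lit 4, nat_lit 2, nat_lit 0, nat_lit 4, nat_lit 0, nat_lit 2, nat_lit 4, nat_lit 0, nat_lit 2, nat_lit 4, nat_lit 3, nat_lit 2, nat_lit 3, nat_lit 0, nat_lit 4, nat_lit 2, nat_lit 0]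
def Wt_40_42 (j : ℕ) : List ℕ := bif Nat.blt j 41 then [nat_lit 2, nat_lit 3, nat_lit 4, nat_lit 2, nat_lit 0, nat_lit 4, nat_lit 2, nat_lit 0, nat_lit 4, nat_lit 0, nat_lit 2, nat_lit 4, nat_lit 0, nat_lit 2, nat_lit 4, nat_lit 0, nat_lit 3] else [nat_lit 3, nat_lit 2, nat_lit 0, nat_lit 1, nat_lit 2, nat_lit 0, nat_lit 3, nat_lit 2, nat_lit 0, nat_lit 1, nat_lit 2, nat_lit 0, nat_lit 3, nat_lit 2, nat_lit 0, nat_lit 1, nat_lit 2, nat_lit 0]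
def Wt_38_42 (j : ℕ) : List ℕ := bif Nat.blt j 40 then (Wt_38_40 j) else (Wt_40_42 j)
def Wt_34_42 (j : ℕ) : List ℕ := bif Nat.blt j 38 then (Wt_34_38 j) else (Wt_38_42 j)
def Wt_42_44 (j : ℕ) : List ℕ := bif Nat.blt j 43 then [nat_lit 4, nat_lit 3, nat_lit 0, nat_lit 4, nat_lit 3, nat_lit 4, nat_lit 5, nat_lit 6, nat_lit 5, nat_lit 4, nat_lit 1, nat_lit 0, nat_lit 4, nat_lit 3, nat_lit 5] else [nat_lit 5, nat_lit 4, nat_lit 1, nat_lit 2, nat_lit 1, nat_lit 4, nat_lit 1, nat_lit 5, nat_lit 4, nat_lit 1, nat_lit 2, nat_lit 1, nat_lit 4, nat_lit 1, nat_lit 5, nat_lit 4, nat_lit 1, nat_lit 2, nat_lit 1, nat_lit 4, nat_lit 1]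
def Wt_44_46 (j : ℕ) : List ℕ := bif Nat.blt j 45 then [nat_lit 0, nat_lit 4, nat_lit 1, nat_lit 4, nat_lit 2, nat_lit 1, nat_lit 4, nat_lit 1, nat_lit 4, nat_lit 3, nat_lit 2, nat_lit 0, nat_lit 3, nat_lit 1, nat_lit 4, nat_lit 1, nat_lit 4] else [nat_lit 1, nat_lit 4, nat_lit 0, nat_lit 2, nat_lit 4, nat_lit 1, nat_lit 4, nat_lit 2, nat_lit 0, nat_lit 4, nat_lit 1, nat_lit 4, nat_lit 2, nat_lit 0, nat_lit 4]
def Wt_42_46 (j : ℕ) : List ℕ := bif Nat.blt j 44 then (Wt_42_44 j) else (Wt_44_46 j)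
def Wt_46_48 (j : ℕ) : List ℕ := bif Nat.blt j 47 then [nat_lit 4, nat_lit 2, nat_lit 1, nat_lit 4, nat_lit 1, nat_lit 4, nat_lit 1, nat_lit 2, nat_lit 4, nat_lit 1, nat_lit 4, nat_lit 2, nat_lit 0, nat_lit 2, nat_lit 4, nat_lit 1] else [nat_lit 1, nat_lit 4, nat_lit 1, nat_lit 2, nat_lit 4, nat_lit 1, nat_lit 4, nat_lit 2, nat_lit 0, nat_lit 2, nat_lit 4, nat_lit 1, nat_lit 4, nat_lit 2, nat_lit 1, nat_lit 4]
def Wt_49_51 (j : ℕ) : List ℕ := bif Nat.blt j 50 then [nat_lit 5, nat_lit 5, nat_lit 63] else [nat_lit 3, nat_lit 1, nat_lit 4, nat_lit 1, nat_lit 4, nat_lit 0, nat_lit 4, nat_lit 1, nat_lit 4, nat_lit 2, nat_lit 1, nat_lit 4, nat_lit 1, nat_lit 4, nat_lit 3, nat_lit 2, nat_lit 0]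
def Wt_48_51 (j : ℕ) : List ℕ := bif Nat.blt j 49 then [nat_lit 63, nat_lit 0, nat_lit 3, nat_lit 1, nat_lit 4, nat_lit 1, nat_lit 4, nat_lit 0, nat_lit 4, nat_lit 1, nat_lit 4, nat_lit 2, nat_lit 1, nat_lit 4, nat_lit 1, nat_lit 4, nat_lit 3, nat_lit 2] else (Wt_49_51 j)
def Wt_46_51 (j : ℕ) : List ℕ := bif Nat.blt j 48 then (Wt_46_48 j) else (Wt_48_51 j)
def Wt_42_51 (j : ℕ) : List ℕ := bif Nat.blt j 46 then (Wt_42_46 j) else (Wt_46_51 j)
def Wt_34_51 (j : ℕ) : List ℕ := bif Nat.blt j 42 then (Wt_34_42 j) else (Wt_42_51 j)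
def Wt_51_53 (j : ℕ) : List ℕ := bif Nat.blt j 52 then [nat_lit 1, nat_lit 2, nat_lit 3, nat_lit 0, nat_lit 3, nat_lit 1, nat_lit 2, nat_lit 3, nat_lit 0, nat_lit 3, nat_lit 1, nat_lit 2, nat_lit 3, nat_lit 0, nat_lit 3, nat_lit 1, nat_lit 2, nat_lit 3, nat_lit 0, nat_lit 3] else [nat_lit 1, nat_lit 2, nat_lit 4, nat_lit 1, nat_lit 4, nat_lit 2, nat_lit 0, nat_lit 2, nat_lit 4, nat_lit 1, nat_lit 4, nat_lit 2, nat_lit 1, nat_lit 4, nat_lit 1, nat_lit 4]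
def Wt_53_55 (j : ℕ) : List ℕ := bif Nat.blt j 54 then [nat_lit 63, nat_lit 4, nat_lit 1, nat_lit 4, nat_lit 1, nat_lit 2, nat_lit 4, nat_lit 1, nat_lit 4, nat_lit 0, nat_lit 4, nat_lit 1, nat_lit 4, nat_lit 1, nat_lit 3, nat_lit 0, nat_lit 2, nat_lit 3] else [nat_lit 63, nat_lit 0, nat_lit 63, nat_lit 0]
def Wt_51_55 (j : ℕ) : List ℕ := bif Nat.blt j 53 then (Wt_51_53 j) else (Wt_53_55 j)
def Wt_55_57 (j : ℕ) : List ℕ := bif Nat.blt j 56 then [nat_lit 0, nat_lit 0, nat_lit 63] else [nat_lit 2, nat_lit 1, nat_lit 0, nat_lit 2, nat_lit 0, nat_lit 1, nat_lit 2, nat_lit 1, nat_lit 0, nat_lit 2, nat_lit 0, nat_lit 1]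
def Wt_57_59 (j : ℕ) : List ℕ := bif Nat.blt j 58 then [nat_lit 1, nat_lit 4, nat_lit 2, nat_lit 4, nat_lit 3, nat_lit 2, nat_lit 4, nat_lit 1, nat_lit 3, nat_lit 0, nat_lit 3, nat_lit 4, nat_lit 2, nat_lit 3, nat_lit 4, nat_lit 2, nat_lit 4] else [nat_lit 3, nat_lit 1, nat_lit 2, nat_lit 1, nat_lit 4, nat_lit 2, nat_lit 4, nat_lit 3, nat_lit 4, nat_lit 2, nat_lit 4, nat_lit 2, nat_lit 4, nat_lit 3, nat_lit 4, nat_lit 3, nat_lit 0]
def Wt_55_59 (j : ℕ) : List ℕ := bif Nat.blt j 57 then (Wt_55_57 j) else (Wt_57_59 j)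
def Wt_51_59 (j : ℕ) : List ℕ := bif Nat.blt j 55 then (Wt_51_55 j) else (Wt_55_59 j)
def Wt_59_61 (j : ℕ) : List ℕ := bif Nat.blt j 60 then [nat_lit 2, nat_lit 4, nat_lit 2, nat_lit 4, nat_lit 3, nat_lit 4, nat_lit 1, nat_lit 2, nat_lit 1, nat_lit 3, nat_lit 0, nat_lit 3, nat_lit 4, nat_lit 2, nat_lit 4, nat_lit 3, nat_lit 4] else [nat_lit 1, nat_lit 2, nat_lit 1, nat_lit 4, nat_lit 2, nat_lit 4, nat_lit 3, nat_lit 4, nat_lit 2, nat_lit 4, nat_lit 2, nat_lit 4, nat_lit 3, nat_lit 4, nat_lit 3, nat_lit 0, nat_lit 3]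
def Wt_61_63 (j : ℕ) : List ℕ := bif Nat.blt j 62 then [nat_lit 3, nat_lit 1, nat_lit 2, nat_lit 1, nat_lit 4, nat_lit 3, nat_lit 4, nat_lit 2, nat_lit 4, nat_lit 2, nat_lit 4, nat_lit 3, nat_lit 4, nat_lit 2, nat_lit 4, nat_lit 3, nat_lit 0] else [nat_lit 4, nat_lit 1, nat_lit 4, nat_lit 1, nat_lit 4, nat_lit 1, nat_lit 4, nat_lit 1, nat_lit 3, nat_lit 4, nat_lit 3, nat_lit 4, nat_lit 3, nat_lit 4, nat_lit 3]
def Wt_59_63 (j : ℕ) : List ℕ := bif Nat.blt j 61 then (Wt_59_61 j) else (Wt_61_63 j)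
def Wt_63_65 (j : ℕ) : List ℕ := bif Nat.blt j 64 then [nat_lit 3, nat_lit 4, nat_lit 3, nat_lit 4, nat_lit 3, nat_lit 4, nat_lit 3, nat_lit 4, nat_lit 3, nat_lit 4, nat_lit 3, nat_lit 4, nat_lit 3, nat_lit 4, nat_lit 3, nat_lit 4] else [nat_lit 1, nat_lit 4, nat_lit 3, nat_lit 4, nat_lit 3, nat_lit 4, nat_lit 3, nat_lit 4, nat_lit 3, nat_lit 1, nat_lit 4, nat_lit 1, nat_lit 4, nat_lit 1, nat_lit 4]
def Wt_66_68 (j : ℕ) : List ℕ := bif Nat.blt j 67 then [nat_lit 1, nat_lit 0, nat_lit 1, nat_lit 2, nat_lit 1, nat_lit 0, nat_lit 1, nat_lit 2, nat_lit 1, nat_lit 0, nat_lit 1, nat_lit 2] else [nat_lit 0, nat_lit 1, nat_lit 0, nat_lit 1, nat_lit 0, nat_lit 1, nat_lit 0, nat_lit 1, nat_lit 0, nat_lit 1, nat_lit 0, nat_lit 1]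
def Wt_65_68 (j : ℕ) : List ℕ := bif Nat.blt j 66 then [nat_lit 4, nat_lit 0, nat_lit 3, nat_lit 4, nat_lit 5, nat_lit 3, nat_lit 4, nat_lit 0, nat_lit 1, nat_lit 4, nat_lit 5, nat_lit 7, nat_lit 5, nat_lit 4, nat_lit 3] else (Wt_66_68 j)
def Wt_63_68 (j : ℕ) : List ℕ := bif Nat.blt j 65 then (Wt_63_65 j) else (Wt_65_68 j)
def Wt_59_68 (j : ℕ) : List ℕ := bif Nat.blt j 63 then (Wt_59_63 j) else (Wt_63_68 j)
def Wt_51_68 (j : ℕ) : List ℕ := bif Nat.blt j 59 then (Wt_51_59 j) else (Wt_59_68 j)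
def Wt_34_68 (j : ℕ) : List ℕ := bif Nat.blt j 51 then (Wt_34_51 j) else (Wt_51_68 j)
def Wt_0_68 (j : ℕ) : List ℕ := bif Nat.blt j 34 then (Wt_0_34 j) else (Wt_34_68 j)
def Wt_68_70 (j : ℕ) : List ℕ := bif Nat.blt j 69 then [nat_lit 0, nat_lit 2, nat_lit 1, nat_lit 0, nat_lit 1, nat_lit 2, nat_lit 0, nat_lit 2, nat_lit 1, nat_lit 0, nat_lit 1, nat_lit 2, nat_lit 0, nat_lit 2, nat_lit 1, nat_lit 0, nat_lit 1, nat_lit 2] else [nat_lit 2, nat_lit 1, nat_lit 0, nat_lit 1, nat_lit 2, nat_lit 1, nat_lit 0, nat_lit 1, nat_lit 2, nat_lit 1, nat_lit 0, nat_lit 1]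
def Wt_70_72 (j : ℕ) : List ℕ := bif Nat.blt j 71 then [nat_lit 4, nat_lit 1, nat_lit 2, nat_lit 4, nat_lit 3, nat_lit 1, nat_lit 3, nat_lit 1, nat_lit 3, nat_lit 1, nat_lit 3, nat_lit 4, nat_lit 2, nat_lit 1, nat_lit 4, nat_lit 3] else [nat_lit 63, nat_lit 4, nat_lit 1, nat_lit 4, nat_lit 1, nat_lit 4, nat_lit 3, nat_lit 4, nat_lit 3, nat_lit 4, nat_lit 3, nat_lit 4, nat_lit 3, nat_lit 1, nat_lit 4, nat_lit 1]
def Wt_68_72 (j : ℕ) : List ℕ := bif Nat.blt j 70 then (Wt_68_70 j) else (Wt_70_72 j)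
def Wt_72_74 (j : ℕ) : List ℕ := bif Nat.blt j 73 then [nat_lit 4, nat_lit 4, nat_lit 63] else [nat_lit 2, nat_lit 3, nat_lit 0, nat_lit 4, nat_lit 2, nat_lit 0, nat_lit 4, nat_lit 2, nat_lit 0, nat_lit 4, nat_lit 0, nat_lit 2, nat_lit 4, nat_lit 0, nat_lit 2, nat_lit 4, nat_lit 3]
def Wt_74_76 (j : ℕ) : List ℕ := bif Nat.blt j 75 then [nat_lit 2, nat_lit 4, nat_lit 1, nat_lit 4, nat_lit 2, nat_lit 0, nat_lit 4, nat_lit 1, nat_lit 4, nat_lit 2, nat_lit 0, nat_lit 4, nat_lit 1, nat_lit 4, nat_lit 0] else [nat_lit 4, nat_lit 3, nat_lit 4, nat_lit 2, nat_lit 3, nat_lit 4, nat_lit 3, nat_lit 4, nat_lit 0, nat_lit 3, nat_lit 4, nat_lit 0, nat_lit 3, nat_lit 0, nat_lit 4, nat_lit 3, nat_lit 0]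
def Wt_72_76 (j : ℕ) : List ℕ := bif Nat.blt j 74 then (Wt_72_74 j) else (Wt_74_76 j)
def Wt_68_76 (j : ℕ) : List ℕ := bif Nat.blt j 72 then (Wt_68_72 j) else (Wt_72_76 j)
def Wt_76_78 (j : ℕ) : List ℕ := bif Nat.blt j 77 then [nat_lit 0, nat_lit 1, nat_lit 4, nat_lit 5, nat_lit 7, nat_lit 5, nat_lit 4, nat_lit 3, nat_lit 4, nat_lit 0, nat_lit 3, nat_lit 4, nat_lit 5, nat_lit 3, nat_lit 4] else [nat_lit 3, nat_lit 4, nat_lit 3, nat_lit 4, nat_lit 3, nat_lit 4, nat_lit 3, nat_lit 1, nat_lit 4, nat_lit 1, nat_lit 4, nat_lit 1, nat_lit 4, nat_lit 1, nat_lit 4]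
def Wt_78_80 (j : ℕ) : List ℕ := bif Nat.blt j 79 then [nat_lit 1, nat_lit 2, nat_lit 4, nat_lit 1, nat_lit 3, nat_lit 4, nat_lit 0, nat_lit 4, nat_lit 2, nat_lit 0, nat_lit 4, nat_lit 0, nat_lit 4, nat_lit 3, nat_lit 1, nat_lit 4, nat_lit 2] else [nat_lit 1, nat_lit 2, nat_lit 4, nat_lit 0, nat_lit 4, nat_lit 3, nat_lit 4, nat_lit 2, nat_lit 5, nat_lit 1, nat_lit 2, nat_lit 4, nat_lit 0, nat_lit 4, nat_lit 3, nat_lit 4, nat_lit 2, nat_lit 5, nat_lit 1, nat_lit 2, nat_lit 4, nat_lit 0, nat_lit 4, nat_lit 3, nat_lit 4, nat_lit 2, nat_lit 5]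
def Wt_76_80 (j : ℕ) : List ℕ := bif Nat.blt j 78 then (Wt_76_78 j) else (Wt_78_80 j)
def Wt_80_82 (j : ℕ) : List ℕ := bif Nat.blt j 81 then [nat_lit 4, nat_lit 1, nat_lit 0, nat_lit 1, nat_lit 0, nat_lit 5, nat_lit 1, nat_lit 4, nat_lit 1, nat_lit 0, nat_lit 1, nat_lit 0, nat_lit 5, nat_lit 1, nat_lit 4, nat_lit 1, nat_lit 0, nat_lit 1, nat_lit 0, nat_lit 5, nat_lit 1, nat_lit 4, nat_lit 1, nat_lit 0, nat_lit 1, nat_lit 0, nat_lit 5, nat_lit 1] else [nat_lit 1, nat_lit 2, nat_lit 1, nat_lit 0, nat_lit 1, nat_lit 2, nat_lit 1, nat_lit 0, nat_lit 1, nat_lit 2, nat_lit 1, nat_lit 0]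
def Wt_83_85 (j : ℕ) : List ℕ := bif Nat.blt j 84 then [nat_lit 4, nat_lit 1, nat_lit 2, nat_lit 1, nat_lit 4, nat_lit 0, nat_lit 1, nat_lit 4, nat_lit 3, nat_lit 2, nat_lit 4, nat_lit 1, nat_lit 0, nat_lit 4, nat_lit 1, nat_lit 2, nat_lit 1] else [nat_lit 3, nat_lit 0, nat_lit 4, nat_lit 3, nat_lit 0, nat_lit 4, nat_lit 3, nat_lit 4, nat_lit 2, nat_lit 3, nat_lit 4, nat_lit 3, nat_lit 4, nat_lit 0, nat_lit 3, nat_lit 4, nat_lit 0]
def Wt_82_85 (j : ℕ) : List ℕ := bif Nat.blt j 83 then [nat_lit 63, nat_lit 3, nat_lit 0, nat_lit 1, nat_lit 3, nat_lit 2, nat_lit 3, nat_lit 0, nat_lit 3, nat_lit 0, nat_lit 1, nat_lit 3, nat_lit 2, nat_lit 3, nat_lit 0, nat_lit 3, nat_lit 0, nat_lit 1, nat_lit 3, nat_lit 2, nat_lit 3, nat_lit 0] else (Wt_83_85 j)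
def Wt_80_85 (j : ℕ) : List ℕ := bif Nat.blt j 82 then (Wt_80_82 j) else (Wt_82_85 j)
def Wt_76_85 (j : ℕ) : List ℕ := bif Nat.blt j 80 then (Wt_76_80 j) else (Wt_80_85 j)
def Wt_68_85 (j : ℕ) : List ℕ := bif Nat.blt j 76 then (Wt_68_76 j) else (Wt_76_85 j)
def Wt_85_87 (j : ℕ) : List ℕ := bif Nat.blt j 86 then [nat_lit 1, nat_lit 2, nat_lit 0, nat_lit 1, nat_lit 4, nat_lit 0, nat_lit 1, nat_lit 4, nat_lit 3, nat_lit 1, nat_lit 4, nat_lit 1, nat_lit 0, nat_lit 4, nat_lit 3, nat_lit 1, nat_lit 0] else [nat_lit 3, nat_lit 4, nat_lit 2, nat_lit 3, nat_lit 4, nat_lit 1, nat_lit 4, nat_lit 0, nat_lit 1, nat_lit 0, nat_lit 4, nat_lit 1, nat_lit 2, nat_lit 3, nat_lit 1, nat_lit 0, nat_lit 4]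
def Wt_87_89 (j : ℕ) : List ℕ := bif Nat.blt j 88 then [nat_lit 0, nat_lit 2, nat_lit 4, nat_lit 1, nat_lit 4, nat_lit 2, nat_lit 1, nat_lit 4, nat_lit 1, nat_lit 4, nat_lit 1, nat_lit 2, nat_lit 4, nat_lit 1, nat_lit 4, nat_lit 2] else [nat_lit 1, nat_lit 0, nat_lit 1, nat_lit 0, nat_lit 1, nat_lit 0, nat_lit 1, nat_lit 0, nat_lit 1, nat_lit 0, nat_lit 1, nat_lit 0]
def Wt_85_89 (j : ℕ) : List ℕ := bif Nat.blt j 87 then (Wt_85_87 j) else (Wt_87_89 j)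
def Wt_89_91 (j : ℕ) : List ℕ := bif Nat.blt j 90 then [nat_lit 2, nat_lit 4, nat_lit 0, nat_lit 4, nat_lit 3, nat_lit 1, nat_lit 4, nat_lit 2, nat_lit 1, nat_lit 2, nat_lit 4, nat_lit 1, nat_lit 3, nat_lit 4, nat_lit 0, nat_lit 4, nat_lit 0] else [nat_lit 4, nat_lit 3, nat_lit 1, nat_lit 4, nat_lit 1, nat_lit 4, nat_lit 1, nat_lit 4, nat_lit 1, nat_lit 4, nat_lit 3, nat_lit 4, nat_lit 3, nat_lit 4, nat_lit 3]
def Wt_91_93 (j : ℕ) : List ℕ := bif Nat.blt j 92 then [nat_lit 1, nat_lit 4, nat_lit 1, nat_lit 4, nat_lit 1, nat_lit 4, nat_lit 3, nat_lit 4, nat_lit 3, nat_lit 4, nat_lit 3, nat_lit 4, nat_lit 3, nat_lit 1, nat_lit 4] else [nat_lit 4, nat_lit 3, nat_lit 4, nat_lit 3, nat_lit 4, nat_lit 3, nat_lit 1, nat_lit 4, nat_lit 1, nat_lit 4, nat_lit 1, nat_lit 4, nat_lit 1, nat_lit 4, nat_lit 3]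
def Wt_89_93 (j : ℕ) : List ℕ := bif Nat.blt j 91 then (Wt_89_91 j) else (Wt_91_93 j)
def Wt_85_93 (j : ℕ) : List ℕ := bif Nat.blt j 89 then (Wt_85_89 j) else (Wt_89_93 j)
def Wt_93_95 (j : ℕ) : List ℕ := bif Nat.blt j 94 then [nat_lit 4, nat_lit 0, nat_lit 4, nat_lit 2, nat_lit 0, nat_lit 4, nat_lit 0, nat_lit 4, nat_lit 3, nat_lit 1, nat_lit 4, nat_lit 2, nat_lit 1, nat_lit 2, nat_lit 4, nat_lit 1, nat_lit 3] else [nat_lit 4, nat_lit 2, nat_lit 4, nat_lit 1, nat_lit 4, nat_lit 2, nat_lit 4, nat_lit 3, nat_lit 2, nat_lit 4, nat_lit 1, nat_lit 3, nat_lit 0, nat_lit 3, nat_lit 4, nat_lit 2, nat_lit 3]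
def Wt_95_97 (j : ℕ) : List ℕ := bif Nat.blt j 96 then [nat_lit 3, nat_lit 0, nat_lit 2, nat_lit 1, nat_lit 0, nat_lit 2, nat_lit 3, nat_lit 0, nat_lit 2, nat_lit 1, nat_lit 0, nat_lit 2, nat_lit 3, nat_lit 0, nat_lit 2, nat_lit 1, nat_lit 0, nat_lit 2] else [nat_lit 0, nat_lit 2, nat_lit 1, nat_lit 0, nat_lit 2, nat_lit 3, nat_lit 0, nat_lit 2, nat_lit 1, nat_lit 0, nat_lit 2, nat_lit 3, nat_lit 0, nat_lit 2, nat_lit 1, nat_lit 0, nat_lit 2, nat_lit 3]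
def Wt_93_97 (j : ℕ) : List ℕ := bif Nat.blt j 95 then (Wt_93_95 j) else (Wt_95_97 j)
def Wt_97_99 (j : ℕ) : List ℕ := bif Nat.blt j 98 then [nat_lit 1, nat_lit 0, nat_lit 2, nat_lit 0, nat_lit 1, nat_lit 2, nat_lit 1, nat_lit 0, nat_lit 2, nat_lit 0, nat_lit 1, nat_lit 2] else [nat_lit 2, nat_lit 4, nat_lit 1, nat_lit 3, nat_lit 0, nat_lit 3, nat_lit 4, nat_lit 2, nat_lit 3, nat_lit 4, nat_lit 2, nat_lit 4, nat_lit 1, nat_lit 4, nat_lit 2, nat_lit 4, nat_lit 3]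
def Wt_100_102 (j : ℕ) : List ℕ := bif Nat.blt j 101 then [nat_lit 1, nat_lit 2, nat_lit 1, nat_lit 4, nat_lit 1, nat_lit 2, nat_lit 1, nat_lit 4, nat_lit 0, nat_lit 1, nat_lit 4, nat_lit 3, nat_lit 2, nat_lit 4, nat_lit 1, nat_lit 0, nat_lit 4] else [nat_lit 2, nat_lit 4, nat_lit 3, nat_lit 2, nat_lit 4, nat_lit 1, nat_lit 3, nat_lit 0, nat_lit 3, nat_lit 4, nat_lit 2, nat_lit 3, nat_lit 4, nat_lit 2, nat_lit 4, nat_lit 1, nat_lit 4]
def Wt_99_102 (j : ℕ) : List ℕ := bif Nat.blt j 100 then [nat_lit 0, nat_lit 3, nat_lit 1, nat_lit 4, nat_lit 2, nat_lit 3, nat_lit 4, nat_lit 2, nat_lit 4, nat_lit 1, nat_lit 4, nat_lit 2, nat_lit 4, nat_lit 3, nat_lit 2, nat_lit 4, nat_lit 3] else (Wt_100_102 j)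
def Wt_97_102 (j : ℕ) : List ℕ := bif Nat.blt j 99 then (Wt_97_99 j) else (Wt_99_102 j)
def Wt_93_102 (j : ℕ) : List ℕ := bif Nat.blt j 97 then (Wt_93_97 j) else (Wt_97_102 j)
def Wt_85_102 (j : ℕ) : List ℕ := bif Nat.blt j 93 then (Wt_85_93 j) else (Wt_93_102 j)
def Wt_68_102 (j : ℕ) : List ℕ := bif Nat.blt j 85 then (Wt_68_85 j) else (Wt_85_102 j)
def Wt_102_104 (j : ℕ) : List ℕ := bif Nat.blt j 103 then [nat_lit 4, nat_lit 1, nat_lit 3, nat_lit 0, nat_lit 3, nat_lit 4, nat_lit 2, nat_lit 3, nat_lit 4, nat_lit 2, nat_lit 4, nat_lit 1, nat_lit 4, nat_lit 2, nat_lit 4, nat_lit 3, nat_lit 2] else [nat_lit 3, nat_lit 0, nat_lit 3, nat_lit 1, nat_lit 4, nat_lit 2, nat_lit 3, nat_lit 4, nat_lit 2, nat_lit 4, nat_lit 1, nat_lit 4, nat_lit 2, nat_lit 4, nat_lit 3, nat_lit 2, nat_lit 4]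
def Wt_104_106 (j : ℕ) : List ℕ := bif Nat.blt j 105 then [nat_lit 2, nat_lit 4, nat_lit 3, nat_lit 4, nat_lit 2, nat_lit 4, nat_lit 1, nat_lit 4, nat_lit 1, nat_lit 2, nat_lit 4, nat_lit 2, nat_lit 4, nat_lit 2, nat_lit 1, nat_lit 4, nat_lit 1] else [nat_lit 4, nat_lit 2, nat_lit 4, nat_lit 3, nat_lit 4, nat_lit 2, nat_lit 1, nat_lit 4, nat_lit 1, nat_lit 2, nat_lit 4, nat_lit 2, nat_lit 4, nat_lit 2, nat_lit 1, nat_lit 4, nat_lit 1]
def Wt_102_106 (j : ℕ) : List ℕ := bif Nat.blt j 104 then (Wt_102_104 j) else (Wt_104_106 j)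
def Wt_106_108 (j : ℕ) : List ℕ := bif Nat.blt j 107 then [nat_lit 1, nat_lit 3, nat_lit 0, nat_lit 3, nat_lit 4, nat_lit 3, nat_lit 4, nat_lit 2, nat_lit 4, nat_lit 2, nat_lit 4, nat_lit 3, nat_lit 4, nat_lit 2, nat_lit 4, nat_lit 1, nat_lit 2] else [nat_lit 0, nat_lit 2, nat_lit 3, nat_lit 0, nat_lit 2, nat_lit 1, nat_lit 0, nat_lit 2, nat_lit 3, nat_lit 0, nat_lit 2, nat_lit 1, nat_lit 0, nat_lit 2, nat_lit 3, nat_lit 0, nat_lit 2, nat_lit 1]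
def Wt_108_110 (j : ℕ) : List ℕ := bif Nat.blt j 109 then [nat_lit 1, nat_lit 0, nat_lit 2, nat_lit 1, nat_lit 0, nat_lit 1, nat_lit 3, nat_lit 4, nat_lit 0, nat_lit 1, nat_lit 4, nat_lit 1, nat_lit 3, nat_lit 4, nat_lit 1, nat_lit 0, nat_lit 4] else [nat_lit 2, nat_lit 1, nat_lit 4, nat_lit 1, nat_lit 2, nat_lit 4, nat_lit 3, nat_lit 4, nat_lit 2, nat_lit 4, nat_lit 1, nat_lit 4, nat_lit 1, nat_lit 2, nat_lit 4, nat_lit 2, nat_lit 4]
def Wt_106_110 (j : ℕ) : List ℕ := bif Nat.blt j 108 then (Wt_106_108 j) else (Wt_108_110 j)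
def Wt_102_110 (j : ℕ) : List ℕ := bif Nat.blt j 106 then (Wt_102_106 j) else (Wt_106_110 j)
def Wt_110_112 (j : ℕ) : List ℕ := bif Nat.blt j 111 then [nat_lit 3, nat_lit 4, nat_lit 2, nat_lit 1, nat_lit 4, nat_lit 1, nat_lit 2, nat_lit 4, nat_lit 2, nat_lit 4, nat_lit 2, nat_lit 1, nat_lit 4, nat_lit 1, nat_lit 4, nat_lit 2, nat_lit 4] else [nat_lit 1, nat_lit 3, nat_lit 4, nat_lit 2, nat_lit 1, nat_lit 4, nat_lit 3, nat_lit 4, nat_lit 1, nat_lit 2, nat_lit 4, nat_lit 3, nat_lit 1, nat_lit 3, nat_lit 1, nat_lit 3]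
def Wt_112_114 (j : ℕ) : List ℕ := bif Nat.blt j 113 then [nat_lit 63, nat_lit 2, nat_lit 1, nat_lit 4, nat_lit 2, nat_lit 4, nat_lit 3, nat_lit 4, nat_lit 2, nat_lit 4, nat_lit 2, nat_lit 4, nat_lit 3, nat_lit 4, nat_lit 3, nat_lit 0, nat_lit 3, nat_lit 1] else [nat_lit 0, nat_lit 3, nat_lit 1, nat_lit 2, nat_lit 1, nat_lit 4, nat_lit 2, nat_lit 4, nat_lit 3, nat_lit 4, nat_lit 2, nat_lit 4, nat_lit 2, nat_lit 4, nat_lit 3, nat_lit 4, nat_lit 3]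
def Wt_110_114 (j : ℕ) : List ℕ := bif Nat.blt j 112 then (Wt_110_112 j) else (Wt_112_114 j)
def Wt_114_116 (j : ℕ) : List ℕ := bif Nat.blt j 115 then [nat_lit 3, nat_lit 0, nat_lit 3, nat_lit 4, nat_lit 2, nat_lit 4, nat_lit 3, nat_lit 4, nat_lit 2, nat_lit 4, nat_lit 2, nat_lit 4, nat_lit 3, nat_lit 4, nat_lit 1, nat_lit 2, nat_lit 1] else [nat_lit 3, nat_lit 1, nat_lit 0, nat_lit 1, nat_lit 2, nat_lit 0, nat_lit 1, nat_lit 4, nat_lit 0, nat_lit 1, nat_lit 4, nat_lit 3, nat_lit 1, nat_lit 4, nat_lit 1, nat_lit 0, nat_lit 4]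
def Wt_117_119 (j : ℕ) : List ℕ := bif Nat.blt j 118 then [nat_lit 4, nat_lit 1, nat_lit 4, nat_lit 3, nat_lit 4, nat_lit 3, nat_lit 4, nat_lit 3, nat_lit 4, nat_lit 3, nat_lit 1, nat_lit 4, nat_lit 1, nat_lit 4, nat_lit 1] else [nat_lit 1, nat_lit 2, nat_lit 3, nat_lit 1, nat_lit 0, nat_lit 4, nat_lit 3, nat_lit 4, nat_lit 2, nat_lit 3, nat_lit 4, nat_lit 1, nat_lit 4, nat_lit 0, nat_lit 1, nat_lit 0, nat_lit 4]
def Wt_116_119 (j : ℕ) : List ℕ := bif Nat.blt j 117 then [nat_lit 3, nat_lit 4, nat_lit 3, nat_lit 4, nat_lit 3, nat_lit 4, nat_lit 1, nat_lit 4, nat_lit 1, nat_lit 4, nat_lit 1, nat_lit 4, nat_lit 1, nat_lit 3, nat_lit 4] else (Wt_117_119 j)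
def Wt_114_119 (j : ℕ) : List ℕ := bif Nat.blt j 116 then (Wt_114_116 j) else (Wt_116_119 j)
def Wt_110_119 (j : ℕ) : List ℕ := bif Nat.blt j 114 then (Wt_110_114 j) else (Wt_114_119 j)
def Wt_102_119 (j : ℕ) : List ℕ := bif Nat.blt j 110 then (Wt_102_110 j) else (Wt_110_119 j)
def Wt_119_121 (j : ℕ) : List ℕ := bif Nat.blt j 120 then [nat_lit 1, nat_lit 2, nat_lit 4, nat_lit 3, nat_lit 4, nat_lit 2, nat_lit 4, nat_lit 1, nat_lit 4, nat_lit 1, nat_lit 2, nat_lit 4, nat_lit 2, nat_lit 4, nat_lit 2, nat_lit 1, nat_lit 4] else [nat_lit 0, nat_lit 2, nat_lit 3, nat_lit 4, nat_lit 1, nat_lit 4, nat_lit 1, nat_lit 2, nat_lit 4, nat_lit 1, nat_lit 4, nat_lit 0, nat_lit 4, nat_lit 1, nat_lit 4, nat_lit 1, nat_lit 3]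
def Wt_121_123 (j : ℕ) : List ℕ := bif Nat.blt j 122 then [nat_lit 3, nat_lit 4, nat_lit 3, nat_lit 4, nat_lit 3, nat_lit 1, nat_lit 4, nat_lit 1, nat_lit 4, nat_lit 1, nat_lit 4, nat_lit 1, nat_lit 4, nat_lit 3, nat_lit 4] else [nat_lit 4, nat_lit 3, nat_lit 4, nat_lit 5, nat_lit 6, nat_lit 5, nat_lit 4, nat_lit 1, nat_lit 0, nat_lit 4, nat_lit 3, nat_lit 5, nat_lit 4, nat_lit 3, nat_lit 0]
def Wt_119_123 (j : ℕ) : List ℕ := bif Nat.blt j 121 then (Wt_119_121 j) else (Wt_121_123 j)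
def Wt_123_125 (j : ℕ) : List ℕ := bif Nat.blt j 124 then [nat_lit 3, nat_lit 4, nat_lit 2, nat_lit 3, nat_lit 4, nat_lit 3, nat_lit 4, nat_lit 0, nat_lit 3, nat_lit 4, nat_lit 0, nat_lit 3, nat_lit 0, nat_lit 4, nat_lit 3, nat_lit 0, nat_lit 4] else [nat_lit 63, nat_lit 4, nat_lit 1, nat_lit 0, nat_lit 4, nat_lit 3, nat_lit 5, nat_lit 4, nat_lit 3, nat_lit 0, nat_lit 4, nat_lit 3, nat_lit 4, nat_lit 5, nat_lit 6, nat_lit 5]
def Wt_125_127 (j : ℕ) : List ℕ := bif Nat.blt j 126 then [nat_lit 2, nat_lit 3, nat_lit 4, nat_lit 1, nat_lit 4, nat_lit 1, nat_lit 2, nat_lit 4, nat_lit 1, nat_lit 4, nat_lit 0, nat_lit 4, nat_lit 1, nat_lit 4, nat_lit 1, nat_lit 3, nat_lit 0] else [nat_lit 4, nat_lit 3, nat_lit 1, nat_lit 0, nat_lit 1, nat_lit 2, nat_lit 0, nat_lit 1, nat_lit 4, nat_lit 0, nat_lit 1, nat_lit 4, nat_lit 3, nat_lit 1, nat_lit 4, nat_lit 1, nat_lit 0]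
def Wt_123_127 (j : ℕ) : List ℕ := bif Nat.blt j 125 then (Wt_123_125 j) else (Wt_125_127 j)
def Wt_119_127 (j : ℕ) : List ℕ := bif Nat.blt j 123 then (Wt_119_123 j) else (Wt_123_127 j)
def Wt_127_129 (j : ℕ) : List ℕ := bif Nat.blt j 128 then [nat_lit 4, nat_lit 1, nat_lit 4, nat_lit 2, nat_lit 5, nat_lit 4, nat_lit 1, nat_lit 4, nat_lit 2, nat_lit 5, nat_lit 4, nat_lit 1, nat_lit 4, nat_lit 2, nat_lit 5] else [nat_lit 3, nat_lit 4, nat_lit 2, nat_lit 3, nat_lit 4, nat_lit 2, nat_lit 4, nat_lit 1, nat_lit 4, nat_lit 2, nat_lit 4, nat_lit 3, nat_lit 2, nat_lit 4, nat_lit 1, nat_lit 3, nat_lit 0]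
def Wt_129_131 (j : ℕ) : List ℕ := bif Nat.blt j 130 then [nat_lit 2, nat_lit 4, nat_lit 3, nat_lit 4, nat_lit 2, nat_lit 4, nat_lit 2, nat_lit 4, nat_lit 3, nat_lit 4, nat_lit 3, nat_lit 0, nat_lit 3, nat_lit 1, nat_lit 2, nat_lit 1, nat_lit 4] else [nat_lit 1, nat_lit 4, nat_lit 2, nat_lit 3, nat_lit 4, nat_lit 2, nat_lit 4, nat_lit 1, nat_lit 4, nat_lit 2, nat_lit 4, nat_lit 3, nat_lit 2, nat_lit 4, nat_lit 3, nat_lit 0, nat_lit 3]
def Wt_127_131 (j : ℕ) : List ℕ := bif Nat.blt j 129 then (Wt_127_129 j) else (Wt_129_131 j)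
def Wt_131_133 (j : ℕ) : List ℕ := bif Nat.blt j 132 then [nat_lit 1, nat_lit 2, nat_lit 1, nat_lit 0, nat_lit 2, nat_lit 0, nat_lit 1, nat_lit 2, nat_lit 1, nat_lit 0, nat_lit 2, nat_lit 0] else [nat_lit 3, nat_lit 4, nat_lit 0, nat_lit 1, nat_lit 4, nat_lit 1, nat_lit 3, nat_lit 4, nat_lit 1, nat_lit 0, nat_lit 4, nat_lit 1, nat_lit 0, nat_lit 2, nat_lit 1, nat_lit 0, nat_lit 1]
def Wt_134_136 (j : ℕ) : List ℕ := bif Nat.blt j 135 then [nat_lit 4, nat_lit 2, nat_lit 4, nat_lit 3, nat_lit 4, nat_lit 3, nat_lit 0, nat_lit 3, nat_lit 1, nat_lit 2, nat_lit 1, nat_lit 4, nat_lit 2, nat_lit 4, nat_lit 3, nat_lit 4, nat_lit 2] else [nat_lit 63, nat_lit 4, nat_lit 3, nat_lit 4, nat_lit 2, nat_lit 4, nat_lit 2, nat_lit 4, nat_lit 3, nat_lit 4, nat_lit 2, nat_lit 4, nat_lit 3, nat_lit 0, nat_lit 3, nat_lit 1, nat_lit 2, nat_lit 1]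
def Wt_133_136 (j : ℕ) : List ℕ := bif Nat.blt j 134 then [nat_lit 4, nat_lit 2, nat_lit 4, nat_lit 2, nat_lit 4, nat_lit 2, nat_lit 4, nat_lit 2, nat_lit 4, nat_lit 2, nat_lit 4, nat_lit 2] else (Wt_134_136 j)
def Wt_131_136 (j : ℕ) : List ℕ := bif Nat.blt j 133 then (Wt_131_133 j) else (Wt_133_136 j)
def Wt_127_136 (j : ℕ) : List ℕ := bif Nat.blt j 131 then (Wt_127_131 j) else (Wt_131_136 j)
def Wt_119_136 (j : ℕ) : List ℕ := bif Nat.blt j 127 then (Wt_119_127 j) else (Wt_127_136 j)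
def Wt_102_136 (j : ℕ) : List ℕ := bif Nat.blt j 119 then (Wt_102_119 j) else (Wt_119_136 j)
def Wt_68_136 (j : ℕ) : List ℕ := bif Nat.blt j 102 then (Wt_68_102 j) else (Wt_102_136 j)
def Wt_0_136 (j : ℕ) : List ℕ := bif Nat.blt j 68 then (Wt_0_68 j) else (Wt_68_136 j)
def Wt_136_138 (j : ℕ) : List ℕ := bif Nat.blt j 137 then [nat_lit 63, nat_lit 4, nat_lit 63, nat_lit 4] else [nat_lit 4, nat_lit 3, nat_lit 4, nat_lit 1, nat_lit 2, nat_lit 4, nat_lit 3, nat_lit 1, nat_lit 3, nat_lit 1, nat_lit 3, nat_lit 1, nat_lit 3, nat_lit 4, nat_lit 2, nat_lit 1]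
def Wt_138_140 (j : ℕ) : List ℕ := bif Nat.blt j 139 then [nat_lit 2, nat_lit 4, nat_lit 2, nat_lit 4, nat_lit 3, nat_lit 4, nat_lit 3, nat_lit 0, nat_lit 3, nat_lit 1, nat_lit 2, nat_lit 1, nat_lit 4, nat_lit 2, nat_lit 4, nat_lit 3, nat_lit 4] else [nat_lit 2, nat_lit 4, nat_lit 3, nat_lit 4, nat_lit 2, nat_lit 4, nat_lit 3, nat_lit 0, nat_lit 3, nat_lit 1, nat_lit 2, nat_lit 1, nat_lit 4, nat_lit 3, nat_lit 4, nat_lit 2, nat_lit 4]
def Wt_136_140 (j : ℕ) : List ℕ := bif Nat.blt j 138 then (Wt_136_138 j) else (Wt_138_140 j)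
def Wt_140_142 (j : ℕ) : List ℕ := bif Nat.blt j 141 then [nat_lit 63, nat_lit 3, nat_lit 0, nat_lit 3, nat_lit 4, nat_lit 3, nat_lit 4, nat_lit 2, nat_lit 4, nat_lit 2, nat_lit 4, nat_lit 3, nat_lit 4, nat_lit 2, nat_lit 4, nat_lit 1, nat_lit 2, nat_lit 1] else [nat_lit 2, nat_lit 4, nat_lit 3, nat_lit 4, nat_lit 3, nat_lit 0, nat_lit 3, nat_lit 1, nat_lit 2, nat_lit 1, nat_lit 4, nat_lit 2, nat_lit 4, nat_lit 3, nat_lit 4, nat_lit 2, nat_lit 4]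
def Wt_142_144 (j : ℕ) : List ℕ := bif Nat.blt j 143 then [nat_lit 63, nat_lit 4, nat_lit 3, nat_lit 4, nat_lit 2, nat_lit 4, nat_lit 2, nat_lit 4, nat_lit 3, nat_lit 4, nat_lit 2, nat_lit 4, nat_lit 1, nat_lit 2, nat_lit 1, nat_lit 3, nat_lit 0, nat_lit 3] else [nat_lit 2, nat_lit 3, nat_lit 0, nat_lit 3, nat_lit 0, nat_lit 1, nat_lit 3, nat_lit 2, nat_lit 3, nat_lit 0, nat_lit 3, nat_lit 0, nat_lit 1, nat_lit 3, nat_lit 2, nat_lit 3, nat_lit 0, nat_lit 3, nat_lit 0, nat_lit 1, nat_lit 3]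
def Wt_140_144 (j : ℕ) : List ℕ := bif Nat.blt j 142 then (Wt_140_142 j) else (Wt_142_144 j)
def Wt_136_144 (j : ℕ) : List ℕ := bif Nat.blt j 140 then (Wt_136_140 j) else (Wt_140_144 j)
def Wt_144_146 (j : ℕ) : List ℕ := bif Nat.blt j 145 then [nat_lit 63, nat_lit 2, nat_lit 3, nat_lit 2, nat_lit 3] else [nat_lit 63, nat_lit 0, nat_lit 3, nat_lit 2, nat_lit 3, nat_lit 1, nat_lit 0, nat_lit 3, nat_lit 0, nat_lit 3, nat_lit 2, nat_lit 3, nat_lit 1, nat_lit 0, nat_lit 3, nat_lit 0, nat_lit 3, nat_lit 2, nat_lit 3, nat_lit 1, nat_lit 0, nat_lit 3]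
def Wt_146_148 (j : ℕ) : List ℕ := bif Nat.blt j 147 then [nat_lit 63, nat_lit 1, nat_lit 3, nat_lit 2, nat_lit 3, nat_lit 0, nat_lit 3, nat_lit 0, nat_lit 1, nat_lit 3, nat_lit 2, nat_lit 3, nat_lit 0, nat_lit 3, nat_lit 0, nat_lit 1, nat_lit 3, nat_lit 2, nat_lit 3, nat_lit 0, nat_lit 3, nat_lit 0] else [nat_lit 4, nat_lit 0, nat_lit 4, nat_lit 1, nat_lit 4, nat_lit 1, nat_lit 3, nat_lit 0, nat_lit 2, nat_lit 3, nat_lit 4, nat_lit 1, nat_lit 4, nat_lit 1, nat_lit 2, nat_lit 4, nat_lit 1]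
def Wt_144_148 (j : ℕ) : List ℕ := bif Nat.blt j 146 then (Wt_144_146 j) else (Wt_146_148 j)
def Wt_148_150 (j : ℕ) : List ℕ := bif Nat.blt j 149 then [nat_lit 63, nat_lit 1, nat_lit 4, nat_lit 1, nat_lit 4, nat_lit 0, nat_lit 4, nat_lit 1, nat_lit 4, nat_lit 2, nat_lit 1, nat_lit 4, nat_lit 1, nat_lit 4, nat_lit 3, nat_lit 2, nat_lit 0, nat_lit 3] else [nat_lit 63, nat_lit 0, nat_lit 3, nat_lit 1, nat_lit 4, nat_lit 1, nat_lit 3, nat_lit 0, nat_lit 1, nat_lit 0, nat_lit 3, nat_lit 1, nat_lit 4, nat_lit 1, nat_lit 3, nat_lit 0, nat_lit 1]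
def Wt_151_153 (j : ℕ) : List ℕ := bif Nat.blt j 152 then [nat_lit 1, nat_lit 2, nat_lit 1, nat_lit 4, nat_lit 3, nat_lit 4, nat_lit 2, nat_lit 4, nat_lit 2, nat_lit 4, nat_lit 3, nat_lit 4, nat_lit 2, nat_lit 4, nat_lit 3, nat_lit 0, nat_lit 3] else [nat_lit 1, nat_lit 2, nat_lit 0, nat_lit 3, nat_lit 2, nat_lit 0, nat_lit 1, nat_lit 2, nat_lit 0, nat_lit 3, nat_lit 2, nat_lit 0, nat_lit 1, nat_lit 2, nat_lit 0, nat_lit 3, nat_lit 2, nat_lit 0]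
def Wt_150_153 (j : ℕ) : List ℕ := bif Nat.blt j 151 then [nat_lit 1, nat_lit 4, nat_lit 2, nat_lit 0, nat_lit 2, nat_lit 4, nat_lit 1, nat_lit 4, nat_lit 2, nat_lit 1, nat_lit 4, nat_lit 1, nat_lit 4, nat_lit 1, nat_lit 2, nat_lit 4] else (Wt_151_153 j)
def Wt_148_153 (j : ℕ) : List ℕ := bif Nat.blt j 150 then (Wt_148_150 j) else (Wt_150_153 j)
def Wt_144_153 (j : ℕ) : List ℕ := bif Nat.blt j 148 then (Wt_144_148 j) else (Wt_148_153 j)
def Wt_136_153 (j : ℕ) : List ℕ := bif Nat.blt j 144 then (Wt_136_144 j) else (Wt_144_153 j)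
def Wt_153_155 (j : ℕ) : List ℕ := bif Nat.blt j 154 then [nat_lit 0, nat_lit 4, nat_lit 1, nat_lit 2, nat_lit 3, nat_lit 1, nat_lit 0, nat_lit 4, nat_lit 3, nat_lit 4, nat_lit 2, nat_lit 3, nat_lit 4, nat_lit 1, nat_lit 4, nat_lit 0, nat_lit 1] else [nat_lit 3, nat_lit 0, nat_lit 1, nat_lit 3, nat_lit 2, nat_lit 3, nat_lit 0, nat_lit 3, nat_lit 0, nat_lit 1, nat_lit 3, nat_lit 2, nat_lit 3, nat_lit 0, nat_lit 3, nat_lit 0, nat_lit 1, nat_lit 3, nat_lit 2, nat_lit 3, nat_lit 0]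
def Wt_155_157 (j : ℕ) : List ℕ := bif Nat.blt j 156 then [nat_lit 0, nat_lit 3, nat_lit 2, nat_lit 0, nat_lit 1, nat_lit 2, nat_lit 0, nat_lit 3, nat_lit 2, nat_lit 0, nat_lit 1, nat_lit 2, nat_lit 0, nat_lit 3, nat_lit 2, nat_lit 0, nat_lit 1, nat_lit 2] else [nat_lit 1, nat_lit 0, nat_lit 4, nat_lit 3, nat_lit 4, nat_lit 2, nat_lit 3, nat_lit 4, nat_lit 1, nat_lit 4, nat_lit 0, nat_lit 1, nat_lit 0, nat_lit 4, nat_lit 1, nat_lit 2, nat_lit 3]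
def Wt_153_157 (j : ℕ) : List ℕ := bif Nat.blt j 155 then (Wt_153_155 j) else (Wt_155_157 j)
def Wt_157_159 (j : ℕ) : List ℕ := bif Nat.blt j 158 then [nat_lit 0, nat_lit 3, nat_lit 0, nat_lit 3, nat_lit 2, nat_lit 3, nat_lit 1, nat_lit 0, nat_lit 3, nat_lit 0, nat_lit 3, nat_lit 2, nat_lit 3, nat_lit 1, nat_lit 0, nat_lit 3, nat_lit 0, nat_lit 3, nat_lit 2, nat_lit 3, nat_lit 1] else [nat_lit 1, nat_lit 0, nat_lit 4, nat_lit 1, nat_lit 4, nat_lit 3, nat_lit 2, nat_lit 4, nat_lit 3, nat_lit 4, nat_lit 0, nat_lit 1, nat_lit 3, nat_lit 2, nat_lit 1, nat_lit 4, nat_lit 0]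
def Wt_159_161 (j : ℕ) : List ℕ := bif Nat.blt j 160 then [nat_lit 63, nat_lit 1, nat_lit 3, nat_lit 0, nat_lit 3, nat_lit 4, nat_lit 3, nat_lit 4, nat_lit 2, nat_lit 4, nat_lit 2, nat_lit 4, nat_lit 3, nat_lit 4, nat_lit 2, nat_lit 4, nat_lit 1, nat_lit 2] else [nat_lit 2, nat_lit 3, nat_lit 0, nat_lit 3, nat_lit 1, nat_lit 2, nat_lit 3, nat_lit 0, nat_lit 3, nat_lit 1, nat_lit 2, nat_lit 3, nat_lit 0, nat_lit 3, nat_lit 1, nat_lit 2, nat_lit 3, nat_lit 0, nat_lit 3, nat_lit 1]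
def Wt_157_161 (j : ℕ) : List ℕ := bif Nat.blt j 159 then (Wt_157_159 j) else (Wt_159_161 j)
def Wt_153_161 (j : ℕ) : List ℕ := bif Nat.blt j 157 then (Wt_153_157 j) else (Wt_157_161 j)
def Wt_161_163 (j : ℕ) : List ℕ := bif Nat.blt j 162 then [nat_lit 0, nat_lit 3, nat_lit 4, nat_lit 2, nat_lit 4, nat_lit 3, nat_lit 4, nat_lit 2, nat_lit 4, nat_lit 2, nat_lit 4, nat_lit 3, nat_lit 4, nat_lit 1, nat_lit 2, nat_lit 1, nat_lit 3] else [nat_lit 63, nat_lit 1, nat_lit 4, nat_lit 2, nat_lit 4, nat_lit 3, nat_lit 4, nat_lit 2, nat_lit 4, nat_lit 2, nat_lit 4, nat_lit 3, nat_lit 4, nat_lit 3, nat_lit 0, nat_lit 3, nat_lit 1, nat_lit 2]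
def Wt_163_165 (j : ℕ) : List ℕ := bif Nat.blt j 164 then [nat_lit 63, nat_lit 3, nat_lit 0, nat_lit 3, nat_lit 4, nat_lit 2, nat_lit 4, nat_lit 3, nat_lit 4, nat_lit 2, nat_lit 4, nat_lit 2, nat_lit 4, nat_lit 3, nat_lit 4, nat_lit 1, nat_lit 2, nat_lit 1] else [nat_lit 2, nat_lit 3, nat_lit 5, nat_lit 3, nat_lit 5]
def Wt_161_165 (j : ℕ) : List ℕ := bif Nat.blt j 163 then (Wt_161_163 j) else (Wt_163_165 j)
def Wt_165_167 (j : ℕ) : List ℕ := bif Nat.blt j 166 then [nat_lit 4, nat_lit 2, nat_lit 4, nat_lit 3, nat_lit 4, nat_lit 2, nat_lit 4, nat_lit 1, nat_lit 2, nat_lit 1, nat_lit 3, nat_lit 0, nat_lit 3, nat_lit 4, nat_lit 3, nat_lit 4, nat_lit 2] else [nat_lit 4, nat_lit 3, nat_lit 4, nat_lit 2, nat_lit 4, nat_lit 1, nat_lit 2, nat_lit 1, nat_lit 3, nat_lit 0, nat_lit 3, nat_lit 4, nat_lit 3, nat_lit 4, nat_lit 2, nat_lit 4, nat_lit 2]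
def Wt_168_170 (j : ℕ) : List ℕ := bif Nat.blt j 169 then [nat_lit 1, nat_lit 4, nat_lit 2, nat_lit 1, nat_lit 4, nat_lit 1, nat_lit 4, nat_lit 1, nat_lit 2, nat_lit 4, nat_lit 1, nat_lit 4, nat_lit 2, nat_lit 0, nat_lit 2, nat_lit 4] else [nat_lit 1, nat_lit 4, nat_lit 2, nat_lit 0, nat_lit 4, nat_lit 1, nat_lit 4, nat_lit 0, nat_lit 2, nat_lit 4, nat_lit 1, nat_lit 4, nat_lit 2, nat_lit 0, nat_lit 4]
def Wt_167_170 (j : ℕ) : List ℕ := bif Nat.blt j 168 then [nat_lit 4, nat_lit 2, nat_lit 1, nat_lit 2, nat_lit 4, nat_lit 1, nat_lit 3, nat_lit 4, nat_lit 0, nat_lit 4, nat_lit 2, nat_lit 0, nat_lit 4, nat_lit 0, nat_lit 4, nat_lit 3, nat_lit 1] else (Wt_168_170 j)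
def Wt_165_170 (j : ℕ) : List ℕ := bif Nat.blt j 167 then (Wt_165_167 j) else (Wt_167_170 j)
def Wt_161_170 (j : ℕ) : List ℕ := bif Nat.blt j 165 then (Wt_161_165 j) else (Wt_165_170 j)
def Wt_153_170 (j : ℕ) : List ℕ := bif Nat.blt j 161 then (Wt_153_161 j) else (Wt_161_170 j)
def Wt_136_170 (j : ℕ) : List ℕ := bif Nat.blt j 153 then (Wt_136_153 j) else (Wt_153_170 j)
def Wt_170_172 (j : ℕ) : List ℕ := bif Nat.blt j 171 then [nat_lit 63, nat_lit 1, nat_lit 4, nat_lit 3, nat_lit 4, nat_lit 2, nat_lit 4, nat_lit 2, nat_lit 4, nat_lit 3, nat_lit 4, nat_lit 2, nat_lit 4, nat_lit 3, nat_lit 0, nat_lit 3, nat_lit 1, nat_lit 2] else [nat_lit 2, nat_lit 0, nat_lit 1, nat_lit 2, nat_lit 0, nat_lit 3, nat_lit 2, nat_lit 0, nat_lit 1, nat_lit 2, nat_lit 0, nat_lit 3, nat_lit 2, nat_lit 0, nat_lit 1, nat_lit 2, nat_lit 0, nat_lit 3]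
def Wt_172_174 (j : ℕ) : List ℕ := bif Nat.blt j 173 then [nat_lit 63, nat_lit 3, nat_lit 2, nat_lit 3, nat_lit 2] else [nat_lit 1, nat_lit 0, nat_lit 2, nat_lit 3, nat_lit 0, nat_lit 2, nat_lit 1, nat_lit 0, nat_lit 2, nat_lit 3, nat_lit 0, nat_lit 2, nat_lit 1, nat_lit 0, nat_lit 2, nat_lit 3, nat_lit 0, nat_lit 2]
def Wt_170_174 (j : ℕ) : List ℕ := bif Nat.blt j 172 then (Wt_170_172 j) else (Wt_172_174 j)
def Wt_174_176 (j : ℕ) : List ℕ := bif Nat.blt j 175 then [nat_lit 4, nat_lit 1, nat_lit 3, nat_lit 0, nat_lit 1, nat_lit 0, nat_lit 3, nat_lit 1, nat_lit 4, nat_lit 1, nat_lit 3, nat_lit 0, nat_lit 1, nat_lit 0, nat_lit 3, nat_lit 1] else [nat_lit 3, nat_lit 0, nat_lit 4, nat_lit 3, nat_lit 4, nat_lit 2, nat_lit 3, nat_lit 4, nat_lit 3, nat_lit 4, nat_lit 0, nat_lit 3, nat_lit 4, nat_lit 0, nat_lit 3, nat_lit 0, nat_lit 4]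
def Wt_176_178 (j : ℕ) : List ℕ := bif Nat.blt j 177 then [nat_lit 1, nat_lit 4, nat_lit 1, nat_lit 4, nat_lit 1, nat_lit 2, nat_lit 4, nat_lit 1, nat_lit 4, nat_lit 2, nat_lit 0, nat_lit 2, nat_lit 4, nat_lit 1, nat_lit 4, nat_lit 2] else [nat_lit 4, nat_lit 1, nat_lit 4, nat_lit 1, nat_lit 4, nat_lit 1, nat_lit 4, nat_lit 3, nat_lit 4, nat_lit 3, nat_lit 4, nat_lit 3, nat_lit 4, nat_lit 3, nat_lit 1]
def Wt_174_178 (j : ℕ) : List ℕ := bif Nat.blt j 176 then (Wt_174_176 j) else (Wt_176_178 j)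
def Wt_170_178 (j : ℕ) : List ℕ := bif Nat.blt j 174 then (Wt_170_174 j) else (Wt_174_178 j)
def Wt_178_180 (j : ℕ) : List ℕ := bif Nat.blt j 179 then [nat_lit 63, nat_lit 1, nat_lit 4, nat_lit 1, nat_lit 4, nat_lit 1, nat_lit 2, nat_lit 4, nat_lit 1, nat_lit 4, nat_lit 2, nat_lit 0, nat_lit 2, nat_lit 4, nat_lit 1, nat_lit 4, nat_lit 2] else [nat_lit 3, nat_lit 1, nat_lit 0, nat_lit 4, nat_lit 3, nat_lit 4, nat_lit 2, nat_lit 3, nat_lit 4, nat_lit 1, nat_lit 4, nat_lit 0, nat_lit 1, nat_lit 0, nat_lit 4, nat_lit 1, nat_lit 2]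
def Wt_180_182 (j : ℕ) : List ℕ := bif Nat.blt j 181 then [nat_lit 3, nat_lit 4, nat_lit 1, nat_lit 4, nat_lit 1, nat_lit 4, nat_lit 1, nat_lit 4, nat_lit 1, nat_lit 3, nat_lit 4, nat_lit 3, nat_lit 4, nat_lit 3, nat_lit 4] else [nat_lit 2, nat_lit 1, nat_lit 2, nat_lit 1, nat_lit 2, nat_lit 1, nat_lit 2, nat_lit 1]
def Wt_178_182 (j : ℕ) : List ℕ := bif Nat.blt j 180 then (Wt_178_180 j) else (Wt_180_182 j)
def Wt_182_184 (j : ℕ) : List ℕ := bif Nat.blt j 183 then [nat_lit 5, nat_lit 2, nat_lit 3, nat_lit 5, nat_lit 3] else [nat_lit 0, nat_lit 2, nat_lit 0, nat_lit 1, nat_lit 2, nat_lit 1, nat_lit 0, nat_lit 2, nat_lit 0, nat_lit 1, nat_lit 2, nat_lit 1]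
def Wt_185_187 (j : ℕ) : List ℕ := bif Nat.blt j 186 then [nat_lit 2, nat_lit 0, nat_lit 1, nat_lit 2, nat_lit 0, nat_lit 1, nat_lit 2, nat_lit 0, nat_lit 1, nat_lit 2, nat_lit 0, nat_lit 1, nat_lit 2, nat_lit 0, nat_lit 1] else [nat_lit 0, nat_lit 2, nat_lit 1, nat_lit 0, nat_lit 2, nat_lit 1, nat_lit 0, nat_lit 2, nat_lit 1, nat_lit 0, nat_lit 2, nat_lit 1, nat_lit 0, nat_lit 2, nat_lit 1]
def Wt_184_187 (j : ℕ) : List ℕ := bif Nat.blt j 185 then [nat_lit 2, nat_lit 3, nat_lit 1, nat_lit 0, nat_lit 3, nat_lit 0, nat_lit 3, nat_lit 2, nat_lit 3, nat_lit 1, nat_lit 0, nat_lit 3, nat_lit 0, nat_lit 3, nat_lit 2, nat_lit 3, nat_lit 1, nat_lit 0, nat_lit 3, nat_lit 0, nat_lit 3] else (Wt_185_187 j)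
def Wt_182_187 (j : ℕ) : List ℕ := bif Nat.blt j 184 then (Wt_182_184 j) else (Wt_184_187 j)
def Wt_178_187 (j : ℕ) : List ℕ := bif Nat.blt j 182 then (Wt_178_182 j) else (Wt_182_187 j)
def Wt_170_187 (j : ℕ) : List ℕ := bif Nat.blt j 178 then (Wt_170_178 j) else (Wt_178_187 j)
def Wt_187_189 (j : ℕ) : List ℕ := bif Nat.blt j 188 then [nat_lit 3, nat_lit 0, nat_lit 3, nat_lit 2, nat_lit 3, nat_lit 1, nat_lit 0, nat_lit 3, nat_lit 0, nat_lit 3, nat_lit 2, nat_lit 3, nat_lit 1, nat_lit 0, nat_lit 3, nat_lit 0, nat_lit 3, nat_lit 2, nat_lit 3, nat_lit 1, nat_lit 0] else [nat_lit 5, nat_lit 3, nat_lit 4, nat_lit 3, nat_lit 0, nat_lit 5, nat_lit 3, nat_lit 4, nat_lit 3, nat_lit 0, nat_lit 5, nat_lit 3, nat_lit 4, nat_lit 3, nat_lit 0, nat_lit 5, nat_lit 3, nat_lit 4, nat_lit 3, nat_lit 0, nat_lit 5, nat_lit 3, nat_lit 4, nat_lit 3, nat_lit 0]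
def Wt_189_191 (j : ℕ) : List ℕ := bif Nat.blt j 190 then [nat_lit 3, nat_lit 5, nat_lit 3, nat_lit 5, nat_lit 2] else [nat_lit 63, nat_lit 1, nat_lit 2, nat_lit 1, nat_lit 4, nat_lit 3, nat_lit 4, nat_lit 2, nat_lit 4, nat_lit 2, nat_lit 4, nat_lit 3, nat_lit 4, nat_lit 2, nat_lit 4, nat_lit 3, nat_lit 0, nat_lit 3]
def Wt_187_191 (j : ℕ) : List ℕ := bif Nat.blt j 189 then (Wt_187_189 j) else (Wt_189_191 j)
def Wt_191_193 (j : ℕ) : List ℕ := bif Nat.blt j 192 then [nat_lit 0, nat_lit 4, nat_lit 1, nat_lit 4, nat_lit 2, nat_lit 0, nat_lit 4, nat_lit 1, nat_lit 4, nat_lit 0, nat_lit 2, nat_lit 4, nat_lit 1, nat_lit 4, nat_lit 2] else [nat_lit 63, nat_lit 3, nat_lit 1, nat_lit 4, nat_lit 1, nat_lit 4, nat_lit 0, nat_lit 4, nat_lit 1, nat_lit 4, nat_lit 2, nat_lit 1, nat_lit 4, nat_lit 1, nat_lit 4, nat_lit 3, nat_lit 2, nat_lit 0]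
def Wt_193_195 (j : ℕ) : List ℕ := bif Nat.blt j 194 then [nat_lit 1, nat_lit 4, nat_lit 1, nat_lit 4, nat_lit 3, nat_lit 4, nat_lit 3, nat_lit 4, nat_lit 3, nat_lit 4, nat_lit 3, nat_lit 1, nat_lit 4, nat_lit 1, nat_lit 4] else [nat_lit 3, nat_lit 2, nat_lit 1, nat_lit 4, nat_lit 0, nat_lit 1, nat_lit 0, nat_lit 4, nat_lit 1, nat_lit 4, nat_lit 3, nat_lit 2, nat_lit 4, nat_lit 3, nat_lit 4, nat_lit 0, nat_lit 1]
def Wt_191_195 (j : ℕ) : List ℕ := bif Nat.blt j 193 then (Wt_191_193 j) else (Wt_193_195 j)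
def Wt_187_195 (j : ℕ) : List ℕ := bif Nat.blt j 191 then (Wt_187_191 j) else (Wt_191_195 j)
def Wt_195_197 (j : ℕ) : List ℕ := bif Nat.blt j 196 then [nat_lit 1, nat_lit 0, nat_lit 2, nat_lit 1, nat_lit 0, nat_lit 2, nat_lit 1, nat_lit 0, nat_lit 2, nat_lit 1, nat_lit 0, nat_lit 2, nat_lit 1, nat_lit 0, nat_lit 2] else [nat_lit 4, nat_lit 3, nat_lit 4, nat_lit 3, nat_lit 4, nat_lit 3, nat_lit 4, nat_lit 1, nat_lit 4, nat_lit 1, nat_lit 4, nat_lit 1, nat_lit 4, nat_lit 1, nat_lit 3]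
def Wt_197_199 (j : ℕ) : List ℕ := bif Nat.blt j 198 then [nat_lit 1, nat_lit 4, nat_lit 1, nat_lit 4, nat_lit 1, nat_lit 4, nat_lit 1, nat_lit 4, nat_lit 3, nat_lit 4, nat_lit 3, nat_lit 4, nat_lit 3, nat_lit 4, nat_lit 3] else [nat_lit 2, nat_lit 1, nat_lit 4, nat_lit 1, nat_lit 4, nat_lit 1, nat_lit 2, nat_lit 4, nat_lit 1, nat_lit 4, nat_lit 2, nat_lit 0, nat_lit 2, nat_lit 4, nat_lit 1, nat_lit 4]
def Wt_195_199 (j : ℕ) : List ℕ := bif Nat.blt j 197 then (Wt_195_197 j) else (Wt_197_199 j)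
def Wt_199_201 (j : ℕ) : List ℕ := bif Nat.blt j 200 then [nat_lit 5, nat_lit 3, nat_lit 5, nat_lit 3, nat_lit 2] else [nat_lit 3, nat_lit 2, nat_lit 5, nat_lit 3, nat_lit 5]
def Wt_202_204 (j : ℕ) : List ℕ := bif Nat.blt j 203 then [nat_lit 4, nat_lit 2, nat_lit 4, nat_lit 1, nat_lit 4, nat_lit 1, nat_lit 2, nat_lit 4, nat_lit 2, nat_lit 4, nat_lit 2, nat_lit 1, nat_lit 4, nat_lit 1, nat_lit 2, nat_lit 4, nat_lit 3] else [nat_lit 63, nat_lit 3, nat_lit 1, nat_lit 2, nat_lit 1, nat_lit 4, nat_lit 2, nat_lit 4, nat_lit 3, nat_lit 4, nat_lit 2, nat_lit 4, nat_lit 2, nat_lit 4, nat_lit 3, nat_lit 4, nat_lit 3, nat_lit 0]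
def Wt_201_204 (j : ℕ) : List ℕ := bif Nat.blt j 202 then [nat_lit 4, nat_lit 2, nat_lit 1, nat_lit 4, nat_lit 1, nat_lit 2, nat_lit 4, nat_lit 3, nat_lit 4, nat_lit 2, nat_lit 4, nat_lit 1, nat_lit 4, nat_lit 1, nat_lit 2, nat_lit 4, nat_lit 2] else (Wt_202_204 j)
def Wt_199_204 (j : ℕ) : List ℕ := bif Nat.blt j 201 then (Wt_199_201 j) else (Wt_201_204 j)
def Wt_195_204 (j : ℕ) : List ℕ := bif Nat.blt j 199 then (Wt_195_199 j) else (Wt_199_204 j)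
def Wt_187_204 (j : ℕ) : List ℕ := bif Nat.blt j 195 then (Wt_187_195 j) else (Wt_195_204 j)
def Wt_170_204 (j : ℕ) : List ℕ := bif Nat.blt j 187 then (Wt_170_187 j) else (Wt_187_204 j)
def Wt_136_204 (j : ℕ) : List ℕ := bif Nat.blt j 170 then (Wt_136_170 j) else (Wt_170_204 j)
def Wt_204_206 (j : ℕ) : List ℕ := bif Nat.blt j 205 then [nat_lit 0, nat_lit 1, nat_lit 3, nat_lit 2, nat_lit 3, nat_lit 0, nat_lit 3, nat_lit 0, nat_lit 1, nat_lit 3, nat_lit 2, nat_lit 3, nat_lit 0, nat_lit 3, nat_lit 0, nat_lit 1, nat_lit 3, nat_lit 2, nat_lit 3, nat_lit 0, nat_lit 3] else [nat_lit 0, nat_lit 1, nat_lit 2, nat_lit 1, nat_lit 0, nat_lit 1, nat_lit 2, nat_lit 1, nat_lit 0, nat_lit 1, nat_lit 2, nat_lit 1]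
def Wt_206_208 (j : ℕ) : List ℕ := bif Nat.blt j 207 then [nat_lit 3, nat_lit 4, nat_lit 5, nat_lit 1, nat_lit 4, nat_lit 2, nat_lit 3, nat_lit 4, nat_lit 5, nat_lit 1, nat_lit 4, nat_lit 2, nat_lit 3, nat_lit 4, nat_lit 5, nat_lit 1, nat_lit 4, nat_lit 2, nat_lit 3, nat_lit 4, nat_lit 5, nat_lit 1, nat_lit 4, nat_lit 2] else [nat_lit 2, nat_lit 4, nat_lit 2, nat_lit 4, nat_lit 3, nat_lit 4, nat_lit 2, nat_lit 4, nat_lit 1, nat_lit 2, nat_lit 1, nat_lit 3, nat_lit 0, nat_lit 3, nat_lit 4, nat_lit 3, nat_lit 4]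
def Wt_204_208 (j : ℕ) : List ℕ := bif Nat.blt j 206 then (Wt_204_206 j) else (Wt_206_208 j)
def Wt_208_210 (j : ℕ) : List ℕ := bif Nat.blt j 209 then [nat_lit 63, nat_lit 4, nat_lit 3, nat_lit 4, nat_lit 2, nat_lit 4, nat_lit 2, nat_lit 4, nat_lit 3, nat_lit 4, nat_lit 3, nat_lit 0, nat_lit 3, nat_lit 1, nat_lit 2, nat_lit 1, nat_lit 4, nat_lit 2] else [nat_lit 0, nat_lit 3, nat_lit 0, nat_lit 3, nat_lit 0, nat_lit 1, nat_lit 3, nat_lit 0, nat_lit 3, nat_lit 0, nat_lit 3, nat_lit 0, nat_lit 1, nat_lit 3, nat_lit 0, nat_lit 3, nat_lit 0, nat_lit 3, nat_lit 0, nat_lit 1, nat_lit 3]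
def Wt_210_212 (j : ℕ) : List ℕ := bif Nat.blt j 211 then [nat_lit 63, nat_lit 5, nat_lit 0, nat_lit 5, nat_lit 0] else [nat_lit 63, nat_lit 4, nat_lit 2, nat_lit 4, nat_lit 3, nat_lit 0, nat_lit 3, nat_lit 1, nat_lit 2, nat_lit 1, nat_lit 4, nat_lit 3, nat_lit 4, nat_lit 2, nat_lit 4, nat_lit 2, nat_lit 4, nat_lit 3]
def Wt_208_212 (j : ℕ) : List ℕ := bif Nat.blt j 210 then (Wt_208_210 j) else (Wt_210_212 j)
def Wt_204_212 (j : ℕ) : List ℕ := bif Nat.blt j 208 then (Wt_204_208 j) else (Wt_208_212 j)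
def Wt_212_214 (j : ℕ) : List ℕ := bif Nat.blt j 213 then [nat_lit 3, nat_lit 0, nat_lit 3, nat_lit 4, nat_lit 3, nat_lit 4, nat_lit 2, nat_lit 4, nat_lit 2, nat_lit 4, nat_lit 3, nat_lit 4, nat_lit 2, nat_lit 4, nat_lit 1, nat_lit 2, nat_lit 1] else [nat_lit 63, nat_lit 4, nat_lit 2, nat_lit 4, nat_lit 3, nat_lit 4, nat_lit 2, nat_lit 4, nat_lit 2, nat_lit 4, nat_lit 3, nat_lit 4, nat_lit 3, nat_lit 0, nat_lit 3, nat_lit 1, nat_lit 2, nat_lit 1]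
def Wt_214_216 (j : ℕ) : List ℕ := bif Nat.blt j 215 then [nat_lit 1, nat_lit 3, nat_lit 0, nat_lit 3, nat_lit 4, nat_lit 2, nat_lit 4, nat_lit 3, nat_lit 4, nat_lit 2, nat_lit 4, nat_lit 2, nat_lit 4, nat_lit 3, nat_lit 4, nat_lit 1, nat_lit 2] else [nat_lit 63, nat_lit 0, nat_lit 2, nat_lit 0, nat_lit 1, nat_lit 2, nat_lit 1, nat_lit 0, nat_lit 2, nat_lit 0, nat_lit 1, nat_lit 2, nat_lit 1]
def Wt_212_216 (j : ℕ) : List ℕ := bif Nat.blt j 214 then (Wt_212_214 j) else (Wt_214_216 j)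
def Wt_216_218 (j : ℕ) : List ℕ := bif Nat.blt j 217 then [nat_lit 63, nat_lit 4, nat_lit 2, nat_lit 4, nat_lit 3, nat_lit 4, nat_lit 3, nat_lit 0, nat_lit 3, nat_lit 1, nat_lit 2, nat_lit 1, nat_lit 4, nat_lit 2, nat_lit 4, nat_lit 3, nat_lit 4, nat_lit 2] else [nat_lit 63, nat_lit 4, nat_lit 3, nat_lit 4, nat_lit 2, nat_lit 4, nat_lit 3, nat_lit 0, nat_lit 3, nat_lit 1, nat_lit 2, nat_lit 1, nat_lit 4, nat_lit 3, nat_lit 4, nat_lit 2, nat_lit 4, nat_lit 2]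
def Wt_219_221 (j : ℕ) : List ℕ := bif Nat.blt j 220 then [nat_lit 0, nat_lit 1, nat_lit 2, nat_lit 0, nat_lit 1, nat_lit 2, nat_lit 0, nat_lit 1, nat_lit 2, nat_lit 0, nat_lit 1, nat_lit 2, nat_lit 0, nat_lit 1, nat_lit 2] else [nat_lit 2, nat_lit 1, nat_lit 0, nat_lit 2, nat_lit 1, nat_lit 0, nat_lit 2, nat_lit 1, nat_lit 0, nat_lit 2, nat_lit 1, nat_lit 0, nat_lit 2, nat_lit 1, nat_lit 0]
def Wt_218_221 (j : ℕ) : List ℕ := bif Nat.blt j 219 then [nat_lit 63, nat_lit 0, nat_lit 3, nat_lit 4, nat_lit 3, nat_lit 4, nat_lit 2, nat_lit 4, nat_lit 2, nat_lit 4, nat_lit 3, nat_lit 4, nat_lit 2, nat_lit 4, nat_lit 1, nat_lit 2, nat_lit 1, nat_lit 3] else (Wt_219_221 j)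
def Wt_216_221 (j : ℕ) : List ℕ := bif Nat.blt j 218 then (Wt_216_218 j) else (Wt_218_221 j)
def Wt_212_221 (j : ℕ) : List ℕ := bif Nat.blt j 216 then (Wt_212_216 j) else (Wt_216_221 j)
def Wt_204_221 (j : ℕ) : List ℕ := bif Nat.blt j 212 then (Wt_204_212 j) else (Wt_212_221 j)
def Wt_221_223 (j : ℕ) : List ℕ := bif Nat.blt j 222 then [nat_lit 4, nat_lit 0, nat_lit 2, nat_lit 4, nat_lit 3, nat_lit 2, nat_lit 3, nat_lit 0, nat_lit 4, nat_lit 2, nat_lit 0, nat_lit 4, nat_lit 2, nat_lit 0, nat_lit 4, nat_lit 0, nat_lit 2] else [nat_lit 0, nat_lit 3, nat_lit 4, nat_lit 2, nat_lit 3, nat_lit 4, nat_lit 2, nat_lit 4, nat_lit 1, nat_lit 4, nat_lit 2, nat_lit 4, nat_lit 3, nat_lit 2, nat_lit 4, nat_lit 1, nat_lit 3]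
def Wt_223_225 (j : ℕ) : List ℕ := bif Nat.blt j 224 then [nat_lit 3, nat_lit 1, nat_lit 4, nat_lit 2, nat_lit 3, nat_lit 4, nat_lit 2, nat_lit 4, nat_lit 1, nat_lit 4, nat_lit 2, nat_lit 4, nat_lit 3, nat_lit 2, nat_lit 4, nat_lit 3, nat_lit 0] else [nat_lit 0, nat_lit 3, nat_lit 1, nat_lit 2, nat_lit 1, nat_lit 4, nat_lit 3, nat_lit 4, nat_lit 2, nat_lit 4, nat_lit 2, nat_lit 4, nat_lit 3, nat_lit 4, nat_lit 2, nat_lit 4, nat_lit 3]
def Wt_221_225 (j : ℕ) : List ℕ := bif Nat.blt j 223 then (Wt_221_223 j) else (Wt_223_225 j)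
def Wt_225_227 (j : ℕ) : List ℕ := bif Nat.blt j 226 then [nat_lit 2, nat_lit 1, nat_lit 0, nat_lit 2, nat_lit 3, nat_lit 0, nat_lit 2, nat_lit 1, nat_lit 0, nat_lit 2, nat_lit 3, nat_lit 0, nat_lit 2, nat_lit 1, nat_lit 0, nat_lit 2, nat_lit 3, nat_lit 0] else [nat_lit 5, nat_lit 6, nat_lit 5, nat_lit 4, nat_lit 1, nat_lit 0, nat_lit 4, nat_lit 3, nat_lit 5, nat_lit 4, nat_lit 3, nat_lit 0, nat_lit 4, nat_lit 3, nat_lit 4]
def Wt_227_229 (j : ℕ) : List ℕ := bif Nat.blt j 228 then [nat_lit 2, nat_lit 0, nat_lit 3, nat_lit 2, nat_lit 0, nat_lit 1, nat_lit 2, nat_lit 0, nat_lit 3, nat_lit 2, nat_lit 0, nat_lit 1, nat_lit 2, nat_lit 0, nat_lit 3, nat_lit 2, nat_lit 0, nat_lit 1] else [nat_lit 0, nat_lit 3, nat_lit 1, nat_lit 2, nat_lit 3, nat_lit 0, nat_lit 3, nat_lit 1, nat_lit 2, nat_lit 3, nat_lit 0, nat_lit 3, nat_lit 1, nat_lit 2, nat_lit 3, nat_lit 0, nat_lit 3, nat_lit 1, nat_lit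 2, nat_lit 3]
def Wt_225_229 (j : ℕ) : List ℕ := bif Nat.blt j 227 then (Wt_225_227 j) else (Wt_227_229 j)
def Wt_221_229 (j : ℕ) : List ℕ := bif Nat.blt j 225 then (Wt_221_225 j) else (Wt_225_229 j)
def Wt_229_231 (j : ℕ) : List ℕ := bif Nat.blt j 230 then [nat_lit 3, nat_lit 2, nat_lit 1, nat_lit 3, nat_lit 0, nat_lit 3, nat_lit 2, nat_lit 1, nat_lit 3, nat_lit 0, nat_lit 3, nat_lit 2, nat_lit 1, nat_lit 3, nat_lit 0, nat_lit 3, nat_lit 2, nat_lit 1, nat_lit 3, nat_lit 0] else [nat_lit 4, nat_lit 1, nat_lit 2, nat_lit 4, nat_lit 2, nat_lit 4, nat_lit 2, nat_lit 1, nat_lit 4, nat_lit 1, nat_lit 2, nat_lit 4, nat_lit 3, nat_lit 4, nat_lit 2, nat_lit 4, nat_lit 1]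
def Wt_231_233 (j : ℕ) : List ℕ := bif Nat.blt j 232 then [nat_lit 4, nat_lit 0, nat_lit 4, nat_lit 1, nat_lit 4, nat_lit 2, nat_lit 1, nat_lit 4, nat_lit 1, nat_lit 4, nat_lit 3, nat_lit 2, nat_lit 0, nat_lit 3, nat_lit 1, nat_lit 4, nat_lit 1] else [nat_lit 0, nat_lit 2, nat_lit 4, nat_lit 1, nat_lit 4, nat_lit 2, nat_lit 0, nat_lit 4, nat_lit 1, nat_lit 4, nat_lit 2, nat_lit 0, nat_lit 4, nat_lit 1, nat_lit 4]
def Wt_229_233 (j : ℕ) : List ℕ := bif Nat.blt j 231 then (Wt_229_231 j) else (Wt_231_233 j)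
def Wt_233_235 (j : ℕ) : List ℕ := bif Nat.blt j 234 then [nat_lit 2, nat_lit 0, nat_lit 4, nat_lit 1, nat_lit 4, nat_lit 2, nat_lit 0, nat_lit 4, nat_lit 1, nat_lit 4, nat_lit 0, nat_lit 2, nat_lit 4, nat_lit 1, nat_lit 4] else [nat_lit 1, nat_lit 0, nat_lit 4, nat_lit 3, nat_lit 5, nat_lit 4, nat_lit 3, nat_lit 0, nat_lit 4, nat_lit 3, nat_lit 4, nat_lit 5, nat_lit 6, nat_lit 5, nat_lit 4]
def Wt_236_238 (j : ℕ) : List ℕ := bif Nat.blt j 237 then [nat_lit 0, nat_lit 3, nat_lit 4, nat_lit 0, nat_lit 3, nat_lit 0, nat_lit 4, nat_lit 3, nat_lit 0, nat_lit 4, nat_lit 3, nat_lit 4, nat_lit 2, nat_lit 3, nat_lit 4, nat_lit 3, nat_lit 4] else [nat_lit 1, nat_lit 4, nat_lit 5, nat_lit 7, nat_lit 5, nat_lit 4, nat_lit 3, nat_lit 4, nat_lit 0, nat_lit 3, nat_lit 4, nat_lit 5, nat_lit 3, nat_lit 4, nat_lit 0]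
def Wt_235_238 (j : ℕ) : List ℕ := bif Nat.blt j 236 then [nat_lit 1, nat_lit 4, nat_lit 2, nat_lit 5, nat_lit 4, nat_lit 1, nat_lit 4, nat_lit 2, nat_lit 5, nat_lit 4, nat_lit 1, nat_lit 4, nat_lit 2, nat_lit 5, nat_lit 4] else (Wt_236_238 j)
def Wt_233_238 (j : ℕ) : List ℕ := bif Nat.blt j 235 then (Wt_233_235 j) else (Wt_235_238 j)
def Wt_229_238 (j : ℕ) : List ℕ := bif Nat.blt j 233 then (Wt_229_233 j) else (Wt_233_238 j)
def Wt_221_238 (j : ℕ) : List ℕ := bif Nat.blt j 229 then (Wt_221_229 j) else (Wt_229_238 j)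
def Wt_204_238 (j : ℕ) : List ℕ := bif Nat.blt j 221 then (Wt_204_221 j) else (Wt_221_238 j)
def Wt_238_240 (j : ℕ) : List ℕ := bif Nat.blt j 239 then [nat_lit 5, nat_lit 4, nat_lit 3, nat_lit 0, nat_lit 4, nat_lit 3, nat_lit 4, nat_lit 5, nat_lit 6, nat_lit 5, nat_lit 4, nat_lit 1, nat_lit 0, nat_lit 4, nat_lit 3] else [nat_lit 4, nat_lit 5, nat_lit 3, nat_lit 4, nat_lit 0, nat_lit 1, nat_lit 4, nat_lit 5, nat_lit 7, nat_lit 5, nat_lit 4, nat_lit 3, nat_lit 4, nat_lit 0, nat_lit 3]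
def Wt_240_242 (j : ℕ) : List ℕ := bif Nat.blt j 241 then [nat_lit 63, nat_lit 0, nat_lit 1, nat_lit 3, nat_lit 2, nat_lit 3, nat_lit 0, nat_lit 3, nat_lit 0, nat_lit 1, nat_lit 3, nat_lit 2, nat_lit 3, nat_lit 0, nat_lit 3, nat_lit 0, nat_lit 1, nat_lit 3, nat_lit 2, nat_lit 3, nat_lit 0, nat_lit 3] else [nat_lit 3, nat_lit 1, nat_lit 0, nat_lit 3, nat_lit 0, nat_lit 3, nat_lit 0, nat_lit 3, nat_lit 1, nat_lit 0, nat_lit 3, nat_lit 0, nat_lit 3, nat_lit 0, nat_lit 3, nat_lit 1, nat_lit 0, nat_lit 3, nat_lit 0, nat_lit 3, nat_lit 0]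
def Wt_238_242 (j : ℕ) : List ℕ := bif Nat.blt j 240 then (Wt_238_240 j) else (Wt_240_242 j)
def Wt_242_244 (j : ℕ) : List ℕ := bif Nat.blt j 243 then [nat_lit 3, nat_lit 0, nat_lit 3, nat_lit 0, nat_lit 3, nat_lit 0, nat_lit 1, nat_lit 3, nat_lit 0, nat_lit 3, nat_lit 0, nat_lit 3, nat_lit 0, nat_lit 1, nat_lit 3, nat_lit 0, nat_lit 3, nat_lit 0, nat_lit 3, nat_lit 0, nat_lit 1] else [nat_lit 1, nat_lit 0, nat_lit 4, nat_lit 3, nat_lit 1, nat_lit 0, nat_lit 1, nat_lit 2, nat_lit 0, nat_lit 1, nat_lit 4, nat_lit 0, nat_lit 1, nat_lit 4, nat_lit 3, nat_lit 1, nat_lit 4]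
def Wt_244_246 (j : ℕ) : List ℕ := bif Nat.blt j 245 then [nat_lit 63, nat_lit 1, nat_lit 2, nat_lit 1, nat_lit 0, nat_lit 1, nat_lit 2, nat_lit 3, nat_lit 1, nat_lit 2, nat_lit 1, nat_lit 0, nat_lit 1, nat_lit 2, nat_lit 3, nat_lit 1, nat_lit 2, nat_lit 1, nat_lit 0, nat_lit 1, nat_lit 2, nat_lit 3] else [nat_lit 0, nat_lit 3, nat_lit 0, nat_lit 3, nat_lit 1, nat_lit 0, nat_lit 3, nat_lit 0, nat_lit 3, nat_lit 0, nat_lit 3, nat_lit 1, nat_lit 0, nat_lit 3, nat_lit 0, nat_lit 3, nat_lit 0, nat_lit 3, nat_lit 1, nat_lit 0, nat_lit 3]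
def Wt_242_246 (j : ℕ) : List ℕ := bif Nat.blt j 244 then (Wt_242_244 j) else (Wt_244_246 j)
def Wt_238_246 (j : ℕ) : List ℕ := bif Nat.blt j 242 then (Wt_238_242 j) else (Wt_242_246 j)
def Wt_246_248 (j : ℕ) : List ℕ := bif Nat.blt j 247 then [nat_lit 1, nat_lit 3, nat_lit 2, nat_lit 1, nat_lit 0, nat_lit 1, nat_lit 2, nat_lit 1, nat_lit 3, nat_lit 2, nat_lit 1, nat_lit 0, nat_lit 1, nat_lit 2, nat_lit 1, nat_lit 3, nat_lit 2, nat_lit 1, nat_lit 0, nat_lit 1, nat_lit 2] else [nat_lit 0, nat_lit 1, nat_lit 3, nat_lit 0, nat_lit 3, nat_lit 0, nat_lit 3, nat_lit 0, nat_lit 1, nat_lit 3, nat_lit 0, nat_lit 3, nat_lit 0, nat_lit 3, nat_lit 0, nat_lit 1, nat_lit 3, nat_lit 0, nat_lit 3, nat_lit 0, nat_lit 3]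
def Wt_248_250 (j : ℕ) : List ℕ := bif Nat.blt j 249 then [nat_lit 2, nat_lit 1, nat_lit 0, nat_lit 1, nat_lit 2, nat_lit 3, nat_lit 1, nat_lit 2, nat_lit 1, nat_lit 0, nat_lit 1, nat_lit 2, nat_lit 3, nat_lit 1, nat_lit 2, nat_lit 1, nat_lit 0, nat_lit 1, nat_lit 2, nat_lit 3, nat_lit 1] else [nat_lit 63, nat_lit 2, nat_lit 1, nat_lit 0, nat_lit 1, nat_lit 2, nat_lit 0, nat_lit 2, nat_lit 1, nat_lit 0, nat_lit 1, nat_lit 2, nat_lit 0, nat_lit 2, nat_lit 1, nat_lit 0, nat_lit 1, nat_lit 2, nat_lit 0]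
def Wt_246_250 (j : ℕ) : List ℕ := bif Nat.blt j 248 then (Wt_246_248 j) else (Wt_248_250 j)
def Wt_250_252 (j : ℕ) : List ℕ := bif Nat.blt j 251 then [nat_lit 4, nat_lit 1, nat_lit 4, nat_lit 2, nat_lit 0, nat_lit 2, nat_lit 4, nat_lit 1, nat_lit 4, nat_lit 2, nat_lit 1, nat_lit 4, nat_lit 1, nat_lit 4, nat_lit 1, nat_lit 2] else [nat_lit 0, nat_lit 3, nat_lit 4, nat_lit 5, nat_lit 3, nat_lit 4, nat_lit 0, nat_lit 1, nat_lit 4, nat_lit 5, nat_lit 7, nat_lit 5, nat_lit 4, nat_lit 3, nat_lit 4]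
def Wt_253_255 (j : ℕ) : List ℕ := bif Nat.blt j 254 then [nat_lit 0, nat_lit 3, nat_lit 1, nat_lit 0, nat_lit 3, nat_lit 0, nat_lit 3, nat_lit 0, nat_lit 3, nat_lit 1, nat_lit 0, nat_lit 3, nat_lit 0, nat_lit 3, nat_lit 0, nat_lit 3, nat_lit 1, nat_lit 0, nat_lit 3, nat_lit 0, nat_lit 3] else [nat_lit 4, nat_lit 3, nat_lit 4, nat_lit 3, nat_lit 1, nat_lit 4, nat_lit 1, nat_lit 4, nat_lit 1, nat_lit 4, nat_lit 1, nat_lit 4, nat_lit 3, nat_lit 4, nat_lit 3]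
def Wt_252_255 (j : ℕ) : List ℕ := bif Nat.blt j 253 then [nat_lit 1, nat_lit 4, nat_lit 0, nat_lit 1, nat_lit 0, nat_lit 4, nat_lit 1, nat_lit 2, nat_lit 3, nat_lit 1, nat_lit 0, nat_lit 4, nat_lit 3, nat_lit 4, nat_lit 2, nat_lit 3, nat_lit 4] else (Wt_253_255 j)
def Wt_250_255 (j : ℕ) : List ℕ := bif Nat.blt j 252 then (Wt_250_252 j) else (Wt_252_255 j)
def Wt_246_255 (j : ℕ) : List ℕ := bif Nat.blt j 250 then (Wt_246_250 j) else (Wt_250_255 j)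
def Wt_238_255 (j : ℕ) : List ℕ := bif Nat.blt j 246 then (Wt_238_246 j) else (Wt_246_255 j)
def Wt_255_257 (j : ℕ) : List ℕ := bif Nat.blt j 256 then [nat_lit 3, nat_lit 4, nat_lit 3, nat_lit 1, nat_lit 4, nat_lit 1, nat_lit 4, nat_lit 1, nat_lit 4, nat_lit 1, nat_lit 4, nat_lit 3, nat_lit 4, nat_lit 3, nat_lit 4] else [nat_lit 4, nat_lit 3, nat_lit 4, nat_lit 3, nat_lit 4, nat_lit 3, nat_lit 4, nat_lit 3, nat_lit 1, nat_lit 4, nat_lit 1, nat_lit 4, nat_lit 1, nat_lit 4, nat_lit 1]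
def Wt_257_259 (j : ℕ) : List ℕ := bif Nat.blt j 258 then [nat_lit 0, nat_lit 3, nat_lit 1, nat_lit 4, nat_lit 1, nat_lit 3, nat_lit 0, nat_lit 1, nat_lit 0, nat_lit 3, nat_lit 1, nat_lit 4, nat_lit 1, nat_lit 3, nat_lit 0, nat_lit 1] else [nat_lit 5, nat_lit 4, nat_lit 3, nat_lit 4, nat_lit 0, nat_lit 3, nat_lit 4, nat_lit 5, nat_lit 3, nat_lit 4, nat_lit 0, nat_lit 1, nat_lit 4, nat_lit 5, nat_lit 7]
def Wt_255_259 (j : ℕ) : List ℕ := bif Nat.blt j 257 then (Wt_255_257 j) else (Wt_257_259 j)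
def Wt_259_261 (j : ℕ) : List ℕ := bif Nat.blt j 260 then [nat_lit 4, nat_lit 3, nat_lit 4, nat_lit 0, nat_lit 3, nat_lit 4, nat_lit 5, nat_lit 3, nat_lit 4, nat_lit 0, nat_lit 1, nat_lit 4, nat_lit 5, nat_lit 7, nat_lit 5] else [nat_lit 2, nat_lit 0, nat_lit 4, nat_lit 2, nat_lit 0, nat_lit 4, nat_lit 0, nat_lit 2, nat_lit 4, nat_lit 0, nat_lit 2, nat_lit 4, nat_lit 3, nat_lit 2, nat_lit 3, nat_lit 0, nat_lit 4]
def Wt_261_263 (j : ℕ) : List ℕ := bif Nat.blt j 262 then [nat_lit 1, nat_lit 4, nat_lit 1, nat_lit 3, nat_lit 0, nat_lit 1, nat_lit 0, nat_lit 3, nat_lit 1, nat_lit 4, nat_lit 1, nat_lit 3, nat_lit 0, nat_lit 1, nat_lit 0, nat_lit 3] else [nat_lit 4, nat_lit 0, nat_lit 2, nat_lit 4, nat_lit 1, nat_lit 4, nat_lit 2, nat_lit 0, nat_lit 4, nat_lit 1, nat_lit 4, nat_lit 2, nat_lit 0, nat_lit 4, nat_lit 1]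
def Wt_259_263 (j : ℕ) : List ℕ := bif Nat.blt j 261 then (Wt_259_261 j) else (Wt_261_263 j)
def Wt_255_263 (j : ℕ) : List ℕ := bif Nat.blt j 259 then (Wt_255_259 j) else (Wt_259_263 j)
def Wt_263_265 (j : ℕ) : List ℕ := bif Nat.blt j 264 then [nat_lit 4, nat_lit 2, nat_lit 5, nat_lit 4, nat_lit 1, nat_lit 4, nat_lit 2, nat_lit 5, nat_lit 4, nat_lit 1, nat_lit 4, nat_lit 2, nat_lit 5, nat_lit 4, nat_lit 1] else [nat_lit 2, nat_lit 4, nat_lit 3, nat_lit 1, nat_lit 3, nat_lit 1, nat_lit 3, nat_lit 1, nat_lit 3, nat_lit 4, nat_lit 2, nat_lit 1, nat_lit 4, nat_lit 3, nat_lit 4, nat_lit 1]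
def Wt_265_267 (j : ℕ) : List ℕ := bif Nat.blt j 266 then [nat_lit 3, nat_lit 4, nat_lit 2, nat_lit 4, nat_lit 1, nat_lit 4, nat_lit 2, nat_lit 4, nat_lit 3, nat_lit 2, nat_lit 4, nat_lit 3, nat_lit 0, nat_lit 3, nat_lit 1, nat_lit 4, nat_lit 2] else [nat_lit 3, nat_lit 2, nat_lit 4, nat_lit 1, nat_lit 3, nat_lit 0, nat_lit 3, nat_lit 4, nat_lit 2, nat_lit 3, nat_lit 4, nat_lit 2, nat_lit 4, nat_lit 1, nat_lit 4, nat_lit 2, nat_lit 4]
def Wt_263_267 (j : ℕ) : List ℕ := bif Nat.blt j 265 then (Wt_263_265 j) else (Wt_265_267 j)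
def Wt_267_269 (j : ℕ) : List ℕ := bif Nat.blt j 268 then [nat_lit 1, nat_lit 4, nat_lit 1, nat_lit 4, nat_lit 1, nat_lit 3, nat_lit 4, nat_lit 3, nat_lit 4, nat_lit 3, nat_lit 4, nat_lit 3, nat_lit 4, nat_lit 1, nat_lit 4] else [nat_lit 5, nat_lit 7, nat_lit 5, nat_lit 4, nat_lit 3, nat_lit 4, nat_lit 0, nat_lit 3, nat_lit 4, nat_lit 5, nat_lit 3, nat_lit 4, nat_lit 0, nat_lit 1, nat_lit 4]
def Wt_270_272 (j : ℕ) : List ℕ := bif Nat.blt j 271 then [nat_lit 3, nat_lit 5, nat_lit 4, nat_lit 3, nat_lit 0, nat_lit 4, nat_lit 3, nat_lit 4, nat_lit 5, nat_lit 6, nat_lit 5, nat_lit 4, nat_lit 1, nat_lit 0, nat_lit 4] else [nat_lit 63, nat_lit 3, nat_lit 2, nat_lit 3, nat_lit 0, nat_lit 3, nat_lit 0, nat_lit 1, nat_lit 3, nat_lit 2, nat_lit 3, nat_lit 0, nat_lit 3, nat_lit 0, nat_lit 1, nat_lit 3, nat_lit 2, nat_lit 3, nat_lit 0, nat_lit 3, nat_lit 0, nat_lit 1]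
def Wt_269_272 (j : ℕ) : List ℕ := bif Nat.blt j 270 then [nat_lit 4, nat_lit 3, nat_lit 5, nat_lit 4, nat_lit 3, nat_lit 0, nat_lit 4, nat_lit 3, nat_lit 4, nat_lit 5, nat_lit 6, nat_lit 5, nat_lit 4, nat_lit 1, nat_lit 0] else (Wt_270_272 j)
def Wt_267_272 (j : ℕ) : List ℕ := bif Nat.blt j 269 then (Wt_267_269 j) else (Wt_269_272 j)
def Wt_263_272 (j : ℕ) : List ℕ := bif Nat.blt j 267 then (Wt_263_267 j) else (Wt_267_272 j)
def Wt_255_272 (j : ℕ) : List ℕ := bif Nat.blt j 263 then (Wt_255_263 j) else (Wt_263_272 j)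
def Wt_238_272 (j : ℕ) : List ℕ := bif Nat.blt j 255 then (Wt_238_255 j) else (Wt_255_272 j)
def Wt_204_272 (j : ℕ) : List ℕ := bif Nat.blt j 238 then (Wt_204_238 j) else (Wt_238_272 j)
def Wt_136_272 (j : ℕ) : List ℕ := bif Nat.blt j 204 then (Wt_136_204 j) else (Wt_204_272 j)
def Wt_0_272 (j : ℕ) : List ℕ := bif Nat.blt j 136 then (Wt_0_136 j) else (Wt_136_272 j)
def Wt_272_274 (j : ℕ) : List ℕ := bif Nat.blt j 273 then [nat_lit 4, nat_lit 1, nat_lit 0, nat_lit 4, nat_lit 3, nat_lit 5, nat_lit 4, nat_lit 3, nat_lit 0, nat_lit 4, nat_lit 3, nat_lit 4, nat_lit 5, nat_lit 6, nat_lit 5] else [nat_lit 0, nat_lit 4, nat_lit 1, nat_lit 4, nat_lit 1, nat_lit 3, nat_lit 0, nat_lit 2, nat_lit 3, nat_lit 4, nat_lit 1, nat_lit 4, nat_lit 1, nat_lit 2, nat_lit 4, nat_lit 1, nat_lit 4]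
def Wt_274_276 (j : ℕ) : List ℕ := bif Nat.blt j 275 then [nat_lit 63, nat_lit 2, nat_lit 3, nat_lit 4, nat_lit 1, nat_lit 4, nat_lit 1, nat_lit 2, nat_lit 4, nat_lit 1, nat_lit 4, nat_lit 0, nat_lit 4, nat_lit 1, nat_lit 4, nat_lit 1, nat_lit 3, nat_lit 0] else [nat_lit 2, nat_lit 4, nat_lit 3, nat_lit 4, nat_lit 1, nat_lit 2, nat_lit 1, nat_lit 3, nat_lit 0, nat_lit 3, nat_lit 4, nat_lit 2, nat_lit 4, nat_lit 3, nat_lit 4, nat_lit 2, nat_lit 4]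
def Wt_272_276 (j : ℕ) : List ℕ := bif Nat.blt j 274 then (Wt_272_274 j) else (Wt_274_276 j)
def Wt_276_278 (j : ℕ) : List ℕ := bif Nat.blt j 277 then [nat_lit 63, nat_lit 3, nat_lit 4, nat_lit 2, nat_lit 4, nat_lit 2, nat_lit 4, nat_lit 3, nat_lit 4, nat_lit 2, nat_lit 4, nat_lit 1, nat_lit 2, nat_lit 1, nat_lit 3, nat_lit 0, nat_lit 3, nat_lit 4] else [nat_lit 2, nat_lit 5, nat_lit 3, nat_lit 5, nat_lit 3]
def Wt_278_280 (j : ℕ) : List ℕ := bif Nat.blt j 279 then [nat_lit 3, nat_lit 1, nat_lit 4, nat_lit 1, nat_lit 3, nat_lit 0, nat_lit 1, nat_lit 0, nat_lit 3, nat_lit 1, nat_lit 4, nat_lit 1, nat_lit 3, nat_lit 0, nat_lit 1, nat_lit 0] else [nat_lit 3, nat_lit 4, nat_lit 3, nat_lit 4, nat_lit 3, nat_lit 4, nat_lit 3, nat_lit 4, nat_lit 1, nat_lit 4, nat_lit 1, nat_lit 4, nat_lit 1, nat_lit 4, nat_lit 1]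
def Wt_276_280 (j : ℕ) : List ℕ := bif Nat.blt j 278 then (Wt_276_278 j) else (Wt_278_280 j)
def Wt_272_280 (j : ℕ) : List ℕ := bif Nat.blt j 276 then (Wt_272_276 j) else (Wt_276_280 j)
def Wt_280_282 (j : ℕ) : List ℕ := bif Nat.blt j 281 then [nat_lit 1, nat_lit 3, nat_lit 4, nat_lit 3, nat_lit 4, nat_lit 3, nat_lit 4, nat_lit 3, nat_lit 4, nat_lit 1, nat_lit 4, nat_lit 1, nat_lit 4, nat_lit 1, nat_lit 4] else [nat_lit 1, nat_lit 4, nat_lit 1, nat_lit 3, nat_lit 4, nat_lit 3, nat_lit 4, nat_lit 3, nat_lit 4, nat_lit 3, nat_lit 4, nat_lit 1, nat_lit 4, nat_lit 1, nat_lit 4]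
def Wt_282_284 (j : ℕ) : List ℕ := bif Nat.blt j 283 then [nat_lit 3, nat_lit 4, nat_lit 2, nat_lit 4, nat_lit 2, nat_lit 4, nat_lit 3, nat_lit 4, nat_lit 3, nat_lit 0, nat_lit 3, nat_lit 1, nat_lit 2, nat_lit 1, nat_lit 4, nat_lit 2, nat_lit 4] else [nat_lit 63, nat_lit 2, nat_lit 1, nat_lit 4, nat_lit 3, nat_lit 4, nat_lit 2, nat_lit 4, nat_lit 2, nat_lit 4, nat_lit 3, nat_lit 4, nat_lit 2, nat_lit 4, nat_lit 3, nat_lit 0, nat_lit 3, nat_lit 1]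
def Wt_280_284 (j : ℕ) : List ℕ := bif Nat.blt j 282 then (Wt_280_282 j) else (Wt_282_284 j)
def Wt_284_286 (j : ℕ) : List ℕ := bif Nat.blt j 285 then [nat_lit 4, nat_lit 1, nat_lit 4, nat_lit 1, nat_lit 4, nat_lit 3, nat_lit 4, nat_lit 3, nat_lit 4, nat_lit 3, nat_lit 4, nat_lit 3, nat_lit 1, nat_lit 4, nat_lit 1] else [nat_lit 4, nat_lit 3, nat_lit 4, nat_lit 3, nat_lit 4, nat_lit 1, nat_lit 4, nat_lit 1, nat_lit 4, nat_lit 1, nat_lit 4, nat_lit 1, nat_lit 3, nat_lit 4, nat_lit 3]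
def Wt_287_289 (j : ℕ) : List ℕ := bif Nat.blt j 288 then [nat_lit 6, nat_lit 5, nat_lit 4, nat_lit 1, nat_lit 0, nat_lit 4, nat_lit 3, nat_lit 5, nat_lit 4, nat_lit 3, nat_lit 0, nat_lit 4, nat_lit 3, nat_lit 4, nat_lit 5] else [nat_lit 3, nat_lit 4, nat_lit 3, nat_lit 4, nat_lit 0, nat_lit 3, nat_lit 4, nat_lit 0, nat_lit 3, nat_lit 0, nat_lit 4, nat_lit 3, nat_lit 0, nat_lit 4, nat_lit 3, nat_lit 4, nat_lit 2]
def Wt_286_289 (j : ℕ) : List ℕ := bif Nat.blt j 287 then [nat_lit 63, nat_lit 3, nat_lit 1, nat_lit 4, nat_lit 2, nat_lit 3, nat_lit 4, nat_lit 2, nat_lit 4, nat_lit 1, nat_lit 4, nat_lit 2, nat_lit 4, nat_lit 3, nat_lit 2, nat_lit 4, nat_lit 3, nat_lit 0] else (Wt_287_289 j)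
def Wt_284_289 (j : ℕ) : List ℕ := bif Nat.blt j 286 then (Wt_284_286 j) else (Wt_286_289 j)
def Wt_280_289 (j : ℕ) : List ℕ := bif Nat.blt j 284 then (Wt_280_284 j) else (Wt_284_289 j)
def Wt_272_289 (j : ℕ) : List ℕ := bif Nat.blt j 280 then (Wt_272_280 j) else (Wt_280_289 j)
def Wt_289_291 (j : ℕ) : List ℕ := bif Nat.blt j 290 then [nat_lit 2, nat_lit 4, nat_lit 3, nat_lit 4, nat_lit 0, nat_lit 3, nat_lit 4, nat_lit 0, nat_lit 3, nat_lit 0, nat_lit 4, nat_lit 3, nat_lit 0, nat_lit 4, nat_lit 3, nat_lit 4, nat_lit 3] else [nat_lit 3, nat_lit 4, nat_lit 5, nat_lit 3, nat_lit 4, nat_lit 0, nat_lit 1, nat_lit 4, nat_lit 5, nat_lit 7, nat_lit 5, nat_lit 4, nat_lit 3, nat_lit 4, nat_lit 0]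
def Wt_291_293 (j : ℕ) : List ℕ := bif Nat.blt j 292 then [nat_lit 1, nat_lit 0, nat_lit 1, nat_lit 2, nat_lit 0, nat_lit 2, nat_lit 1, nat_lit 0, nat_lit 1, nat_lit 2, nat_lit 0, nat_lit 2, nat_lit 1, nat_lit 0, nat_lit 1, nat_lit 2, nat_lit 0, nat_lit 2] else [nat_lit 0, nat_lit 1, nat_lit 0, nat_lit 3, nat_lit 1, nat_lit 4, nat_lit 1, nat_lit 3, nat_lit 0, nat_lit 1, nat_lit 0, nat_lit 3, nat_lit 1, nat_lit 4, nat_lit 1, nat_lit 3]
def Wt_289_293 (j : ℕ) : List ℕ := bif Nat.blt j 291 then (Wt_289_291 j) else (Wt_291_293 j)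
def Wt_293_295 (j : ℕ) : List ℕ := bif Nat.blt j 294 then [nat_lit 4, nat_lit 3, nat_lit 1, nat_lit 4, nat_lit 2, nat_lit 1, nat_lit 2, nat_lit 4, nat_lit 1, nat_lit 3, nat_lit 4, nat_lit 0, nat_lit 4, nat_lit 2, nat_lit 0, nat_lit 4, nat_lit 0] else [nat_lit 3, nat_lit 0, nat_lit 2, nat_lit 3, nat_lit 4, nat_lit 1, nat_lit 4, nat_lit 1, nat_lit 2, nat_lit 4, nat_lit 1, nat_lit 4, nat_lit 0, nat_lit 4, nat_lit 1, nat_lit 4, nat_lit 1]
def Wt_295_297 (j : ℕ) : List ℕ := bif Nat.blt j 296 then [nat_lit 4, nat_lit 2, nat_lit 4, nat_lit 3, nat_lit 4, nat_lit 2, nat_lit 4, nat_lit 3, nat_lit 0, nat_lit 3, nat_lit 1, nat_lit 2, nat_lit 1, nat_lit 4, nat_lit 3, nat_lit 4, nat_lit 2] else [nat_lit 3, nat_lit 4, nat_lit 1, nat_lit 0, nat_lit 4, nat_lit 1, nat_lit 2, nat_lit 1, nat_lit 4, nat_lit 1, nat_lit 2, nat_lit 1, nat_lit 4, nat_lit 0, nat_lit 1, nat_lit 4, nat_lit 2]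
def Wt_293_297 (j : ℕ) : List ℕ := bif Nat.blt j 295 then (Wt_293_295 j) else (Wt_295_297 j)
def Wt_289_297 (j : ℕ) : List ℕ := bif Nat.blt j 293 then (Wt_289_293 j) else (Wt_293_297 j)
def Wt_297_299 (j : ℕ) : List ℕ := bif Nat.blt j 298 then [nat_lit 2, nat_lit 4, nat_lit 1, nat_lit 0, nat_lit 4, nat_lit 1, nat_lit 2, nat_lit 1, nat_lit 4, nat_lit 1, nat_lit 2, nat_lit 1, nat_lit 4, nat_lit 0, nat_lit 1, nat_lit 4, nat_lit 3] else [nat_lit 63, nat_lit 4, nat_lit 3, nat_lit 4, nat_lit 3, nat_lit 4, nat_lit 3, nat_lit 4, nat_lit 1, nat_lit 4, nat_lit 1, nat_lit 4, nat_lit 1, nat_lit 4, nat_lit 1, nat_lit 3]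
def Wt_299_301 (j : ℕ) : List ℕ := bif Nat.blt j 300 then [nat_lit 63, nat_lit 1, nat_lit 3, nat_lit 1, nat_lit 3, nat_lit 4, nat_lit 2, nat_lit 1, nat_lit 4, nat_lit 3, nat_lit 4, nat_lit 1, nat_lit 2, nat_lit 4, nat_lit 3, nat_lit 1, nat_lit 3] else [nat_lit 63, nat_lit 2, nat_lit 4, nat_lit 3, nat_lit 2, nat_lit 4, nat_lit 1, nat_lit 3, nat_lit 0, nat_lit 3, nat_lit 4, nat_lit 2, nat_lit 3, nat_lit 4, nat_lit 2, nat_lit 4, nat_lit 1, nat_lit 4]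
def Wt_297_301 (j : ℕ) : List ℕ := bif Nat.blt j 299 then (Wt_297_299 j) else (Wt_299_301 j)
def Wt_301_303 (j : ℕ) : List ℕ := bif Nat.blt j 302 then [nat_lit 1, nat_lit 2, nat_lit 4, nat_lit 2, nat_lit 4, nat_lit 2, nat_lit 1, nat_lit 4, nat_lit 1, nat_lit 4, nat_lit 2, nat_lit 4, nat_lit 3, nat_lit 4, nat_lit 2, nat_lit 1, nat_lit 4] else [nat_lit 2, nat_lit 1, nat_lit 2, nat_lit 4, nat_lit 1, nat_lit 3, nat_lit 4, nat_lit 0, nat_lit 4, nat_lit 2, nat_lit 0, nat_lit 4, nat_lit 0, nat_lit 4, nat_lit 3, nat_lit 1, nat_lit 4]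
def Wt_304_306 (j : ℕ) : List ℕ := bif Nat.blt j 305 then [nat_lit 0, nat_lit 1, nat_lit 2, nat_lit 3, nat_lit 1, nat_lit 2, nat_lit 1, nat_lit 0, nat_lit 1, nat_lit 2, nat_lit 3, nat_lit 1, nat_lit 2, nat_lit 1, nat_lit 0, nat_lit 1, nat_lit 2, nat_lit 3, nat_lit 1, nat_lit 2, nat_lit 1] else [nat_lit 63, nat_lit 2, nat_lit 1, nat_lit 0, nat_lit 1, nat_lit 2, nat_lit 3, nat_lit 1, nat_lit 2, nat_lit 1, nat_lit 0, nat_lit 1, nat_lit 2, nat_lit 3, nat_lit 1, nat_lit 2, nat_lit 1, nat_lit 0, nat_lit 1, nat_lit 2, nat_lit 3, nat_lit 1]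
def Wt_303_306 (j : ℕ) : List ℕ := bif Nat.blt j 304 then [nat_lit 3, nat_lit 1, nat_lit 0, nat_lit 1, nat_lit 2, nat_lit 1, nat_lit 3, nat_lit 1, nat_lit 0, nat_lit 1, nat_lit 2, nat_lit 1, nat_lit 3, nat_lit 1, nat_lit 0, nat_lit 1, nat_lit 2, nat_lit 1] else (Wt_304_306 j)
def Wt_301_306 (j : ℕ) : List ℕ := bif Nat.blt j 303 then (Wt_301_303 j) else (Wt_303_306 j)
def Wt_297_306 (j : ℕ) : List ℕ := bif Nat.blt j 301 then (Wt_297_301 j) else (Wt_301_306 j)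
def Wt_289_306 (j : ℕ) : List ℕ := bif Nat.blt j 297 then (Wt_289_297 j) else (Wt_297_306 j)
def Wt_272_306 (j : ℕ) : List ℕ := bif Nat.blt j 289 then (Wt_272_289 j) else (Wt_289_306 j)
def Wt_306_308 (j : ℕ) : List ℕ := bif Nat.blt j 307 then [nat_lit 63, nat_lit 3, nat_lit 1, nat_lit 0, nat_lit 3, nat_lit 0, nat_lit 3, nat_lit 0, nat_lit 3, nat_lit 1, nat_lit 0, nat_lit 3, nat_lit 0, nat_lit 3, nat_lit 0, nat_lit 3, nat_lit 1, nat_lit 0, nat_lit 3, nat_lit 0, nat_lit 3, nat_lit 0] else [nat_lit 63, nat_lit 0, nat_lit 1, nat_lit 2, nat_lit 0, nat_lit 1, nat_lit 2, nat_lit 0, nat_lit 1, nat_lit 2, nat_lit 0, nat_lit 1, nat_lit 2, nat_lit 0, nat_lit 1, nat_lit 2]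
def Wt_308_310 (j : ℕ) : List ℕ := bif Nat.blt j 309 then [nat_lit 2, nat_lit 4, nat_lit 1, nat_lit 4, nat_lit 2, nat_lit 4, nat_lit 3, nat_lit 2, nat_lit 4, nat_lit 1, nat_lit 3, nat_lit 0, nat_lit 3, nat_lit 4, nat_lit 2, nat_lit 3, nat_lit 4] else [nat_lit 2, nat_lit 1, nat_lit 4, nat_lit 2, nat_lit 4, nat_lit 3, nat_lit 4, nat_lit 2, nat_lit 4, nat_lit 2, nat_lit 4, nat_lit 3, nat_lit 4, nat_lit 3, nat_lit 0, nat_lit 3, nat_lit 1]
def Wt_306_310 (j : ℕ) : List ℕ := bif Nat.blt j 308 then (Wt_306_308 j) else (Wt_308_310 j)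
def Wt_310_312 (j : ℕ) : List ℕ := bif Nat.blt j 311 then [nat_lit 4, nat_lit 1, nat_lit 4, nat_lit 2, nat_lit 4, nat_lit 3, nat_lit 2, nat_lit 4, nat_lit 3, nat_lit 0, nat_lit 3, nat_lit 1, nat_lit 4, nat_lit 2, nat_lit 3, nat_lit 4, nat_lit 2] else [nat_lit 63, nat_lit 2, nat_lit 3, nat_lit 4, nat_lit 2, nat_lit 4, nat_lit 1, nat_lit 4, nat_lit 2, nat_lit 4, nat_lit 3, nat_lit 2, nat_lit 4, nat_lit 3, nat_lit 0, nat_lit 3, nat_lit 1, nat_lit 4]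
def Wt_312_314 (j : ℕ) : List ℕ := bif Nat.blt j 313 then [nat_lit 4, nat_lit 0, nat_lit 1, nat_lit 4, nat_lit 5, nat_lit 7, nat_lit 5, nat_lit 4, nat_lit 3, nat_lit 4, nat_lit 0, nat_lit 3, nat_lit 4, nat_lit 5, nat_lit 3] else [nat_lit 0, nat_lit 4, nat_lit 3, nat_lit 1, nat_lit 4, nat_lit 2, nat_lit 1, nat_lit 2, nat_lit 4, nat_lit 1, nat_lit 3, nat_lit 4, nat_lit 0, nat_lit 4, nat_lit 2, nat_lit 0, nat_lit 4]
def Wt_310_314 (j : ℕ) : List ℕ := bif Nat.blt j 312 then (Wt_310_312 j) else (Wt_312_314 j)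
def Wt_306_314 (j : ℕ) : List ℕ := bif Nat.blt j 310 then (Wt_306_310 j) else (Wt_310_314 j)
def Wt_314_316 (j : ℕ) : List ℕ := bif Nat.blt j 315 then [nat_lit 0, nat_lit 3, nat_lit 1, nat_lit 4, nat_lit 1, nat_lit 4, nat_lit 0, nat_lit 4, nat_lit 1, nat_lit 4, nat_lit 2, nat_lit 1, nat_lit 4, nat_lit 1, nat_lit 4, nat_lit 3, nat_lit 2] else [nat_lit 63, nat_lit 4, nat_lit 2, nat_lit 4, nat_lit 3, nat_lit 4, nat_lit 2, nat_lit 1, nat_lit 4, nat_lit 1, nat_lit 2, nat_lit 4, nat_lit 2, nat_lit 4, nat_lit 2, nat_lit 1, nat_lit 4, nat_lit 1]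
def Wt_316_318 (j : ℕ) : List ℕ := bif Nat.blt j 317 then [nat_lit 63, nat_lit 4, nat_lit 3, nat_lit 4, nat_lit 3, nat_lit 4, nat_lit 3, nat_lit 1, nat_lit 4, nat_lit 1, nat_lit 4, nat_lit 1, nat_lit 4, nat_lit 1, nat_lit 4, nat_lit 3] else [nat_lit 4, nat_lit 1, nat_lit 2, nat_lit 4, nat_lit 2, nat_lit 4, nat_lit 2, nat_lit 1, nat_lit 4, nat_lit 1, nat_lit 4, nat_lit 2, nat_lit 4, nat_lit 3, nat_lit 4, nat_lit 2, nat_lit 1]
def Wt_314_318 (j : ℕ) : List ℕ := bif Nat.blt j 316 then (Wt_314_316 j) else (Wt_316_318 j)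
def Wt_318_320 (j : ℕ) : List ℕ := bif Nat.blt j 319 then [nat_lit 1, nat_lit 0, nat_lit 1, nat_lit 2, nat_lit 0, nat_lit 1, nat_lit 4, nat_lit 0, nat_lit 1, nat_lit 4, nat_lit 3, nat_lit 1, nat_lit 4, nat_lit 1, nat_lit 0, nat_lit 4, nat_lit 3] else [nat_lit 0, nat_lit 1, nat_lit 3, nat_lit 2, nat_lit 1, nat_lit 4, nat_lit 0, nat_lit 1, nat_lit 0, nat_lit 4, nat_lit 1, nat_lit 4, nat_lit 3, nat_lit 2, nat_lit 4, nat_lit 3, nat_lit 4]
def Wt_321_323 (j : ℕ) : List ℕ := bif Nat.blt j 322 then [nat_lit 7, nat_lit 5, nat_lit 4, nat_lit 3, nat_lit 4, nat_lit 0, nat_lit 3, nat_lit 4, nat_lit 5, nat_lit 3, nat_lit 4, nat_lit 0, nat_lit 1, nat_lit 4, nat_lit 5] else [nat_lit 2, nat_lit 0, nat_lit 3, nat_lit 1, nat_lit 4, nat_lit 1, nat_lit 4, nat_lit 0, nat_lit 4, nat_lit 1, nat_lit 4, nat_lit 2, nat_lit 1, nat_lit 4, nat_lit 1, nat_lit 4, nat_lit 3]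
def Wt_320_323 (j : ℕ) : List ℕ := bif Nat.blt j 321 then [nat_lit 4, nat_lit 3, nat_lit 0, nat_lit 4, nat_lit 3, nat_lit 4, nat_lit 2, nat_lit 3, nat_lit 4, nat_lit 3, nat_lit 4, nat_lit 0, nat_lit 3, nat_lit 4, nat_lit 0, nat_lit 3, nat_lit 0] else (Wt_321_323 j)
def Wt_318_323 (j : ℕ) : List ℕ := bif Nat.blt j 320 then (Wt_318_320 j) else (Wt_320_323 j)
def Wt_314_323 (j : ℕ) : List ℕ := bif Nat.blt j 318 then (Wt_314_318 j) else (Wt_318_323 j)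
def Wt_306_323 (j : ℕ) : List ℕ := bif Nat.blt j 314 then (Wt_306_314 j) else (Wt_314_323 j)
def Wt_323_325 (j : ℕ) : List ℕ := bif Nat.blt j 324 then [nat_lit 1, nat_lit 2, nat_lit 1, nat_lit 3, nat_lit 2, nat_lit 1, nat_lit 0, nat_lit 1, nat_lit 2, nat_lit 1, nat_lit 3, nat_lit 2, nat_lit 1, nat_lit 0, nat_lit 1, nat_lit 2, nat_lit 1, nat_lit 3, nat_lit 2, nat_lit 1, nat_lit 0] else [nat_lit 63, nat_lit 2, nat_lit 0, nat_lit 1, nat_lit 2, nat_lit 1, nat_lit 0, nat_lit 2, nat_lit 0, nat_lit 1, nat_lit 2, nat_lit 1, nat_lit 0]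
def Wt_325_327 (j : ℕ) : List ℕ := bif Nat.blt j 326 then [nat_lit 63, nat_lit 1, nat_lit 2, nat_lit 0, nat_lit 2, nat_lit 1, nat_lit 0, nat_lit 1, nat_lit 2, nat_lit 0, nat_lit 2, nat_lit 1, nat_lit 0, nat_lit 1, nat_lit 2, nat_lit 0, nat_lit 2, nat_lit 1, nat_lit 0] else [nat_lit 63, nat_lit 1, nat_lit 0, nat_lit 1, nat_lit 2, nat_lit 1, nat_lit 0, nat_lit 1, nat_lit 2, nat_lit 1, nat_lit 0, nat_lit 1, nat_lit 2]
def Wt_323_327 (j : ℕ) : List ℕ := bif Nat.blt j 325 then (Wt_323_325 j) else (Wt_325_327 j)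
def Wt_327_329 (j : ℕ) : List ℕ := bif Nat.blt j 328 then [nat_lit 63, nat_lit 0, nat_lit 1, nat_lit 3, nat_lit 1, nat_lit 2, nat_lit 1, nat_lit 0, nat_lit 1, nat_lit 3, nat_lit 1, nat_lit 2, nat_lit 1, nat_lit 0, nat_lit 1, nat_lit 3, nat_lit 1, nat_lit 2, nat_lit 1] else [nat_lit 63, nat_lit 1, nat_lit 2, nat_lit 1, nat_lit 3, nat_lit 2, nat_lit 1, nat_lit 0, nat_lit 1, nat_lit 2, nat_lit 1, nat_lit 3, nat_lit 2, nat_lit 1, nat_lit 0, nat_lit 1, nat_lit 2, nat_lit 1, nat_lit 3, nat_lit 2, nat_lit 1, nat_lit 0]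
def Wt_329_331 (j : ℕ) : List ℕ := bif Nat.blt j 330 then [nat_lit 63, nat_lit 1, nat_lit 0, nat_lit 1, nat_lit 2, nat_lit 1, nat_lit 3, nat_lit 1, nat_lit 0, nat_lit 1, nat_lit 2, nat_lit 1, nat_lit 3, nat_lit 1, nat_lit 0, nat_lit 1, nat_lit 2, nat_lit 1, nat_lit 3] else [nat_lit 4, nat_lit 63, nat_lit 4, nat_lit 63]
def Wt_327_331 (j : ℕ) : List ℕ := bif Nat.blt j 329 then (Wt_327_329 j) else (Wt_329_331 j)
def Wt_323_331 (j : ℕ) : List ℕ := bif Nat.blt j 327 then (Wt_323_327 j) else (Wt_327_331 j)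
def Wt_331_333 (j : ℕ) : List ℕ := bif Nat.blt j 332 then [nat_lit 63, nat_lit 1, nat_lit 0, nat_lit 2, nat_lit 0, nat_lit 1, nat_lit 2, nat_lit 1, nat_lit 0, nat_lit 2, nat_lit 0, nat_lit 1, nat_lit 2] else [nat_lit 63, nat_lit 1, nat_lit 3, nat_lit 2, nat_lit 1, nat_lit 0, nat_lit 1, nat_lit 2, nat_lit 1, nat_lit 3, nat_lit 2, nat_lit 1, nat_lit 0, nat_lit 1, nat_lit 2, nat_lit 1, nat_lit 3, nat_lit 2, nat_lit 1, nat_lit 0, nat_lit 1, nat_lit 2]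
def Wt_333_335 (j : ℕ) : List ℕ := bif Nat.blt j 334 then [nat_lit 63, nat_lit 2, nat_lit 1, nat_lit 0, nat_lit 2, nat_lit 1, nat_lit 0, nat_lit 2, nat_lit 1, nat_lit 0, nat_lit 2, nat_lit 1, nat_lit 0, nat_lit 2, nat_lit 1, nat_lit 0] else [nat_lit 4, nat_lit 3, nat_lit 4, nat_lit 3, nat_lit 0, nat_lit 3, nat_lit 1, nat_lit 2, nat_lit 1, nat_lit 4, nat_lit 2, nat_lit 4, nat_lit 3, nat_lit 4, nat_lit 2, nat_lit 4, nat_lit 2]
def Wt_331_335 (j : ℕ) : List ℕ := bif Nat.blt j 333 then (Wt_331_333 j) else (Wt_333_335 j)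
def Wt_335_337 (j : ℕ) : List ℕ := bif Nat.blt j 336 then [nat_lit 1, nat_lit 2, nat_lit 0, nat_lit 1, nat_lit 2, nat_lit 0, nat_lit 1, nat_lit 2, nat_lit 0, nat_lit 1, nat_lit 2, nat_lit 0, nat_lit 1, nat_lit 2, nat_lit 0] else [nat_lit 1, nat_lit 3, nat_lit 4, nat_lit 1, nat_lit 0, nat_lit 4, nat_lit 1, nat_lit 0, nat_lit 2, nat_lit 1, nat_lit 0, nat_lit 1, nat_lit 3, nat_lit 4, nat_lit 0, nat_lit 1, nat_lit 4]
def Wt_338_340 (j : ℕ) : List ℕ := bif Nat.blt j 339 then [nat_lit 4, nat_lit 1, nat_lit 3, nat_lit 4, nat_lit 1, nat_lit 0, nat_lit 4, nat_lit 1, nat_lit 0, nat_lit 2, nat_lit 1, nat_lit 0, nat_lit 1, nat_lit 3, nat_lit 4, nat_lit 0, nat_lit 1] else [nat_lit 63, nat_lit 4, nat_lit 63, nat_lit 4, nat_lit 63]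
def Wt_337_340 (j : ℕ) : List ℕ := bif Nat.blt j 338 then [nat_lit 3, nat_lit 4, nat_lit 0, nat_lit 3, nat_lit 4, nat_lit 5, nat_lit 3, nat_lit 4, nat_lit 0, nat_lit 1, nat_lit 4, nat_lit 5, nat_lit 7, nat_lit 5, nat_lit 4] else (Wt_338_340 j)
def Wt_335_340 (j : ℕ) : List ℕ := bif Nat.blt j 337 then (Wt_335_337 j) else (Wt_337_340 j)
def Wt_331_340 (j : ℕ) : List ℕ := bif Nat.blt j 335 then (Wt_331_335 j) else (Wt_335_340 j)
def Wt_323_340 (j : ℕ) : List ℕ := bif Nat.blt j 331 then (Wt_323_331 j) else (Wt_331_340 j)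
def Wt_306_340 (j : ℕ) : List ℕ := bif Nat.blt j 323 then (Wt_306_323 j) else (Wt_323_340 j)
def Wt_272_340 (j : ℕ) : List ℕ := bif Nat.blt j 306 then (Wt_272_306 j) else (Wt_306_340 j)
def Wt_340_342 (j : ℕ) : List ℕ := bif Nat.blt j 341 then [nat_lit 2, nat_lit 1, nat_lit 0, nat_lit 1, nat_lit 3, nat_lit 1, nat_lit 2, nat_lit 1, nat_lit 0, nat_lit 1, nat_lit 3, nat_lit 1, nat_lit 2, nat_lit 1, nat_lit 0, nat_lit 1, nat_lit 3, nat_lit 1] else [nat_lit 1, nat_lit 2, nat_lit 1, nat_lit 0, nat_lit 1, nat_lit 2, nat_lit 3, nat_lit 1, nat_lit 2, nat_lit 1, nat_lit 0, nat_lit 1, nat_lit 2, nat_lit 3, nat_lit 1, nat_lit 2, nat_lit 1, nat_lit 0, nat_lit 1, nat_lit 2, nat_lit 3]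
def Wt_342_344 (j : ℕ) : List ℕ := bif Nat.blt j 343 then [nat_lit 4, nat_lit 1, nat_lit 0, nat_lit 4, nat_lit 1, nat_lit 0, nat_lit 2, nat_lit 1, nat_lit 0, nat_lit 1, nat_lit 3, nat_lit 4, nat_lit 0, nat_lit 1, nat_lit 4, nat_lit 1, nat_lit 3] else [nat_lit 63, nat_lit 2, nat_lit 0, nat_lit 3, nat_lit 1, nat_lit 4, nat_lit 1, nat_lit 4, nat_lit 0, nat_lit 4, nat_lit 1, nat_lit 4, nat_lit 2, nat_lit 1, nat_lit 4, nat_lit 1, nat_lit 4, nat_lit 3]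
def Wt_340_344 (j : ℕ) : List ℕ := bif Nat.blt j 342 then (Wt_340_342 j) else (Wt_342_344 j)
def Wt_344_346 (j : ℕ) : List ℕ := bif Nat.blt j 345 then [nat_lit 3, nat_lit 4, nat_lit 0, nat_lit 1, nat_lit 3, nat_lit 2, nat_lit 1, nat_lit 4, nat_lit 0, nat_lit 1, nat_lit 0, nat_lit 4, nat_lit 1, nat_lit 4, nat_lit 3, nat_lit 2, nat_lit 4] else [nat_lit 4, nat_lit 1, nat_lit 0, nat_lit 4, nat_lit 1, nat_lit 2, nat_lit 1, nat_lit 4, nat_lit 1, nat_lit 2, nat_lit 1, nat_lit 4, nat_lit 0, nat_lit 1, nat_lit 4, nat_lit 2, nat_lit 3]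
def Wt_346_348 (j : ℕ) : List ℕ := bif Nat.blt j 347 then [nat_lit 4, nat_lit 0, nat_lit 3, nat_lit 0, nat_lit 4, nat_lit 3, nat_lit 0, nat_lit 4, nat_lit 3, nat_lit 4, nat_lit 2, nat_lit 3, nat_lit 4, nat_lit 3, nat_lit 4, nat_lit 0, nat_lit 3] else [nat_lit 2, nat_lit 0, nat_lit 2, nat_lit 1, nat_lit 0, nat_lit 1, nat_lit 2, nat_lit 0, nat_lit 2, nat_lit 1, nat_lit 0, nat_lit 1, nat_lit 2, nat_lit 0, nat_lit 2, nat_lit 1, nat_lit 0, nat_lit 1]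
def Wt_344_348 (j : ℕ) : List ℕ := bif Nat.blt j 346 then (Wt_344_346 j) else (Wt_346_348 j)
def Wt_340_348 (j : ℕ) : List ℕ := bif Nat.blt j 344 then (Wt_340_344 j) else (Wt_344_348 j)
def Wt_348_350 (j : ℕ) : List ℕ := bif Nat.blt j 349 then [nat_lit 4, nat_lit 1, nat_lit 4, nat_lit 3, nat_lit 2, nat_lit 4, nat_lit 3, nat_lit 4, nat_lit 0, nat_lit 1, nat_lit 3, nat_lit 2, nat_lit 1, nat_lit 4, nat_lit 0, nat_lit 1, nat_lit 0] else [nat_lit 1, nat_lit 4, nat_lit 1, nat_lit 2, nat_lit 1, nat_lit 4, nat_lit 0, nat_lit 1, nat_lit 4, nat_lit 3, nat_lit 2, nat_lit 4, nat_lit 1, nat_lit 0, nat_lit 4, nat_lit 1, nat_lit 2]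
def Wt_350_352 (j : ℕ) : List ℕ := bif Nat.blt j 351 then [nat_lit 4, nat_lit 3, nat_lit 4, nat_lit 2, nat_lit 4, nat_lit 1, nat_lit 4, nat_lit 1, nat_lit 2, nat_lit 4, nat_lit 2, nat_lit 4, nat_lit 2, nat_lit 1, nat_lit 4, nat_lit 1, nat_lit 2] else [nat_lit 1, nat_lit 4, nat_lit 1, nat_lit 4, nat_lit 0, nat_lit 4, nat_lit 1, nat_lit 4, nat_lit 2, nat_lit 1, nat_lit 4, nat_lit 1, nat_lit 4, nat_lit 3, nat_lit 2, nat_lit 0, nat_lit 3]
def Wt_348_352 (j : ℕ) : List ℕ := bif Nat.blt j 350 then (Wt_348_350 j) else (Wt_350_352 j)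
def Wt_352_354 (j : ℕ) : List ℕ := bif Nat.blt j 353 then [nat_lit 1, nat_lit 4, nat_lit 3, nat_lit 2, nat_lit 4, nat_lit 3, nat_lit 4, nat_lit 0, nat_lit 1, nat_lit 3, nat_lit 2, nat_lit 1, nat_lit 4, nat_lit 0, nat_lit 1, nat_lit 0, nat_lit 4] else [nat_lit 63, nat_lit 4, nat_lit 1, nat_lit 4, nat_lit 1, nat_lit 2, nat_lit 4, nat_lit 2, nat_lit 4, nat_lit 2, nat_lit 1, nat_lit 4, nat_lit 1, nat_lit 2, nat_lit 4, nat_lit 3, nat_lit 4, nat_lit 2]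
def Wt_355_357 (j : ℕ) : List ℕ := bif Nat.blt j 356 then [nat_lit 4, nat_lit 2, nat_lit 4, nat_lit 2, nat_lit 4, nat_lit 3, nat_lit 4, nat_lit 3, nat_lit 0, nat_lit 3, nat_lit 1, nat_lit 2, nat_lit 1, nat_lit 4, nat_lit 2, nat_lit 4, nat_lit 3] else [nat_lit 63, nat_lit 0, nat_lit 3, nat_lit 0, nat_lit 4, nat_lit 3, nat_lit 0, nat_lit 4, nat_lit 3, nat_lit 4, nat_lit 2, nat_lit 3, nat_lit 4, nat_lit 3, nat_lit 4, nat_lit 0, nat_lit 3, nat_lit 4]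
def Wt_354_357 (j : ℕ) : List ℕ := bif Nat.blt j 355 then [nat_lit 63, nat_lit 2, nat_lit 1, nat_lit 4, nat_lit 1, nat_lit 2, nat_lit 4, nat_lit 2, nat_lit 4, nat_lit 2, nat_lit 1, nat_lit 4, nat_lit 1, nat_lit 4, nat_lit 2, nat_lit 4, nat_lit 3, nat_lit 4] else (Wt_355_357 j)
def Wt_352_357 (j : ℕ) : List ℕ := bif Nat.blt j 354 then (Wt_352_354 j) else (Wt_354_357 j)
def Wt_348_357 (j : ℕ) : List ℕ := bif Nat.blt j 352 then (Wt_348_352 j) else (Wt_352_357 j)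
def Wt_340_357 (j : ℕ) : List ℕ := bif Nat.blt j 348 then (Wt_340_348 j) else (Wt_348_357 j)
def Wt_357_359 (j : ℕ) : List ℕ := bif Nat.blt j 358 then [nat_lit 63, nat_lit 3, nat_lit 0, nat_lit 3, nat_lit 0, nat_lit 1, nat_lit 3, nat_lit 0, nat_lit 3, nat_lit 0, nat_lit 3, nat_lit 0, nat_lit 1, nat_lit 3, nat_lit 0, nat_lit 3, nat_lit 0, nat_lit 3, nat_lit 0, nat_lit 1, nat_lit 3, nat_lit 0] else [nat_lit 3, nat_lit 5, nat_lit 3, nat_lit 2, nat_lit 5]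
def Wt_359_361 (j : ℕ) : List ℕ := bif Nat.blt j 360 then [nat_lit 3, nat_lit 4, nat_lit 1, nat_lit 4, nat_lit 0, nat_lit 1, nat_lit 0, nat_lit 4, nat_lit 1, nat_lit 2, nat_lit 3, nat_lit 1, nat_lit 0, nat_lit 4, nat_lit 3, nat_lit 4, nat_lit 2] else [nat_lit 1, nat_lit 4, nat_lit 3, nat_lit 4, nat_lit 1, nat_lit 2, nat_lit 4, nat_lit 3, nat_lit 1, nat_lit 3, nat_lit 1, nat_lit 3, nat_lit 1, nat_lit 3, nat_lit 4, nat_lit 2]
def Wt_357_361 (j : ℕ) : List ℕ := bif Nat.blt j 359 then (Wt_357_359 j) else (Wt_359_361 j)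
def Wt_361_363 (j : ℕ) : List ℕ := bif Nat.blt j 362 then [nat_lit 1, nat_lit 2, nat_lit 4, nat_lit 3, nat_lit 1, nat_lit 3, nat_lit 1, nat_lit 3, nat_lit 1, nat_lit 3, nat_lit 4, nat_lit 2, nat_lit 1, nat_lit 4, nat_lit 3, nat_lit 4] else [nat_lit 0, nat_lit 2, nat_lit 4, nat_lit 0, nat_lit 2, nat_lit 4, nat_lit 3, nat_lit 2, nat_lit 3, nat_lit 0, nat_lit 4, nat_lit 2, nat_lit 0, nat_lit 4, nat_lit 2, nat_lit 0, nat_lit 4]
def Wt_363_365 (j : ℕ) : List ℕ := bif Nat.blt j 364 then [nat_lit 4, nat_lit 1, nat_lit 4, nat_lit 1, nat_lit 2, nat_lit 4, nat_lit 2, nat_lit 4, nat_lit 2, nat_lit 1, nat_lit 4, nat_lit 1, nat_lit 2, nat_lit 4, nat_lit 3, nat_lit 4, nat_lit 2] else [nat_lit 63, nat_lit 1, nat_lit 4, nat_lit 1, nat_lit 2, nat_lit 4, nat_lit 1, nat_lit 4, nat_lit 0, nat_lit 4, nat_lit 1, nat_lit 4, nat_lit 1, nat_lit 3, nat_lit 0, nat_lit 2, nat_lit 3, nat_lit 4]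
def Wt_361_365 (j : ℕ) : List ℕ := bif Nat.blt j 363 then (Wt_361_363 j) else (Wt_363_365 j)
def Wt_357_365 (j : ℕ) : List ℕ := bif Nat.blt j 361 then (Wt_357_361 j) else (Wt_361_365 j)
def Wt_365_367 (j : ℕ) : List ℕ := bif Nat.blt j 366 then [nat_lit 4, nat_lit 3, nat_lit 4, nat_lit 2, nat_lit 4, nat_lit 2, nat_lit 4, nat_lit 3, nat_lit 4, nat_lit 3, nat_lit 0, nat_lit 3, nat_lit 1, nat_lit 2, nat_lit 1, nat_lit 4, nat_lit 2] else [nat_lit 63, nat_lit 3, nat_lit 0, nat_lit 2, nat_lit 3, nat_lit 4, nat_lit 1, nat_lit 4, nat_lit 1, nat_lit 2, nat_lit 4, nat_lit 1, nat_lit 4, nat_lit 0, nat_lit 4, nat_lit 1, nat_lit 4, nat_lit 1]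
def Wt_367_369 (j : ℕ) : List ℕ := bif Nat.blt j 368 then [nat_lit 0, nat_lit 1, nat_lit 0, nat_lit 4, nat_lit 1, nat_lit 4, nat_lit 3, nat_lit 2, nat_lit 4, nat_lit 3, nat_lit 4, nat_lit 0, nat_lit 1, nat_lit 3, nat_lit 2, nat_lit 1, nat_lit 4] else [nat_lit 63, nat_lit 5, nat_lit 1, nat_lit 5, nat_lit 1]
def Wt_365_369 (j : ℕ) : List ℕ := bif Nat.blt j 367 then (Wt_365_367 j) else (Wt_367_369 j)
def Wt_369_371 (j : ℕ) : List ℕ := bif Nat.blt j 370 then [nat_lit 1, nat_lit 3, nat_lit 1, nat_lit 3, nat_lit 1, nat_lit 3, nat_lit 4, nat_lit 2, nat_lit 1, nat_lit 4, nat_lit 3, nat_lit 4, nat_lit 1, nat_lit 2, nat_lit 4, nat_lit 3] else [nat_lit 63, nat_lit 2, nat_lit 1, nat_lit 4, nat_lit 1, nat_lit 4, nat_lit 1, nat_lit 2, nat_lit 4, nat_lit 1, nat_lit 4, nat_lit 2, nat_lit 0, nat_lit 2, nat_lit 4, nat_lit 1, nat_lit 4]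
def Wt_372_374 (j : ℕ) : List ℕ := bif Nat.blt j 373 then [nat_lit 4, nat_lit 1, nat_lit 2, nat_lit 4, nat_lit 3, nat_lit 4, nat_lit 2, nat_lit 4, nat_lit 1, nat_lit 4, nat_lit 1, nat_lit 2, nat_lit 4, nat_lit 2, nat_lit 4, nat_lit 2, nat_lit 1] else [nat_lit 63, nat_lit 1, nat_lit 3, nat_lit 0, nat_lit 3, nat_lit 4, nat_lit 2, nat_lit 4, nat_lit 3, nat_lit 4, nat_lit 2, nat_lit 4, nat_lit 2, nat_lit 4, nat_lit 3, nat_lit 4, nat_lit 1, nat_lit 2]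
def Wt_371_374 (j : ℕ) : List ℕ := bif Nat.blt j 372 then [nat_lit 4, nat_lit 1, nat_lit 4, nat_lit 0, nat_lit 1, nat_lit 0, nat_lit 4, nat_lit 1, nat_lit 2, nat_lit 3, nat_lit 1, nat_lit 0, nat_lit 4, nat_lit 3, nat_lit 4, nat_lit 2, nat_lit 3] else (Wt_372_374 j)
def Wt_369_374 (j : ℕ) : List ℕ := bif Nat.blt j 371 then (Wt_369_371 j) else (Wt_371_374 j)
def Wt_365_374 (j : ℕ) : List ℕ := bif Nat.blt j 369 then (Wt_365_369 j) else (Wt_369_374 j)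
def Wt_357_374 (j : ℕ) : List ℕ := bif Nat.blt j 365 then (Wt_357_365 j) else (Wt_365_374 j)
def Wt_340_374 (j : ℕ) : List ℕ := bif Nat.blt j 357 then (Wt_340_357 j) else (Wt_357_374 j)
def Wt_374_376 (j : ℕ) : List ℕ := bif Nat.blt j 375 then [nat_lit 63, nat_lit 3, nat_lit 0, nat_lit 3, nat_lit 4, nat_lit 2, nat_lit 3, nat_lit 4, nat_lit 2, nat_lit 4, nat_lit 1, nat_lit 4, nat_lit 2, nat_lit 4, nat_lit 3, nat_lit 2, nat_lit 4, nat_lit 1] else [nat_lit 4, nat_lit 1, nat_lit 0, nat_lit 4, nat_lit 3, nat_lit 1, nat_lit 0, nat_lit 1, nat_lit 2, nat_lit 0, nat_lit 1, nat_lit 4, nat_lit 0, nat_lit 1, nat_lit 4, nat_lit 3, nat_lit 1]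
def Wt_376_378 (j : ℕ) : List ℕ := bif Nat.blt j 377 then [nat_lit 1, nat_lit 4, nat_lit 3, nat_lit 2, nat_lit 4, nat_lit 1, nat_lit 0, nat_lit 4, nat_lit 1, nat_lit 2, nat_lit 1, nat_lit 4, nat_lit 1, nat_lit 2, nat_lit 1, nat_lit 4, nat_lit 0] else [nat_lit 2, nat_lit 0, nat_lit 2, nat_lit 4, nat_lit 1, nat_lit 4, nat_lit 2, nat_lit 1, nat_lit 4, nat_lit 1, nat_lit 4, nat_lit 1, nat_lit 2, nat_lit 4, nat_lit 1, nat_lit 4]
def Wt_374_378 (j : ℕ) : List ℕ := bif Nat.blt j 376 then (Wt_374_376 j) else (Wt_376_378 j)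
def Wt_378_380 (j : ℕ) : List ℕ := bif Nat.blt j 379 then [nat_lit 4, nat_lit 2, nat_lit 4, nat_lit 3, nat_lit 2, nat_lit 4, nat_lit 1, nat_lit 3, nat_lit 0, nat_lit 3, nat_lit 4, nat_lit 2, nat_lit 3, nat_lit 4, nat_lit 2, nat_lit 4, nat_lit 1] else [nat_lit 1, nat_lit 0, nat_lit 4, nat_lit 1, nat_lit 2, nat_lit 1, nat_lit 4, nat_lit 1, nat_lit 2, nat_lit 1, nat_lit 4, nat_lit 0, nat_lit 1, nat_lit 4, nat_lit 3, nat_lit 2, nat_lit 4]
def Wt_380_382 (j : ℕ) : List ℕ := bif Nat.blt j 381 then [nat_lit 3, nat_lit 0, nat_lit 1, nat_lit 0, nat_lit 3, nat_lit 1, nat_lit 4, nat_lit 1, nat_lit 3, nat_lit 0, nat_lit 1, nat_lit 0, nat_lit 3, nat_lit 1, nat_lit 4, nat_lit 1] else [nat_lit 63, nat_lit 4, nat_lit 1, nat_lit 4, nat_lit 2, nat_lit 0, nat_lit 4, nat_lit 1, nat_lit 4, nat_lit 0, nat_lit 2, nat_lit 4, nat_lit 1, nat_lit 4, nat_lit 2, nat_lit 0]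
def Wt_378_382 (j : ℕ) : List ℕ := bif Nat.blt j 380 then (Wt_378_380 j) else (Wt_380_382 j)
def Wt_374_382 (j : ℕ) : List ℕ := bif Nat.blt j 378 then (Wt_374_378 j) else (Wt_378_382 j)
def Wt_382_384 (j : ℕ) : List ℕ := bif Nat.blt j 383 then [nat_lit 63, nat_lit 3, nat_lit 0, nat_lit 3, nat_lit 2, nat_lit 3, nat_lit 1, nat_lit 0, nat_lit 3, nat_lit 0, nat_lit 3, nat_lit 2, nat_lit 3, nat_lit 1, nat_lit 0, nat_lit 3, nat_lit 0, nat_lit 3, nat_lit 2, nat_lit 3, nat_lit 1, nat_lit 0] else [nat_lit 63, nat_lit 0, nat_lit 1, nat_lit 2, nat_lit 3, nat_lit 1, nat_lit 2, nat_lit 1, nat_lit 0, nat_lit 1, nat_lit 2, nat_lit 3, nat_lit 1, nat_lit 2, nat_lit 1, nat_lit 0, nat_lit 1, nat_lit 2, nat_lit 3, nat_lit 1, nat_lit 2, nat_lit 1]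
def Wt_384_386 (j : ℕ) : List ℕ := bif Nat.blt j 385 then [nat_lit 3, nat_lit 1, nat_lit 0, nat_lit 3, nat_lit 0, nat_lit 3, nat_lit 2, nat_lit 3, nat_lit 1, nat_lit 0, nat_lit 3, nat_lit 0, nat_lit 3, nat_lit 2, nat_lit 3, nat_lit 1, nat_lit 0, nat_lit 3, nat_lit 0, nat_lit 3, nat_lit 2] else [nat_lit 3, nat_lit 0, nat_lit 3, nat_lit 0, nat_lit 3, nat_lit 0, nat_lit 3, nat_lit 0, nat_lit 3, nat_lit 0, nat_lit 3, nat_lit 0, nat_lit 3, nat_lit 0, nat_lit 3, nat_lit 0, nat_lit 3, nat_lit 0, nat_lit 3, nat_lit 0, nat_lit 3, nat_lit 0, nat_lit 3, nat_lit 0]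
def Wt_382_386 (j : ℕ) : List ℕ := bif Nat.blt j 384 then (Wt_382_384 j) else (Wt_384_386 j)
def Wt_386_388 (j : ℕ) : List ℕ := bif Nat.blt j 387 then [nat_lit 63, nat_lit 4, nat_lit 3, nat_lit 1, nat_lit 4, nat_lit 1, nat_lit 4, nat_lit 1, nat_lit 4, nat_lit 1, nat_lit 4, nat_lit 3, nat_lit 4, nat_lit 3, nat_lit 4, nat_lit 3] else [nat_lit 3, nat_lit 4, nat_lit 0, nat_lit 3, nat_lit 0, nat_lit 4, nat_lit 3, nat_lit 0, nat_lit 4, nat_lit 3, nat_lit 4, nat_lit 2, nat_lit 3, nat_lit 4, nat_lit 3, nat_lit 4, nat_lit 0]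
def Wt_389_391 (j : ℕ) : List ℕ := bif Nat.blt j 390 then [nat_lit 63, nat_lit 4, nat_lit 1, nat_lit 2, nat_lit 4, nat_lit 3, nat_lit 4, nat_lit 2, nat_lit 4, nat_lit 1, nat_lit 4, nat_lit 1, nat_lit 2, nat_lit 4, nat_lit 2, nat_lit 4, nat_lit 2, nat_lit 1] else [nat_lit 63, nat_lit 4, nat_lit 1, nat_lit 2, nat_lit 4, nat_lit 2, nat_lit 4, nat_lit 2, nat_lit 1, nat_lit 4, nat_lit 1, nat_lit 4, nat_lit 2, nat_lit 4, nat_lit 3, nat_lit 4, nat_lit 2, nat_lit 1]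
def Wt_388_391 (j : ℕ) : List ℕ := bif Nat.blt j 389 then [nat_lit 63, nat_lit 1, nat_lit 4, nat_lit 1, nat_lit 2, nat_lit 4, nat_lit 1, nat_lit 4, nat_lit 2, nat_lit 0, nat_lit 2, nat_lit 4, nat_lit 1, nat_lit 4, nat_lit 2, nat_lit 1, nat_lit 4] else (Wt_389_391 j)
def Wt_386_391 (j : ℕ) : List ℕ := bif Nat.blt j 388 then (Wt_386_388 j) else (Wt_388_391 j)
def Wt_382_391 (j : ℕ) : List ℕ := bif Nat.blt j 386 then (Wt_382_386 j) else (Wt_386_391 j)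
def Wt_374_391 (j : ℕ) : List ℕ := bif Nat.blt j 382 then (Wt_374_382 j) else (Wt_382_391 j)
def Wt_391_393 (j : ℕ) : List ℕ := bif Nat.blt j 392 then [nat_lit 63, nat_lit 4, nat_lit 2, nat_lit 4, nat_lit 2, nat_lit 1, nat_lit 4, nat_lit 1, nat_lit 2, nat_lit 4, nat_lit 3, nat_lit 4, nat_lit 2, nat_lit 4, nat_lit 1, nat_lit 4, nat_lit 1, nat_lit 2] else [nat_lit 63, nat_lit 0, nat_lit 4, nat_lit 1, nat_lit 4, nat_lit 1, nat_lit 3, nat_lit 0, nat_lit 2, nat_lit 3, nat_lit 4, nat_lit 1, nat_lit 4, nat_lit 1, nat_lit 2, nat_lit 4, nat_lit 1, nat_lit 4]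
def Wt_393_395 (j : ℕ) : List ℕ := bif Nat.blt j 394 then [nat_lit 63, nat_lit 2, nat_lit 4, nat_lit 2, nat_lit 4, nat_lit 2, nat_lit 1, nat_lit 4, nat_lit 1, nat_lit 4, nat_lit 2, nat_lit 4, nat_lit 3, nat_lit 4, nat_lit 2, nat_lit 1, nat_lit 4, nat_lit 1] else [nat_lit 2, nat_lit 4, nat_lit 1, nat_lit 4, nat_lit 2, nat_lit 0, nat_lit 2, nat_lit 4, nat_lit 1, nat_lit 4, nat_lit 2, nat_lit 1, nat_lit 4, nat_lit 1, nat_lit 4, nat_lit 1]
def Wt_391_395 (j : ℕ) : List ℕ := bif Nat.blt j 393 then (Wt_391_393 j) else (Wt_393_395 j)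
def Wt_395_397 (j : ℕ) : List ℕ := bif Nat.blt j 396 then [nat_lit 2, nat_lit 4, nat_lit 3, nat_lit 0, nat_lit 3, nat_lit 1, nat_lit 4, nat_lit 2, nat_lit 3, nat_lit 4, nat_lit 2, nat_lit 4, nat_lit 1, nat_lit 4, nat_lit 2, nat_lit 4, nat_lit 3] else [nat_lit 63, nat_lit 4, nat_lit 2, nat_lit 3, nat_lit 4, nat_lit 2, nat_lit 4, nat_lit 1, nat_lit 4, nat_lit 2, nat_lit 4, nat_lit 3, nat_lit 2, nat_lit 4, nat_lit 3, nat_lit 0, nat_lit 3, nat_lit 1]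
def Wt_397_399 (j : ℕ) : List ℕ := bif Nat.blt j 398 then [nat_lit 2, nat_lit 4, nat_lit 3, nat_lit 4, nat_lit 2, nat_lit 1, nat_lit 4, nat_lit 1, nat_lit 2, nat_lit 4, nat_lit 2, nat_lit 4, nat_lit 2, nat_lit 1, nat_lit 4, nat_lit 1, nat_lit 4] else [nat_lit 0, nat_lit 4, nat_lit 0, nat_lit 4, nat_lit 3, nat_lit 1, nat_lit 4, nat_lit 2, nat_lit 1, nat_lit 2, nat_lit 4, nat_lit 1, nat_lit 3, nat_lit 4, nat_lit 0, nat_lit 4, nat_lit 2]
def Wt_395_399 (j : ℕ) : List ℕ := bif Nat.blt j 397 then (Wt_395_397 j) else (Wt_397_399 j)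
def Wt_391_399 (j : ℕ) : List ℕ := bif Nat.blt j 395 then (Wt_391_395 j) else (Wt_395_399 j)
def Wt_399_401 (j : ℕ) : List ℕ := bif Nat.blt j 400 then [nat_lit 2, nat_lit 1, nat_lit 3, nat_lit 0, nat_lit 3, nat_lit 4, nat_lit 2, nat_lit 4, nat_lit 3, nat_lit 4, nat_lit 2, nat_lit 4, nat_lit 2, nat_lit 4, nat_lit 3, nat_lit 4, nat_lit 1] else [nat_lit 4, nat_lit 3, nat_lit 2, nat_lit 0, nat_lit 3, nat_lit 1, nat_lit 4, nat_lit 1, nat_lit 4, nat_lit 0, nat_lit 4, nat_lit 1, nat_lit 4, nat_lit 2, nat_lit 1, nat_lit 4, nat_lit 1]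
def Wt_401_403 (j : ℕ) : List ℕ := bif Nat.blt j 402 then [nat_lit 3, nat_lit 4, nat_lit 2, nat_lit 1, nat_lit 4, nat_lit 3, nat_lit 4, nat_lit 1, nat_lit 2, nat_lit 4, nat_lit 3, nat_lit 1, nat_lit 3, nat_lit 1, nat_lit 3, nat_lit 1] else [nat_lit 63, nat_lit 0, nat_lit 3, nat_lit 1, nat_lit 4, nat_lit 2, nat_lit 3, nat_lit 4, nat_lit 2, nat_lit 4, nat_lit 1, nat_lit 4, nat_lit 2, nat_lit 4, nat_lit 3, nat_lit 2, nat_lit 4, nat_lit 3]
def Wt_399_403 (j : ℕ) : List ℕ := bif Nat.blt j 401 then (Wt_399_401 j) else (Wt_401_403 j)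
def Wt_403_405 (j : ℕ) : List ℕ := bif Nat.blt j 404 then [nat_lit 63, nat_lit 1, nat_lit 2, nat_lit 3, nat_lit 0, nat_lit 3, nat_lit 1, nat_lit 2, nat_lit 3, nat_lit 0, nat_lit 3, nat_lit 1, nat_lit 2, nat_lit 3, nat_lit 0, nat_lit 3, nat_lit 1, nat_lit 2, nat_lit 3, nat_lit 0, nat_lit 3] else [nat_lit 1, nat_lit 0, nat_lit 1, nat_lit 2, nat_lit 1, nat_lit 3, nat_lit 1, nat_lit 0, nat_lit 1, nat_lit 2, nat_lit 1, nat_lit 3, nat_lit 1, nat_lit 0, nat_lit 1, nat_lit 2, nat_lit 1, nat_lit 3]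
def Wt_406_408 (j : ℕ) : List ℕ := bif Nat.blt j 407 then [nat_lit 1, nat_lit 3, nat_lit 1, nat_lit 2, nat_lit 1, nat_lit 0, nat_lit 1, nat_lit 3, nat_lit 1, nat_lit 2, nat_lit 1, nat_lit 0, nat_lit 1, nat_lit 3, nat_lit 1, nat_lit 2, nat_lit 1, nat_lit 0] else [nat_lit 4, nat_lit 1, nat_lit 4, nat_lit 2, nat_lit 4, nat_lit 3, nat_lit 2, nat_lit 4, nat_lit 1, nat_lit 3, nat_lit 0, nat_lit 3, nat_lit 4, nat_lit 2, nat_lit 3, nat_lit 4, nat_lit 2]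
def Wt_405_408 (j : ℕ) : List ℕ := bif Nat.blt j 406 then [nat_lit 1, nat_lit 3, nat_lit 1, nat_lit 3, nat_lit 4, nat_lit 2, nat_lit 1, nat_lit 4, nat_lit 3, nat_lit 4, nat_lit 1, nat_lit 2, nat_lit 4, nat_lit 3, nat_lit 1, nat_lit 3] else (Wt_406_408 j)
def Wt_403_408 (j : ℕ) : List ℕ := bif Nat.blt j 405 then (Wt_403_405 j) else (Wt_405_408 j)
def Wt_399_408 (j : ℕ) : List ℕ := bif Nat.blt j 403 then (Wt_399_403 j) else (Wt_403_408 j)
def Wt_391_408 (j : ℕ) : List ℕ := bif Nat.blt j 399 then (Wt_391_399 j) else (Wt_399_408 j)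
def Wt_374_408 (j : ℕ) : List ℕ := bif Nat.blt j 391 then (Wt_374_391 j) else (Wt_391_408 j)
def Wt_340_408 (j : ℕ) : List ℕ := bif Nat.blt j 374 then (Wt_340_374 j) else (Wt_374_408 j)
def Wt_272_408 (j : ℕ) : List ℕ := bif Nat.blt j 340 then (Wt_272_340 j) else (Wt_340_408 j)
def Wt_408_410 (j : ℕ) : List ℕ := bif Nat.blt j 409 then [nat_lit 4, nat_lit 2, nat_lit 3, nat_lit 4, nat_lit 1, nat_lit 4, nat_lit 0, nat_lit 1, nat_lit 0, nat_lit 4, nat_lit 1, nat_lit 2, nat_lit 3, nat_lit 1, nat_lit 0, nat_lit 4, nat_lit 3] else [nat_lit 1, nat_lit 2, nat_lit 1, nat_lit 4, nat_lit 0, nat_lit 1, nat_lit 4, nat_lit 3, nat_lit 2, nat_lit 4, nat_lit 1, nat_lit 0, nat_lit 4, nat_lit 1, nat_lit 2, nat_lit 1, nat_lit 4]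
def Wt_410_412 (j : ℕ) : List ℕ := bif Nat.blt j 411 then [nat_lit 4, nat_lit 1, nat_lit 4, nat_lit 1, nat_lit 3, nat_lit 0, nat_lit 2, nat_lit 3, nat_lit 4, nat_lit 1, nat_lit 4, nat_lit 1, nat_lit 2, nat_lit 4, nat_lit 1, nat_lit 4, nat_lit 0] else [nat_lit 4, nat_lit 3, nat_lit 4, nat_lit 2, nat_lit 4, nat_lit 3, nat_lit 0, nat_lit 3, nat_lit 1, nat_lit 2, nat_lit 1, nat_lit 4, nat_lit 3, nat_lit 4, nat_lit 2, nat_lit 4, nat_lit 2]
def Wt_408_412 (j : ℕ) : List ℕ := bif Nat.blt j 410 then (Wt_408_410 j) else (Wt_410_412 j)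
def Wt_412_414 (j : ℕ) : List ℕ := bif Nat.blt j 413 then [nat_lit 63, nat_lit 0, nat_lit 3, nat_lit 4, nat_lit 2, nat_lit 4, nat_lit 3, nat_lit 4, nat_lit 2, nat_lit 4, nat_lit 2, nat_lit 4, nat_lit 3, nat_lit 4, nat_lit 1, nat_lit 2, nat_lit 1, nat_lit 3] else [nat_lit 1, nat_lit 4, nat_lit 1, nat_lit 2, nat_lit 4, nat_lit 2, nat_lit 4, nat_lit 2, nat_lit 1, nat_lit 4, nat_lit 1, nat_lit 2, nat_lit 4, nat_lit 3, nat_lit 4, nat_lit 2, nat_lit 4]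
def Wt_414_416 (j : ℕ) : List ℕ := bif Nat.blt j 415 then [nat_lit 63, nat_lit 4, nat_lit 1, nat_lit 4, nat_lit 2, nat_lit 1, nat_lit 4, nat_lit 1, nat_lit 4, nat_lit 3, nat_lit 2, nat_lit 0, nat_lit 3, nat_lit 1, nat_lit 4, nat_lit 1, nat_lit 4, nat_lit 0] else [nat_lit 63, nat_lit 4, nat_lit 1, nat_lit 4, nat_lit 2, nat_lit 0, nat_lit 2, nat_lit 4, nat_lit 1, nat_lit 4, nat_lit 2, nat_lit 1, nat_lit 4, nat_lit 1, nat_lit 4, nat_lit 1, nat_lit 2]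
def Wt_412_416 (j : ℕ) : List ℕ := bif Nat.blt j 414 then (Wt_412_414 j) else (Wt_414_416 j)
def Wt_408_416 (j : ℕ) : List ℕ := bif Nat.blt j 412 then (Wt_408_412 j) else (Wt_412_416 j)
def Wt_416_418 (j : ℕ) : List ℕ := bif Nat.blt j 417 then [nat_lit 4, nat_lit 1, nat_lit 4, nat_lit 2, nat_lit 1, nat_lit 4, nat_lit 1, nat_lit 4, nat_lit 3, nat_lit 2, nat_lit 0, nat_lit 3, nat_lit 1, nat_lit 4, nat_lit 1, nat_lit 4, nat_lit 0] else [nat_lit 1, nat_lit 0, nat_lit 4, nat_lit 1, nat_lit 0, nat_lit 2, nat_lit 1, nat_lit 0, nat_lit 1, nat_lit 3, nat_lit 4, nat_lit 0, nat_lit 1, nat_lit 4, nat_lit 1, nat_lit 3, nat_lit 4]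
def Wt_418_420 (j : ℕ) : List ℕ := bif Nat.blt j 419 then [nat_lit 0, nat_lit 4, nat_lit 3, nat_lit 0, nat_lit 4, nat_lit 3, nat_lit 4, nat_lit 2, nat_lit 3, nat_lit 4, nat_lit 3, nat_lit 4, nat_lit 0, nat_lit 3, nat_lit 4, nat_lit 0, nat_lit 3] else [nat_lit 2, nat_lit 5, nat_lit 4, nat_lit 1, nat_lit 4, nat_lit 2, nat_lit 5, nat_lit 4, nat_lit 1, nat_lit 4, nat_lit 2, nat_lit 5, nat_lit 4, nat_lit 1, nat_lit 4]
def Wt_416_420 (j : ℕ) : List ℕ := bif Nat.blt j 418 then (Wt_416_418 j) else (Wt_418_420 j)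
def Wt_420_422 (j : ℕ) : List ℕ := bif Nat.blt j 421 then [nat_lit 2, nat_lit 3, nat_lit 1, nat_lit 0, nat_lit 4, nat_lit 3, nat_lit 4, nat_lit 2, nat_lit 3, nat_lit 4, nat_lit 1, nat_lit 4, nat_lit 0, nat_lit 1, nat_lit 0, nat_lit 4, nat_lit 1] else [nat_lit 2, nat_lit 1, nat_lit 4, nat_lit 1, nat_lit 2, nat_lit 4, nat_lit 2, nat_lit 4, nat_lit 2, nat_lit 1, nat_lit 4, nat_lit 1, nat_lit 4, nat_lit 2, nat_lit 4, nat_lit 3, nat_lit 4]
def Wt_423_425 (j : ℕ) : List ℕ := bif Nat.blt j 424 then [nat_lit 4, nat_lit 3, nat_lit 2, nat_lit 4, nat_lit 1, nat_lit 3, nat_lit 0, nat_lit 3, nat_lit 4, nat_lit 2, nat_lit 3, nat_lit 4, nat_lit 2, nat_lit 4, nat_lit 1, nat_lit 4, nat_lit 2] else [nat_lit 63, nat_lit 1, nat_lit 4, nat_lit 2, nat_lit 3, nat_lit 4, nat_lit 2, nat_lit 4, nat_lit 1, nat_lit 4, nat_lit 2, nat_lit 4, nat_lit 3, nat_lit 2, nat_lit 4, nat_lit 3, nat_lit 0, nat_lit 3]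
def Wt_422_425 (j : ℕ) : List ℕ := bif Nat.blt j 423 then [nat_lit 2, nat_lit 3, nat_lit 4, nat_lit 2, nat_lit 4, nat_lit 1, nat_lit 4, nat_lit 2, nat_lit 4, nat_lit 3, nat_lit 2, nat_lit 4, nat_lit 1, nat_lit 3, nat_lit 0, nat_lit 3, nat_lit 4] else (Wt_423_425 j)
def Wt_420_425 (j : ℕ) : List ℕ := bif Nat.blt j 422 then (Wt_420_422 j) else (Wt_422_425 j)
def Wt_416_425 (j : ℕ) : List ℕ := bif Nat.blt j 420 then (Wt_416_420 j) else (Wt_420_425 j)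
def Wt_408_425 (j : ℕ) : List ℕ := bif Nat.blt j 416 then (Wt_408_416 j) else (Wt_416_425 j)
def Wt_425_427 (j : ℕ) : List ℕ := bif Nat.blt j 426 then [nat_lit 63, nat_lit 1, nat_lit 4, nat_lit 5, nat_lit 7, nat_lit 5, nat_lit 4, nat_lit 3, nat_lit 4, nat_lit 0, nat_lit 3, nat_lit 4, nat_lit 5, nat_lit 3, nat_lit 4, nat_lit 0] else [nat_lit 4, nat_lit 3, nat_lit 4, nat_lit 1, nat_lit 4, nat_lit 1, nat_lit 4, nat_lit 1, nat_lit 4, nat_lit 1, nat_lit 3, nat_lit 4, nat_lit 3, nat_lit 4, nat_lit 3]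
def Wt_427_429 (j : ℕ) : List ℕ := bif Nat.blt j 428 then [nat_lit 1, nat_lit 4, nat_lit 1, nat_lit 4, nat_lit 1, nat_lit 4, nat_lit 1, nat_lit 3, nat_lit 4, nat_lit 3, nat_lit 4, nat_lit 3, nat_lit 4, nat_lit 3, nat_lit 4] else [nat_lit 63, nat_lit 1, nat_lit 4, nat_lit 0, nat_lit 4, nat_lit 1, nat_lit 4, nat_lit 2, nat_lit 1, nat_lit 4, nat_lit 1, nat_lit 4, nat_lit 3, nat_lit 2, nat_lit 0, nat_lit 3, nat_lit 1, nat_lit 4]
def Wt_425_429 (j : ℕ) : List ℕ := bif Nat.blt j 427 then (Wt_425_427 j) else (Wt_427_429 j)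
def Wt_429_431 (j : ℕ) : List ℕ := bif Nat.blt j 430 then [nat_lit 63, nat_lit 4, nat_lit 3, nat_lit 4, nat_lit 2, nat_lit 4, nat_lit 1, nat_lit 2, nat_lit 1, nat_lit 3, nat_lit 0, nat_lit 3, nat_lit 4, nat_lit 3, nat_lit 4, nat_lit 2, nat_lit 4, nat_lit 2] else [nat_lit 63, nat_lit 4, nat_lit 2, nat_lit 4, nat_lit 3, nat_lit 4, nat_lit 1, nat_lit 2, nat_lit 1, nat_lit 3, nat_lit 0, nat_lit 3, nat_lit 4, nat_lit 2, nat_lit 4, nat_lit 3, nat_lit 4, nat_lit 2]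
def Wt_431_433 (j : ℕ) : List ℕ := bif Nat.blt j 432 then [nat_lit 63, nat_lit 3, nat_lit 4, nat_lit 2, nat_lit 4, nat_lit 1, nat_lit 2, nat_lit 1, nat_lit 3, nat_lit 0, nat_lit 3, nat_lit 4, nat_lit 3, nat_lit 4, nat_lit 2, nat_lit 4, nat_lit 2, nat_lit 4] else [nat_lit 0, nat_lit 1, nat_lit 2, nat_lit 1, nat_lit 3, nat_lit 2, nat_lit 1, nat_lit 0, nat_lit 1, nat_lit 2, nat_lit 1, nat_lit 3, nat_lit 2, nat_lit 1, nat_lit 0, nat_lit 1, nat_lit 2, nat_lit 1, nat_lit 3, nat_lit 2, nat_lit 1]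
def Wt_429_433 (j : ℕ) : List ℕ := bif Nat.blt j 431 then (Wt_429_431 j) else (Wt_431_433 j)
def Wt_425_433 (j : ℕ) : List ℕ := bif Nat.blt j 429 then (Wt_425_429 j) else (Wt_429_433 j)
def Wt_433_435 (j : ℕ) : List ℕ := bif Nat.blt j 434 then [nat_lit 1, nat_lit 4, nat_lit 3, nat_lit 1, nat_lit 4, nat_lit 1, nat_lit 0, nat_lit 4, nat_lit 3, nat_lit 1, nat_lit 0, nat_lit 1, nat_lit 2, nat_lit 0, nat_lit 1, nat_lit 4, nat_lit 0] else [nat_lit 3, nat_lit 4, nat_lit 1, nat_lit 0, nat_lit 4, nat_lit 1, nat_lit 0, nat_lit 2, nat_lit 1, nat_lit 0, nat_lit 1, nat_lit 3, nat_lit 4, nat_lit 0, nat_lit 1, nat_lit 4, nat_lit 1]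
def Wt_435_437 (j : ℕ) : List ℕ := bif Nat.blt j 436 then [nat_lit 1, nat_lit 4, nat_lit 1, nat_lit 0, nat_lit 4, nat_lit 3, nat_lit 1, nat_lit 0, nat_lit 1, nat_lit 2, nat_lit 0, nat_lit 1, nat_lit 4, nat_lit 0, nat_lit 1, nat_lit 4, nat_lit 3] else [nat_lit 4, nat_lit 3, nat_lit 4, nat_lit 2, nat_lit 3, nat_lit 4, nat_lit 1, nat_lit 4, nat_lit 0, nat_lit 1, nat_lit 0, nat_lit 4, nat_lit 1, nat_lit 2, nat_lit 3, nat_lit 1, nat_lit 0]
def Wt_433_437 (j : ℕ) : List ℕ := bif Nat.blt j 435 then (Wt_433_435 j) else (Wt_435_437 j)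
def Wt_437_439 (j : ℕ) : List ℕ := bif Nat.blt j 438 then [nat_lit 2, nat_lit 0, nat_lit 1, nat_lit 4, nat_lit 0, nat_lit 1, nat_lit 4, nat_lit 3, nat_lit 1, nat_lit 4, nat_lit 1, nat_lit 0, nat_lit 4, nat_lit 3, nat_lit 1, nat_lit 0, nat_lit 1] else [nat_lit 5, nat_lit 4, nat_lit 1, nat_lit 0, nat_lit 4, nat_lit 3, nat_lit 5, nat_lit 4, nat_lit 3, nat_lit 0, nat_lit 4, nat_lit 3, nat_lit 4, nat_lit 5, nat_lit 6]
def Wt_440_442 (j : ℕ) : List ℕ := bif Nat.blt j 441 then [nat_lit 4, nat_lit 3, nat_lit 2, nat_lit 4, nat_lit 1, nat_lit 0, nat_lit 4, nat_lit 1, nat_lit 2, nat_lit 1, nat_lit 4, nat_lit 1, nat_lit 2, nat_lit 1, nat_lit 4, nat_lit 0, nat_lit 1] else [nat_lit 1, nat_lit 3, nat_lit 2, nat_lit 1, nat_lit 4, nat_lit 0, nat_lit 1, nat_lit 0, nat_lit 4, nat_lit 1, nat_lit 4, nat_lit 3, nat_lit 2, nat_lit 4, nat_lit 3, nat_lit 4, nat_lit 0]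
def Wt_439_442 (j : ℕ) : List ℕ := bif Nat.blt j 440 then [nat_lit 0, nat_lit 4, nat_lit 3, nat_lit 4, nat_lit 5, nat_lit 6, nat_lit 5, nat_lit 4, nat_lit 1, nat_lit 0, nat_lit 4, nat_lit 3, nat_lit 5, nat_lit 4, nat_lit 3] else (Wt_440_442 j)
def Wt_437_442 (j : ℕ) : List ℕ := bif Nat.blt j 439 then (Wt_437_439 j) else (Wt_439_442 j)
def Wt_433_442 (j : ℕ) : List ℕ := bif Nat.blt j 437 then (Wt_433_437 j) else (Wt_437_442 j)
def Wt_425_442 (j : ℕ) : List ℕ := bif Nat.blt j 433 then (Wt_425_433 j) else (Wt_433_442 j)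
def Wt_408_442 (j : ℕ) : List ℕ := bif Nat.blt j 425 then (Wt_408_425 j) else (Wt_425_442 j)
def Wt_442_444 (j : ℕ) : List ℕ := bif Nat.blt j 443 then [nat_lit 3, nat_lit 2, nat_lit 4, nat_lit 3, nat_lit 4, nat_lit 0, nat_lit 1, nat_lit 3, nat_lit 2, nat_lit 1, nat_lit 4, nat_lit 0, nat_lit 1, nat_lit 0, nat_lit 4, nat_lit 1, nat_lit 4] else [nat_lit 1, nat_lit 0, nat_lit 1, nat_lit 3, nat_lit 4, nat_lit 0, nat_lit 1, nat_lit 4, nat_lit 1, nat_lit 3, nat_lit 4, nat_lit 1, nat_lit 0, nat_lit 4, nat_lit 1, nat_lit 0, nat_lit 2]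
def Wt_444_446 (j : ℕ) : List ℕ := bif Nat.blt j 445 then [nat_lit 4, nat_lit 2, nat_lit 3, nat_lit 4, nat_lit 2, nat_lit 4, nat_lit 1, nat_lit 4, nat_lit 2, nat_lit 4, nat_lit 3, nat_lit 2, nat_lit 4, nat_lit 3, nat_lit 0, nat_lit 3, nat_lit 1] else [nat_lit 0, nat_lit 3, nat_lit 4, nat_lit 3, nat_lit 4, nat_lit 2, nat_lit 4, nat_lit 2, nat_lit 4, nat_lit 3, nat_lit 4, nat_lit 2, nat_lit 4, nat_lit 1, nat_lit 2, nat_lit 1, nat_lit 3]
def Wt_442_446 (j : ℕ) : List ℕ := bif Nat.blt j 444 then (Wt_442_444 j) else (Wt_444_446 j)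
def Wt_446_448 (j : ℕ) : List ℕ := bif Nat.blt j 447 then [nat_lit 1, nat_lit 2, nat_lit 4, nat_lit 2, nat_lit 4, nat_lit 2, nat_lit 1, nat_lit 4, nat_lit 1, nat_lit 2, nat_lit 4, nat_lit 3, nat_lit 4, nat_lit 2, nat_lit 4, nat_lit 1, nat_lit 4] else [nat_lit 2, nat_lit 4, nat_lit 1, nat_lit 3, nat_lit 4, nat_lit 0, nat_lit 4, nat_lit 2, nat_lit 0, nat_lit 4, nat_lit 0, nat_lit 4, nat_lit 3, nat_lit 1, nat_lit 4, nat_lit 2, nat_lit 1]
def Wt_448_450 (j : ℕ) : List ℕ := bif Nat.blt j 449 then [nat_lit 4, nat_lit 0, nat_lit 1, nat_lit 4, nat_lit 1, nat_lit 3, nat_lit 4, nat_lit 1, nat_lit 0, nat_lit 4, nat_lit 1, nat_lit 0, nat_lit 2, nat_lit 1, nat_lit 0, nat_lit 1, nat_lit 3] else [nat_lit 3, nat_lit 4, nat_lit 2, nat_lit 4, nat_lit 2, nat_lit 4, nat_lit 3, nat_lit 4, nat_lit 2, nat_lit 4, nat_lit 1, nat_lit 2, nat_lit 1, nat_lit 3, nat_lit 0, nat_lit 3, nat_lit 4]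
def Wt_446_450 (j : ℕ) : List ℕ := bif Nat.blt j 448 then (Wt_446_448 j) else (Wt_448_450 j)
def Wt_442_450 (j : ℕ) : List ℕ := bif Nat.blt j 446 then (Wt_442_446 j) else (Wt_446_450 j)
def Wt_450_452 (j : ℕ) : List ℕ := bif Nat.blt j 451 then [nat_lit 2, nat_lit 4, nat_lit 2, nat_lit 1, nat_lit 4, nat_lit 1, nat_lit 2, nat_lit 4, nat_lit 3, nat_lit 4, nat_lit 2, nat_lit 4, nat_lit 1, nat_lit 4, nat_lit 1, nat_lit 2, nat_lit 4] else [nat_lit 1, nat_lit 3, nat_lit 4, nat_lit 0, nat_lit 4, nat_lit 2, nat_lit 0, nat_lit 4, nat_lit 0, nat_lit 4, nat_lit 3, nat_lit 1, nat_lit 4, nat_lit 2, nat_lit 1, nat_lit 2, nat_lit 4]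
def Wt_452_454 (j : ℕ) : List ℕ := bif Nat.blt j 453 then [nat_lit 2, nat_lit 4, nat_lit 2, nat_lit 4, nat_lit 2, nat_lit 1, nat_lit 4, nat_lit 1, nat_lit 2, nat_lit 4, nat_lit 3, nat_lit 4, nat_lit 2, nat_lit 4, nat_lit 1, nat_lit 4, nat_lit 1] else [nat_lit 1, nat_lit 2, nat_lit 3, nat_lit 1, nat_lit 2, nat_lit 1, nat_lit 0, nat_lit 1, nat_lit 2, nat_lit 3, nat_lit 1, nat_lit 2, nat_lit 1, nat_lit 0, nat_lit 1, nat_lit 2, nat_lit 3, nat_lit 1, nat_lit 2, nat_lit 1, nat_lit 0]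
def Wt_450_454 (j : ℕ) : List ℕ := bif Nat.blt j 452 then (Wt_450_452 j) else (Wt_452_454 j)
def Wt_454_456 (j : ℕ) : List ℕ := bif Nat.blt j 455 then [nat_lit 63, nat_lit 0, nat_lit 1, nat_lit 2, nat_lit 1, nat_lit 0, nat_lit 1, nat_lit 2, nat_lit 1, nat_lit 0, nat_lit 1, nat_lit 2, nat_lit 1] else [nat_lit 3, nat_lit 1, nat_lit 2, nat_lit 1, nat_lit 0, nat_lit 1, nat_lit 3, nat_lit 1, nat_lit 2, nat_lit 1, nat_lit 0, nat_lit 1, nat_lit 3, nat_lit 1, nat_lit 2, nat_lit 1, nat_lit 0, nat_lit 1]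
def Wt_457_459 (j : ℕ) : List ℕ := bif Nat.blt j 458 then [nat_lit 63, nat_lit 1, nat_lit 0, nat_lit 1, nat_lit 2, nat_lit 3, nat_lit 1, nat_lit 2, nat_lit 1, nat_lit 0, nat_lit 1, nat_lit 2, nat_lit 3, nat_lit 1, nat_lit 2, nat_lit 1, nat_lit 0, nat_lit 1, nat_lit 2, nat_lit 3, nat_lit 1, nat_lit 2] else [nat_lit 1, nat_lit 3, nat_lit 0, nat_lit 1, nat_lit 0, nat_lit 3, nat_lit 1, nat_lit 4, nat_lit 1, nat_lit 3, nat_lit 0, nat_lit 1, nat_lit 0, nat_lit 3, nat_lit 1, nat_lit 4]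
def Wt_456_459 (j : ℕ) : List ℕ := bif Nat.blt j 457 then [nat_lit 63, nat_lit 1, nat_lit 5, nat_lit 1, nat_lit 5] else (Wt_457_459 j)
def Wt_454_459 (j : ℕ) : List ℕ := bif Nat.blt j 456 then (Wt_454_456 j) else (Wt_456_459 j)
def Wt_450_459 (j : ℕ) : List ℕ := bif Nat.blt j 454 then (Wt_450_454 j) else (Wt_454_459 j)
def Wt_442_459 (j : ℕ) : List ℕ := bif Nat.blt j 450 then (Wt_442_450 j) else (Wt_450_459 j)
def Wt_459_461 (j : ℕ) : List ℕ := bif Nat.blt j 460 then [nat_lit 2, nat_lit 1, nat_lit 4, nat_lit 3, nat_lit 4, nat_lit 2, nat_lit 4, nat_lit 2, nat_lit 4, nat_lit 3, nat_lit 4, nat_lit 2, nat_lit 4, nat_lit 3, nat_lit 0, nat_lit 3, nat_lit 1] else [nat_lit 2, nat_lit 4, nat_lit 2, nat_lit 1, nat_lit 4, nat_lit 1, nat_lit 4, nat_lit 2, nat_lit 4, nat_lit 3, nat_lit 4, nat_lit 2, nat_lit 1, nat_lit 4, nat_lit 1, nat_lit 2, nat_lit 4]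
def Wt_461_463 (j : ℕ) : List ℕ := bif Nat.blt j 462 then [nat_lit 63, nat_lit 3, nat_lit 4, nat_lit 3, nat_lit 4, nat_lit 2, nat_lit 4, nat_lit 2, nat_lit 4, nat_lit 3, nat_lit 4, nat_lit 2, nat_lit 4, nat_lit 1, nat_lit 2, nat_lit 1, nat_lit 3, nat_lit 0] else [nat_lit 0, nat_lit 4, nat_lit 3, nat_lit 1, nat_lit 0, nat_lit 1, nat_lit 2, nat_lit 0, nat_lit 1, nat_lit 4, nat_lit 0, nat_lit 1, nat_lit 4, nat_lit 3, nat_lit 1, nat_lit 4, nat_lit 1]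
def Wt_459_463 (j : ℕ) : List ℕ := bif Nat.blt j 461 then (Wt_459_461 j) else (Wt_461_463 j)
def Wt_463_465 (j : ℕ) : List ℕ := bif Nat.blt j 464 then [nat_lit 4, nat_lit 0, nat_lit 1, nat_lit 4, nat_lit 3, nat_lit 1, nat_lit 4, nat_lit 1, nat_lit 0, nat_lit 4, nat_lit 3, nat_lit 1, nat_lit 0, nat_lit 1, nat_lit 2, nat_lit 0, nat_lit 1] else [nat_lit 63, nat_lit 5, nat_lit 2, nat_lit 5, nat_lit 2]
def Wt_465_467 (j : ℕ) : List ℕ := bif Nat.blt j 466 then [nat_lit 63, nat_lit 1, nat_lit 4, nat_lit 3, nat_lit 1, nat_lit 4, nat_lit 1, nat_lit 0, nat_lit 4, nat_lit 3, nat_lit 1, nat_lit 0, nat_lit 1, nat_lit 2, nat_lit 0, nat_lit 1, nat_lit 4, nat_lit 0] else [nat_lit 1, nat_lit 0, nat_lit 1, nat_lit 3, nat_lit 1, nat_lit 2, nat_lit 1, nat_lit 0, nat_lit 1, nat_lit 3, nat_lit 1, nat_lit 2, nat_lit 1, nat_lit 0, nat_lit 1, nat_lit 3, nat_lit 1, nat_lit 2]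
def Wt_463_467 (j : ℕ) : List ℕ := bif Nat.blt j 465 then (Wt_463_465 j) else (Wt_465_467 j)
def Wt_459_467 (j : ℕ) : List ℕ := bif Nat.blt j 463 then (Wt_459_463 j) else (Wt_463_467 j)
def Wt_467_469 (j : ℕ) : List ℕ := bif Nat.blt j 468 then [nat_lit 1, nat_lit 0, nat_lit 1, nat_lit 2, nat_lit 1, nat_lit 3, nat_lit 2, nat_lit 1, nat_lit 0, nat_lit 1, nat_lit 2, nat_lit 1, nat_lit 3, nat_lit 2, nat_lit 1, nat_lit 0, nat_lit 1, nat_lit 2, nat_lit 1, nat_lit 3, nat_lit 2] else [nat_lit 1, nat_lit 4, nat_lit 1, nat_lit 2, nat_lit 4, nat_lit 3, nat_lit 4, nat_lit 2, nat_lit 4, nat_lit 1, nat_lit 4, nat_lit 1, nat_lit 2, nat_lit 4, nat_lit 2, nat_lit 4, nat_lit 2]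
def Wt_469_471 (j : ℕ) : List ℕ := bif Nat.blt j 470 then [nat_lit 63, nat_lit 3, nat_lit 1, nat_lit 2, nat_lit 1, nat_lit 0, nat_lit 1, nat_lit 2, nat_lit 3, nat_lit 1, nat_lit 2, nat_lit 1, nat_lit 0, nat_lit 1, nat_lit 2, nat_lit 3, nat_lit 1, nat_lit 2, nat_lit 1, nat_lit 0, nat_lit 1, nat_lit 2] else [nat_lit 2, nat_lit 1, nat_lit 3, nat_lit 1, nat_lit 0, nat_lit 1, nat_lit 2, nat_lit 1, nat_lit 3, nat_lit 1, nat_lit 0, nat_lit 1, nat_lit 2, nat_lit 1, nat_lit 3, nat_lit 1, nat_lit 0, nat_lit 1]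
def Wt_467_471 (j : ℕ) : List ℕ := bif Nat.blt j 469 then (Wt_467_469 j) else (Wt_469_471 j)
def Wt_471_473 (j : ℕ) : List ℕ := bif Nat.blt j 472 then [nat_lit 63, nat_lit 1, nat_lit 2, nat_lit 1, nat_lit 0, nat_lit 1, nat_lit 2, nat_lit 1, nat_lit 0, nat_lit 1, nat_lit 2, nat_lit 1, nat_lit 0] else [nat_lit 63, nat_lit 0, nat_lit 3, nat_lit 0, nat_lit 1, nat_lit 3, nat_lit 0, nat_lit 3, nat_lit 0, nat_lit 3, nat_lit 0, nat_lit 1, nat_lit 3, nat_lit 0, nat_lit 3, nat_lit 0, nat_lit 3, nat_lit 0, nat_lit 1, nat_lit 3, nat_lit 0, nat_lit 3]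
def Wt_474_476 (j : ℕ) : List ℕ := bif Nat.blt j 475 then [nat_lit 63, nat_lit 2, nat_lit 1, nat_lit 0, nat_lit 1, nat_lit 2, nat_lit 1, nat_lit 0, nat_lit 1, nat_lit 2, nat_lit 1, nat_lit 0, nat_lit 1] else [nat_lit 3, nat_lit 0, nat_lit 3, nat_lit 1, nat_lit 0, nat_lit 3, nat_lit 0, nat_lit 3, nat_lit 0, nat_lit 3, nat_lit 1, nat_lit 0, nat_lit 3, nat_lit 0, nat_lit 3, nat_lit 0, nat_lit 3, nat_lit 1, nat_lit 0, nat_lit 3, nat_lit 0]
def Wt_473_476 (j : ℕ) : List ℕ := bif Nat.blt j 474 then [nat_lit 63, nat_lit 0, nat_lit 3, nat_lit 1, nat_lit 0, nat_lit 3, nat_lit 0, nat_lit 3, nat_lit 0, nat_lit 3, nat_lit 1, nat_lit 0, nat_lit 3, nat_lit 0, nat_lit 3, nat_lit 0, nat_lit 3, nat_lit 1, nat_lit 0, nat_lit 3, nat_lit 0, nat_lit 3] else (Wt_474_476 j)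
def Wt_471_476 (j : ℕ) : List ℕ := bif Nat.blt j 473 then (Wt_471_473 j) else (Wt_473_476 j)
def Wt_467_476 (j : ℕ) : List ℕ := bif Nat.blt j 471 then (Wt_467_471 j) else (Wt_471_476 j)
def Wt_459_476 (j : ℕ) : List ℕ := bif Nat.blt j 467 then (Wt_459_467 j) else (Wt_467_476 j)
def Wt_442_476 (j : ℕ) : List ℕ := bif Nat.blt j 459 then (Wt_442_459 j) else (Wt_459_476 j)
def Wt_408_476 (j : ℕ) : List ℕ := bif Nat.blt j 442 then (Wt_408_442 j) else (Wt_442_476 j)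
def Wt_476_478 (j : ℕ) : List ℕ := bif Nat.blt j 477 then [nat_lit 3, nat_lit 4, nat_lit 0, nat_lit 4, nat_lit 2, nat_lit 0, nat_lit 4, nat_lit 0, nat_lit 4, nat_lit 3, nat_lit 1, nat_lit 4, nat_lit 2, nat_lit 1, nat_lit 2, nat_lit 4, nat_lit 1] else [nat_lit 4, nat_lit 2, nat_lit 1, nat_lit 4, nat_lit 1, nat_lit 2, nat_lit 4, nat_lit 2, nat_lit 4, nat_lit 2, nat_lit 1, nat_lit 4, nat_lit 1, nat_lit 4, nat_lit 2, nat_lit 4, nat_lit 3]
def Wt_478_480 (j : ℕ) : List ℕ := bif Nat.blt j 479 then [nat_lit 4, nat_lit 0, nat_lit 4, nat_lit 3, nat_lit 1, nat_lit 4, nat_lit 2, nat_lit 1, nat_lit 2, nat_lit 4, nat_lit 1, nat_lit 3, nat_lit 4, nat_lit 0, nat_lit 4, nat_lit 2, nat_lit 0] else [nat_lit 4, nat_lit 2, nat_lit 0, nat_lit 2, nat_lit 4, nat_lit 1, nat_lit 4, nat_lit 2, nat_lit 1, nat_lit 4, nat_lit 1, nat_lit 4, nat_lit 1, nat_lit 2, nat_lit 4, nat_lit 1]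
def Wt_476_480 (j : ℕ) : List ℕ := bif Nat.blt j 478 then (Wt_476_478 j) else (Wt_478_480 j)
def Wt_480_482 (j : ℕ) : List ℕ := bif Nat.blt j 481 then [nat_lit 63, nat_lit 4, nat_lit 2, nat_lit 0, nat_lit 4, nat_lit 1, nat_lit 4, nat_lit 2, nat_lit 0, nat_lit 4, nat_lit 1, nat_lit 4, nat_lit 0, nat_lit 2, nat_lit 4, nat_lit 1] else [nat_lit 0, nat_lit 1, nat_lit 4, nat_lit 0, nat_lit 1, nat_lit 4, nat_lit 3, nat_lit 1, nat_lit 4, nat_lit 1, nat_lit 0, nat_lit 4, nat_lit 3, nat_lit 1, nat_lit 0, nat_lit 1, nat_lit 2]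
def Wt_482_484 (j : ℕ) : List ℕ := bif Nat.blt j 483 then [nat_lit 63, nat_lit 0, nat_lit 2, nat_lit 0, nat_lit 2] else [nat_lit 3, nat_lit 2, nat_lit 1, nat_lit 0, nat_lit 1, nat_lit 2, nat_lit 1, nat_lit 3, nat_lit 2, nat_lit 1, nat_lit 0, nat_lit 1, nat_lit 2, nat_lit 1, nat_lit 3, nat_lit 2, nat_lit 1, nat_lit 0, nat_lit 1, nat_lit 2, nat_lit 1]
def Wt_480_484 (j : ℕ) : List ℕ := bif Nat.blt j 482 then (Wt_480_482 j) else (Wt_482_484 j)
def Wt_476_484 (j : ℕ) : List ℕ := bif Nat.blt j 480 then (Wt_476_480 j) else (Wt_480_484 j)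
def Wt_484_486 (j : ℕ) : List ℕ := bif Nat.blt j 485 then [nat_lit 4, nat_lit 2, nat_lit 1, nat_lit 4, nat_lit 3, nat_lit 4, nat_lit 1, nat_lit 2, nat_lit 4, nat_lit 3, nat_lit 1, nat_lit 3, nat_lit 1, nat_lit 3, nat_lit 1, nat_lit 3] else [nat_lit 4, nat_lit 0, nat_lit 1, nat_lit 0, nat_lit 4, nat_lit 1, nat_lit 4, nat_lit 3, nat_lit 2, nat_lit 4, nat_lit 3, nat_lit 4, nat_lit 0, nat_lit 1, nat_lit 3, nat_lit 2, nat_lit 1]
def Wt_486_488 (j : ℕ) : List ℕ := bif Nat.blt j 487 then [nat_lit 3, nat_lit 0, nat_lit 3, nat_lit 4, nat_lit 2, nat_lit 3, nat_lit 4, nat_lit 2, nat_lit 4, nat_lit 1, nat_lit 4, nat_lit 2, nat_lit 4, nat_lit 3, nat_lit 2, nat_lit 4, nat_lit 1] else [nat_lit 0, nat_lit 1, nat_lit 0, nat_lit 4, nat_lit 1, nat_lit 2, nat_lit 3, nat_lit 1, nat_lit 0, nat_lit 4, nat_lit 3, nat_lit 4, nat_lit 2, nat_lit 3, nat_lit 4, nat_lit 1, nat_lit 4]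
def Wt_484_488 (j : ℕ) : List ℕ := bif Nat.blt j 486 then (Wt_484_486 j) else (Wt_486_488 j)
def Wt_488_490 (j : ℕ) : List ℕ := bif Nat.blt j 489 then [nat_lit 2, nat_lit 1, nat_lit 3, nat_lit 2, nat_lit 1, nat_lit 0, nat_lit 1, nat_lit 2, nat_lit 1, nat_lit 3, nat_lit 2, nat_lit 1, nat_lit 0, nat_lit 1, nat_lit 2, nat_lit 1, nat_lit 3, nat_lit 2, nat_lit 1, nat_lit 0, nat_lit 1] else [nat_lit 63, nat_lit 0, nat_lit 1, nat_lit 2, nat_lit 1, nat_lit 3, nat_lit 2, nat_lit 1, nat_lit 0, nat_lit 1, nat_lit 2, nat_lit 1, nat_lit 3, nat_lit 2, nat_lit 1, nat_lit 0, nat_lit 1, nat_lit 2, nat_lit 1, nat_lit 3, nat_lit 2, nat_lit 1]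
def Wt_491_493 (j : ℕ) : List ℕ := bif Nat.blt j 492 then [nat_lit 63, nat_lit 2, nat_lit 1, nat_lit 0, nat_lit 1, nat_lit 2, nat_lit 1, nat_lit 3, nat_lit 2, nat_lit 1, nat_lit 0, nat_lit 1, nat_lit 2, nat_lit 1, nat_lit 3, nat_lit 2, nat_lit 1, nat_lit 0, nat_lit 1, nat_lit 2, nat_lit 1, nat_lit 3] else [nat_lit 63, nat_lit 0, nat_lit 3, nat_lit 0, nat_lit 3, nat_lit 0, nat_lit 3, nat_lit 1, nat_lit 0, nat_lit 3, nat_lit 0, nat_lit 3, nat_lit 0, nat_lit 3, nat_lit 1, nat_lit 0, nat_lit 3, nat_lit 0, nat_lit 3, nat_lit 0, nat_lit 3, nat_lit 1]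
def Wt_490_493 (j : ℕ) : List ℕ := bif Nat.blt j 491 then [nat_lit 63, nat_lit 0, nat_lit 1, nat_lit 2, nat_lit 0, nat_lit 3, nat_lit 2, nat_lit 0, nat_lit 1, nat_lit 2, nat_lit 0, nat_lit 3, nat_lit 2, nat_lit 0, nat_lit 1, nat_lit 2, nat_lit 0, nat_lit 3, nat_lit 2] else (Wt_491_493 j)
def Wt_488_493 (j : ℕ) : List ℕ := bif Nat.blt j 490 then (Wt_488_490 j) else (Wt_490_493 j)
def Wt_484_493 (j : ℕ) : List ℕ := bif Nat.blt j 488 then (Wt_484_488 j) else (Wt_488_493 j)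
def Wt_476_493 (j : ℕ) : List ℕ := bif Nat.blt j 484 then (Wt_476_484 j) else (Wt_484_493 j)
def Wt_493_495 (j : ℕ) : List ℕ := bif Nat.blt j 494 then [nat_lit 63, nat_lit 3, nat_lit 0, nat_lit 3, nat_lit 1, nat_lit 2, nat_lit 3, nat_lit 0, nat_lit 3, nat_lit 1, nat_lit 2, nat_lit 3, nat_lit 0, nat_lit 3, nat_lit 1, nat_lit 2, nat_lit 3, nat_lit 0, nat_lit 3, nat_lit 1, nat_lit 2] else [nat_lit 63, nat_lit 3, nat_lit 2, nat_lit 1, nat_lit 0, nat_lit 1, nat_lit 2, nat_lit 1, nat_lit 3, nat_lit 2, nat_lit 1, nat_lit 0, nat_lit 1, nat_lit 2, nat_lit 1, nat_lit 3, nat_lit 2, nat_lit 1, nat_lit 0, nat_lit 1, nat_lit 2, nat_lit 1]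
def Wt_495_497 (j : ℕ) : List ℕ := bif Nat.blt j 496 then [nat_lit 2, nat_lit 1, nat_lit 0, nat_lit 1, nat_lit 2, nat_lit 0, nat_lit 2, nat_lit 1, nat_lit 0, nat_lit 1, nat_lit 2, nat_lit 0, nat_lit 2, nat_lit 1, nat_lit 0, nat_lit 1, nat_lit 2, nat_lit 0] else [nat_lit 0, nat_lit 1, nat_lit 2, nat_lit 0, nat_lit 3, nat_lit 2, nat_lit 0, nat_lit 1, nat_lit 2, nat_lit 0, nat_lit 3, nat_lit 2, nat_lit 0, nat_lit 1, nat_lit 2, nat_lit 0, nat_lit 3, nat_lit 2]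
def Wt_493_497 (j : ℕ) : List ℕ := bif Nat.blt j 495 then (Wt_493_495 j) else (Wt_495_497 j)
def Wt_497_499 (j : ℕ) : List ℕ := bif Nat.blt j 498 then [nat_lit 63, nat_lit 1, nat_lit 0, nat_lit 2, nat_lit 1, nat_lit 0, nat_lit 1, nat_lit 3, nat_lit 4, nat_lit 0, nat_lit 1, nat_lit 4, nat_lit 1, nat_lit 3, nat_lit 4, nat_lit 1, nat_lit 0, nat_lit 4] else [nat_lit 63, nat_lit 4, nat_lit 1, nat_lit 0, nat_lit 4, nat_lit 3, nat_lit 1, nat_lit 0, nat_lit 1, nat_lit 2, nat_lit 0, nat_lit 1, nat_lit 4, nat_lit 0, nat_lit 1, nat_lit 4, nat_lit 3, nat_lit 1]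
def Wt_499_501 (j : ℕ) : List ℕ := bif Nat.blt j 500 then [nat_lit 63, nat_lit 3, nat_lit 63, nat_lit 3, nat_lit 63] else [nat_lit 63, nat_lit 1, nat_lit 63, nat_lit 1, nat_lit 63]
def Wt_497_501 (j : ℕ) : List ℕ := bif Nat.blt j 499 then (Wt_497_499 j) else (Wt_499_501 j)
def Wt_493_501 (j : ℕ) : List ℕ := bif Nat.blt j 497 then (Wt_493_497 j) else (Wt_497_501 j)
def Wt_501_503 (j : ℕ) : List ℕ := bif Nat.blt j 502 then [nat_lit 63, nat_lit 2, nat_lit 63, nat_lit 2, nat_lit 63] else [nat_lit 63, nat_lit 4, nat_lit 2, nat_lit 0, nat_lit 2, nat_lit 4, nat_lit 1, nat_lit 4, nat_lit 2, nat_lit 1, nat_lit 4, nat_lit 1, nat_lit 4, nat_lit 1, nat_lit 2, nat_lit 4, nat_lit 1]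
def Wt_503_505 (j : ℕ) : List ℕ := bif Nat.blt j 504 then [nat_lit 0, nat_lit 3, nat_lit 0, nat_lit 4, nat_lit 3, nat_lit 0, nat_lit 4, nat_lit 3, nat_lit 4, nat_lit 3, nat_lit 2, nat_lit 4, nat_lit 3, nat_lit 4, nat_lit 0, nat_lit 3, nat_lit 4] else [nat_lit 3, nat_lit 1, nat_lit 3, nat_lit 1, nat_lit 3, nat_lit 1, nat_lit 3, nat_lit 4, nat_lit 2, nat_lit 1, nat_lit 4, nat_lit 3, nat_lit 4, nat_lit 1, nat_lit 2, nat_lit 4]
def Wt_501_505 (j : ℕ) : List ℕ := bif Nat.blt j 503 then (Wt_501_503 j) else (Wt_503_505 j)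
def Wt_505_507 (j : ℕ) : List ℕ := bif Nat.blt j 506 then [nat_lit 1, nat_lit 4, nat_lit 0, nat_lit 1, nat_lit 4, nat_lit 3, nat_lit 2, nat_lit 4, nat_lit 1, nat_lit 0, nat_lit 4, nat_lit 1, nat_lit 2, nat_lit 1, nat_lit 4, nat_lit 1, nat_lit 2] else [nat_lit 4, nat_lit 2, nat_lit 4, nat_lit 2, nat_lit 1, nat_lit 4, nat_lit 1, nat_lit 2, nat_lit 4, nat_lit 3, nat_lit 4, nat_lit 2, nat_lit 4, nat_lit 1, nat_lit 4, nat_lit 1, nat_lit 2]
def Wt_508_510 (j : ℕ) : List ℕ := bif Nat.blt j 509 then [nat_lit 63, nat_lit 3, nat_lit 4, nat_lit 2, nat_lit 4, nat_lit 1, nat_lit 4, nat_lit 2, nat_lit 4, nat_lit 3, nat_lit 2, nat_lit 4, nat_lit 1, nat_lit 3, nat_lit 0, nat_lit 3, nat_lit 4, nat_lit 2] else [nat_lit 63, nat_lit 1, nat_lit 4, nat_lit 1, nat_lit 4, nat_lit 3, nat_lit 4, nat_lit 3, nat_lit 4, nat_lit 3, nat_lit 4, nat_lit 3, nat_lit 1, nat_lit 4, nat_lit 1, nat_lit 4]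
def Wt_507_510 (j : ℕ) : List ℕ := bif Nat.blt j 508 then [nat_lit 63, nat_lit 4, nat_lit 2, nat_lit 1, nat_lit 4, nat_lit 1, nat_lit 2, nat_lit 4, nat_lit 3, nat_lit 4, nat_lit 2, nat_lit 4, nat_lit 1, nat_lit 4, nat_lit 1, nat_lit 2, nat_lit 4, nat_lit 2] else (Wt_508_510 j)
def Wt_505_510 (j : ℕ) : List ℕ := bif Nat.blt j 507 then (Wt_505_507 j) else (Wt_507_510 j)
def Wt_501_510 (j : ℕ) : List ℕ := bif Nat.blt j 505 then (Wt_501_505 j) else (Wt_505_510 j)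
def Wt_493_510 (j : ℕ) : List ℕ := bif Nat.blt j 501 then (Wt_493_501 j) else (Wt_501_510 j)
def Wt_476_510 (j : ℕ) : List ℕ := bif Nat.blt j 493 then (Wt_476_493 j) else (Wt_493_510 j)
def Wt_510_512 (j : ℕ) : List ℕ := bif Nat.blt j 511 then [nat_lit 63, nat_lit 4, nat_lit 3, nat_lit 0, nat_lit 4, nat_lit 3, nat_lit 4, nat_lit 2, nat_lit 3, nat_lit 4, nat_lit 3, nat_lit 4, nat_lit 0, nat_lit 3, nat_lit 4, nat_lit 0, nat_lit 3, nat_lit 0] else [nat_lit 63, nat_lit 4, nat_lit 2, nat_lit 4, nat_lit 2, nat_lit 4, nat_lit 3, nat_lit 4, nat_lit 3, nat_lit 0, nat_lit 3, nat_lit 1, nat_lit 2, nat_lit 1, nat_lit 4, nat_lit 2, nat_lit 4, nat_lit 3]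
def Wt_512_514 (j : ℕ) : List ℕ := bif Nat.blt j 513 then [nat_lit 63, nat_lit 2, nat_lit 3, nat_lit 1, nat_lit 0, nat_lit 4, nat_lit 3, nat_lit 4, nat_lit 2, nat_lit 3, nat_lit 4, nat_lit 1, nat_lit 4, nat_lit 0, nat_lit 1, nat_lit 0, nat_lit 4, nat_lit 1] else [nat_lit 2, nat_lit 1, nat_lit 4, nat_lit 1, nat_lit 2, nat_lit 1, nat_lit 4, nat_lit 0, nat_lit 1, nat_lit 4, nat_lit 3, nat_lit 2, nat_lit 4, nat_lit 1, nat_lit 0, nat_lit 4, nat_lit 1]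
def Wt_510_514 (j : ℕ) : List ℕ := bif Nat.blt j 512 then (Wt_510_512 j) else (Wt_512_514 j)
def Wt_514_516 (j : ℕ) : List ℕ := bif Nat.blt j 515 then [nat_lit 63, nat_lit 3, nat_lit 4, nat_lit 2, nat_lit 3, nat_lit 4, nat_lit 2, nat_lit 4, nat_lit 1, nat_lit 4, nat_lit 2, nat_lit 4, nat_lit 3, nat_lit 2, nat_lit 4, nat_lit 1, nat_lit 3, nat_lit 0] else [nat_lit 63, nat_lit 3, nat_lit 2, nat_lit 0, nat_lit 1, nat_lit 2, nat_lit 0, nat_lit 3, nat_lit 2, nat_lit 0, nat_lit 1, nat_lit 2, nat_lit 0, nat_lit 3, nat_lit 2, nat_lit 0, nat_lit 1, nat_lit 2, nat_lit 0]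
def Wt_516_518 (j : ℕ) : List ℕ := bif Nat.blt j 517 then [nat_lit 63, nat_lit 0, nat_lit 1, nat_lit 2, nat_lit 1, nat_lit 0, nat_lit 2, nat_lit 0, nat_lit 1, nat_lit 2, nat_lit 1, nat_lit 0, nat_lit 2] else [nat_lit 63, nat_lit 1, nat_lit 2, nat_lit 1, nat_lit 0, nat_lit 1, nat_lit 3, nat_lit 1, nat_lit 2, nat_lit 1, nat_lit 0, nat_lit 1, nat_lit 3, nat_lit 1, nat_lit 2, nat_lit 1, nat_lit 0, nat_lit 1, nat_lit 3]
def Wt_514_518 (j : ℕ) : List ℕ := bif Nat.blt j 516 then (Wt_514_516 j) else (Wt_516_518 j)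
def Wt_510_518 (j : ℕ) : List ℕ := bif Nat.blt j 514 then (Wt_510_514 j) else (Wt_514_518 j)
def Wt_518_520 (j : ℕ) : List ℕ := bif Nat.blt j 519 then [nat_lit 3, nat_lit 2, nat_lit 3, nat_lit 1, nat_lit 0, nat_lit 3, nat_lit 0, nat_lit 3, nat_lit 2, nat_lit 3, nat_lit 1, nat_lit 0, nat_lit 3, nat_lit 0, nat_lit 3, nat_lit 2, nat_lit 3, nat_lit 1, nat_lit 0, nat_lit 3, nat_lit 0] else [nat_lit 1, nat_lit 3, nat_lit 2, nat_lit 3, nat_lit 0, nat_lit 3, nat_lit 0, nat_lit 1, nat_lit 3, nat_lit 2, nat_lit 3, nat_lit 0, nat_lit 3, nat_lit 0, nat_lit 1, nat_lit 3, nat_lit 2, nat_lit 3, nat_lit 0, nat_lit 3, nat_lit 0]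
def Wt_520_522 (j : ℕ) : List ℕ := bif Nat.blt j 521 then [nat_lit 63, nat_lit 1, nat_lit 0, nat_lit 1, nat_lit 3, nat_lit 1, nat_lit 2, nat_lit 1, nat_lit 0, nat_lit 1, nat_lit 3, nat_lit 1, nat_lit 2, nat_lit 1, nat_lit 0, nat_lit 1, nat_lit 3, nat_lit 1, nat_lit 2] else [nat_lit 63, nat_lit 1, nat_lit 2, nat_lit 1, nat_lit 2, nat_lit 1, nat_lit 2, nat_lit 1, nat_lit 2]
def Wt_518_522 (j : ℕ) : List ℕ := bif Nat.blt j 520 then (Wt_518_520 j) else (Wt_520_522 j)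
def Wt_522_524 (j : ℕ) : List ℕ := bif Nat.blt j 523 then [nat_lit 63, nat_lit 2, nat_lit 1, nat_lit 3, nat_lit 2, nat_lit 1, nat_lit 0, nat_lit 1, nat_lit 2, nat_lit 1, nat_lit 3, nat_lit 2, nat_lit 1, nat_lit 0, nat_lit 1, nat_lit 2, nat_lit 1, nat_lit 3, nat_lit 2, nat_lit 1, nat_lit 0, nat_lit 1] else [nat_lit 63, nat_lit 2, nat_lit 1, nat_lit 3, nat_lit 1, nat_lit 0, nat_lit 1, nat_lit 2, nat_lit 1, nat_lit 3, nat_lit 1, nat_lit 0, nat_lit 1, nat_lit 2, nat_lit 1, nat_lit 3, nat_lit 1, nat_lit 0, nat_lit 1]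
def Wt_525_527 (j : ℕ) : List ℕ := bif Nat.blt j 526 then [nat_lit 63, nat_lit 3, nat_lit 1, nat_lit 0, nat_lit 1, nat_lit 2, nat_lit 1, nat_lit 3, nat_lit 1, nat_lit 0, nat_lit 1, nat_lit 2, nat_lit 1, nat_lit 3, nat_lit 1, nat_lit 0, nat_lit 1, nat_lit 2, nat_lit 1] else [nat_lit 3, nat_lit 0, nat_lit 1, nat_lit 3, nat_lit 0, nat_lit 3, nat_lit 0, nat_lit 3, nat_lit 0, nat_lit 1, nat_lit 3, nat_lit 0, nat_lit 3, nat_lit 0, nat_lit 3, nat_lit 0, nat_lit 1, nat_lit 3, nat_lit 0, nat_lit 3, nat_lit 0]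
def Wt_524_527 (j : ℕ) : List ℕ := bif Nat.blt j 525 then [nat_lit 63, nat_lit 2, nat_lit 1, nat_lit 0, nat_lit 2, nat_lit 0, nat_lit 1, nat_lit 2, nat_lit 1, nat_lit 0, nat_lit 2, nat_lit 0, nat_lit 1] else (Wt_525_527 j)
def Wt_522_527 (j : ℕ) : List ℕ := bif Nat.blt j 524 then (Wt_522_524 j) else (Wt_524_527 j)
def Wt_518_527 (j : ℕ) : List ℕ := bif Nat.blt j 522 then (Wt_518_522 j) else (Wt_522_527 j)
def Wt_510_527 (j : ℕ) : List ℕ := bif Nat.blt j 518 then (Wt_510_518 j) else (Wt_518_527 j)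
def Wt_527_529 (j : ℕ) : List ℕ := bif Nat.blt j 528 then [nat_lit 2, nat_lit 1, nat_lit 4, nat_lit 3, nat_lit 4, nat_lit 1, nat_lit 2, nat_lit 4, nat_lit 3, nat_lit 1, nat_lit 3, nat_lit 1, nat_lit 3, nat_lit 1, nat_lit 3, nat_lit 4] else [nat_lit 3, nat_lit 1, nat_lit 4, nat_lit 1, nat_lit 4, nat_lit 1, nat_lit 4, nat_lit 1, nat_lit 4, nat_lit 3, nat_lit 4, nat_lit 3, nat_lit 4, nat_lit 3, nat_lit 4]
def Wt_529_531 (j : ℕ) : List ℕ := bif Nat.blt j 530 then [nat_lit 2, nat_lit 0, nat_lit 4, nat_lit 0, nat_lit 4, nat_lit 3, nat_lit 1, nat_lit 4, nat_lit 2, nat_lit 1, nat_lit 2, nat_lit 4, nat_lit 1, nat_lit 3, nat_lit 4, nat_lit 0, nat_lit 4] else [nat_lit 2, nat_lit 0, nat_lit 4, nat_lit 2, nat_lit 0, nat_lit 4, nat_lit 0, nat_lit 2, nat_lit 4, nat_lit 0, nat_lit 2, nat_lit 4, nat_lit 0, nat_lit 3, nat_lit 2, nat_lit 3, nat_lit 4]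
def Wt_527_531 (j : ℕ) : List ℕ := bif Nat.blt j 529 then (Wt_527_529 j) else (Wt_529_531 j)
def Wt_531_533 (j : ℕ) : List ℕ := bif Nat.blt j 532 then [nat_lit 4, nat_lit 1, nat_lit 4, nat_lit 2, nat_lit 1, nat_lit 4, nat_lit 1, nat_lit 4, nat_lit 1, nat_lit 2, nat_lit 4, nat_lit 1, nat_lit 4, nat_lit 2, nat_lit 0, nat_lit 2] else [nat_lit 63, nat_lit 0, nat_lit 1, nat_lit 3, nat_lit 2, nat_lit 1, nat_lit 4, nat_lit 0, nat_lit 1, nat_lit 0, nat_lit 4, nat_lit 1, nat_lit 4, nat_lit 3, nat_lit 2, nat_lit 4, nat_lit 3, nat_lit 4]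
def Wt_533_535 (j : ℕ) : List ℕ := bif Nat.blt j 534 then [nat_lit 2, nat_lit 4, nat_lit 3, nat_lit 4, nat_lit 0, nat_lit 1, nat_lit 3, nat_lit 2, nat_lit 1, nat_lit 4, nat_lit 0, nat_lit 1, nat_lit 0, nat_lit 4, nat_lit 1, nat_lit 4, nat_lit 3] else [nat_lit 0, nat_lit 4, nat_lit 1, nat_lit 0, nat_lit 2, nat_lit 1, nat_lit 0, nat_lit 1, nat_lit 3, nat_lit 4, nat_lit 0, nat_lit 1, nat_lit 4, nat_lit 1, nat_lit 3, nat_lit 4, nat_lit 1]
def Wt_531_535 (j : ℕ) : List ℕ := bif Nat.blt j 533 then (Wt_531_533 j) else (Wt_533_535 j)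
def Wt_527_535 (j : ℕ) : List ℕ := bif Nat.blt j 531 then (Wt_527_531 j) else (Wt_531_535 j)
def Wt_535_537 (j : ℕ) : List ℕ := bif Nat.blt j 536 then [nat_lit 3, nat_lit 1, nat_lit 4, nat_lit 2, nat_lit 1, nat_lit 2, nat_lit 4, nat_lit 1, nat_lit 3, nat_lit 4, nat_lit 0, nat_lit 4, nat_lit 2, nat_lit 0, nat_lit 4, nat_lit 0, nat_lit 4] else [nat_lit 4, nat_lit 1, nat_lit 4, nat_lit 2, nat_lit 0, nat_lit 4, nat_lit 1, nat_lit 4, nat_lit 2, nat_lit 0, nat_lit 4, nat_lit 1, nat_lit 4, nat_lit 0, nat_lit 2]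
def Wt_537_539 (j : ℕ) : List ℕ := bif Nat.blt j 538 then [nat_lit 0, nat_lit 1, nat_lit 3, nat_lit 4, nat_lit 0, nat_lit 1, nat_lit 4, nat_lit 1, nat_lit 3, nat_lit 4, nat_lit 1, nat_lit 0, nat_lit 4, nat_lit 1, nat_lit 0, nat_lit 2, nat_lit 1] else [nat_lit 3, nat_lit 2, nat_lit 4, nat_lit 1, nat_lit 0, nat_lit 4, nat_lit 1, nat_lit 2, nat_lit 1, nat_lit 4, nat_lit 1, nat_lit 2, nat_lit 1, nat_lit 4, nat_lit 0, nat_lit 1, nat_lit 4]
def Wt_535_539 (j : ℕ) : List ℕ := bif Nat.blt j 537 then (Wt_535_537 j) else (Wt_537_539 j)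
def Wt_539_541 (j : ℕ) : List ℕ := bif Nat.blt j 540 then [nat_lit 63, nat_lit 3, nat_lit 4, nat_lit 1, nat_lit 4, nat_lit 1, nat_lit 2, nat_lit 4, nat_lit 1, nat_lit 4, nat_lit 0, nat_lit 4, nat_lit 1, nat_lit 4, nat_lit 1, nat_lit 3, nat_lit 0, nat_lit 2] else [nat_lit 63, nat_lit 2, nat_lit 4, nat_lit 3, nat_lit 4, nat_lit 2, nat_lit 4, nat_lit 2, nat_lit 4, nat_lit 3, nat_lit 4, nat_lit 3, nat_lit 0, nat_lit 3, nat_lit 1, nat_lit 2, nat_lit 1, nat_lit 4]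
def Wt_542_544 (j : ℕ) : List ℕ := bif Nat.blt j 543 then [nat_lit 63, nat_lit 4, nat_lit 3, nat_lit 4, nat_lit 3, nat_lit 4, nat_lit 3, nat_lit 4, nat_lit 3, nat_lit 4, nat_lit 3, nat_lit 4, nat_lit 3, nat_lit 4, nat_lit 3, nat_lit 4, nat_lit 3] else [nat_lit 63, nat_lit 4, nat_lit 2, nat_lit 4, nat_lit 2, nat_lit 4, nat_lit 3, nat_lit 4, nat_lit 2, nat_lit 4, nat_lit 3, nat_lit 0, nat_lit 3, nat_lit 1, nat_lit 2, nat_lit 1, nat_lit 4, nat_lit 3]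
def Wt_541_544 (j : ℕ) : List ℕ := bif Nat.blt j 542 then [nat_lit 63, nat_lit 2, nat_lit 4, nat_lit 2, nat_lit 4, nat_lit 2, nat_lit 4, nat_lit 2, nat_lit 4, nat_lit 2, nat_lit 4, nat_lit 2, nat_lit 4] else (Wt_542_544 j)
def Wt_539_544 (j : ℕ) : List ℕ := bif Nat.blt j 541 then (Wt_539_541 j) else (Wt_541_544 j)
def Wt_535_544 (j : ℕ) : List ℕ := bif Nat.blt j 539 then (Wt_535_539 j) else (Wt_539_544 j)
def Wt_527_544 (j : ℕ) : List ℕ := bif Nat.blt j 535 then (Wt_527_535 j) else (Wt_535_544 j)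
def Wt_510_544 (j : ℕ) : List ℕ := bif Nat.blt j 527 then (Wt_510_527 j) else (Wt_527_544 j)
def Wt_476_544 (j : ℕ) : List ℕ := bif Nat.blt j 510 then (Wt_476_510 j) else (Wt_510_544 j)
def Wt_408_544 (j : ℕ) : List ℕ := bif Nat.blt j 476 then (Wt_408_476 j) else (Wt_476_544 j)
def Wt_272_544 (j : ℕ) : List ℕ := bif Nat.blt j 408 then (Wt_272_408 j) else (Wt_408_544 j)
def Wt_0_544 (j : ℕ) : List ℕ := bif Nat.blt j 272 then (Wt_0_272 j) else (Wt_272_544 j)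
def Wt_544_546 (j : ℕ) : List ℕ := bif Nat.blt j 545 then [nat_lit 63, nat_lit 1, nat_lit 2, nat_lit 4, nat_lit 2, nat_lit 4, nat_lit 2, nat_lit 1, nat_lit 4, nat_lit 1, nat_lit 2, nat_lit 4, nat_lit 3, nat_lit 4, nat_lit 2, nat_lit 4, nat_lit 1, nat_lit 4] else [nat_lit 4, nat_lit 0, nat_lit 4, nat_lit 3, nat_lit 1, nat_lit 4, nat_lit 2, nat_lit 1, nat_lit 2, nat_lit 4, nat_lit 1, nat_lit 3, nat_lit 4, nat_lit 0, nat_lit 4, nat_lit 0, nat_lit 2]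
def Wt_546_548 (j : ℕ) : List ℕ := bif Nat.blt j 547 then [nat_lit 1, nat_lit 4, nat_lit 0, nat_lit 1, nat_lit 0, nat_lit 4, nat_lit 1, nat_lit 4, nat_lit 3, nat_lit 2, nat_lit 4, nat_lit 3, nat_lit 4, nat_lit 0, nat_lit 1, nat_lit 3, nat_lit 2] else [nat_lit 0, nat_lit 2, nat_lit 1, nat_lit 0, nat_lit 1, nat_lit 3, nat_lit 4, nat_lit 0, nat_lit 1, nat_lit 4, nat_lit 1, nat_lit 3, nat_lit 4, nat_lit 1, nat_lit 0, nat_lit 4, nat_lit 1]
def Wt_544_548 (j : ℕ) : List ℕ := bif Nat.blt j 546 then (Wt_544_546 j) else (Wt_546_548 j)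
def Wt_548_550 (j : ℕ) : List ℕ := bif Nat.blt j 549 then [nat_lit 3, nat_lit 4, nat_lit 2, nat_lit 4, nat_lit 1, nat_lit 4, nat_lit 1, nat_lit 2, nat_lit 4, nat_lit 2, nat_lit 4, nat_lit 2, nat_lit 1, nat_lit 4, nat_lit 1, nat_lit 2, nat_lit 4] else [nat_lit 4, nat_lit 1, nat_lit 2, nat_lit 4, nat_lit 1, nat_lit 4, nat_lit 2, nat_lit 0, nat_lit 2, nat_lit 4, nat_lit 1, nat_lit 4, nat_lit 2, nat_lit 1, nat_lit 4, nat_lit 1]
def Wt_550_552 (j : ℕ) : List ℕ := bif Nat.blt j 551 then [nat_lit 0, nat_lit 4, nat_lit 3, nat_lit 5, nat_lit 4, nat_lit 3, nat_lit 0, nat_lit 4, nat_lit 3, nat_lit 4, nat_lit 5, nat_lit 6, nat_lit 5, nat_lit 4, nat_lit 1] else [nat_lit 0, nat_lit 4, nat_lit 2, nat_lit 0, nat_lit 4, nat_lit 0, nat_lit 4, nat_lit 3, nat_lit 1, nat_lit 4, nat_lit 2, nat_lit 1, nat_lit 2, nat_lit 4, nat_lit 1, nat_lit 3, nat_lit 4]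
def Wt_548_552 (j : ℕ) : List ℕ := bif Nat.blt j 550 then (Wt_548_550 j) else (Wt_550_552 j)
def Wt_544_552 (j : ℕ) : List ℕ := bif Nat.blt j 548 then (Wt_544_548 j) else (Wt_548_552 j)
def Wt_552_554 (j : ℕ) : List ℕ := bif Nat.blt j 553 then [nat_lit 3, nat_lit 4, nat_lit 2, nat_lit 4, nat_lit 3, nat_lit 0, nat_lit 3, nat_lit 1, nat_lit 2, nat_lit 1, nat_lit 4, nat_lit 3, nat_lit 4, nat_lit 2, nat_lit 4, nat_lit 2, nat_lit 4] else [nat_lit 1, nat_lit 2, nat_lit 1, nat_lit 3, nat_lit 1, nat_lit 0, nat_lit 1, nat_lit 2, nat_lit 1, nat_lit 3, nat_lit 1, nat_lit 0, nat_lit 1, nat_lit 2, nat_lit 1, nat_lit 3, nat_lit 1, nat_lit 0]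
def Wt_554_556 (j : ℕ) : List ℕ := bif Nat.blt j 555 then [nat_lit 5, nat_lit 3, nat_lit 2, nat_lit 5, nat_lit 3] else [nat_lit 1, nat_lit 0, nat_lit 4, nat_lit 1, nat_lit 2, nat_lit 3, nat_lit 1, nat_lit 0, nat_lit 4, nat_lit 3, nat_lit 4, nat_lit 2, nat_lit 3, nat_lit 4, nat_lit 1, nat_lit 4, nat_lit 0]
def Wt_552_556 (j : ℕ) : List ℕ := bif Nat.blt j 554 then (Wt_552_554 j) else (Wt_554_556 j)
def Wt_556_558 (j : ℕ) : List ℕ := bif Nat.blt j 557 then [nat_lit 63, nat_lit 4, nat_lit 1, nat_lit 4, nat_lit 0, nat_lit 4, nat_lit 1, nat_lit 4, nat_lit 2, nat_lit 1, nat_lit 4, nat_lit 1, nat_lit 4, nat_lit 3, nat_lit 2, nat_lit 0, nat_lit 3, nat_lit 1] else [nat_lit 1, nat_lit 4, nat_lit 2, nat_lit 4, nat_lit 3, nat_lit 2, nat_lit 4, nat_lit 3, nat_lit 0, nat_lit 3, nat_lit 1, nat_lit 4, nat_lit 2, nat_lit 3, nat_lit 4, nat_lit 2, nat_lit 4]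
def Wt_559_561 (j : ℕ) : List ℕ := bif Nat.blt j 560 then [nat_lit 63, nat_lit 1, nat_lit 0, nat_lit 4, nat_lit 1, nat_lit 2, nat_lit 1, nat_lit 4, nat_lit 1, nat_lit 2, nat_lit 1, nat_lit 4, nat_lit 0, nat_lit 1, nat_lit 4, nat_lit 3, nat_lit 2, nat_lit 4] else [nat_lit 4, nat_lit 3, nat_lit 1, nat_lit 4, nat_lit 1, nat_lit 0, nat_lit 4, nat_lit 3, nat_lit 1, nat_lit 0, nat_lit 1, nat_lit 2, nat_lit 0, nat_lit 1, nat_lit 4, nat_lit 0, nat_lit 1]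
def Wt_558_561 (j : ℕ) : List ℕ := bif Nat.blt j 559 then [nat_lit 4, nat_lit 0, nat_lit 1, nat_lit 0, nat_lit 4, nat_lit 1, nat_lit 2, nat_lit 3, nat_lit 1, nat_lit 0, nat_lit 4, nat_lit 3, nat_lit 4, nat_lit 2, nat_lit 3, nat_lit 4, nat_lit 1] else (Wt_559_561 j)
def Wt_556_561 (j : ℕ) : List ℕ := bif Nat.blt j 558 then (Wt_556_558 j) else (Wt_558_561 j)
def Wt_552_561 (j : ℕ) : List ℕ := bif Nat.blt j 556 then (Wt_552_556 j) else (Wt_556_561 j)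
def Wt_544_561 (j : ℕ) : List ℕ := bif Nat.blt j 552 then (Wt_544_552 j) else (Wt_552_561 j)
def Wt_561_563 (j : ℕ) : List ℕ := bif Nat.blt j 562 then [nat_lit 1, nat_lit 2, nat_lit 1, nat_lit 0, nat_lit 1, nat_lit 3, nat_lit 1, nat_lit 2, nat_lit 1, nat_lit 0, nat_lit 1, nat_lit 3, nat_lit 1, nat_lit 2, nat_lit 1, nat_lit 0, nat_lit 1, nat_lit 3] else [nat_lit 63, nat_lit 0, nat_lit 4, nat_lit 1, nat_lit 2, nat_lit 3, nat_lit 1, nat_lit 0, nat_lit 4, nat_lit 3, nat_lit 4, nat_lit 2, nat_lit 3, nat_lit 4, nat_lit 1, nat_lit 4, nat_lit 0, nat_lit 1]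
def Wt_563_565 (j : ℕ) : List ℕ := bif Nat.blt j 564 then [nat_lit 0, nat_lit 3, nat_lit 0, nat_lit 4, nat_lit 3, nat_lit 0, nat_lit 4, nat_lit 3, nat_lit 4, nat_lit 2, nat_lit 3, nat_lit 4, nat_lit 3, nat_lit 4, nat_lit 0, nat_lit 3, nat_lit 4] else [nat_lit 4, nat_lit 3, nat_lit 4, nat_lit 0, nat_lit 3, nat_lit 4, nat_lit 0, nat_lit 3, nat_lit 0, nat_lit 4, nat_lit 3, nat_lit 0, nat_lit 4, nat_lit 3, nat_lit 4, nat_lit 2, nat_lit 3]
def Wt_561_565 (j : ℕ) : List ℕ := bif Nat.blt j 563 then (Wt_561_563 j) else (Wt_563_565 j)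
def Wt_565_567 (j : ℕ) : List ℕ := bif Nat.blt j 566 then [nat_lit 0, nat_lit 4, nat_lit 2, nat_lit 0, nat_lit 4, nat_lit 0, nat_lit 2, nat_lit 4, nat_lit 0, nat_lit 2, nat_lit 4, nat_lit 3, nat_lit 2, nat_lit 3, nat_lit 0, nat_lit 4, nat_lit 2] else [nat_lit 4, nat_lit 2, nat_lit 4, nat_lit 2, nat_lit 4, nat_lit 3, nat_lit 4, nat_lit 2, nat_lit 4, nat_lit 1, nat_lit 2, nat_lit 1, nat_lit 3, nat_lit 0, nat_lit 3, nat_lit 4, nat_lit 3]
def Wt_567_569 (j : ℕ) : List ℕ := bif Nat.blt j 568 then [nat_lit 3, nat_lit 0, nat_lit 3, nat_lit 0, nat_lit 3, nat_lit 1, nat_lit 0, nat_lit 3, nat_lit 0, nat_lit 3, nat_lit 0, nat_lit 3, nat_lit 1, nat_lit 0, nat_lit 3, nat_lit 0, nat_lit 3, nat_lit 0, nat_lit 3, nat_lit 1, nat_lit 0] else [nat_lit 63, nat_lit 2, nat_lit 4, nat_lit 2, nat_lit 4, nat_lit 2, nat_lit 1, nat_lit 4, nat_lit 1, nat_lit 2, nat_lit 4, nat_lit 3, nat_lit 4, nat_lit 2, nat_lit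 4, nat_lit 1, nat_lit 4, nat_lit 1]
def Wt_565_569 (j : ℕ) : List ℕ := bif Nat.blt j 567 then (Wt_565_567 j) else (Wt_567_569 j)
def Wt_561_569 (j : ℕ) : List ℕ := bif Nat.blt j 565 then (Wt_561_565 j) else (Wt_565_569 j)
def Wt_569_571 (j : ℕ) : List ℕ := bif Nat.blt j 570 then [nat_lit 63, nat_lit 3, nat_lit 4, nat_lit 3, nat_lit 1, nat_lit 4, nat_lit 1, nat_lit 4, nat_lit 1, nat_lit 4, nat_lit 1, nat_lit 4, nat_lit 3, nat_lit 4, nat_lit 3, nat_lit 4] else [nat_lit 1, nat_lit 4, nat_lit 1, nat_lit 4, nat_lit 1, nat_lit 4, nat_lit 1, nat_lit 4, nat_lit 1, nat_lit 4, nat_lit 1, nat_lit 4, nat_lit 1, nat_lit 4, nat_lit 1, nat_lit 4]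
def Wt_571_573 (j : ℕ) : List ℕ := bif Nat.blt j 572 then [nat_lit 63, nat_lit 0, nat_lit 3, nat_lit 4, nat_lit 2, nat_lit 3, nat_lit 4, nat_lit 2, nat_lit 4, nat_lit 1, nat_lit 4, nat_lit 2, nat_lit 4, nat_lit 3, nat_lit 2, nat_lit 4, nat_lit 1, nat_lit 3] else [nat_lit 3, nat_lit 4, nat_lit 2, nat_lit 4, nat_lit 1, nat_lit 4, nat_lit 2, nat_lit 4, nat_lit 3, nat_lit 2, nat_lit 4, nat_lit 1, nat_lit 3, nat_lit 0, nat_lit 3, nat_lit 4, nat_lit 2]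
def Wt_569_573 (j : ℕ) : List ℕ := bif Nat.blt j 571 then (Wt_569_571 j) else (Wt_571_573 j)
def Wt_573_575 (j : ℕ) : List ℕ := bif Nat.blt j 574 then [nat_lit 63, nat_lit 0, nat_lit 2, nat_lit 3, nat_lit 4, nat_lit 1, nat_lit 4, nat_lit 1, nat_lit 2, nat_lit 4, nat_lit 1, nat_lit 4, nat_lit 0, nat_lit 4, nat_lit 1, nat_lit 4, nat_lit 1, nat_lit 3] else [nat_lit 63, nat_lit 1, nat_lit 2, nat_lit 1, nat_lit 3, nat_lit 0, nat_lit 3, nat_lit 4, nat_lit 2, nat_lit 4, nat_lit 3, nat_lit 4, nat_lit 2, nat_lit 4, nat_lit 2, nat_lit 4, nat_lit 3, nat_lit 4]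
def Wt_576_578 (j : ℕ) : List ℕ := bif Nat.blt j 577 then [nat_lit 4, nat_lit 1, nat_lit 4, nat_lit 1, nat_lit 2, nat_lit 4, nat_lit 1, nat_lit 4, nat_lit 2, nat_lit 0, nat_lit 2, nat_lit 4, nat_lit 1, nat_lit 4, nat_lit 2, nat_lit 1] else [nat_lit 63, nat_lit 4, nat_lit 1, nat_lit 4, nat_lit 1, nat_lit 4, nat_lit 1, nat_lit 3, nat_lit 4, nat_lit 3, nat_lit 4, nat_lit 3, nat_lit 4, nat_lit 3, nat_lit 4, nat_lit 1]
def Wt_575_578 (j : ℕ) : List ℕ := bif Nat.blt j 576 then [nat_lit 4, nat_lit 1, nat_lit 3, nat_lit 4, nat_lit 3, nat_lit 4, nat_lit 3, nat_lit 4, nat_lit 3, nat_lit 4, nat_lit 1, nat_lit 4, nat_lit 1, nat_lit 4, nat_lit 1] else (Wt_576_578 j)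
def Wt_573_578 (j : ℕ) : List ℕ := bif Nat.blt j 575 then (Wt_573_575 j) else (Wt_575_578 j)
def Wt_569_578 (j : ℕ) : List ℕ := bif Nat.blt j 573 then (Wt_569_573 j) else (Wt_573_578 j)
def Wt_561_578 (j : ℕ) : List ℕ := bif Nat.blt j 569 then (Wt_561_569 j) else (Wt_569_578 j)
def Wt_544_578 (j : ℕ) : List ℕ := bif Nat.blt j 561 then (Wt_544_561 j) else (Wt_561_578 j)
def Wt_578_580 (j : ℕ) : List ℕ := bif Nat.blt j 579 then [nat_lit 0, nat_lit 4, nat_lit 1, nat_lit 4, nat_lit 3, nat_lit 2, nat_lit 4, nat_lit 3, nat_lit 4, nat_lit 0, nat_lit 1, nat_lit 3, nat_lit 2, nat_lit 1, nat_lit 4, nat_lit 0, nat_lit 1] else [nat_lit 1, nat_lit 0, nat_lit 1, nat_lit 2, nat_lit 3, nat_lit 1, nat_lit 2, nat_lit 1, nat_lit 0, nat_lit 1, nat_lit 2, nat_lit 3, nat_lit 1, nat_lit 2, nat_lit 1, nat_lit 0, nat_lit 1, nat_lit 2, nat_lit 3, nat_lit 1, nat_lit 2]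
def Wt_580_582 (j : ℕ) : List ℕ := bif Nat.blt j 581 then [nat_lit 3, nat_lit 1, nat_lit 2, nat_lit 1, nat_lit 0, nat_lit 1, nat_lit 2, nat_lit 3, nat_lit 1, nat_lit 2, nat_lit 1, nat_lit 0, nat_lit 1, nat_lit 2, nat_lit 3, nat_lit 1, nat_lit 2, nat_lit 1, nat_lit 0, nat_lit 1, nat_lit 2] else [nat_lit 1, nat_lit 0, nat_lit 3, nat_lit 0, nat_lit 3, nat_lit 2, nat_lit 3, nat_lit 1, nat_lit 0, nat_lit 3, nat_lit 0, nat_lit 3, nat_lit 2, nat_lit 3, nat_lit 1, nat_lit 0, nat_lit 3, nat_lit 0, nat_lit 3, nat_lit 2, nat_lit 3]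
def Wt_578_582 (j : ℕ) : List ℕ := bif Nat.blt j 580 then (Wt_578_580 j) else (Wt_580_582 j)
def Wt_582_584 (j : ℕ) : List ℕ := bif Nat.blt j 583 then [nat_lit 0, nat_lit 3, nat_lit 0, nat_lit 3, nat_lit 0, nat_lit 3, nat_lit 1, nat_lit 0, nat_lit 3, nat_lit 0, nat_lit 3, nat_lit 0, nat_lit 3, nat_lit 1, nat_lit 0, nat_lit 3, nat_lit 0, nat_lit 3, nat_lit 0, nat_lit 3, nat_lit 1] else [nat_lit 63, nat_lit 2, nat_lit 1, nat_lit 0, nat_lit 2, nat_lit 3, nat_lit 0, nat_lit 2, nat_lit 1, nat_lit 0, nat_lit 2, nat_lit 3, nat_lit 0, nat_lit 2, nat_lit 1, nat_lit 0, nat_lit 2, nat_lit 3, nat_lit 0]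
def Wt_584_586 (j : ℕ) : List ℕ := bif Nat.blt j 585 then [nat_lit 63, nat_lit 1, nat_lit 2, nat_lit 0, nat_lit 3, nat_lit 2, nat_lit 0, nat_lit 1, nat_lit 2, nat_lit 0, nat_lit 3, nat_lit 2, nat_lit 0, nat_lit 1, nat_lit 2, nat_lit 0, nat_lit 3, nat_lit 2, nat_lit 0] else [nat_lit 1, nat_lit 3, nat_lit 1, nat_lit 0, nat_lit 1, nat_lit 2, nat_lit 1, nat_lit 3, nat_lit 1, nat_lit 0, nat_lit 1, nat_lit 2, nat_lit 1, nat_lit 3, nat_lit 1, nat_lit 0, nat_lit 1, nat_lit 2]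
def Wt_582_586 (j : ℕ) : List ℕ := bif Nat.blt j 584 then (Wt_582_584 j) else (Wt_584_586 j)
def Wt_578_586 (j : ℕ) : List ℕ := bif Nat.blt j 582 then (Wt_578_582 j) else (Wt_582_586 j)
def Wt_586_588 (j : ℕ) : List ℕ := bif Nat.blt j 587 then [nat_lit 63, nat_lit 1, nat_lit 0, nat_lit 2, nat_lit 3, nat_lit 0, nat_lit 2, nat_lit 1, nat_lit 0, nat_lit 2, nat_lit 3, nat_lit 0, nat_lit 2, nat_lit 1, nat_lit 0, nat_lit 2, nat_lit 3, nat_lit 0, nat_lit 2] else [nat_lit 0, nat_lit 1, nat_lit 2, nat_lit 0, nat_lit 1, nat_lit 4, nat_lit 0, nat_lit 1, nat_lit 4, nat_lit 3, nat_lit 1, nat_lit 4, nat_lit 1, nat_lit 0, nat_lit 4, nat_lit 3, nat_lit 1]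
def Wt_588_590 (j : ℕ) : List ℕ := bif Nat.blt j 589 then [nat_lit 0, nat_lit 2, nat_lit 4, nat_lit 0, nat_lit 4, nat_lit 3, nat_lit 1, nat_lit 4, nat_lit 2, nat_lit 1, nat_lit 2, nat_lit 4, nat_lit 1, nat_lit 3, nat_lit 4, nat_lit 0, nat_lit 4] else [nat_lit 3, nat_lit 4, nat_lit 2, nat_lit 4, nat_lit 3, nat_lit 4, nat_lit 2, nat_lit 4, nat_lit 2, nat_lit 4, nat_lit 3, nat_lit 4, nat_lit 1, nat_lit 2, nat_lit 1, nat_lit 3, nat_lit 0]
def Wt_586_590 (j : ℕ) : List ℕ := bif Nat.blt j 588 then (Wt_586_588 j) else (Wt_588_590 j)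
def Wt_590_592 (j : ℕ) : List ℕ := bif Nat.blt j 591 then [nat_lit 63, nat_lit 4, nat_lit 2, nat_lit 4, nat_lit 3, nat_lit 2, nat_lit 4, nat_lit 3, nat_lit 0, nat_lit 3, nat_lit 1, nat_lit 4, nat_lit 2, nat_lit 3, nat_lit 4, nat_lit 2, nat_lit 4, nat_lit 1] else [nat_lit 4, nat_lit 1, nat_lit 4, nat_lit 2, nat_lit 0, nat_lit 4, nat_lit 1, nat_lit 4, nat_lit 0, nat_lit 2, nat_lit 4, nat_lit 1, nat_lit 4, nat_lit 2, nat_lit 0]
def Wt_593_595 (j : ℕ) : List ℕ := bif Nat.blt j 594 then [nat_lit 4, nat_lit 2, nat_lit 3, nat_lit 4, nat_lit 3, nat_lit 4, nat_lit 0, nat_lit 3, nat_lit 4, nat_lit 0, nat_lit 3, nat_lit 0, nat_lit 4, nat_lit 3, nat_lit 0, nat_lit 4, nat_lit 3] else [nat_lit 63, nat_lit 5, nat_lit 4, nat_lit 1, nat_lit 0, nat_lit 4, nat_lit 3, nat_lit 5, nat_lit 4, nat_lit 3, nat_lit 0, nat_lit 4, nat_lit 3, nat_lit 4, nat_lit 5, nat_lit 6]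
def Wt_592_595 (j : ℕ) : List ℕ := bif Nat.blt j 593 then [nat_lit 63, nat_lit 3, nat_lit 4, nat_lit 3, nat_lit 4, nat_lit 3, nat_lit 1, nat_lit 4, nat_lit 1, nat_lit 4, nat_lit 1, nat_lit 4, nat_lit 1, nat_lit 4, nat_lit 3, nat_lit 4] else (Wt_593_595 j)
def Wt_590_595 (j : ℕ) : List ℕ := bif Nat.blt j 592 then (Wt_590_592 j) else (Wt_592_595 j)
def Wt_586_595 (j : ℕ) : List ℕ := bif Nat.blt j 590 then (Wt_586_590 j) else (Wt_590_595 j)
def Wt_578_595 (j : ℕ) : List ℕ := bif Nat.blt j 586 then (Wt_578_586 j) else (Wt_586_595 j)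
def Wt_595_597 (j : ℕ) : List ℕ := bif Nat.blt j 596 then [nat_lit 4, nat_lit 3, nat_lit 4, nat_lit 2, nat_lit 4, nat_lit 2, nat_lit 4, nat_lit 3, nat_lit 4, nat_lit 1, nat_lit 2, nat_lit 1, nat_lit 3, nat_lit 0, nat_lit 3, nat_lit 4, nat_lit 2] else [nat_lit 4, nat_lit 2, nat_lit 1, nat_lit 5, nat_lit 2, nat_lit 4, nat_lit 2, nat_lit 1, nat_lit 5, nat_lit 2, nat_lit 4, nat_lit 2, nat_lit 1, nat_lit 5, nat_lit 2, nat_lit 4, nat_lit 2, nat_lit 1, nat_lit 5, nat_lit 2, nat_lit 4, nat_lit 2, nat_lit 1, nat_lit 5, nat_lit 2, nat_lit 4, nat_lit 2, nat_lit 1, nat_lit 5, nat_lit 2]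
def Wt_597_599 (j : ℕ) : List ℕ := bif Nat.blt j 598 then [nat_lit 63, nat_lit 3, nat_lit 4, nat_lit 0, nat_lit 3, nat_lit 0, nat_lit 4, nat_lit 3, nat_lit 0, nat_lit 4, nat_lit 3, nat_lit 4, nat_lit 2, nat_lit 3, nat_lit 4, nat_lit 3, nat_lit 4, nat_lit 0] else [nat_lit 63, nat_lit 4, nat_lit 1, nat_lit 2, nat_lit 3, nat_lit 1, nat_lit 0, nat_lit 4, nat_lit 3, nat_lit 4, nat_lit 2, nat_lit 3, nat_lit 4, nat_lit 1, nat_lit 4, nat_lit 0, nat_lit 1, nat_lit 0]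
def Wt_595_599 (j : ℕ) : List ℕ := bif Nat.blt j 597 then (Wt_595_597 j) else (Wt_597_599 j)
def Wt_599_601 (j : ℕ) : List ℕ := bif Nat.blt j 600 then [nat_lit 3, nat_lit 1, nat_lit 3, nat_lit 4, nat_lit 2, nat_lit 1, nat_lit 4, nat_lit 3, nat_lit 4, nat_lit 1, nat_lit 2, nat_lit 4, nat_lit 3, nat_lit 1, nat_lit 3, nat_lit 1] else [nat_lit 2, nat_lit 1, nat_lit 3, nat_lit 0, nat_lit 3, nat_lit 4, nat_lit 3, nat_lit 4, nat_lit 2, nat_lit 4, nat_lit 2, nat_lit 4, nat_lit 3, nat_lit 4, nat_lit 2, nat_lit 4, nat_lit 1]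
def Wt_601_603 (j : ℕ) : List ℕ := bif Nat.blt j 602 then [nat_lit 2, nat_lit 1, nat_lit 0, nat_lit 1, nat_lit 2, nat_lit 1, nat_lit 3, nat_lit 2, nat_lit 1, nat_lit 0, nat_lit 1, nat_lit 2, nat_lit 1, nat_lit 3, nat_lit 2, nat_lit 1, nat_lit 0, nat_lit 1, nat_lit 2, nat_lit 1, nat_lit 3] else [nat_lit 4, nat_lit 3, nat_lit 1, nat_lit 3, nat_lit 1, nat_lit 3, nat_lit 1, nat_lit 3, nat_lit 4, nat_lit 2, nat_lit 1, nat_lit 4, nat_lit 3, nat_lit 4, nat_lit 1, nat_lit 2]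
def Wt_599_603 (j : ℕ) : List ℕ := bif Nat.blt j 601 then (Wt_599_601 j) else (Wt_601_603 j)
def Wt_595_603 (j : ℕ) : List ℕ := bif Nat.blt j 599 then (Wt_595_599 j) else (Wt_599_603 j)
def Wt_603_605 (j : ℕ) : List ℕ := bif Nat.blt j 604 then [nat_lit 4, nat_lit 2, nat_lit 4, nat_lit 1, nat_lit 4, nat_lit 2, nat_lit 4, nat_lit 3, nat_lit 2, nat_lit 4, nat_lit 3, nat_lit 0, nat_lit 3, nat_lit 1, nat_lit 4, nat_lit 2, nat_lit 3] else [nat_lit 3, nat_lit 2, nat_lit 4, nat_lit 3, nat_lit 4, nat_lit 0, nat_lit 3, nat_lit 4, nat_lit 0, nat_lit 3, nat_lit 0, nat_lit 4, nat_lit 3, nat_lit 0, nat_lit 4, nat_lit 3, nat_lit 4]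
def Wt_605_607 (j : ℕ) : List ℕ := bif Nat.blt j 606 then [nat_lit 63, nat_lit 0, nat_lit 1, nat_lit 0, nat_lit 4, nat_lit 1, nat_lit 4, nat_lit 3, nat_lit 2, nat_lit 4, nat_lit 3, nat_lit 4, nat_lit 0, nat_lit 1, nat_lit 3, nat_lit 2, nat_lit 1, nat_lit 4] else [nat_lit 63, nat_lit 4, nat_lit 2, nat_lit 4, nat_lit 1, nat_lit 4, nat_lit 1, nat_lit 2, nat_lit 4, nat_lit 2, nat_lit 4, nat_lit 2, nat_lit 1, nat_lit 4, nat_lit 1, nat_lit 2, nat_lit 4, nat_lit 3]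
def Wt_603_607 (j : ℕ) : List ℕ := bif Nat.blt j 605 then (Wt_603_605 j) else (Wt_605_607 j)
def Wt_607_609 (j : ℕ) : List ℕ := bif Nat.blt j 608 then [nat_lit 63, nat_lit 1, nat_lit 3, nat_lit 4, nat_lit 2, nat_lit 1, nat_lit 4, nat_lit 3, nat_lit 4, nat_lit 1, nat_lit 2, nat_lit 4, nat_lit 3, nat_lit 1, nat_lit 3, nat_lit 1, nat_lit 3] else [nat_lit 0, nat_lit 4, nat_lit 3, nat_lit 4, nat_lit 2, nat_lit 3, nat_lit 4, nat_lit 3, nat_lit 4, nat_lit 0, nat_lit 3, nat_lit 4, nat_lit 0, nat_lit 3, nat_lit 0, nat_lit 4, nat_lit 3]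
def Wt_610_612 (j : ℕ) : List ℕ := bif Nat.blt j 611 then [nat_lit 2, nat_lit 4, nat_lit 1, nat_lit 4, nat_lit 1, nat_lit 2, nat_lit 4, nat_lit 2, nat_lit 4, nat_lit 2, nat_lit 1, nat_lit 4, nat_lit 1, nat_lit 2, nat_lit 4, nat_lit 3, nat_lit 4] else [nat_lit 63, nat_lit 3, nat_lit 0, nat_lit 4, nat_lit 3, nat_lit 4, nat_lit 2, nat_lit 3, nat_lit 4, nat_lit 3, nat_lit 4, nat_lit 0, nat_lit 3, nat_lit 4, nat_lit 0, nat_lit 3, nat_lit 0, nat_lit 4]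
def Wt_609_612 (j : ℕ) : List ℕ := bif Nat.blt j 610 then [nat_lit 4, nat_lit 3, nat_lit 4, nat_lit 0, nat_lit 1, nat_lit 3, nat_lit 2, nat_lit 1, nat_lit 4, nat_lit 0, nat_lit 1, nat_lit 0, nat_lit 4, nat_lit 1, nat_lit 4, nat_lit 3, nat_lit 2] else (Wt_610_612 j)
def Wt_607_612 (j : ℕ) : List ℕ := bif Nat.blt j 609 then (Wt_607_609 j) else (Wt_609_612 j)
def Wt_603_612 (j : ℕ) : List ℕ := bif Nat.blt j 607 then (Wt_603_607 j) else (Wt_607_612 j)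
def Wt_595_612 (j : ℕ) : List ℕ := bif Nat.blt j 603 then (Wt_595_603 j) else (Wt_603_612 j)
def Wt_578_612 (j : ℕ) : List ℕ := bif Nat.blt j 595 then (Wt_578_595 j) else (Wt_595_612 j)
def Wt_544_612 (j : ℕ) : List ℕ := bif Nat.blt j 578 then (Wt_544_578 j) else (Wt_578_612 j)
def Wt_612_614 (j : ℕ) : List ℕ := bif Nat.blt j 613 then [nat_lit 4, nat_lit 5, nat_lit 6, nat_lit 5, nat_lit 4, nat_lit 1, nat_lit 0, nat_lit 4, nat_lit 3, nat_lit 5, nat_lit 4, nat_lit 3, nat_lit 0, nat_lit 4, nat_lit 3] else [nat_lit 63, nat_lit 4, nat_lit 1, nat_lit 4, nat_lit 3, nat_lit 4, nat_lit 3, nat_lit 4, nat_lit 3, nat_lit 4, nat_lit 3, nat_lit 1, nat_lit 4, nat_lit 1, nat_lit 4, nat_lit 1]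
def Wt_614_616 (j : ℕ) : List ℕ := bif Nat.blt j 615 then [nat_lit 63, nat_lit 63, nat_lit 63] else [nat_lit 4, nat_lit 2, nat_lit 0, nat_lit 4, nat_lit 0, nat_lit 2, nat_lit 4, nat_lit 0, nat_lit 2, nat_lit 4, nat_lit 0, nat_lit 3, nat_lit 2, nat_lit 3, nat_lit 4, nat_lit 2, nat_lit 0]
def Wt_612_616 (j : ℕ) : List ℕ := bif Nat.blt j 614 then (Wt_612_614 j) else (Wt_614_616 j)
def Wt_616_618 (j : ℕ) : List ℕ := bif Nat.blt j 617 then [nat_lit 63, nat_lit 1, nat_lit 4, nat_lit 1, nat_lit 3, nat_lit 0, nat_lit 1, nat_lit 0, nat_lit 3, nat_lit 1, nat_lit 4, nat_lit 1, nat_lit 3, nat_lit 0, nat_lit 1, nat_lit 0, nat_lit 3] else [nat_lit 4, nat_lit 0, nat_lit 1, nat_lit 4, nat_lit 3, nat_lit 2, nat_lit 4, nat_lit 1, nat_lit 0, nat_lit 4, nat_lit 1, nat_lit 2, nat_lit 1, nat_lit 4, nat_lit 1, nat_lit 2, nat_lit 1]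
def Wt_618_620 (j : ℕ) : List ℕ := bif Nat.blt j 619 then [nat_lit 4, nat_lit 1, nat_lit 2, nat_lit 3, nat_lit 1, nat_lit 0, nat_lit 4, nat_lit 3, nat_lit 4, nat_lit 2, nat_lit 3, nat_lit 4, nat_lit 1, nat_lit 4, nat_lit 0, nat_lit 1, nat_lit 0] else [nat_lit 63, nat_lit 3, nat_lit 1, nat_lit 2, nat_lit 1, nat_lit 4, nat_lit 3, nat_lit 4, nat_lit 2, nat_lit 4, nat_lit 2, nat_lit 4, nat_lit 3, nat_lit 4, nat_lit 2, nat_lit 4, nat_lit 3, nat_lit 0]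
def Wt_616_620 (j : ℕ) : List ℕ := bif Nat.blt j 618 then (Wt_616_618 j) else (Wt_618_620 j)
def Wt_612_620 (j : ℕ) : List ℕ := bif Nat.blt j 616 then (Wt_612_616 j) else (Wt_616_620 j)
def Wt_620_622 (j : ℕ) : List ℕ := bif Nat.blt j 621 then [nat_lit 3, nat_lit 0, nat_lit 3, nat_lit 0, nat_lit 1, nat_lit 3, nat_lit 0, nat_lit 3, nat_lit 0, nat_lit 3, nat_lit 0, nat_lit 1, nat_lit 3, nat_lit 0, nat_lit 3, nat_lit 0, nat_lit 3, nat_lit 0, nat_lit 1, nat_lit 3, nat_lit 0] else [nat_lit 63, nat_lit 1, nat_lit 4, nat_lit 2, nat_lit 0, nat_lit 4, nat_lit 1, nat_lit 4, nat_lit 0, nat_lit 2, nat_lit 4, nat_lit 1, nat_lit 4, nat_lit 2, nat_lit 0, nat_lit 4]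
def Wt_622_624 (j : ℕ) : List ℕ := bif Nat.blt j 623 then [nat_lit 4, nat_lit 1, nat_lit 3, nat_lit 4, nat_lit 0, nat_lit 4, nat_lit 2, nat_lit 0, nat_lit 4, nat_lit 0, nat_lit 4, nat_lit 3, nat_lit 1, nat_lit 4, nat_lit 2, nat_lit 1, nat_lit 2] else [nat_lit 63, nat_lit 4, nat_lit 0, nat_lit 1, nat_lit 3, nat_lit 2, nat_lit 1, nat_lit 4, nat_lit 0, nat_lit 1, nat_lit 0, nat_lit 4, nat_lit 1, nat_lit 4, nat_lit 3, nat_lit 2, nat_lit 4, nat_lit 3]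
def Wt_620_624 (j : ℕ) : List ℕ := bif Nat.blt j 622 then (Wt_620_622 j) else (Wt_622_624 j)
def Wt_624_626 (j : ℕ) : List ℕ := bif Nat.blt j 625 then [nat_lit 63, nat_lit 3, nat_lit 1, nat_lit 0, nat_lit 4, nat_lit 3, nat_lit 4, nat_lit 2, nat_lit 3, nat_lit 4, nat_lit 1, nat_lit 4, nat_lit 0, nat_lit 1, nat_lit 0, nat_lit 4, nat_lit 1, nat_lit 2] else [nat_lit 63, nat_lit 1, nat_lit 4, nat_lit 2, nat_lit 4, nat_lit 3, nat_lit 2, nat_lit 4, nat_lit 1, nat_lit 3, nat_lit 0, nat_lit 3, nat_lit 4, nat_lit 2, nat_lit 3, nat_lit 4, nat_lit 2, nat_lit 4]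
def Wt_627_629 (j : ℕ) : List ℕ := bif Nat.blt j 628 then [nat_lit 5, nat_lit 2, nat_lit 4, nat_lit 1, nat_lit 4, nat_lit 5, nat_lit 2, nat_lit 4, nat_lit 1, nat_lit 4, nat_lit 5, nat_lit 2, nat_lit 4, nat_lit 1, nat_lit 4] else [nat_lit 63, nat_lit 0, nat_lit 4, nat_lit 1, nat_lit 4, nat_lit 3, nat_lit 2, nat_lit 4, nat_lit 3, nat_lit 4, nat_lit 0, nat_lit 1, nat_lit 3, nat_lit 2, nat_lit 1, nat_lit 4, nat_lit 0, nat_lit 1]
def Wt_626_629 (j : ℕ) : List ℕ := bif Nat.blt j 627 then [nat_lit 63, nat_lit 4, nat_lit 3, nat_lit 4, nat_lit 1, nat_lit 4, nat_lit 1, nat_lit 4, nat_lit 1, nat_lit 4, nat_lit 1, nat_lit 3, nat_lit 4, nat_lit 3, nat_lit 4, nat_lit 3] else (Wt_627_629 j)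
def Wt_624_629 (j : ℕ) : List ℕ := bif Nat.blt j 626 then (Wt_624_626 j) else (Wt_626_629 j)
def Wt_620_629 (j : ℕ) : List ℕ := bif Nat.blt j 624 then (Wt_620_624 j) else (Wt_624_629 j)
def Wt_612_629 (j : ℕ) : List ℕ := bif Nat.blt j 620 then (Wt_612_620 j) else (Wt_620_629 j)
def Wt_629_631 (j : ℕ) : List ℕ := bif Nat.blt j 630 then [nat_lit 63, nat_lit 4, nat_lit 3, nat_lit 4, nat_lit 3, nat_lit 1, nat_lit 4, nat_lit 1, nat_lit 4, nat_lit 1, nat_lit 4, nat_lit 1, nat_lit 4, nat_lit 3, nat_lit 4, nat_lit 3] else [nat_lit 63, nat_lit 1, nat_lit 4, nat_lit 0, nat_lit 1, nat_lit 0, nat_lit 4, nat_lit 1, nat_lit 4, nat_lit 3, nat_lit 2, nat_lit 4, nat_lit 3, nat_lit 4, nat_lit 0, nat_lit 1, nat_lit 3, nat_lit 2]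
def Wt_631_633 (j : ℕ) : List ℕ := bif Nat.blt j 632 then [nat_lit 1, nat_lit 3, nat_lit 4, nat_lit 0, nat_lit 1, nat_lit 4, nat_lit 1, nat_lit 3, nat_lit 4, nat_lit 1, nat_lit 0, nat_lit 4, nat_lit 1, nat_lit 0, nat_lit 2, nat_lit 1, nat_lit 0] else [nat_lit 63, nat_lit 1, nat_lit 4, nat_lit 2, nat_lit 1, nat_lit 4, nat_lit 1, nat_lit 4, nat_lit 1, nat_lit 2, nat_lit 4, nat_lit 1, nat_lit 4, nat_lit 2, nat_lit 0, nat_lit 2, nat_lit 4]
def Wt_629_633 (j : ℕ) : List ℕ := bif Nat.blt j 631 then (Wt_629_631 j) else (Wt_631_633 j)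
def Wt_633_635 (j : ℕ) : List ℕ := bif Nat.blt j 634 then [nat_lit 0, nat_lit 4, nat_lit 3, nat_lit 4, nat_lit 2, nat_lit 3, nat_lit 4, nat_lit 1, nat_lit 4, nat_lit 0, nat_lit 1, nat_lit 0, nat_lit 4, nat_lit 1, nat_lit 2, nat_lit 3, nat_lit 1] else [nat_lit 63, nat_lit 4, nat_lit 0, nat_lit 1, nat_lit 0, nat_lit 4, nat_lit 1, nat_lit 4, nat_lit 3, nat_lit 2, nat_lit 4, nat_lit 3, nat_lit 4, nat_lit 0, nat_lit 1, nat_lit 3, nat_lit 2, nat_lit 1]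
def Wt_635_637 (j : ℕ) : List ℕ := bif Nat.blt j 636 then [nat_lit 63, nat_lit 4, nat_lit 2, nat_lit 0, nat_lit 4, nat_lit 1, nat_lit 4, nat_lit 0, nat_lit 2, nat_lit 4, nat_lit 1, nat_lit 4, nat_lit 2, nat_lit 0, nat_lit 4, nat_lit 1] else [nat_lit 1, nat_lit 3, nat_lit 0, nat_lit 3, nat_lit 4, nat_lit 2, nat_lit 3, nat_lit 4, nat_lit 2, nat_lit 4, nat_lit 1, nat_lit 4, nat_lit 2, nat_lit 4, nat_lit 3, nat_lit 2, nat_lit 4]
def Wt_633_637 (j : ℕ) : List ℕ := bif Nat.blt j 635 then (Wt_633_635 j) else (Wt_635_637 j)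
def Wt_629_637 (j : ℕ) : List ℕ := bif Nat.blt j 633 then (Wt_629_633 j) else (Wt_633_637 j)
def Wt_637_639 (j : ℕ) : List ℕ := bif Nat.blt j 638 then [nat_lit 63, nat_lit 2, nat_lit 4, nat_lit 1, nat_lit 4, nat_lit 2, nat_lit 4, nat_lit 3, nat_lit 2, nat_lit 4, nat_lit 1, nat_lit 3, nat_lit 0, nat_lit 3, nat_lit 4, nat_lit 2, nat_lit 3, nat_lit 4] else [nat_lit 2, nat_lit 1, nat_lit 4, nat_lit 0, nat_lit 1, nat_lit 0, nat_lit 4, nat_lit 1, nat_lit 4, nat_lit 3, nat_lit 2, nat_lit 4, nat_lit 3, nat_lit 4, nat_lit 0, nat_lit 1, nat_lit 3]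
def Wt_639_641 (j : ℕ) : List ℕ := bif Nat.blt j 640 then [nat_lit 4, nat_lit 3, nat_lit 2, nat_lit 4, nat_lit 3, nat_lit 4, nat_lit 0, nat_lit 3, nat_lit 4, nat_lit 0, nat_lit 3, nat_lit 0, nat_lit 4, nat_lit 3, nat_lit 0, nat_lit 4, nat_lit 3] else [nat_lit 4, nat_lit 1, nat_lit 4, nat_lit 1, nat_lit 4, nat_lit 1, nat_lit 3, nat_lit 4, nat_lit 3, nat_lit 4, nat_lit 3, nat_lit 4, nat_lit 3, nat_lit 4, nat_lit 1]
def Wt_637_641 (j : ℕ) : List ℕ := bif Nat.blt j 639 then (Wt_637_639 j) else (Wt_639_641 j)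
def Wt_641_643 (j : ℕ) : List ℕ := bif Nat.blt j 642 then [nat_lit 63, nat_lit 1, nat_lit 2, nat_lit 0, nat_lit 1, nat_lit 4, nat_lit 0, nat_lit 1, nat_lit 4, nat_lit 3, nat_lit 1, nat_lit 4, nat_lit 1, nat_lit 0, nat_lit 4, nat_lit 3, nat_lit 1, nat_lit 0] else [nat_lit 3, nat_lit 4, nat_lit 3, nat_lit 4, nat_lit 1, nat_lit 4, nat_lit 1, nat_lit 4, nat_lit 1, nat_lit 4, nat_lit 1, nat_lit 3, nat_lit 4, nat_lit 3, nat_lit 4]
def Wt_644_646 (j : ℕ) : List ℕ := bif Nat.blt j 645 then [nat_lit 63, nat_lit 4, nat_lit 1, nat_lit 2, nat_lit 4, nat_lit 2, nat_lit 4, nat_lit 2, nat_lit 1, nat_lit 4, nat_lit 1, nat_lit 2, nat_lit 4, nat_lit 3, nat_lit 4, nat_lit 2, nat_lit 4, nat_lit 1] else [nat_lit 2, nat_lit 3, nat_lit 4, nat_lit 2, nat_lit 4, nat_lit 1, nat_lit 4, nat_lit 2, nat_lit 4, nat_lit 3, nat_lit 2, nat_lit 4, nat_lit 3, nat_lit 0, nat_lit 3, nat_lit 1, nat_lit 4]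
def Wt_643_646 (j : ℕ) : List ℕ := bif Nat.blt j 644 then [nat_lit 4, nat_lit 1, nat_lit 4, nat_lit 1, nat_lit 3, nat_lit 4, nat_lit 3, nat_lit 4, nat_lit 3, nat_lit 4, nat_lit 3, nat_lit 4, nat_lit 1, nat_lit 4, nat_lit 1] else (Wt_644_646 j)
def Wt_641_646 (j : ℕ) : List ℕ := bif Nat.blt j 643 then (Wt_641_643 j) else (Wt_643_646 j)
def Wt_637_646 (j : ℕ) : List ℕ := bif Nat.blt j 641 then (Wt_637_641 j) else (Wt_641_646 j)
def Wt_629_646 (j : ℕ) : List ℕ := bif Nat.blt j 637 then (Wt_629_637 j) else (Wt_637_646 j)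
def Wt_612_646 (j : ℕ) : List ℕ := bif Nat.blt j 629 then (Wt_612_629 j) else (Wt_629_646 j)
def Wt_646_648 (j : ℕ) : List ℕ := bif Nat.blt j 647 then [nat_lit 4, nat_lit 3, nat_lit 0, nat_lit 3, nat_lit 1, nat_lit 4, nat_lit 2, nat_lit 3, nat_lit 4, nat_lit 2, nat_lit 4, nat_lit 1, nat_lit 4, nat_lit 2, nat_lit 4, nat_lit 3, nat_lit 2] else [nat_lit 4, nat_lit 1, nat_lit 4, nat_lit 1, nat_lit 4, nat_lit 1, nat_lit 4, nat_lit 1, nat_lit 4, nat_lit 1, nat_lit 4, nat_lit 1, nat_lit 4, nat_lit 1, nat_lit 4, nat_lit 1]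
def Wt_648_650 (j : ℕ) : List ℕ := bif Nat.blt j 649 then [nat_lit 4, nat_lit 5, nat_lit 4, nat_lit 5, nat_lit 4, nat_lit 5, nat_lit 4, nat_lit 5, nat_lit 4, nat_lit 5, nat_lit 4, nat_lit 5, nat_lit 4, nat_lit 5, nat_lit 4, nat_lit 5, nat_lit 4, nat_lit 5, nat_lit 4, nat_lit 5, nat_lit 4, nat_lit 5, nat_lit 4, nat_lit 5] else [nat_lit 3, nat_lit 4, nat_lit 0, nat_lit 3, nat_lit 4, nat_lit 0, nat_lit 3, nat_lit 0, nat_lit 4, nat_lit 3, nat_lit 0, nat_lit 4, nat_lit 3, nat_lit 4, nat_lit 2, nat_lit 3, nat_lit 4]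
def Wt_646_650 (j : ℕ) : List ℕ := bif Nat.blt j 648 then (Wt_646_648 j) else (Wt_648_650 j)
def Wt_650_652 (j : ℕ) : List ℕ := bif Nat.blt j 651 then [nat_lit 63, nat_lit 5, nat_lit 7, nat_lit 5, nat_lit 4, nat_lit 3, nat_lit 4, nat_lit 0, nat_lit 3, nat_lit 4, nat_lit 5, nat_lit 3, nat_lit 4, nat_lit 0, nat_lit 1, nat_lit 4] else [nat_lit 63, nat_lit 2, nat_lit 3, nat_lit 1, nat_lit 0, nat_lit 3, nat_lit 0, nat_lit 3, nat_lit 2, nat_lit 3, nat_lit 1, nat_lit 0, nat_lit 3, nat_lit 0, nat_lit 3, nat_lit 2, nat_lit 3, nat_lit 1, nat_lit 0, nat_lit 3, nat_lit 0, nat_lit 3]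
def Wt_652_654 (j : ℕ) : List ℕ := bif Nat.blt j 653 then [nat_lit 63, nat_lit 1, nat_lit 0, nat_lit 2, nat_lit 1, nat_lit 0, nat_lit 2, nat_lit 1, nat_lit 0, nat_lit 2, nat_lit 1, nat_lit 0, nat_lit 2, nat_lit 1, nat_lit 0, nat_lit 2] else [nat_lit 2, nat_lit 3, nat_lit 4, nat_lit 3, nat_lit 4, nat_lit 0, nat_lit 3, nat_lit 4, nat_lit 0, nat_lit 3, nat_lit 0, nat_lit 4, nat_lit 3, nat_lit 0, nat_lit 4, nat_lit 3, nat_lit 4]
def Wt_650_654 (j : ℕ) : List ℕ := bif Nat.blt j 652 then (Wt_650_652 j) else (Wt_652_654 j)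
def Wt_646_654 (j : ℕ) : List ℕ := bif Nat.blt j 650 then (Wt_646_650 j) else (Wt_650_654 j)
def Wt_654_656 (j : ℕ) : List ℕ := bif Nat.blt j 655 then [nat_lit 63, nat_lit 2, nat_lit 0, nat_lit 2, nat_lit 0] else [nat_lit 63, nat_lit 1, nat_lit 0, nat_lit 1, nat_lit 2, nat_lit 1, nat_lit 3, nat_lit 2, nat_lit 1, nat_lit 0, nat_lit 1, nat_lit 2, nat_lit 1, nat_lit 3, nat_lit 2, nat_lit 1, nat_lit 0, nat_lit 1, nat_lit 2, nat_lit 1, nat_lit 3, nat_lit 2]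
def Wt_656_658 (j : ℕ) : List ℕ := bif Nat.blt j 657 then [nat_lit 0, nat_lit 3, nat_lit 2, nat_lit 3, nat_lit 1, nat_lit 0, nat_lit 3, nat_lit 0, nat_lit 3, nat_lit 2, nat_lit 3, nat_lit 1, nat_lit 0, nat_lit 3, nat_lit 0, nat_lit 3, nat_lit 2, nat_lit 3, nat_lit 1, nat_lit 0, nat_lit 3] else [nat_lit 63, nat_lit 3, nat_lit 0, nat_lit 3, nat_lit 0, nat_lit 3, nat_lit 1, nat_lit 0, nat_lit 3, nat_lit 0, nat_lit 3, nat_lit 0, nat_lit 3, nat_lit 1, nat_lit 0, nat_lit 3, nat_lit 0, nat_lit 3, nat_lit 0, nat_lit 3, nat_lit 1, nat_lit 0]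
def Wt_654_658 (j : ℕ) : List ℕ := bif Nat.blt j 656 then (Wt_654_656 j) else (Wt_656_658 j)
def Wt_658_660 (j : ℕ) : List ℕ := bif Nat.blt j 659 then [nat_lit 63, nat_lit 3, nat_lit 0, nat_lit 1, nat_lit 3, nat_lit 0, nat_lit 3, nat_lit 0, nat_lit 3, nat_lit 0, nat_lit 1, nat_lit 3, nat_lit 0, nat_lit 3, nat_lit 0, nat_lit 3, nat_lit 0, nat_lit 1, nat_lit 3, nat_lit 0, nat_lit 3, nat_lit 0] else [nat_lit 63, nat_lit 3, nat_lit 1, nat_lit 3, nat_lit 1, nat_lit 3, nat_lit 1, nat_lit 3, nat_lit 1, nat_lit 3, nat_lit 1, nat_lit 3, nat_lit 1, nat_lit 3, nat_lit 1, nat_lit 3, nat_lit 1, nat_lit 3, nat_lit 1, nat_lit 3, nat_lit 1, nat_lit 3, nat_lit 1, nat_lit 3, nat_lit 1, nat_lit 3, nat_lit 1]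
def Wt_661_663 (j : ℕ) : List ℕ := bif Nat.blt j 662 then [nat_lit 63, nat_lit 1, nat_lit 3, nat_lit 0, nat_lit 3, nat_lit 0, nat_lit 3, nat_lit 0, nat_lit 1, nat_lit 3, nat_lit 0, nat_lit 3, nat_lit 0, nat_lit 3, nat_lit 0, nat_lit 1, nat_lit 3, nat_lit 0, nat_lit 3, nat_lit 0, nat_lit 3, nat_lit 0] else [nat_lit 1, nat_lit 0, nat_lit 3, nat_lit 0, nat_lit 3, nat_lit 0, nat_lit 3, nat_lit 1, nat_lit 0, nat_lit 3, nat_lit 0, nat_lit 3, nat_lit 0, nat_lit 3, nat_lit 1, nat_lit 0, nat_lit 3, nat_lit 0, nat_lit 3, nat_lit 0, nat_lit 3]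
def Wt_660_663 (j : ℕ) : List ℕ := bif Nat.blt j 661 then [nat_lit 63, nat_lit 0, nat_lit 3, nat_lit 0, nat_lit 3, nat_lit 2, nat_lit 3, nat_lit 1, nat_lit 0, nat_lit 3, nat_lit 0, nat_lit 3, nat_lit 2, nat_lit 3, nat_lit 1, nat_lit 0, nat_lit 3, nat_lit 0, nat_lit 3, nat_lit 2, nat_lit 3, nat_lit 1] else (Wt_661_663 j)
def Wt_658_663 (j : ℕ) : List ℕ := bif Nat.blt j 660 then (Wt_658_660 j) else (Wt_660_663 j)
def Wt_654_663 (j : ℕ) : List ℕ := bif Nat.blt j 658 then (Wt_654_658 j) else (Wt_658_663 j)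
def Wt_646_663 (j : ℕ) : List ℕ := bif Nat.blt j 654 then (Wt_646_654 j) else (Wt_654_663 j)
def Wt_663_665 (j : ℕ) : List ℕ := bif Nat.blt j 664 then [nat_lit 63, nat_lit 2, nat_lit 1, nat_lit 0, nat_lit 1, nat_lit 3, nat_lit 1, nat_lit 2, nat_lit 1, nat_lit 0, nat_lit 1, nat_lit 3, nat_lit 1, nat_lit 2, nat_lit 1, nat_lit 0, nat_lit 1, nat_lit 3, nat_lit 1] else [nat_lit 3, nat_lit 1, nat_lit 3, nat_lit 1, nat_lit 3, nat_lit 1, nat_lit 3, nat_lit 1, nat_lit 3, nat_lit 1, nat_lit 3, nat_lit 1, nat_lit 3, nat_lit 1, nat_lit 3, nat_lit 1, nat_lit 3, nat_lit 1, nat_lit 3, nat_lit 1, nat_lit 3, nat_lit 1, nat_lit 3, nat_lit 1, nat_lit 3, nat_lit 1]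
def Wt_665_667 (j : ℕ) : List ℕ := bif Nat.blt j 666 then [nat_lit 1, nat_lit 3, nat_lit 0, nat_lit 3, nat_lit 0, nat_lit 3, nat_lit 0, nat_lit 1, nat_lit 3, nat_lit 0, nat_lit 3, nat_lit 0, nat_lit 3, nat_lit 0, nat_lit 1, nat_lit 3, nat_lit 0, nat_lit 3, nat_lit 0, nat_lit 3, nat_lit 0] else [nat_lit 63, nat_lit 1, nat_lit 0, nat_lit 3, nat_lit 0, nat_lit 3, nat_lit 0, nat_lit 3, nat_lit 1, nat_lit 0, nat_lit 3, nat_lit 0, nat_lit 3, nat_lit 0, nat_lit 3, nat_lit 1, nat_lit 0, nat_lit 3, nat_lit 0, nat_lit 3, nat_lit 0, nat_lit 3]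
def Wt_663_667 (j : ℕ) : List ℕ := bif Nat.blt j 665 then (Wt_663_665 j) else (Wt_665_667 j)
def Wt_667_669 (j : ℕ) : List ℕ := bif Nat.blt j 668 then [nat_lit 63, nat_lit 0, nat_lit 2, nat_lit 1, nat_lit 0, nat_lit 2, nat_lit 1, nat_lit 0, nat_lit 2, nat_lit 1, nat_lit 0, nat_lit 2, nat_lit 1, nat_lit 0, nat_lit 2, nat_lit 1] else [nat_lit 63, nat_lit 4, nat_lit 1, nat_lit 4, nat_lit 1, nat_lit 4, nat_lit 1, nat_lit 4, nat_lit 3, nat_lit 4, nat_lit 3, nat_lit 4, nat_lit 3, nat_lit 4, nat_lit 3, nat_lit 1]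
def Wt_669_671 (j : ℕ) : List ℕ := bif Nat.blt j 670 then [nat_lit 63, nat_lit 3, nat_lit 4, nat_lit 3, nat_lit 4, nat_lit 3, nat_lit 4, nat_lit 3, nat_lit 4, nat_lit 3, nat_lit 4, nat_lit 3, nat_lit 4, nat_lit 3, nat_lit 4, nat_lit 3, nat_lit 4] else [nat_lit 63, nat_lit 1, nat_lit 4, nat_lit 3, nat_lit 2, nat_lit 4, nat_lit 1, nat_lit 0, nat_lit 4, nat_lit 1, nat_lit 2, nat_lit 1, nat_lit 4, nat_lit 1, nat_lit 2, nat_lit 1, nat_lit 4, nat_lit 0]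
def Wt_667_671 (j : ℕ) : List ℕ := bif Nat.blt j 669 then (Wt_667_669 j) else (Wt_669_671 j)
def Wt_663_671 (j : ℕ) : List ℕ := bif Nat.blt j 667 then (Wt_663_667 j) else (Wt_667_671 j)
def Wt_671_673 (j : ℕ) : List ℕ := bif Nat.blt j 672 then [nat_lit 63, nat_lit 3, nat_lit 4, nat_lit 3, nat_lit 4, nat_lit 0, nat_lit 3, nat_lit 4, nat_lit 0, nat_lit 3, nat_lit 0, nat_lit 4, nat_lit 3, nat_lit 0, nat_lit 4, nat_lit 3, nat_lit 4, nat_lit 2] else [nat_lit 1, nat_lit 63, nat_lit 1, nat_lit 63]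
def Wt_673_675 (j : ℕ) : List ℕ := bif Nat.blt j 674 then [nat_lit 2, nat_lit 63, nat_lit 2, nat_lit 63] else [nat_lit 3, nat_lit 63, nat_lit 3, nat_lit 63]
def Wt_671_675 (j : ℕ) : List ℕ := bif Nat.blt j 673 then (Wt_671_673 j) else (Wt_673_675 j)
def Wt_675_677 (j : ℕ) : List ℕ := bif Nat.blt j 676 then [nat_lit 63, nat_lit 3, nat_lit 0, nat_lit 1, nat_lit 0, nat_lit 3, nat_lit 1, nat_lit 4, nat_lit 1, nat_lit 3, nat_lit 0, nat_lit 1, nat_lit 0, nat_lit 3, nat_lit 1, nat_lit 4, nat_lit 1] else [nat_lit 0, nat_lit 1, nat_lit 4, nat_lit 3, nat_lit 2, nat_lit 4, nat_lit 1, nat_lit 0, nat_lit 4, nat_lit 1, nat_lit 2, nat_lit 1, nat_lit 4, nat_lit 1, nat_lit 2, nat_lit 1, nat_lit 4]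
def Wt_678_680 (j : ℕ) : List ℕ := bif Nat.blt j 679 then [nat_lit 1, nat_lit 4, nat_lit 1, nat_lit 3, nat_lit 0, nat_lit 2, nat_lit 3, nat_lit 4, nat_lit 1, nat_lit 4, nat_lit 1, nat_lit 2, nat_lit 4, nat_lit 1, nat_lit 4, nat_lit 0, nat_lit 4] else [nat_lit 63, nat_lit 2, nat_lit 3, nat_lit 4, nat_lit 2, nat_lit 4, nat_lit 1, nat_lit 4, nat_lit 2, nat_lit 4, nat_lit 3, nat_lit 2, nat_lit 4, nat_lit 1, nat_lit 3, nat_lit 0, nat_lit 3, nat_lit 4]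
def Wt_677_680 (j : ℕ) : List ℕ := bif Nat.blt j 678 then [nat_lit 63, nat_lit 2, nat_lit 1, nat_lit 4, nat_lit 0, nat_lit 1, nat_lit 0, nat_lit 4, nat_lit 1, nat_lit 4, nat_lit 3, nat_lit 2, nat_lit 4, nat_lit 3, nat_lit 4, nat_lit 0, nat_lit 1, nat_lit 3] else (Wt_678_680 j)
def Wt_675_680 (j : ℕ) : List ℕ := bif Nat.blt j 677 then (Wt_675_677 j) else (Wt_677_680 j)
def Wt_671_680 (j : ℕ) : List ℕ := bif Nat.blt j 675 then (Wt_671_675 j) else (Wt_675_680 j)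
def Wt_663_680 (j : ℕ) : List ℕ := bif Nat.blt j 671 then (Wt_663_671 j) else (Wt_671_680 j)
def Wt_646_680 (j : ℕ) : List ℕ := bif Nat.blt j 663 then (Wt_646_663 j) else (Wt_663_680 j)
def Wt_612_680 (j : ℕ) : List ℕ := bif Nat.blt j 646 then (Wt_612_646 j) else (Wt_646_680 j)
def Wt_544_680 (j : ℕ) : List ℕ := bif Nat.blt j 612 then (Wt_544_612 j) else (Wt_612_680 j)
def Wt_680_682 (j : ℕ) : List ℕ := bif Nat.blt j 681 then [nat_lit 63, nat_lit 1, nat_lit 2, nat_lit 4, nat_lit 2, nat_lit 4, nat_lit 2, nat_lit 1, nat_lit 4, nat_lit 1, nat_lit 4, nat_lit 2, nat_lit 4, nat_lit 3, nat_lit 4, nat_lit 2, nat_lit 1, nat_lit 4] else [nat_lit 63, nat_lit 3, nat_lit 4, nat_lit 2, nat_lit 1, nat_lit 4, nat_lit 3, nat_lit 4, nat_lit 1, nat_lit 2, nat_lit 4, nat_lit 3, nat_lit 1, nat_lit 3, nat_lit 1, nat_lit 3, nat_lit 1]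
def Wt_682_684 (j : ℕ) : List ℕ := bif Nat.blt j 683 then [nat_lit 63, nat_lit 4, nat_lit 3, nat_lit 4, nat_lit 0, nat_lit 1, nat_lit 3, nat_lit 2, nat_lit 1, nat_lit 4, nat_lit 0, nat_lit 1, nat_lit 0, nat_lit 4, nat_lit 1, nat_lit 4, nat_lit 3, nat_lit 2] else [nat_lit 63, nat_lit 3, nat_lit 0, nat_lit 4, nat_lit 3, nat_lit 4, nat_lit 3, nat_lit 2, nat_lit 4, nat_lit 3, nat_lit 4, nat_lit 0, nat_lit 3, nat_lit 4, nat_lit 0, nat_lit 3, nat_lit 0, nat_lit 4]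
def Wt_680_684 (j : ℕ) : List ℕ := bif Nat.blt j 682 then (Wt_680_682 j) else (Wt_682_684 j)
def Wt_684_686 (j : ℕ) : List ℕ := bif Nat.blt j 685 then [nat_lit 4, nat_lit 2, nat_lit 4, nat_lit 2, nat_lit 4, nat_lit 3, nat_lit 4, nat_lit 2, nat_lit 4, nat_lit 3, nat_lit 0, nat_lit 3, nat_lit 1, nat_lit 2, nat_lit 1, nat_lit 4, nat_lit 3] else [nat_lit 63, nat_lit 1, nat_lit 3, nat_lit 0, nat_lit 1, nat_lit 0, nat_lit 3, nat_lit 1, nat_lit 4, nat_lit 1, nat_lit 3, nat_lit 0, nat_lit 1, nat_lit 0, nat_lit 3, nat_lit 1, nat_lit 4]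
def Wt_686_688 (j : ℕ) : List ℕ := bif Nat.blt j 687 then [nat_lit 63, nat_lit 0, nat_lit 4, nat_lit 3, nat_lit 4, nat_lit 2, nat_lit 3, nat_lit 4, nat_lit 3, nat_lit 4, nat_lit 0, nat_lit 3, nat_lit 4, nat_lit 0, nat_lit 3, nat_lit 0, nat_lit 4, nat_lit 3] else [nat_lit 63, nat_lit 4, nat_lit 1, nat_lit 2, nat_lit 1, nat_lit 4, nat_lit 1, nat_lit 2, nat_lit 1, nat_lit 4, nat_lit 0, nat_lit 1, nat_lit 4, nat_lit 3, nat_lit 2, nat_lit 4, nat_lit 1, nat_lit 0]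
def Wt_684_688 (j : ℕ) : List ℕ := bif Nat.blt j 686 then (Wt_684_686 j) else (Wt_686_688 j)
def Wt_680_688 (j : ℕ) : List ℕ := bif Nat.blt j 684 then (Wt_680_684 j) else (Wt_684_688 j)
def Wt_688_690 (j : ℕ) : List ℕ := bif Nat.blt j 689 then [nat_lit 63, nat_lit 0, nat_lit 1, nat_lit 4, nat_lit 0, nat_lit 1, nat_lit 4, nat_lit 3, nat_lit 1, nat_lit 4, nat_lit 1, nat_lit 0, nat_lit 4, nat_lit 3, nat_lit 1, nat_lit 0, nat_lit 1, nat_lit 2] else [nat_lit 63, nat_lit 5, nat_lit 63, nat_lit 5, nat_lit 63]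
def Wt_690_692 (j : ℕ) : List ℕ := bif Nat.blt j 691 then [nat_lit 63, nat_lit 3, nat_lit 2, nat_lit 4, nat_lit 1, nat_lit 0, nat_lit 4, nat_lit 1, nat_lit 2, nat_lit 1, nat_lit 4, nat_lit 1, nat_lit 2, nat_lit 1, nat_lit 4, nat_lit 0, nat_lit 1, nat_lit 4] else [nat_lit 63, nat_lit 2, nat_lit 0, nat_lit 2, nat_lit 4, nat_lit 1, nat_lit 4, nat_lit 2, nat_lit 1, nat_lit 4, nat_lit 1, nat_lit 4, nat_lit 1, nat_lit 2, nat_lit 4, nat_lit 1, nat_lit 4]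
def Wt_688_692 (j : ℕ) : List ℕ := bif Nat.blt j 690 then (Wt_688_690 j) else (Wt_690_692 j)
def Wt_692_694 (j : ℕ) : List ℕ := bif Nat.blt j 693 then [nat_lit 63, nat_lit 1, nat_lit 3, nat_lit 0, nat_lit 3, nat_lit 4, nat_lit 2, nat_lit 3, nat_lit 4, nat_lit 2, nat_lit 4, nat_lit 1, nat_lit 4, nat_lit 2, nat_lit 4, nat_lit 3, nat_lit 2, nat_lit 4] else [nat_lit 63, nat_lit 1, nat_lit 0, nat_lit 1, nat_lit 0, nat_lit 1, nat_lit 0, nat_lit 1, nat_lit 0, nat_lit 1, nat_lit 0, nat_lit 1, nat_lit 0]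
def Wt_695_697 (j : ℕ) : List ℕ := bif Nat.blt j 696 then [nat_lit 63, nat_lit 4, nat_lit 1, nat_lit 2, nat_lit 1, nat_lit 4, nat_lit 0, nat_lit 1, nat_lit 4, nat_lit 3, nat_lit 2, nat_lit 4, nat_lit 1, nat_lit 0, nat_lit 4, nat_lit 1, nat_lit 2, nat_lit 1] else [nat_lit 63, nat_lit 1, nat_lit 2, nat_lit 3, nat_lit 1, nat_lit 0, nat_lit 4, nat_lit 3, nat_lit 4, nat_lit 2, nat_lit 3, nat_lit 4, nat_lit 1, nat_lit 4, nat_lit 0, nat_lit 1, nat_lit 0, nat_lit 4]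
def Wt_694_697 (j : ℕ) : List ℕ := bif Nat.blt j 695 then [nat_lit 63, nat_lit 4, nat_lit 1, nat_lit 4, nat_lit 1, nat_lit 2, nat_lit 4, nat_lit 1, nat_lit 4, nat_lit 2, nat_lit 0, nat_lit 2, nat_lit 4, nat_lit 1, nat_lit 4, nat_lit 2, nat_lit 1] else (Wt_695_697 j)
def Wt_692_697 (j : ℕ) : List ℕ := bif Nat.blt j 694 then (Wt_692_694 j) else (Wt_694_697 j)
def Wt_688_697 (j : ℕ) : List ℕ := bif Nat.blt j 692 then (Wt_688_692 j) else (Wt_692_697 j)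
def Wt_680_697 (j : ℕ) : List ℕ := bif Nat.blt j 688 then (Wt_680_688 j) else (Wt_688_697 j)
def Wt_697_699 (j : ℕ) : List ℕ := bif Nat.blt j 698 then [nat_lit 63, nat_lit 2, nat_lit 4, nat_lit 1, nat_lit 4, nat_lit 2, nat_lit 0, nat_lit 4, nat_lit 1, nat_lit 4, nat_lit 2, nat_lit 0, nat_lit 4, nat_lit 1, nat_lit 4, nat_lit 0] else [nat_lit 63, nat_lit 0, nat_lit 4, nat_lit 1, nat_lit 4, nat_lit 0, nat_lit 2, nat_lit 4, nat_lit 1, nat_lit 4, nat_lit 2, nat_lit 0, nat_lit 4, nat_lit 1, nat_lit 4, nat_lit 2]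
def Wt_699_701 (j : ℕ) : List ℕ := bif Nat.blt j 700 then [nat_lit 63, nat_lit 4, nat_lit 0, nat_lit 4, nat_lit 2, nat_lit 0, nat_lit 4, nat_lit 0, nat_lit 4, nat_lit 3, nat_lit 1, nat_lit 4, nat_lit 2, nat_lit 1, nat_lit 2, nat_lit 4, nat_lit 1, nat_lit 3] else [nat_lit 63, nat_lit 4, nat_lit 5, nat_lit 7, nat_lit 5, nat_lit 4, nat_lit 3, nat_lit 4, nat_lit 0, nat_lit 3, nat_lit 4, nat_lit 5, nat_lit 3, nat_lit 4, nat_lit 0, nat_lit 1]
def Wt_697_701 (j : ℕ) : List ℕ := bif Nat.blt j 699 then (Wt_697_699 j) else (Wt_699_701 j)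
def Wt_701_703 (j : ℕ) : List ℕ := bif Nat.blt j 702 then [nat_lit 63, nat_lit 0, nat_lit 2, nat_lit 3, nat_lit 0, nat_lit 2, nat_lit 1, nat_lit 0, nat_lit 2, nat_lit 3, nat_lit 0, nat_lit 2, nat_lit 1, nat_lit 0, nat_lit 2, nat_lit 3, nat_lit 0, nat_lit 2, nat_lit 1] else [nat_lit 63, nat_lit 0, nat_lit 2, nat_lit 1, nat_lit 0, nat_lit 2, nat_lit 3, nat_lit 0, nat_lit 2, nat_lit 1, nat_lit 0, nat_lit 2, nat_lit 3, nat_lit 0, nat_lit 2, nat_lit 1, nat_lit 0, nat_lit 2, nat_lit 3]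
def Wt_703_705 (j : ℕ) : List ℕ := bif Nat.blt j 704 then [nat_lit 63, nat_lit 3, nat_lit 1, nat_lit 4, nat_lit 1, nat_lit 4, nat_lit 1, nat_lit 4, nat_lit 1, nat_lit 4, nat_lit 3, nat_lit 4, nat_lit 3, nat_lit 4, nat_lit 3, nat_lit 4] else [nat_lit 63, nat_lit 1, nat_lit 0, nat_lit 1, nat_lit 3, nat_lit 4, nat_lit 0, nat_lit 1, nat_lit 4, nat_lit 1, nat_lit 3, nat_lit 4, nat_lit 1, nat_lit 0, nat_lit 4, nat_lit 1, nat_lit 0, nat_lit 2]
def Wt_701_705 (j : ℕ) : List ℕ := bif Nat.blt j 703 then (Wt_701_703 j) else (Wt_703_705 j)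
def Wt_697_705 (j : ℕ) : List ℕ := bif Nat.blt j 701 then (Wt_697_701 j) else (Wt_701_705 j)
def Wt_705_707 (j : ℕ) : List ℕ := bif Nat.blt j 706 then [nat_lit 63, nat_lit 3, nat_lit 0, nat_lit 2, nat_lit 1, nat_lit 0, nat_lit 2, nat_lit 3, nat_lit 0, nat_lit 2, nat_lit 1, nat_lit 0, nat_lit 2, nat_lit 3, nat_lit 0, nat_lit 2, nat_lit 1, nat_lit 0, nat_lit 2] else [nat_lit 63, nat_lit 3, nat_lit 1, nat_lit 4, nat_lit 1, nat_lit 3, nat_lit 0, nat_lit 1, nat_lit 0, nat_lit 3, nat_lit 1, nat_lit 4, nat_lit 1, nat_lit 3, nat_lit 0, nat_lit 1, nat_lit 0]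
def Wt_707_709 (j : ℕ) : List ℕ := bif Nat.blt j 708 then [nat_lit 63, nat_lit 3, nat_lit 4, nat_lit 0, nat_lit 1, nat_lit 3, nat_lit 2, nat_lit 1, nat_lit 4, nat_lit 0, nat_lit 1, nat_lit 0, nat_lit 4, nat_lit 1, nat_lit 4, nat_lit 3, nat_lit 2, nat_lit 4] else [nat_lit 63, nat_lit 6, nat_lit 63, nat_lit 7]
def Wt_705_709 (j : ℕ) : List ℕ := bif Nat.blt j 707 then (Wt_705_707 j) else (Wt_707_709 j)
def Wt_709_711 (j : ℕ) : List ℕ := bif Nat.blt j 710 then [nat_lit 63, nat_lit 63, nat_lit 3, nat_lit 63, nat_lit 3] else [nat_lit 63, nat_lit 63, nat_lit 1, nat_lit 63, nat_lit 1]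
def Wt_712_714 (j : ℕ) : List ℕ := bif Nat.blt j 713 then [nat_lit 63, nat_lit 0, nat_lit 63, nat_lit 0, nat_lit 63] else [nat_lit 63, nat_lit 63, nat_lit 4, nat_lit 63, nat_lit 4]
def Wt_711_714 (j : ℕ) : List ℕ := bif Nat.blt j 712 then [nat_lit 63, nat_lit 63, nat_lit 2, nat_lit 63, nat_lit 2] else (Wt_712_714 j)
def Wt_709_714 (j : ℕ) : List ℕ := bif Nat.blt j 711 then (Wt_709_711 j) else (Wt_711_714 j)
def Wt_705_714 (j : ℕ) : List ℕ := bif Nat.blt j 709 then (Wt_705_709 j) else (Wt_709_714 j)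
def Wt_697_714 (j : ℕ) : List ℕ := bif Nat.blt j 705 then (Wt_697_705 j) else (Wt_705_714 j)
def Wt_680_714 (j : ℕ) : List ℕ := bif Nat.blt j 697 then (Wt_680_697 j) else (Wt_697_714 j)
def Wt_714_716 (j : ℕ) : List ℕ := bif Nat.blt j 715 then [nat_lit 63, nat_lit 7, nat_lit 63, nat_lit 6] else [nat_lit 7, nat_lit 6, nat_lit 63]
def Wt_716_718 (j : ℕ) : List ℕ := bif Nat.blt j 717 then [nat_lit 63, nat_lit 63, nat_lit 5, nat_lit 63, nat_lit 5] else [nat_lit 63, nat_lit 63, nat_lit 0, nat_lit 63, nat_lit 0]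
def Wt_714_718 (j : ℕ) : List ℕ := bif Nat.blt j 716 then (Wt_714_716 j) else (Wt_716_718 j)
def Wt_718_720 (j : ℕ) : List ℕ := bif Nat.blt j 719 then [nat_lit 6, nat_lit 7, nat_lit 63] else [nat_lit 63, nat_lit 63, nat_lit 2, nat_lit 63, nat_lit 2, nat_lit 63]
def Wt_720_722 (j : ℕ) : List ℕ := bif Nat.blt j 721 then [nat_lit 63, nat_lit 63, nat_lit 63, nat_lit 63] else [nat_lit 63, nat_lit 63, nat_lit 5, nat_lit 63, nat_lit 5, nat_lit 63]
def Wt_718_722 (j : ℕ) : List ℕ := bif Nat.blt j 720 then (Wt_718_720 j) else (Wt_720_722 j)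
def Wt_714_722 (j : ℕ) : List ℕ := bif Nat.blt j 718 then (Wt_714_718 j) else (Wt_718_722 j)
def Wt_722_724 (j : ℕ) : List ℕ := bif Nat.blt j 723 then [nat_lit 63, nat_lit 63, nat_lit 0, nat_lit 63, nat_lit 0, nat_lit 63] else [nat_lit 0, nat_lit 63, nat_lit 0, nat_lit 63]
def Wt_724_726 (j : ℕ) : List ℕ := bif Nat.blt j 725 then [nat_lit 63, nat_lit 63, nat_lit 4, nat_lit 63, nat_lit 4, nat_lit 63] else [nat_lit 63, nat_lit 63, nat_lit 1, nat_lit 63, nat_lit 1, nat_lit 63]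
def Wt_722_726 (j : ℕ) : List ℕ := bif Nat.blt j 724 then (Wt_722_724 j) else (Wt_724_726 j)
def Wt_726_728 (j : ℕ) : List ℕ := bif Nat.blt j 727 then [nat_lit 63, nat_lit 63, nat_lit 3, nat_lit 63, nat_lit 3, nat_lit 63] else [nat_lit 63, nat_lit 6, nat_lit 63, nat_lit 7, nat_lit 63]
def Wt_729_731 (j : ℕ) : List ℕ := bif Nat.blt j 730 then [nat_lit 5, nat_lit 63, nat_lit 5, nat_lit 63] else [nat_lit 63, nat_lit 63, nat_lit 7, nat_lit 63, nat_lit 6]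
def Wt_728_731 (j : ℕ) : List ℕ := bif Nat.blt j 729 then [nat_lit 63, nat_lit 7, nat_lit 63, nat_lit 6, nat_lit 63] else (Wt_729_731 j)
def Wt_726_731 (j : ℕ) : List ℕ := bif Nat.blt j 728 then (Wt_726_728 j) else (Wt_728_731 j)
def Wt_722_731 (j : ℕ) : List ℕ := bif Nat.blt j 726 then (Wt_722_726 j) else (Wt_726_731 j)
def Wt_714_731 (j : ℕ) : List ℕ := bif Nat.blt j 722 then (Wt_714_722 j) else (Wt_722_731 j)
def Wt_731_733 (j : ℕ) : List ℕ := bif Nat.blt j 732 then [nat_lit 63, nat_lit 63, nat_lit 6, nat_lit 63, nat_lit 7] else [nat_lit 63, nat_lit 63, nat_lit 63, nat_lit 63, nat_lit 63]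
def Wt_733_735 (j : ℕ) : List ℕ := bif Nat.blt j 734 then [nat_lit 63, nat_lit 63, nat_lit 7, nat_lit 63, nat_lit 6, nat_lit 63] else [nat_lit 63, nat_lit 63, nat_lit 6, nat_lit 63, nat_lit 7, nat_lit 63]
def Wt_731_735 (j : ℕ) : List ℕ := bif Nat.blt j 733 then (Wt_731_733 j) else (Wt_733_735 j)
def Wt_735_737 (j : ℕ) : List ℕ := bif Nat.blt j 736 then [nat_lit 63, nat_lit 4, nat_lit 2, nat_lit 5, nat_lit 4, nat_lit 1, nat_lit 4, nat_lit 2, nat_lit 5, nat_lit 4, nat_lit 1, nat_lit 4, nat_lit 2, nat_lit 5, nat_lit 4, nat_lit 1] else [nat_lit 63, nat_lit 0, nat_lit 5, nat_lit 4, nat_lit 1, nat_lit 4, nat_lit 0, nat_lit 5, nat_lit 4, nat_lit 1, nat_lit 4, nat_lit 0, nat_lit 5, nat_lit 4, nat_lit 1, nat_lit 4, nat_lit 0, nat_lit 5, nat_lit 4, nat_lit 1, nat_lit 4]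
def Wt_737_739 (j : ℕ) : List ℕ := bif Nat.blt j 738 then [nat_lit 63, nat_lit 5, nat_lit 4, nat_lit 1, nat_lit 4, nat_lit 0, nat_lit 5, nat_lit 4, nat_lit 1, nat_lit 4, nat_lit 0, nat_lit 5, nat_lit 4, nat_lit 1, nat_lit 4, nat_lit 0, nat_lit 5, nat_lit 4, nat_lit 1, nat_lit 4, nat_lit 0] else [nat_lit 63, nat_lit 2, nat_lit 1, nat_lit 4, nat_lit 1, nat_lit 5, nat_lit 4, nat_lit 1, nat_lit 2, nat_lit 1, nat_lit 4, nat_lit 1, nat_lit 5, nat_lit 4, nat_lit 1, nat_lit 2, nat_lit 1, nat_lit 4, nat_lit 1, nat_lit 5, nat_lit 4, nat_lit 1]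
def Wt_735_739 (j : ℕ) : List ℕ := bif Nat.blt j 737 then (Wt_735_737 j) else (Wt_737_739 j)
def Wt_731_739 (j : ℕ) : List ℕ := bif Nat.blt j 735 then (Wt_731_735 j) else (Wt_735_739 j)
def Wt_739_741 (j : ℕ) : List ℕ := bif Nat.blt j 740 then [nat_lit 63, nat_lit 1, nat_lit 4, nat_lit 1, nat_lit 5, nat_lit 4, nat_lit 1, nat_lit 2, nat_lit 1, nat_lit 4, nat_lit 1, nat_lit 5, nat_lit 4, nat_lit 1, nat_lit 2, nat_lit 1, nat_lit 4, nat_lit 1, nat_lit 5, nat_lit 4, nat_lit 1, nat_lit 2] else [nat_lit 63, nat_lit 5, nat_lit 4, nat_lit 2, nat_lit 4, nat_lit 5, nat_lit 4, nat_lit 2, nat_lit 4, nat_lit 5, nat_lit 4, nat_lit 2, nat_lit 4, nat_lit 5, nat_lit 4, nat_lit 2, nat_lit 4, nat_lit 5, nat_lit 4, nat_lit 2, nat_lit 4, nat_lit 5, nat_lit 4, nat_lit 2, nat_lit 4]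
def Wt_741_743 (j : ℕ) : List ℕ := bif Nat.blt j 742 then [nat_lit 63, nat_lit 5, nat_lit 3, nat_lit 4, nat_lit 3, nat_lit 0, nat_lit 5, nat_lit 3, nat_lit 4, nat_lit 3, nat_lit 0, nat_lit 5, nat_lit 3, nat_lit 4, nat_lit 3, nat_lit 0, nat_lit 5, nat_lit 3, nat_lit 4, nat_lit 3, nat_lit 0, nat_lit 5, nat_lit 3, nat_lit 4, nat_lit 3, nat_lit 0] else [nat_lit 63, nat_lit 3, nat_lit 4, nat_lit 2, nat_lit 5, nat_lit 1, nat_lit 2, nat_lit 4, nat_lit 0, nat_lit 4, nat_lit 3, nat_lit 4, nat_lit 2, nat_lit 5, nat_lit 1, nat_lit 2, nat_lit 4, nat_lit 0, nat_lit 4, nat_lit 3, nat_lit 4, nat_lit 2, nat_lit 5, nat_lit 1, nat_lit 2, nat_lit 4, nat_lit 0, nat_lit 4]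
def Wt_739_743 (j : ℕ) : List ℕ := bif Nat.blt j 741 then (Wt_739_741 j) else (Wt_741_743 j)
def Wt_743_745 (j : ℕ) : List ℕ := bif Nat.blt j 744 then [nat_lit 63, nat_lit 4, nat_lit 0, nat_lit 5, nat_lit 4, nat_lit 3, nat_lit 4, nat_lit 0, nat_lit 5, nat_lit 4, nat_lit 3, nat_lit 4, nat_lit 0, nat_lit 5, nat_lit 4, nat_lit 3, nat_lit 4, nat_lit 0, nat_lit 5, nat_lit 4, nat_lit 3, nat_lit 4, nat_lit 0, nat_lit 5, nat_lit 4, nat_lit 3, nat_lit 4, nat_lit 0, nat_lit 5, nat_lit 4, nat_lit 3] else [nat_lit 63, nat_lit 4, nat_lit 2, nat_lit 5, nat_lit 4, nat_lit 3, nat_lit 4, nat_lit 3, nat_lit 4, nat_lit 2, nat_lit 5, nat_lit 4, nat_lit 3, nat_lit 4, nat_lit 3, nat_lit 4, nat_lit 2, nat_lit 5, nat_lit 4, nat_lit 3, nat_lit 4, nat_lit 3, nat_lit 4, nat_lit 2, nat_lit 5, nat_lit 4, nat_lit 3, nat_lit 4, nat_lit 3, nat_lit 4, nat_lit 2, nat_lit 5, nat_lit 4, nat_lit 3, nat_lit 4, nat_lit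 3]
def Wt_746_748 (j : ℕ) : List ℕ := bif Nat.blt j 747 then [nat_lit 63, nat_lit 4, nat_lit 1, nat_lit 0, nat_lit 5, nat_lit 4, nat_lit 0, nat_lit 4, nat_lit 3, nat_lit 4, nat_lit 1, nat_lit 0, nat_lit 5, nat_lit 4, nat_lit 0, nat_lit 4, nat_lit 3, nat_lit 4, nat_lit 1, nat_lit 0, nat_lit 5, nat_lit 4, nat_lit 0, nat_lit 4, nat_lit 3, nat_lit 4, nat_lit 1, nat_lit 0, nat_lit 5, nat_lit 4, nat_lit 0, nat_lit 4, nat_lit 3, nat_lit 4, nat_lit 1, nat_lit 0, nat_lit 5, nat_lit 4, nat_lit 0, nat_lit 4, nat_lit 3] else [nat_lit 63, nat_lit 1, nat_lit 0, nat_lit 5, nat_lit 4, nat_lit 0, nat_lit 4, nat_lit 3, nat_lit 4, nat_lit 1, nat_lit 0, nat_lit 5, nat_lit 4, nat_lit 0, nat_lit 4, nat_lit 3, nat_lit 4, nat_lit 1, nat_lit 0, nat_lit 5, nat_lit 4, nat_lit 0, nat_lit 4, nat_lit 3, nat_lit 4, nat_lit 1, nat_lit 0, nat_lit 5, nat_lit 4, nat_lit 0, nat_lit 4, nat_lit 3, nat_lit 4, nat_lit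 1, nat_lit 0, nat_lit 5, nat_lit 4, nat_lit 0, nat_lit 4, nat_lit 3, nat_lit 4]
def Wt_745_748 (j : ℕ) : List ℕ := bif Nat.blt j 746 then [nat_lit 63, nat_lit 4, nat_lit 3, nat_lit 0, nat_lit 3, nat_lit 5, nat_lit 4, nat_lit 0, nat_lit 4, nat_lit 3, nat_lit 0, nat_lit 3, nat_lit 5, nat_lit 4, nat_lit 0, nat_lit 4, nat_lit 3, nat_lit 0, nat_lit 3, nat_lit 5, nat_lit 4, nat_lit 0, nat_lit 4, nat_lit 3, nat_lit 0, nat_lit 3, nat_lit 5, nat_lit 4, nat_lit 0, nat_lit 4, nat_lit 3, nat_lit 0, nat_lit 3, nat_lit 5, nat_lit 4, nat_lit 0] else (Wt_746_748 j)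
def Wt_743_748 (j : ℕ) : List ℕ := bif Nat.blt j 745 then (Wt_743_745 j) else (Wt_745_748 j)
def Wt_739_748 (j : ℕ) : List ℕ := bif Nat.blt j 743 then (Wt_739_743 j) else (Wt_743_748 j)
def Wt_731_748 (j : ℕ) : List ℕ := bif Nat.blt j 739 then (Wt_731_739 j) else (Wt_739_748 j)
def Wt_714_748 (j : ℕ) : List ℕ := bif Nat.blt j 731 then (Wt_714_731 j) else (Wt_731_748 j)
def Wt_680_748 (j : ℕ) : List ℕ := bif Nat.blt j 714 then (Wt_680_714 j) else (Wt_714_748 j)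
def Wt_748_750 (j : ℕ) : List ℕ := bif Nat.blt j 749 then [nat_lit 63, nat_lit 0, nat_lit 4, nat_lit 5, nat_lit 0, nat_lit 1, nat_lit 4, nat_lit 3, nat_lit 4, nat_lit 0, nat_lit 4, nat_lit 5, nat_lit 0, nat_lit 1, nat_lit 4, nat_lit 3, nat_lit 4, nat_lit 0, nat_lit 4, nat_lit 5, nat_lit 0, nat_lit 1, nat_lit 4, nat_lit 3, nat_lit 4, nat_lit 0, nat_lit 4, nat_lit 5, nat_lit 0, nat_lit 1, nat_lit 4, nat_lit 3, nat_lit 4, nat_lit 0, nat_lit 4, nat_lit 5, nat_lit 0, nat_lit 1, nat_lit 4, nat_lit 3, nat_lit 4] else [nat_lit 4, nat_lit 2, nat_lit 0, nat_lit 4, nat_lit 1, nat_lit 5, nat_lit 4, nat_lit 1, nat_lit 0, nat_lit 4, nat_lit 2, nat_lit 0, nat_lit 4, nat_lit 1, nat_lit 5, nat_lit 4, nat_lit 1, nat_lit 0, nat_lit 4, nat_lit 2, nat_lit 0, nat_lit 4, nat_lit 1, nat_lit 5, nat_lit 4, nat_lit 1, nat_lit 0, nat_lit 4, nat_lit 2, nat_lit 0, nat_lit 4, nat_lit 1, nat_lit 5, nat_lit 4, nat_lit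 1, nat_lit 0, nat_lit 4, nat_lit 2, nat_lit 0, nat_lit 4, nat_lit 1, nat_lit 5, nat_lit 4, nat_lit 1, nat_lit 0]
def Wt_750_752 (j : ℕ) : List ℕ := bif Nat.blt j 751 then [nat_lit 63, nat_lit 0, nat_lit 4, nat_lit 1, nat_lit 5, nat_lit 4, nat_lit 3, nat_lit 0, nat_lit 1, nat_lit 0, nat_lit 4, nat_lit 1, nat_lit 5, nat_lit 4, nat_lit 3, nat_lit 0, nat_lit 1, nat_lit 0, nat_lit 4, nat_lit 1, nat_lit 5, nat_lit 4, nat_lit 3, nat_lit 0, nat_lit 1, nat_lit 0, nat_lit 4, nat_lit 1, nat_lit 5, nat_lit 4, nat_lit 3, nat_lit 0, nat_lit 1, nat_lit 0, nat_lit 4, nat_lit 1, nat_lit 5, nat_lit 4, nat_lit 3, nat_lit 0, nat_lit 1, nat_lit 0, nat_lit 4, nat_lit 1, nat_lit 5, nat_lit 4, nat_lit 3, nat_lit 0, nat_lit 1] else [nat_lit 63, nat_lit 4, nat_lit 5, nat_lit 1, nat_lit 4, nat_lit 0, nat_lit 1, nat_lit 0, nat_lit 3, nat_lit 4, nat_lit 5, nat_lit 1, nat_lit 4, nat_lit 0, nat_lit 1, nat_lit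 0, nat_lit 3, nat_lit 4, nat_lit 5, nat_lit 1, nat_lit 4, nat_lit 0, nat_lit 1, nat_lit 0, nat_lit 3, nat_lit 4, nat_lit 5, nat_lit 1, nat_lit 4, nat_lit 0, nat_lit 1, nat_lit 0, nat_lit 3, nat_lit 4, nat_lit 5, nat_lit 1, nat_lit 4, nat_lit 0, nat_lit 1, nat_lit 0, nat_lit 3, nat_lit 4, nat_lit 5, nat_lit 1, nat_lit 4, nat_lit 0, nat_lit 1, nat_lit 0, nat_lit 3]
def Wt_748_752 (j : ℕ) : List ℕ := bif Nat.blt j 750 then (Wt_748_750 j) else (Wt_750_752 j)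
def Wt_752_754 (j : ℕ) : List ℕ := bif Nat.blt j 753 then [nat_lit 63, nat_lit 4, nat_lit 3, nat_lit 4, nat_lit 0, nat_lit 3, nat_lit 4, nat_lit 5, nat_lit 3, nat_lit 4, nat_lit 0, nat_lit 1, nat_lit 4, nat_lit 5, nat_lit 7, nat_lit 5] else [nat_lit 63, nat_lit 4, nat_lit 0, nat_lit 3, nat_lit 4, nat_lit 5, nat_lit 3, nat_lit 4, nat_lit 0, nat_lit 1, nat_lit 4, nat_lit 5, nat_lit 7, nat_lit 5, nat_lit 4, nat_lit 3]
def Wt_754_756 (j : ℕ) : List ℕ := bif Nat.blt j 755 then [nat_lit 63, nat_lit 3, nat_lit 4, nat_lit 0, nat_lit 3, nat_lit 4, nat_lit 5, nat_lit 3, nat_lit 4, nat_lit 0, nat_lit 1, nat_lit 4, nat_lit 5, nat_lit 7, nat_lit 5, nat_lit 4] else [nat_lit 63, nat_lit 3, nat_lit 4, nat_lit 5, nat_lit 3, nat_lit 4, nat_lit 0, nat_lit 1, nat_lit 4, nat_lit 5, nat_lit 7, nat_lit 5, nat_lit 4, nat_lit 3, nat_lit 4, nat_lit 0]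
def Wt_752_756 (j : ℕ) : List ℕ := bif Nat.blt j 754 then (Wt_752_754 j) else (Wt_754_756 j)
def Wt_748_756 (j : ℕ) : List ℕ := bif Nat.blt j 752 then (Wt_748_752 j) else (Wt_752_756 j)
def Wt_756_758 (j : ℕ) : List ℕ := bif Nat.blt j 757 then [nat_lit 63, nat_lit 3, nat_lit 4, nat_lit 5, nat_lit 6, nat_lit 5, nat_lit 4, nat_lit 1, nat_lit 0, nat_lit 4, nat_lit 3, nat_lit 5, nat_lit 4, nat_lit 3, nat_lit 0, nat_lit 4] else [nat_lit 63, nat_lit 0, nat_lit 4, nat_lit 3, nat_lit 5, nat_lit 4, nat_lit 3, nat_lit 0, nat_lit 4, nat_lit 3, nat_lit 4, nat_lit 5, nat_lit 6, nat_lit 5, nat_lit 4, nat_lit 1]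
def Wt_758_760 (j : ℕ) : List ℕ := bif Nat.blt j 759 then [nat_lit 63, nat_lit 4, nat_lit 1, nat_lit 4, nat_lit 2, nat_lit 0, nat_lit 4, nat_lit 1, nat_lit 4, nat_lit 2, nat_lit 0, nat_lit 4, nat_lit 1, nat_lit 4, nat_lit 0, nat_lit 2] else [nat_lit 63, nat_lit 1, nat_lit 4, nat_lit 1, nat_lit 4, nat_lit 1, nat_lit 4, nat_lit 1, nat_lit 3, nat_lit 4, nat_lit 3, nat_lit 4, nat_lit 3, nat_lit 4, nat_lit 3, nat_lit 4]
def Wt_756_760 (j : ℕ) : List ℕ := bif Nat.blt j 758 then (Wt_756_758 j) else (Wt_758_760 j)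
def Wt_760_762 (j : ℕ) : List ℕ := bif Nat.blt j 761 then [nat_lit 63, nat_lit 1, nat_lit 4, nat_lit 0, nat_lit 1, nat_lit 0, nat_lit 4, nat_lit 1, nat_lit 2, nat_lit 3, nat_lit 1, nat_lit 0, nat_lit 4, nat_lit 3, nat_lit 4, nat_lit 2, nat_lit 3, nat_lit 4] else [nat_lit 63, nat_lit 2, nat_lit 5, nat_lit 4, nat_lit 1, nat_lit 4, nat_lit 2, nat_lit 5, nat_lit 4, nat_lit 1, nat_lit 4, nat_lit 2, nat_lit 5, nat_lit 4, nat_lit 1, nat_lit 4]
def Wt_763_765 (j : ℕ) : List ℕ := bif Nat.blt j 764 then [nat_lit 63, nat_lit 4, nat_lit 2, nat_lit 1, nat_lit 5, nat_lit 2, nat_lit 4, nat_lit 3, nat_lit 4, nat_lit 0, nat_lit 4, nat_lit 2, nat_lit 1, nat_lit 5, nat_lit 2, nat_lit 4, nat_lit 3, nat_lit 4, nat_lit 0, nat_lit 4, nat_lit 2, nat_lit 1, nat_lit 5, nat_lit 2, nat_lit 4, nat_lit 3, nat_lit 4, nat_lit 0] else [nat_lit 63, nat_lit 0, nat_lit 4, nat_lit 2, nat_lit 1, nat_lit 5, nat_lit 2,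 nat_lit 4, nat_lit 3, nat_lit 4, nat_lit 0, nat_lit 4, nat_lit 2, nat_lit 1, nat_lit 5, nat_lit 2, nat_lit 4, nat_lit 3, nat_lit 4, nat_lit 0, nat_lit 4, nat_lit 2, nat_lit 1, nat_lit 5, nat_lit 2, nat_lit 4, nat_lit 3, nat_lit 4]
def Wt_762_765 (j : ℕ) : List ℕ := bif Nat.blt j 763 then [nat_lit 63, nat_lit 2, nat_lit 4, nat_lit 1, nat_lit 5, nat_lit 4, nat_lit 3, nat_lit 2, nat_lit 4, nat_lit 1, nat_lit 5, nat_lit 4, nat_lit 3, nat_lit 2, nat_lit 4, nat_lit 1, nat_lit 5, nat_lit 4, nat_lit 3, nat_lit 2, nat_lit 4, nat_lit 1, nat_lit 5, nat_lit 4, nat_lit 3] else (Wt_763_765 j)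
def Wt_760_765 (j : ℕ) : List ℕ := bif Nat.blt j 762 then (Wt_760_762 j) else (Wt_762_765 j)
def Wt_756_765 (j : ℕ) : List ℕ := bif Nat.blt j 760 then (Wt_756_760 j) else (Wt_760_765 j)
def Wt_748_765 (j : ℕ) : List ℕ := bif Nat.blt j 756 then (Wt_748_756 j) else (Wt_756_765 j)
def Wt_765_767 (j : ℕ) : List ℕ := bif Nat.blt j 766 then [nat_lit 63, nat_lit 0, nat_lit 5, nat_lit 1, nat_lit 4, nat_lit 1, nat_lit 0, nat_lit 1, nat_lit 0, nat_lit 5, nat_lit 1, nat_lit 4, nat_lit 1, nat_lit 0, nat_lit 1, nat_lit 0, nat_lit 5, nat_lit 1, nat_lit 4, nat_lit 1, nat_lit 0, nat_lit 1, nat_lit 0, nat_lit 5, nat_lit 1, nat_lit 4, nat_lit 1, nat_lit 0, nat_lit 1] else [nat_lit 63, nat_lit 1, nat_lit 5, nat_lit 2, nat_lit 4, nat_lit 2, nat_lit 1, nat_lit 5, nat_lit 2, nat_lit 4, nat_lit 2, nat_lit 1, nat_lit 5, nat_lit 2, nat_lit 4, nat_lit 2, nat_lit 1, nat_lit 5, nat_lit 2, nat_lit 4, nat_lit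 2, nat_lit 1, nat_lit 5, nat_lit 2, nat_lit 4, nat_lit 2, nat_lit 1, nat_lit 5, nat_lit 2, nat_lit 4, nat_lit 2]
def Wt_767_769 (j : ℕ) : List ℕ := bif Nat.blt j 768 then [nat_lit 63, nat_lit 3, nat_lit 0, nat_lit 3, nat_lit 5, nat_lit 4, nat_lit 0, nat_lit 4, nat_lit 3, nat_lit 0, nat_lit 3, nat_lit 5, nat_lit 4, nat_lit 0, nat_lit 4, nat_lit 3, nat_lit 0, nat_lit 3, nat_lit 5, nat_lit 4, nat_lit 0, nat_lit 4, nat_lit 3, nat_lit 0, nat_lit 3, nat_lit 5, nat_lit 4, nat_lit 0, nat_lit 4, nat_lit 3, nat_lit 0, nat_lit 3, nat_lit 5, nat_lit 4, nat_lit 0, nat_lit 4] else [nat_lit 63, nat_lit 4, nat_lit 5, nat_lit 0, nat_lit 1, nat_lit 4, nat_lit 3, nat_lit 4, nat_lit 0, nat_lit 4, nat_lit 5, nat_lit 0, nat_lit 1, nat_lit 4, nat_lit 3, nat_lit 4, nat_lit 0, nat_lit 4, nat_lit 5, nat_lit 0, nat_lit 1, nat_lit 4, nat_lit 3, nat_lit 4, nat_lit 0, nat_lit 4, nat_lit 5, nat_lit 0, nat_lit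 1, nat_lit 4, nat_lit 3, nat_lit 4, nat_lit 0, nat_lit 4, nat_lit 5, nat_lit 0, nat_lit 1, nat_lit 4, nat_lit 3, nat_lit 4, nat_lit 0]
def Wt_765_769 (j : ℕ) : List ℕ := bif Nat.blt j 767 then (Wt_765_767 j) else (Wt_767_769 j)
def Wt_769_771 (j : ℕ) : List ℕ := bif Nat.blt j 770 then [nat_lit 63, nat_lit 3, nat_lit 4, nat_lit 5, nat_lit 1, nat_lit 4, nat_lit 0, nat_lit 1, nat_lit 0, nat_lit 3, nat_lit 4, nat_lit 5, nat_lit 1, nat_lit 4, nat_lit 0, nat_lit 1, nat_lit 0, nat_lit 3, nat_lit 4, nat_lit 5, nat_lit 1, nat_lit 4, nat_lit 0, nat_lit 1, nat_lit 0, nat_lit 3, nat_lit 4, nat_lit 5, nat_lit 1, nat_lit 4, nat_lit 0, nat_lit 1, nat_lit 0, nat_lit 3, nat_lit 4, nat_lit 5, nat_lit 1, nat_lit 4, nat_lit 0, nat_lit 1, nat_lit 0, nat_lit 3, nat_lit 4, nat_lit 5, nat_lit 1, nat_lit 4, nat_lit 0, nat_lit 1, nat_lit 0] else [nat_lit 63, nat_lit 2, nat_lit 1, nat_lit 4, nat_lit 1, nat_lit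 2, nat_lit 1, nat_lit 4, nat_lit 0, nat_lit 1, nat_lit 4, nat_lit 3, nat_lit 2, nat_lit 4, nat_lit 1, nat_lit 0, nat_lit 4, nat_lit 1]
def Wt_771_773 (j : ℕ) : List ℕ := bif Nat.blt j 772 then [nat_lit 63, nat_lit 4, nat_lit 1, nat_lit 5, nat_lit 4, nat_lit 1, nat_lit 2, nat_lit 1, nat_lit 4, nat_lit 1, nat_lit 5, nat_lit 4, nat_lit 1, nat_lit 2, nat_lit 1, nat_lit 4, nat_lit 1, nat_lit 5, nat_lit 4, nat_lit 1, nat_lit 2, nat_lit 1] else [nat_lit 63, nat_lit 2, nat_lit 4, nat_lit 2, nat_lit 1, nat_lit 5, nat_lit 2, nat_lit 4, nat_lit 2, nat_lit 1, nat_lit 5, nat_lit 2, nat_lit 4, nat_lit 2, nat_lit 1, nat_lit 5, nat_lit 2, nat_lit 4, nat_lit 2, nat_lit 1, nat_lit 5, nat_lit 2, nat_lit 4, nat_lit 2, nat_lit 1, nat_lit 5, nat_lit 2, nat_lit 4, nat_lit 2, nat_lit 1, nat_lit 5]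
def Wt_769_773 (j : ℕ) : List ℕ := bif Nat.blt j 771 then (Wt_769_771 j) else (Wt_771_773 j)
def Wt_765_773 (j : ℕ) : List ℕ := bif Nat.blt j 769 then (Wt_765_769 j) else (Wt_769_773 j)
def Wt_773_775 (j : ℕ) : List ℕ := bif Nat.blt j 774 then [nat_lit 63, nat_lit 3, nat_lit 4, nat_lit 1, nat_lit 0, nat_lit 5, nat_lit 4, nat_lit 0, nat_lit 4, nat_lit 3, nat_lit 4, nat_lit 1, nat_lit 0, nat_lit 5, nat_lit 4, nat_lit 0, nat_lit 4, nat_lit 3, nat_lit 4, nat_lit 1, nat_lit 0, nat_lit 5, nat_lit 4, nat_lit 0, nat_lit 4, nat_lit 3, nat_lit 4, nat_lit 1, nat_lit 0, nat_lit 5, nat_lit 4, nat_lit 0, nat_lit 4, nat_lit 3, nat_lit 4, nat_lit 1, nat_lit 0, nat_lit 5, nat_lit 4, nat_lit 0, nat_lit 4] else [nat_lit 63, nat_lit 2, nat_lit 0, nat_lit 4, nat_lit 1, nat_lit 5, nat_lit 4, nat_lit 1, nat_lit 0, nat_lit 4, nat_lit 2, nat_lit 0, nat_lit 4, nat_lit 1, nat_lit 5, nat_lit 4, nat_lit 1, nat_lit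 0, nat_lit 4, nat_lit 2, nat_lit 0, nat_lit 4, nat_lit 1, nat_lit 5, nat_lit 4, nat_lit 1, nat_lit 0, nat_lit 4, nat_lit 2, nat_lit 0, nat_lit 4, nat_lit 1, nat_lit 5, nat_lit 4, nat_lit 1, nat_lit 0, nat_lit 4, nat_lit 2, nat_lit 0, nat_lit 4, nat_lit 1, nat_lit 5, nat_lit 4, nat_lit 1, nat_lit 0, nat_lit 4]
def Wt_775_777 (j : ℕ) : List ℕ := bif Nat.blt j 776 then [nat_lit 63, nat_lit 1, nat_lit 0, nat_lit 4, nat_lit 1, nat_lit 5, nat_lit 4, nat_lit 3, nat_lit 0, nat_lit 1, nat_lit 0, nat_lit 4, nat_lit 1, nat_lit 5, nat_lit 4, nat_lit 3, nat_lit 0, nat_lit 1, nat_lit 0, nat_lit 4, nat_lit 1, nat_lit 5, nat_lit 4, nat_lit 3, nat_lit 0, nat_lit 1, nat_lit 0, nat_lit 4, nat_lit 1, nat_lit 5, nat_lit 4, nat_lit 3, nat_lit 0, nat_lit 1, nat_lit 0, nat_lit 4, nat_lit 1, nat_lit 5, nat_lit 4, nat_lit 3, nat_lit 0, nat_lit 1, nat_lit 0, nat_lit 4, nat_lit 1, nat_lit 5, nat_lit 4, nat_lit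 3, nat_lit 0] else [nat_lit 1, nat_lit 0, nat_lit 4, nat_lit 1, nat_lit 5, nat_lit 4, nat_lit 3, nat_lit 0, nat_lit 1, nat_lit 0, nat_lit 4, nat_lit 1, nat_lit 5, nat_lit 4, nat_lit 3, nat_lit 0, nat_lit 1, nat_lit 0, nat_lit 4, nat_lit 1, nat_lit 5, nat_lit 4, nat_lit 3, nat_lit 0, nat_lit 1, nat_lit 0, nat_lit 4, nat_lit 1, nat_lit 5, nat_lit 4, nat_lit 3, nat_lit 0, nat_lit 1, nat_lit 0, nat_lit 4, nat_lit 1, nat_lit 5, nat_lit 4, nat_lit 3, nat_lit 0, nat_lit 1, nat_lit 0, nat_lit 4, nat_lit 1, nat_lit 5, nat_lit 4, nat_lit 3, nat_lit 0]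
def Wt_773_777 (j : ℕ) : List ℕ := bif Nat.blt j 775 then (Wt_773_775 j) else (Wt_775_777 j)
def Wt_777_779 (j : ℕ) : List ℕ := bif Nat.blt j 778 then [nat_lit 63, nat_lit 3, nat_lit 1, nat_lit 4, nat_lit 1, nat_lit 0, nat_lit 4, nat_lit 3, nat_lit 1, nat_lit 0, nat_lit 1, nat_lit 2, nat_lit 0, nat_lit 1, nat_lit 4, nat_lit 0, nat_lit 1, nat_lit 4] else [nat_lit 63, nat_lit 7, nat_lit 5, nat_lit 4, nat_lit 3, nat_lit 4, nat_lit 0, nat_lit 3, nat_lit 4, nat_lit 5, nat_lit 3, nat_lit 4, nat_lit 0, nat_lit 1, nat_lit 4, nat_lit 5]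
def Wt_780_782 (j : ℕ) : List ℕ := bif Nat.blt j 781 then [nat_lit 63, nat_lit 1, nat_lit 0, nat_lit 4, nat_lit 3, nat_lit 1, nat_lit 0, nat_lit 1, nat_lit 2, nat_lit 0, nat_lit 1, nat_lit 4, nat_lit 0, nat_lit 1, nat_lit 4, nat_lit 3, nat_lit 1, nat_lit 4] else [nat_lit 63, nat_lit 4, nat_lit 0, nat_lit 3, nat_lit 4, nat_lit 0, nat_lit 3, nat_lit 0, nat_lit 4, nat_lit 3, nat_lit 0, nat_lit 4, nat_lit 3, nat_lit 4, nat_lit 2, nat_lit 3, nat_lit 4, nat_lit 3]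
def Wt_779_782 (j : ℕ) : List ℕ := bif Nat.blt j 780 then [nat_lit 63, nat_lit 4, nat_lit 1, nat_lit 0, nat_lit 4, nat_lit 1, nat_lit 2, nat_lit 1, nat_lit 4, nat_lit 1, nat_lit 2, nat_lit 1, nat_lit 4, nat_lit 0, nat_lit 1, nat_lit 4, nat_lit 2, nat_lit 3] else (Wt_780_782 j)
def Wt_777_782 (j : ℕ) : List ℕ := bif Nat.blt j 779 then (Wt_777_779 j) else (Wt_779_782 j)
def Wt_773_782 (j : ℕ) : List ℕ := bif Nat.blt j 777 then (Wt_773_777 j) else (Wt_777_782 j)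
def Wt_765_782 (j : ℕ) : List ℕ := bif Nat.blt j 773 then (Wt_765_773 j) else (Wt_773_782 j)
def Wt_748_782 (j : ℕ) : List ℕ := bif Nat.blt j 765 then (Wt_748_765 j) else (Wt_765_782 j)
def Wt_782_784 (j : ℕ) : List ℕ := bif Nat.blt j 783 then [nat_lit 63, nat_lit 4, nat_lit 1, nat_lit 2, nat_lit 4, nat_lit 3, nat_lit 1, nat_lit 3, nat_lit 1, nat_lit 3, nat_lit 1, nat_lit 3, nat_lit 4, nat_lit 2, nat_lit 1, nat_lit 4, nat_lit 3] else [nat_lit 63, nat_lit 1, nat_lit 0, nat_lit 4, nat_lit 1, nat_lit 0, nat_lit 2, nat_lit 1, nat_lit 0, nat_lit 1, nat_lit 3, nat_lit 4, nat_lit 0, nat_lit 1, nat_lit 4, nat_lit 1, nat_lit 3, nat_lit 4]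
def Wt_784_786 (j : ℕ) : List ℕ := bif Nat.blt j 785 then [nat_lit 63, nat_lit 6, nat_lit 5, nat_lit 4, nat_lit 1, nat_lit 0, nat_lit 4, nat_lit 3, nat_lit 5, nat_lit 4, nat_lit 3, nat_lit 0, nat_lit 4, nat_lit 3, nat_lit 4, nat_lit 5] else [nat_lit 63, nat_lit 1, nat_lit 0, nat_lit 4, nat_lit 3, nat_lit 5, nat_lit 4, nat_lit 3, nat_lit 0, nat_lit 4, nat_lit 3, nat_lit 4, nat_lit 5, nat_lit 6, nat_lit 5, nat_lit 4]
def Wt_782_786 (j : ℕ) : List ℕ := bif Nat.blt j 784 then (Wt_782_784 j) else (Wt_784_786 j)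
def Wt_786_788 (j : ℕ) : List ℕ := bif Nat.blt j 787 then [nat_lit 2, nat_lit 0, nat_lit 4, nat_lit 1, nat_lit 5, nat_lit 4, nat_lit 1, nat_lit 0, nat_lit 4, nat_lit 2, nat_lit 0, nat_lit 4, nat_lit 1, nat_lit 5, nat_lit 4, nat_lit 1, nat_lit 0, nat_lit 4, nat_lit 2, nat_lit 0, nat_lit 4, nat_lit 1, nat_lit 5, nat_lit 4, nat_lit 1, nat_lit 0, nat_lit 4, nat_lit 2, nat_lit 0, nat_lit 4, nat_lit 1, nat_lit 5, nat_lit 4, nat_lit 1, nat_lit 0, nat_lit 4, nat_lit 2, nat_lit 0, nat_lit 4, nat_lit 1, nat_lit 5, nat_lit 4, nat_lit 1, nat_lit 0, nat_lit 4] else [nat_lit 63, nat_lit 4, nat_lit 0, nat_lit 1, nat_lit 4, nat_lit 1, nat_lit 5, nat_lit 4, nat_lit 2, nat_lit 0, nat_lit 4, nat_lit 0, nat_lit 1, nat_lit 4, nat_lit 1, nat_lit 5, nat_lit 4, nat_lit 2, nat_lit 0, nat_lit 4, nat_lit 0, nat_lit 1, nat_lit 4, nat_lit 1, nat_lit 5, nat_lit 4, nat_lit 2, nat_lit 0, nat_lit 4, nat_lit 0, nat_lit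 1, nat_lit 4, nat_lit 1, nat_lit 5, nat_lit 4, nat_lit 2, nat_lit 0, nat_lit 4, nat_lit 0, nat_lit 1, nat_lit 4, nat_lit 1, nat_lit 5, nat_lit 4, nat_lit 2, nat_lit 0]
def Wt_788_790 (j : ℕ) : List ℕ := bif Nat.blt j 789 then [nat_lit 2, nat_lit 0, nat_lit 4, nat_lit 0, nat_lit 2, nat_lit 4, nat_lit 0, nat_lit 2, nat_lit 4, nat_lit 3, nat_lit 2, nat_lit 3, nat_lit 0, nat_lit 4, nat_lit 2, nat_lit 0, nat_lit 4] else [nat_lit 5, nat_lit 3, nat_lit 0, nat_lit 3, nat_lit 4, nat_lit 0, nat_lit 4, nat_lit 5, nat_lit 3, nat_lit 0, nat_lit 3, nat_lit 4, nat_lit 0, nat_lit 4, nat_lit 5, nat_lit 3, nat_lit 0, nat_lit 3, nat_lit 4, nat_lit 0, nat_lit 4, nat_lit 5, nat_lit 3, nat_lit 0, nat_lit 3, nat_lit 4, nat_lit 0, nat_lit 4, nat_lit 5, nat_lit 3, nat_lit 0, nat_lit 3, nat_lit 4, nat_lit 0, nat_lit 4]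
def Wt_786_790 (j : ℕ) : List ℕ := bif Nat.blt j 788 then (Wt_786_788 j) else (Wt_788_790 j)
def Wt_782_790 (j : ℕ) : List ℕ := bif Nat.blt j 786 then (Wt_782_786 j) else (Wt_786_790 j)
def Wt_790_792 (j : ℕ) : List ℕ := bif Nat.blt j 791 then [nat_lit 63, nat_lit 4, nat_lit 0, nat_lit 5, nat_lit 4, nat_lit 1, nat_lit 4, nat_lit 0, nat_lit 5, nat_lit 4, nat_lit 1, nat_lit 4, nat_lit 0, nat_lit 5, nat_lit 4, nat_lit 1, nat_lit 4, nat_lit 0, nat_lit 5, nat_lit 4, nat_lit 1] else [nat_lit 5, nat_lit 4, nat_lit 2, nat_lit 4, nat_lit 5, nat_lit 4, nat_lit 2, nat_lit 4, nat_lit 5, nat_lit 4, nat_lit 2, nat_lit 4, nat_lit 5, nat_lit 4, nat_lit 2, nat_lit 4, nat_lit 5, nat_lit 4, nat_lit 2, nat_lit 4, nat_lit 5, nat_lit 4, nat_lit 2, nat_lit 4]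
def Wt_792_794 (j : ℕ) : List ℕ := bif Nat.blt j 793 then [nat_lit 4, nat_lit 3, nat_lit 4, nat_lit 1, nat_lit 0, nat_lit 5, nat_lit 4, nat_lit 0, nat_lit 4, nat_lit 3, nat_lit 4, nat_lit 1, nat_lit 0, nat_lit 5, nat_lit 4, nat_lit 0, nat_lit 4, nat_lit 3, nat_lit 4, nat_lit 1, nat_lit 0, nat_lit 5, nat_lit 4, nat_lit 0, nat_lit 4, nat_lit 3, nat_lit 4, nat_lit 1, nat_lit 0, nat_lit 5, nat_lit 4, nat_lit 0, nat_lit 4, nat_lit 3, nat_lit 4, nat_lit 1, nat_lit 0, nat_lit 5, nat_lit 4, nat_lit 0] else [nat_lit 63, nat_lit 3, nat_lit 4, nat_lit 5, nat_lit 1, nat_lit 4, nat_lit 2, nat_lit 3, nat_lit 4, nat_lit 5, nat_lit 1, nat_lit 4, nat_lit 2, nat_lit 3, nat_lit 4, nat_lit 5, nat_lit 1, nat_lit 4, nat_lit 2, nat_lit 3, nat_lit 4, nat_lit 5, nat_lit 1, nat_lit 4, nat_lit 2]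
def Wt_790_794 (j : ℕ) : List ℕ := bif Nat.blt j 792 then (Wt_790_792 j) else (Wt_792_794 j)
def Wt_794_796 (j : ℕ) : List ℕ := bif Nat.blt j 795 then [nat_lit 63, nat_lit 3, nat_lit 4, nat_lit 2, nat_lit 5, nat_lit 4, nat_lit 3, nat_lit 4, nat_lit 3, nat_lit 4, nat_lit 2, nat_lit 5, nat_lit 4, nat_lit 3, nat_lit 4, nat_lit 3, nat_lit 4, nat_lit 2, nat_lit 5, nat_lit 4, nat_lit 3, nat_lit 4, nat_lit 3, nat_lit 4, nat_lit 2, nat_lit 5, nat_lit 4, nat_lit 3, nat_lit 4, nat_lit 3, nat_lit 4, nat_lit 2, nat_lit 5, nat_lit 4, nat_lit 3, nat_lit 4] else [nat_lit 63, nat_lit 3, nat_lit 5, nat_lit 4, nat_lit 0, nat_lit 4, nat_lit 3, nat_lit 0, nat_lit 3, nat_lit 5, nat_lit 4, nat_lit 0, nat_lit 4, nat_lit 3, nat_lit 0, nat_lit 3, nat_lit 5, nat_lit 4, nat_lit 0, nat_lit 4, nat_lit 3, nat_lit 0, nat_lit 3, nat_lit 5, nat_lit 4, nat_lit 0, nat_lit 4, nat_lit 3, nat_lit 0, nat_lit 3, nat_lit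 5, nat_lit 4, nat_lit 0, nat_lit 4, nat_lit 3, nat_lit 0]
def Wt_797_799 (j : ℕ) : List ℕ := bif Nat.blt j 798 then [nat_lit 63, nat_lit 4, nat_lit 3, nat_lit 4, nat_lit 2, nat_lit 5, nat_lit 1, nat_lit 2, nat_lit 4, nat_lit 0, nat_lit 4, nat_lit 3, nat_lit 4, nat_lit 2, nat_lit 5, nat_lit 1, nat_lit 2, nat_lit 4, nat_lit 0, nat_lit 4, nat_lit 3, nat_lit 4, nat_lit 2, nat_lit 5, nat_lit 1, nat_lit 2, nat_lit 4, nat_lit 0] else [nat_lit 63, nat_lit 1, nat_lit 4, nat_lit 1, nat_lit 0, nat_lit 4, nat_lit 3, nat_lit 1, nat_lit 0, nat_lit 1, nat_lit 2, nat_lit 0, nat_lit 1, nat_lit 4, nat_lit 0, nat_lit 1, nat_lit 4, nat_lit 3]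
def Wt_796_799 (j : ℕ) : List ℕ := bif Nat.blt j 797 then [nat_lit 63, nat_lit 4, nat_lit 1, nat_lit 4, nat_lit 3, nat_lit 2, nat_lit 4, nat_lit 3, nat_lit 4, nat_lit 0, nat_lit 1, nat_lit 3, nat_lit 2, nat_lit 1, nat_lit 4, nat_lit 0, nat_lit 1, nat_lit 0] else (Wt_797_799 j)
def Wt_794_799 (j : ℕ) : List ℕ := bif Nat.blt j 796 then (Wt_794_796 j) else (Wt_796_799 j)
def Wt_790_799 (j : ℕ) : List ℕ := bif Nat.blt j 794 then (Wt_790_794 j) else (Wt_794_799 j)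
def Wt_782_799 (j : ℕ) : List ℕ := bif Nat.blt j 790 then (Wt_782_790 j) else (Wt_790_799 j)
def Wt_799_801 (j : ℕ) : List ℕ := bif Nat.blt j 800 then [nat_lit 63, nat_lit 3, nat_lit 4, nat_lit 2, nat_lit 3, nat_lit 4, nat_lit 3, nat_lit 4, nat_lit 0, nat_lit 3, nat_lit 4, nat_lit 0, nat_lit 3, nat_lit 0, nat_lit 4, nat_lit 3, nat_lit 0, nat_lit 4] else [nat_lit 63, nat_lit 0, nat_lit 4, nat_lit 3, nat_lit 4, nat_lit 5, nat_lit 0, nat_lit 4, nat_lit 3, nat_lit 4, nat_lit 5, nat_lit 0, nat_lit 4, nat_lit 3, nat_lit 4, nat_lit 5, nat_lit 0, nat_lit 4, nat_lit 3, nat_lit 4, nat_lit 5, nat_lit 0, nat_lit 4, nat_lit 3, nat_lit 4, nat_lit 5, nat_lit 0, nat_lit 4, nat_lit 3, nat_lit 4, nat_lit 5]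
def Wt_801_803 (j : ℕ) : List ℕ := bif Nat.blt j 802 then [nat_lit 63, nat_lit 4, nat_lit 3, nat_lit 4, nat_lit 2, nat_lit 3, nat_lit 4, nat_lit 3, nat_lit 4, nat_lit 0, nat_lit 3, nat_lit 4, nat_lit 0, nat_lit 3, nat_lit 0, nat_lit 4, nat_lit 3, nat_lit 0] else [nat_lit 63, nat_lit 4, nat_lit 0, nat_lit 4, nat_lit 2, nat_lit 1, nat_lit 5, nat_lit 2, nat_lit 4, nat_lit 3, nat_lit 4, nat_lit 0, nat_lit 4, nat_lit 2, nat_lit 1, nat_lit 5, nat_lit 2, nat_lit 4, nat_lit 3, nat_lit 4, nat_lit 0, nat_lit 4, nat_lit 2, nat_lit 1, nat_lit 5, nat_lit 2, nat_lit 4, nat_lit 3]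
def Wt_799_803 (j : ℕ) : List ℕ := bif Nat.blt j 801 then (Wt_799_801 j) else (Wt_801_803 j)
def Wt_803_805 (j : ℕ) : List ℕ := bif Nat.blt j 804 then [nat_lit 63, nat_lit 4, nat_lit 3, nat_lit 4, nat_lit 1, nat_lit 2, nat_lit 4, nat_lit 3, nat_lit 1, nat_lit 3, nat_lit 1, nat_lit 3, nat_lit 1, nat_lit 3, nat_lit 4, nat_lit 2, nat_lit 1] else [nat_lit 63, nat_lit 4, nat_lit 1, nat_lit 4, nat_lit 1, nat_lit 4, nat_lit 1, nat_lit 4, nat_lit 1, nat_lit 3, nat_lit 4, nat_lit 3, nat_lit 4, nat_lit 3, nat_lit 4, nat_lit 3]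
def Wt_805_807 (j : ℕ) : List ℕ := bif Nat.blt j 806 then [nat_lit 63, nat_lit 0, nat_lit 3, nat_lit 4, nat_lit 0, nat_lit 3, nat_lit 0, nat_lit 4, nat_lit 3, nat_lit 0, nat_lit 4, nat_lit 3, nat_lit 4, nat_lit 2, nat_lit 3, nat_lit 4, nat_lit 3, nat_lit 4] else [nat_lit 63, nat_lit 1, nat_lit 0, nat_lit 4, nat_lit 1, nat_lit 2, nat_lit 3, nat_lit 1, nat_lit 0, nat_lit 4, nat_lit 3, nat_lit 4, nat_lit 2, nat_lit 3, nat_lit 4, nat_lit 1, nat_lit 4, nat_lit 0]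
def Wt_803_807 (j : ℕ) : List ℕ := bif Nat.blt j 805 then (Wt_803_805 j) else (Wt_805_807 j)
def Wt_799_807 (j : ℕ) : List ℕ := bif Nat.blt j 803 then (Wt_799_803 j) else (Wt_803_807 j)
def Wt_807_809 (j : ℕ) : List ℕ := bif Nat.blt j 808 then [nat_lit 63, nat_lit 4, nat_lit 2, nat_lit 4, nat_lit 2, nat_lit 1, nat_lit 4, nat_lit 1, nat_lit 4, nat_lit 2, nat_lit 4, nat_lit 3, nat_lit 4, nat_lit 2, nat_lit 1, nat_lit 4, nat_lit 1, nat_lit 2] else [nat_lit 63, nat_lit 1, nat_lit 5, nat_lit 2, nat_lit 4, nat_lit 3, nat_lit 4, nat_lit 0, nat_lit 4, nat_lit 2, nat_lit 1, nat_lit 5, nat_lit 2, nat_lit 4, nat_lit 3, nat_lit 4, nat_lit 0, nat_lit 4, nat_lit 2, nat_lit 1, nat_lit 5, nat_lit 2, nat_lit 4, nat_lit 3, nat_lit 4, nat_lit 0, nat_lit 4, nat_lit 2]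
def Wt_809_811 (j : ℕ) : List ℕ := bif Nat.blt j 810 then [nat_lit 63, nat_lit 5, nat_lit 4, nat_lit 3, nat_lit 4, nat_lit 0, nat_lit 5, nat_lit 4, nat_lit 3, nat_lit 4, nat_lit 0, nat_lit 5, nat_lit 4, nat_lit 3, nat_lit 4, nat_lit 0, nat_lit 5, nat_lit 4, nat_lit 3, nat_lit 4, nat_lit 0, nat_lit 5, nat_lit 4, nat_lit 3, nat_lit 4, nat_lit 0, nat_lit 5, nat_lit 4, nat_lit 3, nat_lit 4, nat_lit 0] else [nat_lit 63, nat_lit 5, nat_lit 4, nat_lit 0, nat_lit 4, nat_lit 3, nat_lit 0, nat_lit 3, nat_lit 5, nat_lit 4, nat_lit 0, nat_lit 4, nat_lit 3, nat_lit 0, nat_lit 3, nat_lit 5, nat_lit 4, nat_lit 0, nat_lit 4, nat_lit 3, nat_lit 0, nat_lit 3, nat_lit 5, nat_lit 4, nat_lit 0, nat_lit 4, nat_lit 3, nat_lit 0, nat_lit 3, nat_lit 5, nat_lit 4, nat_lit 0, nat_lit 4, nat_lit 3, nat_lit 0, nat_lit 3]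
def Wt_807_811 (j : ℕ) : List ℕ := bif Nat.blt j 809 then (Wt_807_809 j) else (Wt_809_811 j)
def Wt_811_813 (j : ℕ) : List ℕ := bif Nat.blt j 812 then [nat_lit 63, nat_lit 5, nat_lit 3, nat_lit 0, nat_lit 3, nat_lit 4, nat_lit 0, nat_lit 4, nat_lit 5, nat_lit 3, nat_lit 0, nat_lit 3, nat_lit 4, nat_lit 0, nat_lit 4, nat_lit 5, nat_lit 3, nat_lit 0, nat_lit 3, nat_lit 4, nat_lit 0, nat_lit 4, nat_lit 5, nat_lit 3, nat_lit 0, nat_lit 3, nat_lit 4, nat_lit 0, nat_lit 4, nat_lit 5, nat_lit 3, nat_lit 0, nat_lit 3, nat_lit 4, nat_lit 0, nat_lit 4] else [nat_lit 63, nat_lit 4, nat_lit 3, nat_lit 1, nat_lit 4, nat_lit 2, nat_lit 1, nat_lit 2, nat_lit 4, nat_lit 1, nat_lit 3, nat_lit 4, nat_lit 0, nat_lit 4, nat_lit 2, nat_lit 0, nat_lit 4, nat_lit 0]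
def Wt_814_816 (j : ℕ) : List ℕ := bif Nat.blt j 815 then [nat_lit 0, nat_lit 4, nat_lit 2, nat_lit 1, nat_lit 5, nat_lit 2, nat_lit 4, nat_lit 3, nat_lit 4, nat_lit 0, nat_lit 4, nat_lit 2, nat_lit 1, nat_lit 5, nat_lit 2, nat_lit 4, nat_lit 3, nat_lit 4, nat_lit 0, nat_lit 4, nat_lit 2, nat_lit 1, nat_lit 5, nat_lit 2, nat_lit 4, nat_lit 3, nat_lit 4] else [nat_lit 63, nat_lit 0, nat_lit 4, nat_lit 3, nat_lit 0, nat_lit 3, nat_lit 5, nat_lit 4, nat_lit 0, nat_lit 4, nat_lit 3, nat_lit 0, nat_lit 3, nat_lit 5, nat_lit 4, nat_lit 0, nat_lit 4, nat_lit 3, nat_lit 0, nat_lit 3, nat_lit 5, nat_lit 4, nat_lit 0, nat_lit 4, nat_lit 3, nat_lit 0, nat_lit 3, nat_lit 5, nat_lit 4, nat_lit 0, nat_lit 4, nat_lit 3, nat_lit 0, nat_lit 3, nat_lit 5, nat_lit 4]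
def Wt_813_816 (j : ℕ) : List ℕ := bif Nat.blt j 814 then [nat_lit 3, nat_lit 4, nat_lit 3, nat_lit 0, nat_lit 5, nat_lit 3, nat_lit 4, nat_lit 3, nat_lit 0, nat_lit 5, nat_lit 3, nat_lit 4, nat_lit 3, nat_lit 0, nat_lit 5, nat_lit 3, nat_lit 4, nat_lit 3, nat_lit 0, nat_lit 5, nat_lit 3, nat_lit 4, nat_lit 3, nat_lit 0, nat_lit 5] else (Wt_814_816 j)
def Wt_811_816 (j : ℕ) : List ℕ := bif Nat.blt j 813 then (Wt_811_813 j) else (Wt_813_816 j)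
def Wt_807_816 (j : ℕ) : List ℕ := bif Nat.blt j 811 then (Wt_807_811 j) else (Wt_811_816 j)
def Wt_799_816 (j : ℕ) : List ℕ := bif Nat.blt j 807 then (Wt_799_807 j) else (Wt_807_816 j)
def Wt_782_816 (j : ℕ) : List ℕ := bif Nat.blt j 799 then (Wt_782_799 j) else (Wt_799_816 j)
def Wt_748_816 (j : ℕ) : List ℕ := bif Nat.blt j 782 then (Wt_748_782 j) else (Wt_782_816 j)
def Wt_680_816 (j : ℕ) : List ℕ := bif Nat.blt j 748 then (Wt_680_748 j) else (Wt_748_816 j)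
def Wt_544_816 (j : ℕ) : List ℕ := bif Nat.blt j 680 then (Wt_544_680 j) else (Wt_680_816 j)
def Wt_816_818 (j : ℕ) : List ℕ := bif Nat.blt j 817 then [nat_lit 63, nat_lit 0, nat_lit 4, nat_lit 1, nat_lit 4, nat_lit 2, nat_lit 1, nat_lit 4, nat_lit 1, nat_lit 4, nat_lit 3, nat_lit 2, nat_lit 0, nat_lit 3, nat_lit 1, nat_lit 4, nat_lit 1, nat_lit 4] else [nat_lit 63, nat_lit 2, nat_lit 1, nat_lit 4, nat_lit 1, nat_lit 2, nat_lit 4, nat_lit 3, nat_lit 4, nat_lit 2, nat_lit 4, nat_lit 1, nat_lit 4, nat_lit 1, nat_lit 2, nat_lit 4, nat_lit 2, nat_lit 4]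
def Wt_818_820 (j : ℕ) : List ℕ := bif Nat.blt j 819 then [nat_lit 63, nat_lit 2, nat_lit 4, nat_lit 1, nat_lit 4, nat_lit 5, nat_lit 2, nat_lit 4, nat_lit 1, nat_lit 4, nat_lit 5, nat_lit 2, nat_lit 4, nat_lit 1, nat_lit 4, nat_lit 5] else [nat_lit 63, nat_lit 4, nat_lit 1, nat_lit 0, nat_lit 1, nat_lit 0, nat_lit 5, nat_lit 1, nat_lit 4, nat_lit 1, nat_lit 0, nat_lit 1, nat_lit 0, nat_lit 5, nat_lit 1, nat_lit 4, nat_lit 1, nat_lit 0, nat_lit 1, nat_lit 0, nat_lit 5, nat_lit 1, nat_lit 4, nat_lit 1, nat_lit 0, nat_lit 1, nat_lit 0, nat_lit 5, nat_lit 1]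
def Wt_816_820 (j : ℕ) : List ℕ := bif Nat.blt j 818 then (Wt_816_818 j) else (Wt_818_820 j)
def Wt_820_822 (j : ℕ) : List ℕ := bif Nat.blt j 821 then [nat_lit 3, nat_lit 4, nat_lit 2, nat_lit 5, nat_lit 4, nat_lit 3, nat_lit 4, nat_lit 3, nat_lit 4, nat_lit 2, nat_lit 5, nat_lit 4, nat_lit 3, nat_lit 4, nat_lit 3, nat_lit 4, nat_lit 2, nat_lit 5, nat_lit 4, nat_lit 3, nat_lit 4, nat_lit 3, nat_lit 4, nat_lit 2, nat_lit 5, nat_lit 4, nat_lit 3, nat_lit 4, nat_lit 3, nat_lit 4, nat_lit 2, nat_lit 5, nat_lit 4, nat_lit 3, nat_lit 4] else [nat_lit 63, nat_lit 4, nat_lit 0, nat_lit 4, nat_lit 3, nat_lit 4, nat_lit 1, nat_lit 0, nat_lit 5, nat_lit 4, nat_lit 0, nat_lit 4, nat_lit 3, nat_lit 4, nat_lit 1, nat_lit 0, nat_lit 5, nat_lit 4, nat_lit 0, nat_lit 4, nat_lit 3, nat_lit 4, nat_lit 1, nat_lit 0, nat_lit 5, nat_lit 4, nat_lit 0, nat_lit 4, nat_lit 3, nat_lit 4, nat_lit 1, nat_lit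 0, nat_lit 5, nat_lit 4, nat_lit 0, nat_lit 4, nat_lit 3, nat_lit 4, nat_lit 1, nat_lit 0, nat_lit 5]
def Wt_822_824 (j : ℕ) : List ℕ := bif Nat.blt j 823 then [nat_lit 63, nat_lit 5, nat_lit 4, nat_lit 3, nat_lit 4, nat_lit 0, nat_lit 3, nat_lit 4, nat_lit 5, nat_lit 3, nat_lit 4, nat_lit 0, nat_lit 1, nat_lit 4, nat_lit 5, nat_lit 7] else [nat_lit 63, nat_lit 4, nat_lit 5, nat_lit 6, nat_lit 5, nat_lit 4, nat_lit 1, nat_lit 0, nat_lit 4, nat_lit 3, nat_lit 5, nat_lit 4, nat_lit 3, nat_lit 0, nat_lit 4, nat_lit 3]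
def Wt_820_824 (j : ℕ) : List ℕ := bif Nat.blt j 822 then (Wt_820_822 j) else (Wt_822_824 j)
def Wt_816_824 (j : ℕ) : List ℕ := bif Nat.blt j 820 then (Wt_816_820 j) else (Wt_820_824 j)
def Wt_824_826 (j : ℕ) : List ℕ := bif Nat.blt j 825 then [nat_lit 63, nat_lit 4, nat_lit 1, nat_lit 0, nat_lit 4, nat_lit 1, nat_lit 0, nat_lit 2, nat_lit 1, nat_lit 0, nat_lit 1, nat_lit 3, nat_lit 4, nat_lit 0, nat_lit 1, nat_lit 4, nat_lit 1, nat_lit 3] else [nat_lit 63, nat_lit 0, nat_lit 1, nat_lit 3, nat_lit 4, nat_lit 0, nat_lit 1, nat_lit 4, nat_lit 1, nat_lit 3, nat_lit 4, nat_lit 1, nat_lit 0, nat_lit 4, nat_lit 1, nat_lit 0, nat_lit 2, nat_lit 1]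
def Wt_826_828 (j : ℕ) : List ℕ := bif Nat.blt j 827 then [nat_lit 63, nat_lit 3, nat_lit 1, nat_lit 4, nat_lit 2, nat_lit 1, nat_lit 2, nat_lit 4, nat_lit 1, nat_lit 3, nat_lit 4, nat_lit 0, nat_lit 4, nat_lit 2, nat_lit 0, nat_lit 4, nat_lit 0, nat_lit 4] else [nat_lit 63, nat_lit 4, nat_lit 2, nat_lit 4, nat_lit 1, nat_lit 4, nat_lit 2, nat_lit 4, nat_lit 3, nat_lit 2, nat_lit 4, nat_lit 1, nat_lit 3, nat_lit 0, nat_lit 3, nat_lit 4, nat_lit 2, nat_lit 3]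
def Wt_824_828 (j : ℕ) : List ℕ := bif Nat.blt j 826 then (Wt_824_826 j) else (Wt_826_828 j)
def Wt_828_830 (j : ℕ) : List ℕ := bif Nat.blt j 829 then [nat_lit 63, nat_lit 3, nat_lit 2, nat_lit 4, nat_lit 3, nat_lit 4, nat_lit 0, nat_lit 1, nat_lit 3, nat_lit 2, nat_lit 1, nat_lit 4, nat_lit 0, nat_lit 1, nat_lit 0, nat_lit 4, nat_lit 1, nat_lit 4] else [nat_lit 63, nat_lit 1, nat_lit 0, nat_lit 4, nat_lit 3, nat_lit 4, nat_lit 2, nat_lit 3, nat_lit 4, nat_lit 1, nat_lit 4, nat_lit 0, nat_lit 1, nat_lit 0, nat_lit 4, nat_lit 1, nat_lit 2, nat_lit 3]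
def Wt_831_833 (j : ℕ) : List ℕ := bif Nat.blt j 832 then [nat_lit 63, nat_lit 4, nat_lit 1, nat_lit 5, nat_lit 4, nat_lit 3, nat_lit 2, nat_lit 4, nat_lit 1, nat_lit 5, nat_lit 4, nat_lit 3, nat_lit 2, nat_lit 4, nat_lit 1, nat_lit 5, nat_lit 4, nat_lit 3, nat_lit 2, nat_lit 4, nat_lit 1, nat_lit 5, nat_lit 4, nat_lit 3, nat_lit 2] else [nat_lit 63, nat_lit 0, nat_lit 5, nat_lit 3, nat_lit 4, nat_lit 3, nat_lit 0, nat_lit 5, nat_lit 3, nat_lit 4, nat_lit 3, nat_lit 0, nat_lit 5, nat_lit 3, nat_lit 4, nat_lit 3, nat_lit 0, nat_lit 5, nat_lit 3, nat_lit 4, nat_lit 3, nat_lit 0, nat_lit 5, nat_lit 3, nat_lit 4, nat_lit 3]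
def Wt_830_833 (j : ℕ) : List ℕ := bif Nat.blt j 831 then [nat_lit 1, nat_lit 2, nat_lit 1, nat_lit 4, nat_lit 1, nat_lit 5, nat_lit 4, nat_lit 1, nat_lit 2, nat_lit 1, nat_lit 4, nat_lit 1, nat_lit 5, nat_lit 4, nat_lit 1, nat_lit 2, nat_lit 1, nat_lit 4, nat_lit 1, nat_lit 5, nat_lit 4] else (Wt_831_833 j)
def Wt_828_833 (j : ℕ) : List ℕ := bif Nat.blt j 830 then (Wt_828_830 j) else (Wt_830_833 j)
def Wt_824_833 (j : ℕ) : List ℕ := bif Nat.blt j 828 then (Wt_824_828 j) else (Wt_828_833 j)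
def Wt_816_833 (j : ℕ) : List ℕ := bif Nat.blt j 824 then (Wt_816_824 j) else (Wt_824_833 j)
def Wt_833_835 (j : ℕ) : List ℕ := bif Nat.blt j 834 then [nat_lit 63, nat_lit 1, nat_lit 0, nat_lit 3, nat_lit 1, nat_lit 4, nat_lit 1, nat_lit 3, nat_lit 0, nat_lit 1, nat_lit 0, nat_lit 3, nat_lit 1, nat_lit 4, nat_lit 1, nat_lit 3, nat_lit 0] else [nat_lit 63, nat_lit 4, nat_lit 3, nat_lit 1, nat_lit 3, nat_lit 1, nat_lit 3, nat_lit 1, nat_lit 3, nat_lit 4, nat_lit 2, nat_lit 1, nat_lit 4, nat_lit 3, nat_lit 4, nat_lit 1, nat_lit 2]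
def Wt_835_837 (j : ℕ) : List ℕ := bif Nat.blt j 836 then [nat_lit 63, nat_lit 3, nat_lit 4, nat_lit 1, nat_lit 2, nat_lit 4, nat_lit 3, nat_lit 1, nat_lit 3, nat_lit 1, nat_lit 3, nat_lit 1, nat_lit 3, nat_lit 4, nat_lit 2, nat_lit 1, nat_lit 4] else [nat_lit 63, nat_lit 1, nat_lit 2, nat_lit 4, nat_lit 3, nat_lit 1, nat_lit 3, nat_lit 1, nat_lit 3, nat_lit 1, nat_lit 3, nat_lit 4, nat_lit 2, nat_lit 1, nat_lit 4, nat_lit 3, nat_lit 4]
def Wt_833_837 (j : ℕ) : List ℕ := bif Nat.blt j 835 then (Wt_833_835 j) else (Wt_835_837 j)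
def Wt_837_839 (j : ℕ) : List ℕ := bif Nat.blt j 838 then [nat_lit 63, nat_lit 1, nat_lit 3, nat_lit 4, nat_lit 1, nat_lit 0, nat_lit 4, nat_lit 1, nat_lit 0, nat_lit 2, nat_lit 1, nat_lit 0, nat_lit 1, nat_lit 3, nat_lit 4, nat_lit 0, nat_lit 1, nat_lit 4] else [nat_lit 63, nat_lit 0, nat_lit 4, nat_lit 1, nat_lit 2, nat_lit 1, nat_lit 4, nat_lit 1, nat_lit 2, nat_lit 1, nat_lit 4, nat_lit 0, nat_lit 1, nat_lit 4, nat_lit 3, nat_lit 2, nat_lit 4, nat_lit 1]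
def Wt_839_841 (j : ℕ) : List ℕ := bif Nat.blt j 840 then [nat_lit 63, nat_lit 2, nat_lit 4, nat_lit 1, nat_lit 2, nat_lit 1, nat_lit 3, nat_lit 0, nat_lit 3, nat_lit 4, nat_lit 3, nat_lit 4, nat_lit 2, nat_lit 4, nat_lit 2, nat_lit 4, nat_lit 3, nat_lit 4] else [nat_lit 63, nat_lit 3, nat_lit 4, nat_lit 2, nat_lit 4, nat_lit 3, nat_lit 4, nat_lit 2, nat_lit 4, nat_lit 2, nat_lit 4, nat_lit 3, nat_lit 4, nat_lit 1, nat_lit 2, nat_lit 1, nat_lit 3, nat_lit 0]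
def Wt_837_841 (j : ℕ) : List ℕ := bif Nat.blt j 839 then (Wt_837_839 j) else (Wt_839_841 j)
def Wt_833_841 (j : ℕ) : List ℕ := bif Nat.blt j 837 then (Wt_833_837 j) else (Wt_837_841 j)
def Wt_841_843 (j : ℕ) : List ℕ := bif Nat.blt j 842 then [nat_lit 63, nat_lit 1, nat_lit 4, nat_lit 3, nat_lit 2, nat_lit 4, nat_lit 3, nat_lit 4, nat_lit 0, nat_lit 1, nat_lit 3, nat_lit 2, nat_lit 1, nat_lit 4, nat_lit 0, nat_lit 1, nat_lit 0, nat_lit 4] else [nat_lit 63, nat_lit 4, nat_lit 1, nat_lit 4, nat_lit 0, nat_lit 1, nat_lit 0, nat_lit 4, nat_lit 1, nat_lit 2, nat_lit 3, nat_lit 1, nat_lit 0, nat_lit 4, nat_lit 3, nat_lit 4, nat_lit 2, nat_lit 3]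
def Wt_843_845 (j : ℕ) : List ℕ := bif Nat.blt j 844 then [nat_lit 63, nat_lit 4, nat_lit 1, nat_lit 4, nat_lit 2, nat_lit 5, nat_lit 4, nat_lit 1, nat_lit 4, nat_lit 2, nat_lit 5, nat_lit 4, nat_lit 1, nat_lit 4, nat_lit 2, nat_lit 5] else [nat_lit 63, nat_lit 2, nat_lit 1, nat_lit 5, nat_lit 2, nat_lit 4, nat_lit 3, nat_lit 4, nat_lit 0, nat_lit 4, nat_lit 2, nat_lit 1, nat_lit 5, nat_lit 2, nat_lit 4, nat_lit 3, nat_lit 4, nat_lit 0, nat_lit 4, nat_lit 2, nat_lit 1, nat_lit 5, nat_lit 2, nat_lit 4, nat_lit 3, nat_lit 4, nat_lit 0, nat_lit 4]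
def Wt_841_845 (j : ℕ) : List ℕ := bif Nat.blt j 843 then (Wt_841_843 j) else (Wt_843_845 j)
def Wt_845_847 (j : ℕ) : List ℕ := bif Nat.blt j 846 then [nat_lit 63, nat_lit 1, nat_lit 2, nat_lit 4, nat_lit 0, nat_lit 4, nat_lit 3, nat_lit 4, nat_lit 2, nat_lit 5, nat_lit 1, nat_lit 2, nat_lit 4, nat_lit 0, nat_lit 4, nat_lit 3, nat_lit 4, nat_lit 2, nat_lit 5, nat_lit 1, nat_lit 2, nat_lit 4, nat_lit 0, nat_lit 4, nat_lit 3, nat_lit 4, nat_lit 2, nat_lit 5] else [nat_lit 63, nat_lit 4, nat_lit 2, nat_lit 5, nat_lit 1, nat_lit 2, nat_lit 4, nat_lit 0, nat_lit 4, nat_lit 3, nat_lit 4, nat_lit 2, nat_lit 5, nat_lit 1, nat_lit 2, nat_lit 4, nat_lit 0, nat_lit 4, nat_lit 3, nat_lit 4, nat_lit 2, nat_lit 5, nat_lit 1, nat_lit 2, nat_lit 4, nat_lit 0, nat_lit 4, nat_lit 3]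
def Wt_848_850 (j : ℕ) : List ℕ := bif Nat.blt j 849 then [nat_lit 63, nat_lit 0, nat_lit 5, nat_lit 4, nat_lit 3, nat_lit 4, nat_lit 0, nat_lit 5, nat_lit 4, nat_lit 3, nat_lit 4, nat_lit 0, nat_lit 5, nat_lit 4, nat_lit 3, nat_lit 4, nat_lit 0, nat_lit 5, nat_lit 4, nat_lit 3, nat_lit 4, nat_lit 0, nat_lit 5, nat_lit 4, nat_lit 3, nat_lit 4, nat_lit 0, nat_lit 5, nat_lit 4, nat_lit 3, nat_lit 4] else [nat_lit 63, nat_lit 0, nat_lit 3, nat_lit 5, nat_lit 4, nat_lit 0, nat_lit 4, nat_lit 3, nat_lit 0, nat_lit 3, nat_lit 5, nat_lit 4, nat_lit 0, nat_lit 4, nat_lit 3, nat_lit 0, nat_lit 3, nat_lit 5, nat_lit 4, nat_lit 0, nat_lit 4, nat_lit 3, nat_lit 0, nat_lit 3, nat_lit 5, nat_lit 4, nat_lit 0, nat_lit 4, nat_lit 3, nat_lit 0, nat_lit 3, nat_lit 5, nat_lit 4, nat_lit 0, nat_lit 4, nat_lit 3]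
def Wt_847_850 (j : ℕ) : List ℕ := bif Nat.blt j 848 then [nat_lit 63, nat_lit 3, nat_lit 4, nat_lit 0, nat_lit 5, nat_lit 4, nat_lit 3, nat_lit 4, nat_lit 0, nat_lit 5, nat_lit 4, nat_lit 3, nat_lit 4, nat_lit 0, nat_lit 5, nat_lit 4, nat_lit 3, nat_lit 4, nat_lit 0, nat_lit 5, nat_lit 4, nat_lit 3, nat_lit 4, nat_lit 0, nat_lit 5, nat_lit 4, nat_lit 3, nat_lit 4, nat_lit 0, nat_lit 5, nat_lit 4] else (Wt_848_850 j)
def Wt_845_850 (j : ℕ) : List ℕ := bif Nat.blt j 847 then (Wt_845_847 j) else (Wt_847_850 j)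
def Wt_841_850 (j : ℕ) : List ℕ := bif Nat.blt j 845 then (Wt_841_845 j) else (Wt_845_850 j)
def Wt_833_850 (j : ℕ) : List ℕ := bif Nat.blt j 841 then (Wt_833_841 j) else (Wt_841_850 j)
def Wt_816_850 (j : ℕ) : List ℕ := bif Nat.blt j 833 then (Wt_816_833 j) else (Wt_833_850 j)
def Wt_850_852 (j : ℕ) : List ℕ := bif Nat.blt j 851 then [nat_lit 63, nat_lit 5, nat_lit 6, nat_lit 5, nat_lit 4, nat_lit 1, nat_lit 0, nat_lit 4, nat_lit 3, nat_lit 5, nat_lit 4, nat_lit 3, nat_lit 0, nat_lit 4, nat_lit 3, nat_lit 4] else [nat_lit 63, nat_lit 2, nat_lit 0, nat_lit 4, nat_lit 1, nat_lit 4, nat_lit 2, nat_lit 0, nat_lit 4, nat_lit 1, nat_lit 4, nat_lit 0, nat_lit 2, nat_lit 4, nat_lit 1, nat_lit 4]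
def Wt_852_854 (j : ℕ) : List ℕ := bif Nat.blt j 853 then [nat_lit 63, nat_lit 3, nat_lit 4, nat_lit 3, nat_lit 4, nat_lit 3, nat_lit 4, nat_lit 1, nat_lit 4, nat_lit 1, nat_lit 4, nat_lit 1, nat_lit 4, nat_lit 1, nat_lit 3, nat_lit 4] else [nat_lit 63, nat_lit 3, nat_lit 4, nat_lit 1, nat_lit 4, nat_lit 1, nat_lit 4, nat_lit 1, nat_lit 4, nat_lit 1, nat_lit 3, nat_lit 4, nat_lit 3, nat_lit 4, nat_lit 3, nat_lit 4]
def Wt_850_854 (j : ℕ) : List ℕ := bif Nat.blt j 852 then (Wt_850_852 j) else (Wt_852_854 j)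
def Wt_854_856 (j : ℕ) : List ℕ := bif Nat.blt j 855 then [nat_lit 63, nat_lit 4, nat_lit 2, nat_lit 1, nat_lit 4, nat_lit 1, nat_lit 4, nat_lit 1, nat_lit 2, nat_lit 4, nat_lit 1, nat_lit 4, nat_lit 2, nat_lit 0, nat_lit 2, nat_lit 4, nat_lit 1] else [nat_lit 63, nat_lit 4, nat_lit 1, nat_lit 2, nat_lit 4, nat_lit 1, nat_lit 4, nat_lit 2, nat_lit 0, nat_lit 2, nat_lit 4, nat_lit 1, nat_lit 4, nat_lit 2, nat_lit 1, nat_lit 4, nat_lit 1]
def Wt_856_858 (j : ℕ) : List ℕ := bif Nat.blt j 857 then [nat_lit 63, nat_lit 1, nat_lit 4, nat_lit 0, nat_lit 1, nat_lit 4, nat_lit 3, nat_lit 2, nat_lit 4, nat_lit 1, nat_lit 0, nat_lit 4, nat_lit 1, nat_lit 2, nat_lit 1, nat_lit 4, nat_lit 1, nat_lit 2] else [nat_lit 4, nat_lit 3, nat_lit 2, nat_lit 3, nat_lit 0, nat_lit 4, nat_lit 2, nat_lit 0, nat_lit 4, nat_lit 2, nat_lit 0, nat_lit 4, nat_lit 0, nat_lit 2, nat_lit 4, nat_lit 0, nat_lit 2]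
def Wt_854_858 (j : ℕ) : List ℕ := bif Nat.blt j 856 then (Wt_854_856 j) else (Wt_856_858 j)
def Wt_850_858 (j : ℕ) : List ℕ := bif Nat.blt j 854 then (Wt_850_854 j) else (Wt_854_858 j)
def Wt_858_860 (j : ℕ) : List ℕ := bif Nat.blt j 859 then [nat_lit 63, nat_lit 2, nat_lit 4, nat_lit 1, nat_lit 3, nat_lit 4, nat_lit 0, nat_lit 4, nat_lit 2, nat_lit 0, nat_lit 4, nat_lit 0, nat_lit 4, nat_lit 3, nat_lit 1, nat_lit 4, nat_lit 2, nat_lit 1] else [nat_lit 63, nat_lit 4, nat_lit 2, nat_lit 3, nat_lit 4, nat_lit 3, nat_lit 4, nat_lit 0, nat_lit 3, nat_lit 4, nat_lit 0, nat_lit 3, nat_lit 0, nat_lit 4, nat_lit 3, nat_lit 0, nat_lit 4, nat_lit 3]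
def Wt_860_862 (j : ℕ) : List ℕ := bif Nat.blt j 861 then [nat_lit 63, nat_lit 1, nat_lit 4, nat_lit 1, nat_lit 2, nat_lit 1, nat_lit 4, nat_lit 5, nat_lit 1, nat_lit 4, nat_lit 1, nat_lit 2, nat_lit 1, nat_lit 4, nat_lit 5, nat_lit 1, nat_lit 4, nat_lit 1, nat_lit 2, nat_lit 1, nat_lit 4, nat_lit 5] else [nat_lit 5, nat_lit 4, nat_lit 3, nat_lit 4, nat_lit 0, nat_lit 5, nat_lit 4, nat_lit 3, nat_lit 4, nat_lit 0, nat_lit 5, nat_lit 4, nat_lit 3, nat_lit 4, nat_lit 0, nat_lit 5, nat_lit 4, nat_lit 3, nat_lit 4, nat_lit 0, nat_lit 5, nat_lit 4, nat_lit 3, nat_lit 4, nat_lit 0, nat_lit 5, nat_lit 4, nat_lit 3, nat_lit 4, nat_lit 0]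
def Wt_858_862 (j : ℕ) : List ℕ := bif Nat.blt j 860 then (Wt_858_860 j) else (Wt_860_862 j)
def Wt_862_864 (j : ℕ) : List ℕ := bif Nat.blt j 863 then [nat_lit 0, nat_lit 4, nat_lit 3, nat_lit 4, nat_lit 5, nat_lit 0, nat_lit 4, nat_lit 3, nat_lit 4, nat_lit 5, nat_lit 0, nat_lit 4, nat_lit 3, nat_lit 4, nat_lit 5, nat_lit 0, nat_lit 4, nat_lit 3, nat_lit 4, nat_lit 5, nat_lit 0, nat_lit 4, nat_lit 3, nat_lit 4, nat_lit 5, nat_lit 0, nat_lit 4, nat_lit 3, nat_lit 4, nat_lit 5] else [nat_lit 63, nat_lit 3, nat_lit 4, nat_lit 1, nat_lit 4, nat_lit 0, nat_lit 1, nat_lit 0, nat_lit 4, nat_lit 1, nat_lit 2, nat_lit 3, nat_lit 1, nat_lit 0, nat_lit 4, nat_lit 3, nat_lit 4, nat_lit 2]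
def Wt_865_867 (j : ℕ) : List ℕ := bif Nat.blt j 866 then [nat_lit 63, nat_lit 4, nat_lit 3, nat_lit 4, nat_lit 2, nat_lit 4, nat_lit 1, nat_lit 4, nat_lit 1, nat_lit 2, nat_lit 4, nat_lit 2, nat_lit 4, nat_lit 2, nat_lit 1, nat_lit 4, nat_lit 1, nat_lit 2] else [nat_lit 63, nat_lit 1, nat_lit 4, nat_lit 2, nat_lit 3, nat_lit 4, nat_lit 5, nat_lit 1, nat_lit 4, nat_lit 2, nat_lit 3, nat_lit 4, nat_lit 5, nat_lit 1, nat_lit 4, nat_lit 2, nat_lit 3, nat_lit 4, nat_lit 5, nat_lit 1, nat_lit 4, nat_lit 2, nat_lit 3, nat_lit 4, nat_lit 5]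
def Wt_864_867 (j : ℕ) : List ℕ := bif Nat.blt j 865 then [nat_lit 63, nat_lit 1, nat_lit 2, nat_lit 4, nat_lit 1, nat_lit 4, nat_lit 0, nat_lit 4, nat_lit 1, nat_lit 4, nat_lit 1, nat_lit 3, nat_lit 0, nat_lit 2, nat_lit 3, nat_lit 4, nat_lit 1, nat_lit 4] else (Wt_865_867 j)
def Wt_862_867 (j : ℕ) : List ℕ := bif Nat.blt j 864 then (Wt_862_864 j) else (Wt_864_867 j)
def Wt_858_867 (j : ℕ) : List ℕ := bif Nat.blt j 862 then (Wt_858_862 j) else (Wt_862_867 j)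
def Wt_850_867 (j : ℕ) : List ℕ := bif Nat.blt j 858 then (Wt_850_858 j) else (Wt_858_867 j)
def Wt_867_869 (j : ℕ) : List ℕ := bif Nat.blt j 868 then [nat_lit 63, nat_lit 2, nat_lit 4, nat_lit 2, nat_lit 5, nat_lit 1, nat_lit 2, nat_lit 4, nat_lit 2, nat_lit 5, nat_lit 1, nat_lit 2, nat_lit 4, nat_lit 2, nat_lit 5, nat_lit 1, nat_lit 2, nat_lit 4, nat_lit 2, nat_lit 5, nat_lit 1, nat_lit 2, nat_lit 4, nat_lit 2, nat_lit 5, nat_lit 1, nat_lit 2, nat_lit 4, nat_lit 2, nat_lit 5, nat_lit 1] else [nat_lit 63, nat_lit 2, nat_lit 1, nat_lit 4, nat_lit 1, nat_lit 4, nat_lit 3, nat_lit 2, nat_lit 0, nat_lit 3, nat_lit 1, nat_lit 4, nat_lit 1, nat_lit 4, nat_lit 0, nat_lit 4, nat_lit 1, nat_lit 4]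
def Wt_869_871 (j : ℕ) : List ℕ := bif Nat.blt j 870 then [nat_lit 4, nat_lit 0, nat_lit 4, nat_lit 3, nat_lit 0, nat_lit 3, nat_lit 5, nat_lit 4, nat_lit 0, nat_lit 4, nat_lit 3, nat_lit 0, nat_lit 3, nat_lit 5, nat_lit 4, nat_lit 0, nat_lit 4, nat_lit 3, nat_lit 0, nat_lit 3, nat_lit 5, nat_lit 4, nat_lit 0, nat_lit 4, nat_lit 3, nat_lit 0, nat_lit 3, nat_lit 5, nat_lit 4, nat_lit 0, nat_lit 4, nat_lit 3, nat_lit 0, nat_lit 3, nat_lit 5] else [nat_lit 63, nat_lit 1, nat_lit 5, nat_lit 0, nat_lit 1, nat_lit 0, nat_lit 1, nat_lit 4, nat_lit 1, nat_lit 5, nat_lit 0, nat_lit 1, nat_lit 0, nat_lit 1, nat_lit 4, nat_lit 1, nat_lit 5, nat_lit 0, nat_lit 1, nat_lit 0, nat_lit 1, nat_lit 4, nat_lit 1, nat_lit 5, nat_lit 0, nat_lit 1, nat_lit 0, nat_lit 1, nat_lit 4]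
def Wt_867_871 (j : ℕ) : List ℕ := bif Nat.blt j 869 then (Wt_867_869 j) else (Wt_869_871 j)
def Wt_871_873 (j : ℕ) : List ℕ := bif Nat.blt j 872 then [nat_lit 0, nat_lit 3, nat_lit 4, nat_lit 3, nat_lit 5, nat_lit 0, nat_lit 3, nat_lit 4, nat_lit 3, nat_lit 5, nat_lit 0, nat_lit 3, nat_lit 4, nat_lit 3, nat_lit 5, nat_lit 0, nat_lit 3, nat_lit 4, nat_lit 3, nat_lit 5, nat_lit 0, nat_lit 3, nat_lit 4, nat_lit 3, nat_lit 5] else [nat_lit 63, nat_lit 0, nat_lit 3, nat_lit 4, nat_lit 5, nat_lit 3, nat_lit 4, nat_lit 0, nat_lit 1, nat_lit 4, nat_lit 5, nat_lit 7, nat_lit 5, nat_lit 4, nat_lit 3, nat_lit 4]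
def Wt_873_875 (j : ℕ) : List ℕ := bif Nat.blt j 874 then [nat_lit 4, nat_lit 2, nat_lit 3, nat_lit 4, nat_lit 5, nat_lit 1, nat_lit 4, nat_lit 2, nat_lit 3, nat_lit 4, nat_lit 5, nat_lit 1, nat_lit 4, nat_lit 2, nat_lit 3, nat_lit 4, nat_lit 5, nat_lit 1, nat_lit 4, nat_lit 2, nat_lit 3, nat_lit 4, nat_lit 5, nat_lit 1] else [nat_lit 63, nat_lit 0, nat_lit 3, nat_lit 4, nat_lit 3, nat_lit 5, nat_lit 0, nat_lit 3, nat_lit 4, nat_lit 3, nat_lit 5, nat_lit 0, nat_lit 3, nat_lit 4, nat_lit 3, nat_lit 5, nat_lit 0, nat_lit 3, nat_lit 4, nat_lit 3, nat_lit 5, nat_lit 0, nat_lit 3, nat_lit 4, nat_lit 3, nat_lit 5]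
def Wt_871_875 (j : ℕ) : List ℕ := bif Nat.blt j 873 then (Wt_871_873 j) else (Wt_873_875 j)
def Wt_867_875 (j : ℕ) : List ℕ := bif Nat.blt j 871 then (Wt_867_871 j) else (Wt_871_875 j)
def Wt_875_877 (j : ℕ) : List ℕ := bif Nat.blt j 876 then [nat_lit 2, nat_lit 0, nat_lit 4, nat_lit 1, nat_lit 4, nat_lit 0, nat_lit 2, nat_lit 4, nat_lit 1, nat_lit 4, nat_lit 2, nat_lit 0, nat_lit 4, nat_lit 1, nat_lit 4] else [nat_lit 63, nat_lit 0, nat_lit 2, nat_lit 4, nat_lit 1, nat_lit 4, nat_lit 2, nat_lit 1, nat_lit 4, nat_lit 1, nat_lit 4, nat_lit 1, nat_lit 2, nat_lit 4, nat_lit 1, nat_lit 4, nat_lit 2]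
def Wt_877_879 (j : ℕ) : List ℕ := bif Nat.blt j 878 then [nat_lit 63, nat_lit 2, nat_lit 4, nat_lit 3, nat_lit 4, nat_lit 2, nat_lit 4, nat_lit 1, nat_lit 4, nat_lit 1, nat_lit 2, nat_lit 4, nat_lit 2, nat_lit 4, nat_lit 2, nat_lit 1, nat_lit 4, nat_lit 1] else [nat_lit 63, nat_lit 3, nat_lit 4, nat_lit 2, nat_lit 4, nat_lit 1, nat_lit 4, nat_lit 1, nat_lit 2, nat_lit 4, nat_lit 2, nat_lit 4, nat_lit 2, nat_lit 1, nat_lit 4, nat_lit 1, nat_lit 2, nat_lit 4]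
def Wt_875_879 (j : ℕ) : List ℕ := bif Nat.blt j 877 then (Wt_875_877 j) else (Wt_877_879 j)
def Wt_879_881 (j : ℕ) : List ℕ := bif Nat.blt j 880 then [nat_lit 63, nat_lit 2, nat_lit 4, nat_lit 1, nat_lit 4, nat_lit 1, nat_lit 2, nat_lit 4, nat_lit 2, nat_lit 4, nat_lit 2, nat_lit 1, nat_lit 4, nat_lit 1, nat_lit 2, nat_lit 4, nat_lit 3, nat_lit 4] else [nat_lit 63, nat_lit 4, nat_lit 2, nat_lit 4, nat_lit 2, nat_lit 4, nat_lit 2, nat_lit 4, nat_lit 2, nat_lit 4, nat_lit 2, nat_lit 4, nat_lit 2]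
def Wt_882_884 (j : ℕ) : List ℕ := bif Nat.blt j 883 then [nat_lit 63, nat_lit 3, nat_lit 2, nat_lit 4, nat_lit 1, nat_lit 5, nat_lit 4, nat_lit 3, nat_lit 2, nat_lit 4, nat_lit 1, nat_lit 5, nat_lit 4, nat_lit 3, nat_lit 2, nat_lit 4, nat_lit 1, nat_lit 5, nat_lit 4, nat_lit 3, nat_lit 2, nat_lit 4, nat_lit 1, nat_lit 5, nat_lit 4] else [nat_lit 63, nat_lit 4, nat_lit 3, nat_lit 4, nat_lit 3, nat_lit 4, nat_lit 2, nat_lit 5, nat_lit 4, nat_lit 3, nat_lit 4, nat_lit 3, nat_lit 4, nat_lit 2, nat_lit 5, nat_lit 4, nat_lit 3, nat_lit 4, nat_lit 3, nat_lit 4, nat_lit 2, nat_lit 5, nat_lit 4, nat_lit 3, nat_lit 4, nat_lit 3, nat_lit 4, nat_lit 2, nat_lit 5, nat_lit 4, nat_lit 3, nat_lit 4, nat_lit 3, nat_lit 4, nat_lit 2, nat_lit 5]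
def Wt_881_884 (j : ℕ) : List ℕ := bif Nat.blt j 882 then [nat_lit 63, nat_lit 4, nat_lit 5, nat_lit 4, nat_lit 2, nat_lit 4, nat_lit 5, nat_lit 4, nat_lit 2, nat_lit 4, nat_lit 5, nat_lit 4, nat_lit 2, nat_lit 4, nat_lit 5, nat_lit 4, nat_lit 2, nat_lit 4, nat_lit 5, nat_lit 4, nat_lit 2, nat_lit 4, nat_lit 5, nat_lit 4, nat_lit 2] else (Wt_882_884 j)
def Wt_879_884 (j : ℕ) : List ℕ := bif Nat.blt j 881 then (Wt_879_881 j) else (Wt_881_884 j)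
def Wt_875_884 (j : ℕ) : List ℕ := bif Nat.blt j 879 then (Wt_875_879 j) else (Wt_879_884 j)
def Wt_867_884 (j : ℕ) : List ℕ := bif Nat.blt j 875 then (Wt_867_875 j) else (Wt_875_884 j)
def Wt_850_884 (j : ℕ) : List ℕ := bif Nat.blt j 867 then (Wt_850_867 j) else (Wt_867_884 j)
def Wt_816_884 (j : ℕ) : List ℕ := bif Nat.blt j 850 then (Wt_816_850 j) else (Wt_850_884 j)
def Wt_884_886 (j : ℕ) : List ℕ := bif Nat.blt j 885 then [nat_lit 0, nat_lit 4, nat_lit 2, nat_lit 0, nat_lit 4, nat_lit 1, nat_lit 5, nat_lit 4, nat_lit 1, nat_lit 0, nat_lit 4, nat_lit 2, nat_lit 0, nat_lit 4, nat_lit 1, nat_lit 5, nat_lit 4, nat_lit 1, nat_lit 0, nat_lit 4, nat_lit 2, nat_lit 0, nat_lit 4, nat_lit 1, nat_lit 5, nat_lit 4, nat_lit 1, nat_lit 0, nat_lit 4, nat_lit 2, nat_lit 0, nat_lit 4, nat_lit 1, nat_lit 5, nat_lit 4, nat_lit 1, nat_lit 0, nat_lit 4, nat_lit 2, nat_lit 0, nat_lit 4, nat_lit 1,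 nat_lit 5, nat_lit 4, nat_lit 1] else [nat_lit 63, nat_lit 2, nat_lit 1, nat_lit 5, nat_lit 4, nat_lit 3, nat_lit 2, nat_lit 4, nat_lit 2, nat_lit 4, nat_lit 2, nat_lit 1, nat_lit 5, nat_lit 4, nat_lit 3, nat_lit 2, nat_lit 4, nat_lit 2, nat_lit 4, nat_lit 2, nat_lit 1, nat_lit 5, nat_lit 4, nat_lit 3, nat_lit 2, nat_lit 4, nat_lit 2, nat_lit 4, nat_lit 2, nat_lit 1, nat_lit 5, nat_lit 4, nat_lit 3, nat_lit 2, nat_lit 4, nat_lit 2, nat_lit 4, nat_lit 2, nat_lit 1, nat_lit 5, nat_lit 4, nat_lit 3, nat_lit 2, nat_lit 4, nat_lit 2, nat_lit 4, nat_lit 2, nat_lit 1, nat_lit 5, nat_lit 4, nat_lit 3, nat_lit 2, nat_lit 4, nat_lit 2, nat_lit 4]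
def Wt_886_888 (j : ℕ) : List ℕ := bif Nat.blt j 887 then [nat_lit 63, nat_lit 0, nat_lit 5, nat_lit 0, nat_lit 5] else [nat_lit 63, nat_lit 4, nat_lit 3, nat_lit 5, nat_lit 0, nat_lit 3, nat_lit 4, nat_lit 3, nat_lit 5, nat_lit 0, nat_lit 3, nat_lit 4, nat_lit 3, nat_lit 5, nat_lit 0, nat_lit 3, nat_lit 4, nat_lit 3, nat_lit 5, nat_lit 0, nat_lit 3, nat_lit 4, nat_lit 3, nat_lit 5, nat_lit 0, nat_lit 3]
def Wt_884_888 (j : ℕ) : List ℕ := bif Nat.blt j 886 then (Wt_884_886 j) else (Wt_886_888 j)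
def Wt_888_890 (j : ℕ) : List ℕ := bif Nat.blt j 889 then [nat_lit 63, nat_lit 4, nat_lit 3, nat_lit 4, nat_lit 0, nat_lit 4, nat_lit 2, nat_lit 1, nat_lit 5, nat_lit 2, nat_lit 4, nat_lit 3, nat_lit 4, nat_lit 0, nat_lit 4, nat_lit 2, nat_lit 1, nat_lit 5, nat_lit 2, nat_lit 4, nat_lit 3, nat_lit 4, nat_lit 0, nat_lit 4, nat_lit 2, nat_lit 1, nat_lit 5, nat_lit 2] else [nat_lit 63, nat_lit 2, nat_lit 4, nat_lit 3, nat_lit 4, nat_lit 2, nat_lit 1, nat_lit 4, nat_lit 1, nat_lit 2, nat_lit 4, nat_lit 2, nat_lit 4, nat_lit 2, nat_lit 1, nat_lit 4, nat_lit 1, nat_lit 4]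
def Wt_890_892 (j : ℕ) : List ℕ := bif Nat.blt j 891 then [nat_lit 63, nat_lit 4, nat_lit 1, nat_lit 2, nat_lit 1, nat_lit 4, nat_lit 1, nat_lit 5, nat_lit 4, nat_lit 1, nat_lit 2, nat_lit 1, nat_lit 4, nat_lit 1, nat_lit 5, nat_lit 4, nat_lit 1, nat_lit 2, nat_lit 1, nat_lit 4, nat_lit 1, nat_lit 5] else [nat_lit 63, nat_lit 2, nat_lit 5, nat_lit 1, nat_lit 2, nat_lit 4, nat_lit 0, nat_lit 4, nat_lit 3, nat_lit 4, nat_lit 2, nat_lit 5, nat_lit 1, nat_lit 2, nat_lit 4, nat_lit 0, nat_lit 4, nat_lit 3, nat_lit 4, nat_lit 2, nat_lit 5, nat_lit 1, nat_lit 2, nat_lit 4, nat_lit 0, nat_lit 4, nat_lit 3, nat_lit 4]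
def Wt_888_892 (j : ℕ) : List ℕ := bif Nat.blt j 890 then (Wt_888_890 j) else (Wt_890_892 j)
def Wt_884_892 (j : ℕ) : List ℕ := bif Nat.blt j 888 then (Wt_884_888 j) else (Wt_888_892 j)
def Wt_892_894 (j : ℕ) : List ℕ := bif Nat.blt j 893 then [nat_lit 63, nat_lit 5, nat_lit 2, nat_lit 4, nat_lit 2, nat_lit 1, nat_lit 5, nat_lit 2, nat_lit 4, nat_lit 2, nat_lit 1, nat_lit 5, nat_lit 2, nat_lit 4, nat_lit 2, nat_lit 1, nat_lit 5, nat_lit 2, nat_lit 4, nat_lit 2, nat_lit 1, nat_lit 5, nat_lit 2, nat_lit 4, nat_lit 2, nat_lit 1, nat_lit 5, nat_lit 2, nat_lit 4, nat_lit 2, nat_lit 1] else [nat_lit 63, nat_lit 2, nat_lit 5, nat_lit 4, nat_lit 3, nat_lit 4, nat_lit 3, nat_lit 4, nat_lit 2, nat_lit 5, nat_lit 4, nat_lit 3, nat_lit 4, nat_lit 3, nat_lit 4, nat_lit 2, nat_lit 5, nat_lit 4, nat_lit 3, nat_lit 4, nat_lit 3, nat_lit 4, nat_lit 2, nat_lit 5, nat_lit 4, nat_lit 3, nat_lit 4, nat_lit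 3, nat_lit 4, nat_lit 2, nat_lit 5, nat_lit 4, nat_lit 3, nat_lit 4, nat_lit 3, nat_lit 4]
def Wt_894_896 (j : ℕ) : List ℕ := bif Nat.blt j 895 then [nat_lit 63, nat_lit 0, nat_lit 1, nat_lit 4, nat_lit 5, nat_lit 1, nat_lit 4, nat_lit 0, nat_lit 2, nat_lit 4, nat_lit 0, nat_lit 1, nat_lit 4, nat_lit 5, nat_lit 1, nat_lit 4, nat_lit 0, nat_lit 2, nat_lit 4, nat_lit 0, nat_lit 1, nat_lit 4, nat_lit 5, nat_lit 1, nat_lit 4, nat_lit 0, nat_lit 2, nat_lit 4, nat_lit 0, nat_lit 1, nat_lit 4, nat_lit 5, nat_lit 1, nat_lit 4, nat_lit 0, nat_lit 2, nat_lit 4, nat_lit 0, nat_lit 1, nat_lit 4, nat_lit 5, nat_lit 1, nat_lit 4, nat_lit 0, nat_lit 2, nat_lit 4] else [nat_lit 63, nat_lit 1, nat_lit 3, nat_lit 4, nat_lit 3, nat_lit 4, nat_lit 3, nat_lit 4, nat_lit 3, nat_lit 4, nat_lit 1, nat_lit 4, nat_lit 1, nat_lit 4, nat_lit 1, nat_lit 4]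
def Wt_892_896 (j : ℕ) : List ℕ := bif Nat.blt j 894 then (Wt_892_894 j) else (Wt_894_896 j)
def Wt_896_898 (j : ℕ) : List ℕ := bif Nat.blt j 897 then [nat_lit 63, nat_lit 2, nat_lit 4, nat_lit 1, nat_lit 4, nat_lit 2, nat_lit 0, nat_lit 2, nat_lit 4, nat_lit 1, nat_lit 4, nat_lit 2, nat_lit 1, nat_lit 4, nat_lit 1, nat_lit 4, nat_lit 1] else [nat_lit 63, nat_lit 4, nat_lit 1, nat_lit 0, nat_lit 4, nat_lit 1, nat_lit 2, nat_lit 1, nat_lit 4, nat_lit 1, nat_lit 2, nat_lit 1, nat_lit 4, nat_lit 0, nat_lit 1, nat_lit 4, nat_lit 3, nat_lit 2]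
def Wt_899_901 (j : ℕ) : List ℕ := bif Nat.blt j 900 then [nat_lit 63, nat_lit 1, nat_lit 4, nat_lit 1, nat_lit 4, nat_lit 1, nat_lit 4, nat_lit 1, nat_lit 4, nat_lit 1, nat_lit 4, nat_lit 1, nat_lit 4, nat_lit 1, nat_lit 4, nat_lit 1, nat_lit 4] else [nat_lit 63, nat_lit 4, nat_lit 2, nat_lit 4, nat_lit 1, nat_lit 2, nat_lit 1, nat_lit 3, nat_lit 0, nat_lit 3, nat_lit 4, nat_lit 3, nat_lit 4, nat_lit 2, nat_lit 4, nat_lit 2, nat_lit 4, nat_lit 3]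
def Wt_898_901 (j : ℕ) : List ℕ := bif Nat.blt j 899 then [nat_lit 63, nat_lit 2, nat_lit 0, nat_lit 4, nat_lit 0, nat_lit 4, nat_lit 3, nat_lit 1, nat_lit 4, nat_lit 2, nat_lit 1, nat_lit 2, nat_lit 4, nat_lit 1, nat_lit 3, nat_lit 4, nat_lit 0, nat_lit 4] else (Wt_899_901 j)
def Wt_896_901 (j : ℕ) : List ℕ := bif Nat.blt j 898 then (Wt_896_898 j) else (Wt_898_901 j)
def Wt_892_901 (j : ℕ) : List ℕ := bif Nat.blt j 896 then (Wt_892_896 j) else (Wt_896_901 j)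
def Wt_884_901 (j : ℕ) : List ℕ := bif Nat.blt j 892 then (Wt_884_892 j) else (Wt_892_901 j)
def Wt_901_903 (j : ℕ) : List ℕ := bif Nat.blt j 902 then [nat_lit 63, nat_lit 0, nat_lit 4, nat_lit 1, nat_lit 4, nat_lit 2, nat_lit 0, nat_lit 4, nat_lit 1, nat_lit 4, nat_lit 0, nat_lit 2, nat_lit 4, nat_lit 1, nat_lit 4, nat_lit 2] else [nat_lit 63, nat_lit 4, nat_lit 3, nat_lit 1, nat_lit 4, nat_lit 1, nat_lit 0, nat_lit 4, nat_lit 3, nat_lit 1, nat_lit 0, nat_lit 1, nat_lit 2, nat_lit 0, nat_lit 1, nat_lit 4, nat_lit 0, nat_lit 1]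
def Wt_903_905 (j : ℕ) : List ℕ := bif Nat.blt j 904 then [nat_lit 63, nat_lit 2, nat_lit 1, nat_lit 4, nat_lit 0, nat_lit 1, nat_lit 4, nat_lit 3, nat_lit 2, nat_lit 4, nat_lit 1, nat_lit 0, nat_lit 4, nat_lit 1, nat_lit 2, nat_lit 1, nat_lit 4, nat_lit 1] else [nat_lit 4, nat_lit 3, nat_lit 2, nat_lit 4, nat_lit 1, nat_lit 5, nat_lit 4, nat_lit 3, nat_lit 2, nat_lit 4, nat_lit 1, nat_lit 5, nat_lit 4, nat_lit 3, nat_lit 2, nat_lit 4, nat_lit 1, nat_lit 5, nat_lit 4, nat_lit 3, nat_lit 2, nat_lit 4, nat_lit 1, nat_lit 5]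
def Wt_901_905 (j : ℕ) : List ℕ := bif Nat.blt j 903 then (Wt_901_903 j) else (Wt_903_905 j)
def Wt_905_907 (j : ℕ) : List ℕ := bif Nat.blt j 906 then [nat_lit 0, nat_lit 1, nat_lit 0, nat_lit 5, nat_lit 1, nat_lit 4, nat_lit 1, nat_lit 0, nat_lit 1, nat_lit 0, nat_lit 5, nat_lit 1, nat_lit 4, nat_lit 1, nat_lit 0, nat_lit 1, nat_lit 0, nat_lit 5, nat_lit 1, nat_lit 4, nat_lit 1, nat_lit 0, nat_lit 1, nat_lit 0, nat_lit 5, nat_lit 1, nat_lit 4, nat_lit 1] else [nat_lit 63, nat_lit 3, nat_lit 4, nat_lit 0, nat_lit 3, nat_lit 4, nat_lit 0, nat_lit 3, nat_lit 0, nat_lit 4, nat_lit 3, nat_lit 0, nat_lit 4, nat_lit 3, nat_lit 4, nat_lit 2, nat_lit 3, nat_lit 4]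
def Wt_907_909 (j : ℕ) : List ℕ := bif Nat.blt j 908 then [nat_lit 63, nat_lit 5, nat_lit 1, nat_lit 4, nat_lit 1, nat_lit 0, nat_lit 1, nat_lit 0, nat_lit 5, nat_lit 1, nat_lit 4, nat_lit 1, nat_lit 0, nat_lit 1, nat_lit 0, nat_lit 5, nat_lit 1, nat_lit 4, nat_lit 1, nat_lit 0, nat_lit 1, nat_lit 0, nat_lit 5, nat_lit 1, nat_lit 4, nat_lit 1, nat_lit 0, nat_lit 1, nat_lit 0] else [nat_lit 63, nat_lit 0, nat_lit 1, nat_lit 0, nat_lit 1, nat_lit 4, nat_lit 1, nat_lit 5, nat_lit 0, nat_lit 1, nat_lit 0, nat_lit 1, nat_lit 4, nat_lit 1, nat_lit 5, nat_lit 0, nat_lit 1, nat_lit 0, nat_lit 1, nat_lit 4, nat_lit 1, nat_lit 5, nat_lit 0, nat_lit 1, nat_lit 0, nat_lit 1, nat_lit 4, nat_lit 1, nat_lit 5]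
def Wt_905_909 (j : ℕ) : List ℕ := bif Nat.blt j 907 then (Wt_905_907 j) else (Wt_907_909 j)
def Wt_901_909 (j : ℕ) : List ℕ := bif Nat.blt j 905 then (Wt_901_905 j) else (Wt_905_909 j)
def Wt_909_911 (j : ℕ) : List ℕ := bif Nat.blt j 910 then [nat_lit 63, nat_lit 4, nat_lit 3, nat_lit 0, nat_lit 5, nat_lit 3, nat_lit 4, nat_lit 3, nat_lit 0, nat_lit 5, nat_lit 3, nat_lit 4, nat_lit 3, nat_lit 0, nat_lit 5, nat_lit 3, nat_lit 4, nat_lit 3, nat_lit 0, nat_lit 5, nat_lit 3, nat_lit 4, nat_lit 3, nat_lit 0, nat_lit 5, nat_lit 3] else [nat_lit 2, nat_lit 4, nat_lit 0, nat_lit 4, nat_lit 3, nat_lit 4, nat_lit 2, nat_lit 5, nat_lit 1, nat_lit 2, nat_lit 4, nat_lit 0, nat_lit 4, nat_lit 3, nat_lit 4, nat_lit 2, nat_lit 5, nat_lit 1, nat_lit 2, nat_lit 4, nat_lit 0, nat_lit 4, nat_lit 3, nat_lit 4, nat_lit 2, nat_lit 5, nat_lit 1]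
def Wt_911_913 (j : ℕ) : List ℕ := bif Nat.blt j 912 then [nat_lit 4, nat_lit 3, nat_lit 4, nat_lit 3, nat_lit 4, nat_lit 3, nat_lit 4, nat_lit 3, nat_lit 4, nat_lit 3, nat_lit 4, nat_lit 3, nat_lit 4, nat_lit 3, nat_lit 4, nat_lit 3] else [nat_lit 3, nat_lit 4, nat_lit 5, nat_lit 2, nat_lit 4, nat_lit 3, nat_lit 4, nat_lit 3, nat_lit 4, nat_lit 5, nat_lit 2, nat_lit 4, nat_lit 3, nat_lit 4, nat_lit 3, nat_lit 4, nat_lit 5, nat_lit 2, nat_lit 4, nat_lit 3, nat_lit 4, nat_lit 3, nat_lit 4, nat_lit 5, nat_lit 2, nat_lit 4, nat_lit 3, nat_lit 4, nat_lit 3, nat_lit 4, nat_lit 5, nat_lit 2, nat_lit 4, nat_lit 3, nat_lit 4]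
def Wt_909_913 (j : ℕ) : List ℕ := bif Nat.blt j 911 then (Wt_909_911 j) else (Wt_911_913 j)
def Wt_913_915 (j : ℕ) : List ℕ := bif Nat.blt j 914 then [nat_lit 63, nat_lit 1, nat_lit 4, nat_lit 1, nat_lit 4, nat_lit 1, nat_lit 4, nat_lit 3, nat_lit 4, nat_lit 3, nat_lit 4, nat_lit 3, nat_lit 4, nat_lit 3, nat_lit 1, nat_lit 4] else [nat_lit 63, nat_lit 5, nat_lit 0, nat_lit 3, nat_lit 4, nat_lit 3, nat_lit 5, nat_lit 0, nat_lit 3, nat_lit 4, nat_lit 3, nat_lit 5, nat_lit 0, nat_lit 3, nat_lit 4, nat_lit 3, nat_lit 5, nat_lit 0, nat_lit 3, nat_lit 4, nat_lit 3, nat_lit 5, nat_lit 0, nat_lit 3, nat_lit 4, nat_lit 3]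
def Wt_916_918 (j : ℕ) : List ℕ := bif Nat.blt j 917 then [nat_lit 63, nat_lit 0, nat_lit 4, nat_lit 3, nat_lit 4, nat_lit 2, nat_lit 5, nat_lit 1, nat_lit 2, nat_lit 4, nat_lit 0, nat_lit 4, nat_lit 3, nat_lit 4, nat_lit 2, nat_lit 5, nat_lit 1, nat_lit 2, nat_lit 4, nat_lit 0, nat_lit 4, nat_lit 3, nat_lit 4, nat_lit 2, nat_lit 5, nat_lit 1, nat_lit 2, nat_lit 4] else [nat_lit 63, nat_lit 5, nat_lit 2, nat_lit 4, nat_lit 1, nat_lit 4, nat_lit 5, nat_lit 2, nat_lit 4, nat_lit 1, nat_lit 4, nat_lit 5, nat_lit 2, nat_lit 4, nat_lit 1, nat_lit 4]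
def Wt_915_918 (j : ℕ) : List ℕ := bif Nat.blt j 916 then [nat_lit 63, nat_lit 5, nat_lit 1, nat_lit 4, nat_lit 2, nat_lit 3, nat_lit 4, nat_lit 5, nat_lit 1, nat_lit 4, nat_lit 2, nat_lit 3, nat_lit 4, nat_lit 5, nat_lit 1, nat_lit 4, nat_lit 2, nat_lit 3, nat_lit 4, nat_lit 5, nat_lit 1, nat_lit 4, nat_lit 2, nat_lit 3, nat_lit 4] else (Wt_916_918 j)
def Wt_913_918 (j : ℕ) : List ℕ := bif Nat.blt j 915 then (Wt_913_915 j) else (Wt_915_918 j)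
def Wt_909_918 (j : ℕ) : List ℕ := bif Nat.blt j 913 then (Wt_909_913 j) else (Wt_913_918 j)
def Wt_901_918 (j : ℕ) : List ℕ := bif Nat.blt j 909 then (Wt_901_909 j) else (Wt_909_918 j)
def Wt_884_918 (j : ℕ) : List ℕ := bif Nat.blt j 901 then (Wt_884_901 j) else (Wt_901_918 j)
def Wt_918_920 (j : ℕ) : List ℕ := bif Nat.blt j 919 then [nat_lit 63, nat_lit 2, nat_lit 4, nat_lit 3, nat_lit 1, nat_lit 3, nat_lit 1, nat_lit 3, nat_lit 1, nat_lit 3, nat_lit 4, nat_lit 2, nat_lit 1, nat_lit 4, nat_lit 3, nat_lit 4, nat_lit 1] else [nat_lit 63, nat_lit 4, nat_lit 1, nat_lit 3, nat_lit 4, nat_lit 1, nat_lit 0, nat_lit 4, nat_lit 1, nat_lit 0, nat_lit 2, nat_lit 1, nat_lit 0, nat_lit 1, nat_lit 3, nat_lit 4, nat_lit 0, nat_lit 1]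
def Wt_920_922 (j : ℕ) : List ℕ := bif Nat.blt j 921 then [nat_lit 63, nat_lit 4, nat_lit 3, nat_lit 2, nat_lit 4, nat_lit 1, nat_lit 0, nat_lit 4, nat_lit 1, nat_lit 2, nat_lit 1, nat_lit 4, nat_lit 1, nat_lit 2, nat_lit 1, nat_lit 4, nat_lit 0, nat_lit 1] else [nat_lit 4, nat_lit 1, nat_lit 2, nat_lit 4, nat_lit 1, nat_lit 4, nat_lit 0, nat_lit 4, nat_lit 1, nat_lit 4, nat_lit 1, nat_lit 3, nat_lit 0, nat_lit 2, nat_lit 3, nat_lit 4, nat_lit 1]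
def Wt_918_922 (j : ℕ) : List ℕ := bif Nat.blt j 920 then (Wt_918_920 j) else (Wt_920_922 j)
def Wt_922_924 (j : ℕ) : List ℕ := bif Nat.blt j 923 then [nat_lit 63, nat_lit 1, nat_lit 4, nat_lit 5, nat_lit 1, nat_lit 4, nat_lit 1, nat_lit 2, nat_lit 1, nat_lit 4, nat_lit 5, nat_lit 1, nat_lit 4, nat_lit 1, nat_lit 2, nat_lit 1, nat_lit 4, nat_lit 5, nat_lit 1, nat_lit 4, nat_lit 1, nat_lit 2] else [nat_lit 63, nat_lit 1, nat_lit 0, nat_lit 5, nat_lit 1, nat_lit 4, nat_lit 1, nat_lit 0, nat_lit 1, nat_lit 0, nat_lit 5, nat_lit 1, nat_lit 4, nat_lit 1, nat_lit 0, nat_lit 1, nat_lit 0, nat_lit 5, nat_lit 1, nat_lit 4, nat_lit 1, nat_lit 0, nat_lit 1, nat_lit 0, nat_lit 5, nat_lit 1, nat_lit 4, nat_lit 1, nat_lit 0]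
def Wt_924_926 (j : ℕ) : List ℕ := bif Nat.blt j 925 then [nat_lit 63, nat_lit 1, nat_lit 0, nat_lit 1, nat_lit 4, nat_lit 1, nat_lit 5, nat_lit 0, nat_lit 1, nat_lit 0, nat_lit 1, nat_lit 4, nat_lit 1, nat_lit 5, nat_lit 0, nat_lit 1, nat_lit 0, nat_lit 1, nat_lit 4, nat_lit 1, nat_lit 5, nat_lit 0, nat_lit 1, nat_lit 0, nat_lit 1, nat_lit 4, nat_lit 1, nat_lit 5, nat_lit 0] else [nat_lit 63, nat_lit 1, nat_lit 2, nat_lit 4, nat_lit 2, nat_lit 5, nat_lit 1, nat_lit 2, nat_lit 4, nat_lit 2, nat_lit 5, nat_lit 1, nat_lit 2, nat_lit 4, nat_lit 2, nat_lit 5, nat_lit 1, nat_lit 2, nat_lit 4, nat_lit 2, nat_lit 5, nat_lit 1, nat_lit 2, nat_lit 4, nat_lit 2, nat_lit 5, nat_lit 1, nat_lit 2, nat_lit 4, nat_lit 2, nat_lit 5]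
def Wt_922_926 (j : ℕ) : List ℕ := bif Nat.blt j 924 then (Wt_922_924 j) else (Wt_924_926 j)
def Wt_918_926 (j : ℕ) : List ℕ := bif Nat.blt j 922 then (Wt_918_922 j) else (Wt_922_926 j)
def Wt_926_928 (j : ℕ) : List ℕ := bif Nat.blt j 927 then [nat_lit 63, nat_lit 1, nat_lit 4, nat_lit 3, nat_lit 4, nat_lit 3, nat_lit 4, nat_lit 3, nat_lit 4, nat_lit 3, nat_lit 1, nat_lit 4, nat_lit 1, nat_lit 4, nat_lit 1, nat_lit 4] else [nat_lit 63, nat_lit 0, nat_lit 1, nat_lit 0, nat_lit 3, nat_lit 1, nat_lit 4, nat_lit 1, nat_lit 3, nat_lit 0, nat_lit 1, nat_lit 0, nat_lit 3, nat_lit 1, nat_lit 4, nat_lit 1, nat_lit 3]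
def Wt_928_930 (j : ℕ) : List ℕ := bif Nat.blt j 929 then [nat_lit 63, nat_lit 2, nat_lit 4, nat_lit 1, nat_lit 0, nat_lit 4, nat_lit 1, nat_lit 2, nat_lit 1, nat_lit 4, nat_lit 1, nat_lit 2, nat_lit 1, nat_lit 4, nat_lit 0, nat_lit 1, nat_lit 4, nat_lit 3] else [nat_lit 63, nat_lit 0, nat_lit 4, nat_lit 0, nat_lit 4, nat_lit 3, nat_lit 1, nat_lit 4, nat_lit 2, nat_lit 1, nat_lit 2, nat_lit 4, nat_lit 1, nat_lit 3, nat_lit 4, nat_lit 0, nat_lit 4, nat_lit 2]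
def Wt_926_930 (j : ℕ) : List ℕ := bif Nat.blt j 928 then (Wt_926_928 j) else (Wt_928_930 j)
def Wt_930_932 (j : ℕ) : List ℕ := bif Nat.blt j 931 then [nat_lit 63, nat_lit 4, nat_lit 2, nat_lit 4, nat_lit 3, nat_lit 4, nat_lit 2, nat_lit 4, nat_lit 3, nat_lit 0, nat_lit 3, nat_lit 1, nat_lit 2, nat_lit 1, nat_lit 4, nat_lit 3, nat_lit 4, nat_lit 2] else [nat_lit 63, nat_lit 5, nat_lit 0, nat_lit 4, nat_lit 1, nat_lit 4, nat_lit 5, nat_lit 0, nat_lit 4, nat_lit 1, nat_lit 4, nat_lit 5, nat_lit 0, nat_lit 4, nat_lit 1, nat_lit 4, nat_lit 5, nat_lit 0, nat_lit 4, nat_lit 1, nat_lit 4]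
def Wt_933_935 (j : ℕ) : List ℕ := bif Nat.blt j 934 then [nat_lit 5, nat_lit 0, nat_lit 1, nat_lit 0, nat_lit 1, nat_lit 4, nat_lit 1, nat_lit 5, nat_lit 0, nat_lit 1, nat_lit 0, nat_lit 1, nat_lit 4, nat_lit 1, nat_lit 5, nat_lit 0, nat_lit 1, nat_lit 0, nat_lit 1, nat_lit 4, nat_lit 1, nat_lit 5, nat_lit 0, nat_lit 1, nat_lit 0, nat_lit 1, nat_lit 4, nat_lit 1] else [nat_lit 5, nat_lit 0, nat_lit 4, nat_lit 3, nat_lit 4, nat_lit 5, nat_lit 0, nat_lit 4, nat_lit 3, nat_lit 4, nat_lit 5, nat_lit 0, nat_lit 4, nat_lit 3, nat_lit 4, nat_lit 5, nat_lit 0, nat_lit 4, nat_lit 3, nat_lit 4, nat_lit 5, nat_lit 0, nat_lit 4, nat_lit 3, nat_lit 4, nat_lit 5, nat_lit 0, nat_lit 4, nat_lit 3, nat_lit 4]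
def Wt_932_935 (j : ℕ) : List ℕ := bif Nat.blt j 933 then [nat_lit 63, nat_lit 2, nat_lit 3, nat_lit 4, nat_lit 5, nat_lit 1, nat_lit 4, nat_lit 2, nat_lit 3, nat_lit 4, nat_lit 5, nat_lit 1, nat_lit 4, nat_lit 2, nat_lit 3, nat_lit 4, nat_lit 5, nat_lit 1, nat_lit 4, nat_lit 2, nat_lit 3, nat_lit 4, nat_lit 5, nat_lit 1, nat_lit 4] else (Wt_933_935 j)
def Wt_930_935 (j : ℕ) : List ℕ := bif Nat.blt j 932 then (Wt_930_932 j) else (Wt_932_935 j)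
def Wt_926_935 (j : ℕ) : List ℕ := bif Nat.blt j 930 then (Wt_926_930 j) else (Wt_930_935 j)
def Wt_918_935 (j : ℕ) : List ℕ := bif Nat.blt j 926 then (Wt_918_926 j) else (Wt_926_935 j)
def Wt_935_937 (j : ℕ) : List ℕ := bif Nat.blt j 936 then [nat_lit 63, nat_lit 0, nat_lit 1, nat_lit 4, nat_lit 1, nat_lit 5, nat_lit 4, nat_lit 2, nat_lit 0, nat_lit 4, nat_lit 0, nat_lit 1, nat_lit 4, nat_lit 1, nat_lit 5, nat_lit 4, nat_lit 2, nat_lit 0, nat_lit 4, nat_lit 0, nat_lit 1, nat_lit 4, nat_lit 1, nat_lit 5, nat_lit 4, nat_lit 2, nat_lit 0, nat_lit 4, nat_lit 0, nat_lit 1, nat_lit 4, nat_lit 1, nat_lit 5, nat_lit 4, nat_lit 2, nat_lit 0, nat_lit 4, nat_lit 0, nat_lit 1, nat_lit 4, nat_lit 1, nat_lit 5, nat_lit 4, nat_lit 2, nat_lit 0, nat_lit 4] else [nat_lit 63, nat_lit 2, nat_lit 4, nat_lit 5, nat_lit 1, nat_lit 4, nat_lit 1, nat_lit 0, nat_lit 4, nat_lit 0, nat_lit 2, nat_lit 4, nat_lit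 5, nat_lit 1, nat_lit 4, nat_lit 1, nat_lit 0, nat_lit 4, nat_lit 0, nat_lit 2, nat_lit 4, nat_lit 5, nat_lit 1, nat_lit 4, nat_lit 1, nat_lit 0, nat_lit 4, nat_lit 0, nat_lit 2, nat_lit 4, nat_lit 5, nat_lit 1, nat_lit 4, nat_lit 1, nat_lit 0, nat_lit 4, nat_lit 0, nat_lit 2, nat_lit 4, nat_lit 5, nat_lit 1, nat_lit 4, nat_lit 1, nat_lit 0, nat_lit 4, nat_lit 0]
def Wt_937_939 (j : ℕ) : List ℕ := bif Nat.blt j 938 then [nat_lit 63, nat_lit 4, nat_lit 3, nat_lit 5, nat_lit 4, nat_lit 3, nat_lit 0, nat_lit 4, nat_lit 3, nat_lit 4, nat_lit 5, nat_lit 6, nat_lit 5, nat_lit 4, nat_lit 1, nat_lit 0] else [nat_lit 63, nat_lit 4, nat_lit 5, nat_lit 4, nat_lit 5, nat_lit 4, nat_lit 5, nat_lit 4, nat_lit 5, nat_lit 4, nat_lit 5, nat_lit 4, nat_lit 5, nat_lit 4, nat_lit 5, nat_lit 4, nat_lit 5, nat_lit 4, nat_lit 5, nat_lit 4, nat_lit 5, nat_lit 4, nat_lit 5, nat_lit 4, nat_lit 5]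
def Wt_935_939 (j : ℕ) : List ℕ := bif Nat.blt j 937 then (Wt_935_937 j) else (Wt_937_939 j)
def Wt_939_941 (j : ℕ) : List ℕ := bif Nat.blt j 940 then [nat_lit 63, nat_lit 2, nat_lit 4, nat_lit 5, nat_lit 4, nat_lit 2, nat_lit 4, nat_lit 5, nat_lit 4, nat_lit 2, nat_lit 4, nat_lit 5, nat_lit 4, nat_lit 2, nat_lit 4, nat_lit 5, nat_lit 4, nat_lit 2, nat_lit 4, nat_lit 5, nat_lit 4, nat_lit 2, nat_lit 4, nat_lit 5, nat_lit 4] else [nat_lit 63, nat_lit 1, nat_lit 5, nat_lit 4, nat_lit 3, nat_lit 2, nat_lit 4, nat_lit 1, nat_lit 5, nat_lit 4, nat_lit 3, nat_lit 2, nat_lit 4, nat_lit 1, nat_lit 5, nat_lit 4, nat_lit 3, nat_lit 2, nat_lit 4, nat_lit 1, nat_lit 5, nat_lit 4, nat_lit 3, nat_lit 2, nat_lit 4]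
def Wt_941_943 (j : ℕ) : List ℕ := bif Nat.blt j 942 then [nat_lit 63, nat_lit 1, nat_lit 4, nat_lit 3, nat_lit 4, nat_lit 0, nat_lit 4, nat_lit 5, nat_lit 0, nat_lit 1, nat_lit 4, nat_lit 3, nat_lit 4, nat_lit 0, nat_lit 4, nat_lit 5, nat_lit 0, nat_lit 1, nat_lit 4, nat_lit 3, nat_lit 4, nat_lit 0, nat_lit 4, nat_lit 5, nat_lit 0, nat_lit 1, nat_lit 4, nat_lit 3, nat_lit 4, nat_lit 0, nat_lit 4, nat_lit 5, nat_lit 0, nat_lit 1, nat_lit 4, nat_lit 3, nat_lit 4, nat_lit 0, nat_lit 4, nat_lit 5, nat_lit 0] else [nat_lit 4, nat_lit 1, nat_lit 5, nat_lit 4, nat_lit 1, nat_lit 0, nat_lit 4, nat_lit 2, nat_lit 0, nat_lit 4, nat_lit 1, nat_lit 5, nat_lit 4, nat_lit 1, nat_lit 0, nat_lit 4, nat_lit 2, nat_lit 0, nat_lit 4, nat_lit 1, nat_lit 5, nat_lit 4, nat_lit 1, nat_lit 0, nat_lit 4, nat_lit 2, nat_lit 0, nat_lit 4, nat_lit 1, nat_lit 5, nat_lit 4, nat_lit 1, nat_lit 0, nat_lit 4, nat_lit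 2, nat_lit 0, nat_lit 4, nat_lit 1, nat_lit 5, nat_lit 4, nat_lit 1, nat_lit 0, nat_lit 4, nat_lit 2, nat_lit 0]
def Wt_939_943 (j : ℕ) : List ℕ := bif Nat.blt j 941 then (Wt_939_941 j) else (Wt_941_943 j)
def Wt_935_943 (j : ℕ) : List ℕ := bif Nat.blt j 939 then (Wt_935_939 j) else (Wt_939_943 j)
def Wt_943_945 (j : ℕ) : List ℕ := bif Nat.blt j 944 then [nat_lit 63, nat_lit 1, nat_lit 4, nat_lit 5, nat_lit 1, nat_lit 4, nat_lit 0, nat_lit 2, nat_lit 4, nat_lit 0, nat_lit 1, nat_lit 4, nat_lit 5, nat_lit 1, nat_lit 4, nat_lit 0, nat_lit 2, nat_lit 4, nat_lit 0, nat_lit 1, nat_lit 4, nat_lit 5, nat_lit 1, nat_lit 4, nat_lit 0, nat_lit 2, nat_lit 4, nat_lit 0, nat_lit 1, nat_lit 4, nat_lit 5, nat_lit 1, nat_lit 4, nat_lit 0, nat_lit 2, nat_lit 4, nat_lit 0, nat_lit 1, nat_lit 4, nat_lit 5, nat_lit 1, nat_lit 4, nat_lit 0, nat_lit 2, nat_lit 4, nat_lit 0] else [nat_lit 63, nat_lit 1,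 nat_lit 4, nat_lit 0, nat_lit 2, nat_lit 4, nat_lit 0, nat_lit 1, nat_lit 4, nat_lit 5, nat_lit 1, nat_lit 4, nat_lit 0, nat_lit 2, nat_lit 4, nat_lit 0, nat_lit 1, nat_lit 4, nat_lit 5, nat_lit 1, nat_lit 4, nat_lit 0, nat_lit 2, nat_lit 4, nat_lit 0, nat_lit 1, nat_lit 4, nat_lit 5, nat_lit 1, nat_lit 4, nat_lit 0, nat_lit 2, nat_lit 4, nat_lit 0, nat_lit 1, nat_lit 4, nat_lit 5, nat_lit 1, nat_lit 4, nat_lit 0, nat_lit 2, nat_lit 4, nat_lit 0, nat_lit 1, nat_lit 4, nat_lit 5]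
def Wt_945_947 (j : ℕ) : List ℕ := bif Nat.blt j 946 then [nat_lit 63, nat_lit 3, nat_lit 5, nat_lit 4, nat_lit 3, nat_lit 0, nat_lit 4, nat_lit 3, nat_lit 4, nat_lit 5, nat_lit 6, nat_lit 5, nat_lit 4, nat_lit 1, nat_lit 0, nat_lit 4] else [nat_lit 63, nat_lit 3, nat_lit 4, nat_lit 3, nat_lit 4, nat_lit 1, nat_lit 4, nat_lit 1, nat_lit 4, nat_lit 1, nat_lit 4, nat_lit 1, nat_lit 3, nat_lit 4, nat_lit 3, nat_lit 4]
def Wt_943_947 (j : ℕ) : List ℕ := bif Nat.blt j 945 then (Wt_943_945 j) else (Wt_945_947 j)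
def Wt_947_949 (j : ℕ) : List ℕ := bif Nat.blt j 948 then [nat_lit 63, nat_lit 4, nat_lit 3, nat_lit 1, nat_lit 0, nat_lit 1, nat_lit 2, nat_lit 0, nat_lit 1, nat_lit 4, nat_lit 0, nat_lit 1, nat_lit 4, nat_lit 3, nat_lit 1, nat_lit 4, nat_lit 1, nat_lit 0] else [nat_lit 63, nat_lit 2, nat_lit 1, nat_lit 2, nat_lit 1, nat_lit 2, nat_lit 1, nat_lit 2, nat_lit 1]
def Wt_950_952 (j : ℕ) : List ℕ := bif Nat.blt j 951 then [nat_lit 63, nat_lit 1, nat_lit 4, nat_lit 0, nat_lit 5, nat_lit 4, nat_lit 1, nat_lit 4, nat_lit 0, nat_lit 5, nat_lit 4, nat_lit 1, nat_lit 4, nat_lit 0, nat_lit 5, nat_lit 4, nat_lit 1, nat_lit 4, nat_lit 0, nat_lit 5, nat_lit 4] else [nat_lit 63, nat_lit 0, nat_lit 1, nat_lit 0, nat_lit 1, nat_lit 0, nat_lit 1, nat_lit 0, nat_lit 1, nat_lit 0, nat_lit 1, nat_lit 0, nat_lit 1]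
def Wt_949_952 (j : ℕ) : List ℕ := bif Nat.blt j 950 then [nat_lit 63, nat_lit 1, nat_lit 4, nat_lit 2, nat_lit 5, nat_lit 4, nat_lit 1, nat_lit 4, nat_lit 2, nat_lit 5, nat_lit 4, nat_lit 1, nat_lit 4, nat_lit 2, nat_lit 5, nat_lit 4] else (Wt_950_952 j)
def Wt_947_952 (j : ℕ) : List ℕ := bif Nat.blt j 949 then (Wt_947_949 j) else (Wt_949_952 j)
def Wt_943_952 (j : ℕ) : List ℕ := bif Nat.blt j 947 then (Wt_943_947 j) else (Wt_947_952 j)
def Wt_935_952 (j : ℕ) : List ℕ := bif Nat.blt j 943 then (Wt_935_943 j) else (Wt_943_952 j)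
def Wt_918_952 (j : ℕ) : List ℕ := bif Nat.blt j 935 then (Wt_918_935 j) else (Wt_935_952 j)
def Wt_884_952 (j : ℕ) : List ℕ := bif Nat.blt j 918 then (Wt_884_918 j) else (Wt_918_952 j)
def Wt_816_952 (j : ℕ) : List ℕ := bif Nat.blt j 884 then (Wt_816_884 j) else (Wt_884_952 j)
def Wt_952_954 (j : ℕ) : List ℕ := bif Nat.blt j 953 then [nat_lit 63, nat_lit 3, nat_lit 1, nat_lit 0, nat_lit 1, nat_lit 2, nat_lit 0, nat_lit 1, nat_lit 4, nat_lit 0, nat_lit 1, nat_lit 4, nat_lit 3, nat_lit 1, nat_lit 4, nat_lit 1, nat_lit 0, nat_lit 4] else [nat_lit 63, nat_lit 3, nat_lit 4, nat_lit 3, nat_lit 4, nat_lit 3, nat_lit 4, nat_lit 3, nat_lit 1, nat_lit 4, nat_lit 1, nat_lit 4, nat_lit 1, nat_lit 4, nat_lit 1, nat_lit 4]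
def Wt_954_956 (j : ℕ) : List ℕ := bif Nat.blt j 955 then [nat_lit 63, nat_lit 1, nat_lit 4, nat_lit 1, nat_lit 3, nat_lit 4, nat_lit 3, nat_lit 4, nat_lit 3, nat_lit 4, nat_lit 3, nat_lit 4, nat_lit 1, nat_lit 4, nat_lit 1, nat_lit 4] else [nat_lit 63, nat_lit 4, nat_lit 1, nat_lit 4, nat_lit 1, nat_lit 3, nat_lit 0, nat_lit 2, nat_lit 3, nat_lit 4, nat_lit 1, nat_lit 4, nat_lit 1, nat_lit 2, nat_lit 4, nat_lit 1, nat_lit 4, nat_lit 0]
def Wt_952_956 (j : ℕ) : List ℕ := bif Nat.blt j 954 then (Wt_952_954 j) else (Wt_954_956 j)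
def Wt_956_958 (j : ℕ) : List ℕ := bif Nat.blt j 957 then [nat_lit 63, nat_lit 4, nat_lit 2, nat_lit 1, nat_lit 2, nat_lit 4, nat_lit 1, nat_lit 3, nat_lit 4, nat_lit 0, nat_lit 4, nat_lit 2, nat_lit 0, nat_lit 4, nat_lit 0, nat_lit 4, nat_lit 3, nat_lit 1] else [nat_lit 63, nat_lit 4, nat_lit 1, nat_lit 4, nat_lit 2, nat_lit 4, nat_lit 3, nat_lit 2, nat_lit 4, nat_lit 3, nat_lit 0, nat_lit 3, nat_lit 1, nat_lit 4, nat_lit 2, nat_lit 3, nat_lit 4, nat_lit 2]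
def Wt_958_960 (j : ℕ) : List ℕ := bif Nat.blt j 959 then [nat_lit 63, nat_lit 3, nat_lit 4, nat_lit 2, nat_lit 4, nat_lit 1, nat_lit 4, nat_lit 2, nat_lit 4, nat_lit 3, nat_lit 2, nat_lit 4, nat_lit 3, nat_lit 0, nat_lit 3, nat_lit 1, nat_lit 4, nat_lit 2] else [nat_lit 63, nat_lit 2, nat_lit 4, nat_lit 2, nat_lit 4, nat_lit 3, nat_lit 4, nat_lit 2, nat_lit 4, nat_lit 1, nat_lit 2, nat_lit 1, nat_lit 3, nat_lit 0, nat_lit 3, nat_lit 4, nat_lit 3, nat_lit 4]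
def Wt_956_960 (j : ℕ) : List ℕ := bif Nat.blt j 958 then (Wt_956_958 j) else (Wt_958_960 j)
def Wt_952_960 (j : ℕ) : List ℕ := bif Nat.blt j 956 then (Wt_952_956 j) else (Wt_956_960 j)
def Wt_960_962 (j : ℕ) : List ℕ := bif Nat.blt j 961 then [nat_lit 63, nat_lit 0, nat_lit 4, nat_lit 3, nat_lit 4, nat_lit 2, nat_lit 3, nat_lit 4, nat_lit 1, nat_lit 4, nat_lit 0, nat_lit 1, nat_lit 0, nat_lit 4, nat_lit 1, nat_lit 2, nat_lit 3, nat_lit 1] else [nat_lit 63, nat_lit 2, nat_lit 1, nat_lit 4, nat_lit 1, nat_lit 4, nat_lit 2, nat_lit 4, nat_lit 3, nat_lit 4, nat_lit 2, nat_lit 1, nat_lit 4, nat_lit 1, nat_lit 2, nat_lit 4, nat_lit 2, nat_lit 4]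
def Wt_962_964 (j : ℕ) : List ℕ := bif Nat.blt j 963 then [nat_lit 63, nat_lit 4, nat_lit 2, nat_lit 1, nat_lit 4, nat_lit 1, nat_lit 4, nat_lit 2, nat_lit 4, nat_lit 3, nat_lit 4, nat_lit 2, nat_lit 1, nat_lit 4, nat_lit 1, nat_lit 2, nat_lit 4, nat_lit 2] else [nat_lit 63, nat_lit 4, nat_lit 3, nat_lit 4, nat_lit 2, nat_lit 1, nat_lit 4, nat_lit 1, nat_lit 2, nat_lit 4, nat_lit 2, nat_lit 4, nat_lit 2, nat_lit 1, nat_lit 4, nat_lit 1, nat_lit 4, nat_lit 2]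
def Wt_960_964 (j : ℕ) : List ℕ := bif Nat.blt j 962 then (Wt_960_962 j) else (Wt_962_964 j)
def Wt_964_966 (j : ℕ) : List ℕ := bif Nat.blt j 965 then [nat_lit 63, nat_lit 4, nat_lit 0, nat_lit 4, nat_lit 0, nat_lit 4, nat_lit 0, nat_lit 4, nat_lit 0, nat_lit 4, nat_lit 0, nat_lit 4, nat_lit 0, nat_lit 4, nat_lit 0, nat_lit 4, nat_lit 0, nat_lit 4, nat_lit 0, nat_lit 4, nat_lit 0, nat_lit 4, nat_lit 0, nat_lit 4, nat_lit 0] else [nat_lit 63, nat_lit 4, nat_lit 1, nat_lit 4, nat_lit 0, nat_lit 5, nat_lit 4, nat_lit 1, nat_lit 4, nat_lit 0, nat_lit 5, nat_lit 4, nat_lit 1, nat_lit 4, nat_lit 0, nat_lit 5, nat_lit 4, nat_lit 1, nat_lit 4, nat_lit 0, nat_lit 5]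
def Wt_967_969 (j : ℕ) : List ℕ := bif Nat.blt j 968 then [nat_lit 63, nat_lit 2, nat_lit 1, nat_lit 5, nat_lit 2, nat_lit 4, nat_lit 2, nat_lit 1, nat_lit 5, nat_lit 2, nat_lit 4, nat_lit 2, nat_lit 1, nat_lit 5, nat_lit 2, nat_lit 4, nat_lit 2, nat_lit 1, nat_lit 5, nat_lit 2, nat_lit 4, nat_lit 2, nat_lit 1, nat_lit 5, nat_lit 2, nat_lit 4, nat_lit 2, nat_lit 1, nat_lit 5, nat_lit 2, nat_lit 4] else [nat_lit 63, nat_lit 4, nat_lit 1, nat_lit 0, nat_lit 4, nat_lit 2, nat_lit 0, nat_lit 4, nat_lit 1, nat_lit 5, nat_lit 4, nat_lit 1, nat_lit 0, nat_lit 4, nat_lit 2, nat_lit 0, nat_lit 4, nat_lit 1, nat_lit 5, nat_lit 4, nat_lit 1, nat_lit 0, nat_lit 4, nat_lit 2, nat_lit 0, nat_lit 4, nat_lit 1, nat_lit 5, nat_lit 4, nat_lit 1, nat_lit 0, nat_lit 4, nat_lit 2, nat_lit 0, nat_lit 4, nat_lit 1, nat_lit 5, nat_lit 4, nat_lit 1, nat_lit 0, nat_lit 4, nat_lit 2, nat_lit 0, nat_lit 4,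 nat_lit 1, nat_lit 5]
def Wt_966_969 (j : ℕ) : List ℕ := bif Nat.blt j 967 then [nat_lit 63, nat_lit 1, nat_lit 0, nat_lit 1, nat_lit 0, nat_lit 5, nat_lit 1, nat_lit 4, nat_lit 1, nat_lit 0, nat_lit 1, nat_lit 0, nat_lit 5, nat_lit 1, nat_lit 4, nat_lit 1, nat_lit 0, nat_lit 1, nat_lit 0, nat_lit 5, nat_lit 1, nat_lit 4, nat_lit 1, nat_lit 0, nat_lit 1, nat_lit 0, nat_lit 5, nat_lit 1, nat_lit 4] else (Wt_967_969 j)
def Wt_964_969 (j : ℕ) : List ℕ := bif Nat.blt j 966 then (Wt_964_966 j) else (Wt_966_969 j)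
def Wt_960_969 (j : ℕ) : List ℕ := bif Nat.blt j 964 then (Wt_960_964 j) else (Wt_964_969 j)
def Wt_952_969 (j : ℕ) : List ℕ := bif Nat.blt j 960 then (Wt_952_960 j) else (Wt_960_969 j)
def Wt_969_971 (j : ℕ) : List ℕ := bif Nat.blt j 970 then [nat_lit 63, nat_lit 4, nat_lit 3, nat_lit 2, nat_lit 4, nat_lit 2, nat_lit 4, nat_lit 2, nat_lit 1, nat_lit 5, nat_lit 4, nat_lit 3, nat_lit 2, nat_lit 4, nat_lit 2, nat_lit 4, nat_lit 2, nat_lit 1, nat_lit 5, nat_lit 4, nat_lit 3, nat_lit 2, nat_lit 4, nat_lit 2, nat_lit 4, nat_lit 2, nat_lit 1, nat_lit 5, nat_lit 4, nat_lit 3, nat_lit 2, nat_lit 4, nat_lit 2, nat_lit 4, nat_lit 2, nat_lit 1, nat_lit 5, nat_lit 4, nat_lit 3, nat_lit 2, nat_lit 4, nat_lit 2, nat_lit 4, nat_lit 2, nat_lit 1, nat_lit 5, nat_lit 4, nat_lit 3, nat_lit 2, nat_lit 4, nat_lit 2, nat_lit 4, nat_lit 2, nat_lit 1, nat_lit 5] else [nat_lit 63, nat_lit 5, nat_lit 1, nat_lit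 2, nat_lit 4, nat_lit 2, nat_lit 4, nat_lit 2, nat_lit 3, nat_lit 4, nat_lit 5, nat_lit 1, nat_lit 2, nat_lit 4, nat_lit 2, nat_lit 4, nat_lit 2, nat_lit 3, nat_lit 4, nat_lit 5, nat_lit 1, nat_lit 2, nat_lit 4, nat_lit 2, nat_lit 4, nat_lit 2, nat_lit 3, nat_lit 4, nat_lit 5, nat_lit 1, nat_lit 2, nat_lit 4, nat_lit 2, nat_lit 4, nat_lit 2, nat_lit 3, nat_lit 4, nat_lit 5, nat_lit 1, nat_lit 2, nat_lit 4, nat_lit 2, nat_lit 4, nat_lit 2, nat_lit 3, nat_lit 4, nat_lit 5, nat_lit 1, nat_lit 2, nat_lit 4, nat_lit 2, nat_lit 4, nat_lit 2, nat_lit 3, nat_lit 4]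
def Wt_971_973 (j : ℕ) : List ℕ := bif Nat.blt j 972 then [nat_lit 2, nat_lit 1, nat_lit 0, nat_lit 1, nat_lit 3, nat_lit 4, nat_lit 0, nat_lit 1, nat_lit 4, nat_lit 1, nat_lit 3, nat_lit 4, nat_lit 1, nat_lit 0, nat_lit 4, nat_lit 1, nat_lit 0] else [nat_lit 63, nat_lit 1, nat_lit 4, nat_lit 1, nat_lit 2, nat_lit 1, nat_lit 4, nat_lit 0, nat_lit 1, nat_lit 4, nat_lit 3, nat_lit 2, nat_lit 4, nat_lit 1, nat_lit 0, nat_lit 4, nat_lit 1, nat_lit 2]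
def Wt_969_973 (j : ℕ) : List ℕ := bif Nat.blt j 971 then (Wt_969_971 j) else (Wt_971_973 j)
def Wt_973_975 (j : ℕ) : List ℕ := bif Nat.blt j 974 then [nat_lit 63, nat_lit 4, nat_lit 1, nat_lit 3, nat_lit 0, nat_lit 3, nat_lit 4, nat_lit 2, nat_lit 3, nat_lit 4, nat_lit 2, nat_lit 4, nat_lit 1, nat_lit 4, nat_lit 2, nat_lit 4, nat_lit 3, nat_lit 2] else [nat_lit 63, nat_lit 4, nat_lit 1, nat_lit 4, nat_lit 2, nat_lit 4, nat_lit 3, nat_lit 2, nat_lit 4, nat_lit 1, nat_lit 3, nat_lit 0, nat_lit 3, nat_lit 4, nat_lit 2, nat_lit 3, nat_lit 4, nat_lit 2]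
def Wt_975_977 (j : ℕ) : List ℕ := bif Nat.blt j 976 then [nat_lit 63, nat_lit 0, nat_lit 1, nat_lit 0, nat_lit 4, nat_lit 1, nat_lit 2, nat_lit 3, nat_lit 1, nat_lit 0, nat_lit 4, nat_lit 3, nat_lit 4, nat_lit 2, nat_lit 3, nat_lit 4, nat_lit 1, nat_lit 4] else [nat_lit 63, nat_lit 3, nat_lit 0, nat_lit 3, nat_lit 1, nat_lit 2, nat_lit 1, nat_lit 4, nat_lit 2, nat_lit 4, nat_lit 3, nat_lit 4, nat_lit 2, nat_lit 4, nat_lit 2, nat_lit 4, nat_lit 3, nat_lit 4]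
def Wt_973_977 (j : ℕ) : List ℕ := bif Nat.blt j 975 then (Wt_973_975 j) else (Wt_975_977 j)
def Wt_969_977 (j : ℕ) : List ℕ := bif Nat.blt j 973 then (Wt_969_973 j) else (Wt_973_977 j)
def Wt_977_979 (j : ℕ) : List ℕ := bif Nat.blt j 978 then [nat_lit 63, nat_lit 2, nat_lit 5, nat_lit 1, nat_lit 2, nat_lit 4, nat_lit 2, nat_lit 5, nat_lit 1, nat_lit 2, nat_lit 4, nat_lit 2, nat_lit 5, nat_lit 1, nat_lit 2, nat_lit 4, nat_lit 2, nat_lit 5, nat_lit 1, nat_lit 2, nat_lit 4, nat_lit 2, nat_lit 5, nat_lit 1, nat_lit 2, nat_lit 4, nat_lit 2, nat_lit 5, nat_lit 1, nat_lit 2, nat_lit 4] else [nat_lit 63, nat_lit 4, nat_lit 1, nat_lit 2, nat_lit 1, nat_lit 3, nat_lit 0, nat_lit 3, nat_lit 4, nat_lit 2, nat_lit 4, nat_lit 3, nat_lit 4, nat_lit 2, nat_lit 4, nat_lit 2, nat_lit 4, nat_lit 3]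
def Wt_979_981 (j : ℕ) : List ℕ := bif Nat.blt j 980 then [nat_lit 63, nat_lit 4, nat_lit 2, nat_lit 1, nat_lit 5, nat_lit 2, nat_lit 4, nat_lit 2, nat_lit 1, nat_lit 5, nat_lit 2, nat_lit 4, nat_lit 2, nat_lit 1, nat_lit 5, nat_lit 2, nat_lit 4, nat_lit 2, nat_lit 1, nat_lit 5, nat_lit 2, nat_lit 4, nat_lit 2, nat_lit 1, nat_lit 5, nat_lit 2, nat_lit 4, nat_lit 2, nat_lit 1, nat_lit 5, nat_lit 2] else [nat_lit 1, nat_lit 0, nat_lit 1, nat_lit 4, nat_lit 1, nat_lit 5, nat_lit 0, nat_lit 1, nat_lit 0, nat_lit 1, nat_lit 4, nat_lit 1, nat_lit 5, nat_lit 0, nat_lit 1, nat_lit 0, nat_lit 1, nat_lit 4, nat_lit 1, nat_lit 5, nat_lit 0, nat_lit 1, nat_lit 0, nat_lit 1, nat_lit 4, nat_lit 1, nat_lit 5, nat_lit 0]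
def Wt_977_981 (j : ℕ) : List ℕ := bif Nat.blt j 979 then (Wt_977_979 j) else (Wt_979_981 j)
def Wt_981_983 (j : ℕ) : List ℕ := bif Nat.blt j 982 then [nat_lit 63, nat_lit 0, nat_lit 1, nat_lit 4, nat_lit 1, nat_lit 3, nat_lit 4, nat_lit 1, nat_lit 0, nat_lit 4, nat_lit 1, nat_lit 0, nat_lit 2, nat_lit 1, nat_lit 0, nat_lit 1, nat_lit 3, nat_lit 4] else [nat_lit 63, nat_lit 1, nat_lit 0, nat_lit 3, nat_lit 4, nat_lit 5, nat_lit 1, nat_lit 4, nat_lit 0, nat_lit 1, nat_lit 0, nat_lit 3, nat_lit 4, nat_lit 5, nat_lit 1, nat_lit 4, nat_lit 0, nat_lit 1, nat_lit 0, nat_lit 3, nat_lit 4, nat_lit 5, nat_lit 1, nat_lit 4, nat_lit 0, nat_lit 1, nat_lit 0, nat_lit 3, nat_lit 4, nat_lit 5, nat_lit 1, nat_lit 4, nat_lit 0, nat_lit 1, nat_lit 0, nat_lit 3, nat_lit 4, nat_lit 5, nat_lit 1, nat_lit 4, nat_lit 0, nat_lit 1, nat_lit 0, nat_lit 3, nat_lit 4, nat_lit 5, nat_lit 1, nat_lit 4, nat_lit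 0]
def Wt_984_986 (j : ℕ) : List ℕ := bif Nat.blt j 985 then [nat_lit 63, nat_lit 2, nat_lit 3, nat_lit 0, nat_lit 3, nat_lit 0, nat_lit 1, nat_lit 3, nat_lit 2, nat_lit 3, nat_lit 0, nat_lit 3, nat_lit 0, nat_lit 1, nat_lit 3, nat_lit 2, nat_lit 3, nat_lit 0, nat_lit 3, nat_lit 0, nat_lit 1, nat_lit 3] else [nat_lit 63, nat_lit 4, nat_lit 0, nat_lit 1, nat_lit 4, nat_lit 3, nat_lit 2, nat_lit 4, nat_lit 1, nat_lit 0, nat_lit 4, nat_lit 1, nat_lit 2, nat_lit 1, nat_lit 4, nat_lit 1, nat_lit 2, nat_lit 1]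
def Wt_983_986 (j : ℕ) : List ℕ := bif Nat.blt j 984 then [nat_lit 63, nat_lit 2, nat_lit 3, nat_lit 4, nat_lit 5, nat_lit 1, nat_lit 2, nat_lit 4, nat_lit 2, nat_lit 4, nat_lit 2, nat_lit 3, nat_lit 4, nat_lit 5, nat_lit 1, nat_lit 2, nat_lit 4, nat_lit 2, nat_lit 4, nat_lit 2, nat_lit 3, nat_lit 4, nat_lit 5, nat_lit 1, nat_lit 2, nat_lit 4, nat_lit 2, nat_lit 4, nat_lit 2, nat_lit 3, nat_lit 4, nat_lit 5, nat_lit 1, nat_lit 2, nat_lit 4, nat_lit 2, nat_lit 4, nat_lit 2, nat_lit 3, nat_lit 4, nat_lit 5, nat_lit 1, nat_lit 2, nat_lit 4, nat_lit 2, nat_lit 4, nat_lit 2, nat_lit 3, nat_lit 4, nat_lit 5, nat_lit 1, nat_lit 2, nat_lit 4, nat_lit 2, nat_lit 4] else (Wt_984_986 j)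
def Wt_981_986 (j : ℕ) : List ℕ := bif Nat.blt j 983 then (Wt_981_983 j) else (Wt_983_986 j)
def Wt_977_986 (j : ℕ) : List ℕ := bif Nat.blt j 981 then (Wt_977_981 j) else (Wt_981_986 j)
def Wt_969_986 (j : ℕ) : List ℕ := bif Nat.blt j 977 then (Wt_969_977 j) else (Wt_977_986 j)
def Wt_952_986 (j : ℕ) : List ℕ := bif Nat.blt j 969 then (Wt_952_969 j) else (Wt_969_986 j)
def Wt_986_988 (j : ℕ) : List ℕ := bif Nat.blt j 987 then [nat_lit 63, nat_lit 4, nat_lit 0, nat_lit 1, nat_lit 0, nat_lit 4, nat_lit 1, nat_lit 2, nat_lit 3, nat_lit 1, nat_lit 0, nat_lit 4, nat_lit 3, nat_lit 4, nat_lit 2, nat_lit 3, nat_lit 4, nat_lit 1] else [nat_lit 63, nat_lit 2, nat_lit 4, nat_lit 1, nat_lit 3, nat_lit 0, nat_lit 3, nat_lit 4, nat_lit 2, nat_lit 3, nat_lit 4, nat_lit 2, nat_lit 4, nat_lit 1, nat_lit 4, nat_lit 2, nat_lit 4, nat_lit 3]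
def Wt_988_990 (j : ℕ) : List ℕ := bif Nat.blt j 989 then [nat_lit 5, nat_lit 1, nat_lit 2, nat_lit 4, nat_lit 0, nat_lit 4, nat_lit 3, nat_lit 4, nat_lit 2, nat_lit 5, nat_lit 1, nat_lit 2, nat_lit 4, nat_lit 0, nat_lit 4, nat_lit 3, nat_lit 4, nat_lit 2, nat_lit 5, nat_lit 1, nat_lit 2, nat_lit 4, nat_lit 0, nat_lit 4, nat_lit 3, nat_lit 4, nat_lit 2] else [nat_lit 63, nat_lit 4, nat_lit 2, nat_lit 5, nat_lit 1, nat_lit 2, nat_lit 4, nat_lit 2, nat_lit 5, nat_lit 1, nat_lit 2, nat_lit 4, nat_lit 2, nat_lit 5, nat_lit 1, nat_lit 2, nat_lit 4, nat_lit 2, nat_lit 5, nat_lit 1, nat_lit 2, nat_lit 4, nat_lit 2, nat_lit 5, nat_lit 1, nat_lit 2, nat_lit 4, nat_lit 2, nat_lit 5, nat_lit 1, nat_lit 2]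
def Wt_986_990 (j : ℕ) : List ℕ := bif Nat.blt j 988 then (Wt_986_988 j) else (Wt_988_990 j)
def Wt_990_992 (j : ℕ) : List ℕ := bif Nat.blt j 991 then [nat_lit 63, nat_lit 2, nat_lit 4, nat_lit 0, nat_lit 2, nat_lit 4, nat_lit 3, nat_lit 2, nat_lit 3, nat_lit 0, nat_lit 4, nat_lit 2, nat_lit 0, nat_lit 4, nat_lit 2, nat_lit 0, nat_lit 4, nat_lit 0] else [nat_lit 63, nat_lit 4, nat_lit 1, nat_lit 4, nat_lit 5, nat_lit 2, nat_lit 4, nat_lit 1, nat_lit 4, nat_lit 5, nat_lit 2, nat_lit 4, nat_lit 1, nat_lit 4, nat_lit 5, nat_lit 2]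
def Wt_992_994 (j : ℕ) : List ℕ := bif Nat.blt j 993 then [nat_lit 63, nat_lit 1, nat_lit 2, nat_lit 1, nat_lit 4, nat_lit 5, nat_lit 1, nat_lit 4, nat_lit 1, nat_lit 2, nat_lit 1, nat_lit 4, nat_lit 5, nat_lit 1, nat_lit 4, nat_lit 1, nat_lit 2, nat_lit 1, nat_lit 4, nat_lit 5, nat_lit 1, nat_lit 4] else [nat_lit 63, nat_lit 4, nat_lit 1, nat_lit 4, nat_lit 0, nat_lit 2, nat_lit 4, nat_lit 1, nat_lit 4, nat_lit 2, nat_lit 0, nat_lit 4, nat_lit 1, nat_lit 4, nat_lit 2, nat_lit 0]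
def Wt_990_994 (j : ℕ) : List ℕ := bif Nat.blt j 992 then (Wt_990_992 j) else (Wt_992_994 j)
def Wt_986_994 (j : ℕ) : List ℕ := bif Nat.blt j 990 then (Wt_986_990 j) else (Wt_990_994 j)
def Wt_994_996 (j : ℕ) : List ℕ := bif Nat.blt j 995 then [nat_lit 63, nat_lit 1, nat_lit 3, nat_lit 1, nat_lit 3, nat_lit 1, nat_lit 3, nat_lit 4, nat_lit 2, nat_lit 1, nat_lit 4, nat_lit 3, nat_lit 4, nat_lit 1, nat_lit 2, nat_lit 4, nat_lit 3] else [nat_lit 63, nat_lit 4, nat_lit 2, nat_lit 3, nat_lit 4, nat_lit 1, nat_lit 4, nat_lit 0, nat_lit 1, nat_lit 0, nat_lit 4, nat_lit 1, nat_lit 2, nat_lit 3, nat_lit 1, nat_lit 0, nat_lit 4, nat_lit 3]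
def Wt_996_998 (j : ℕ) : List ℕ := bif Nat.blt j 997 then [nat_lit 1, nat_lit 4, nat_lit 1, nat_lit 4, nat_lit 2, nat_lit 4, nat_lit 3, nat_lit 4, nat_lit 2, nat_lit 1, nat_lit 4, nat_lit 1, nat_lit 2, nat_lit 4, nat_lit 2, nat_lit 4, nat_lit 2] else [nat_lit 63, nat_lit 1, nat_lit 2, nat_lit 4, nat_lit 3, nat_lit 4, nat_lit 2, nat_lit 4, nat_lit 1, nat_lit 4, nat_lit 1, nat_lit 2, nat_lit 4, nat_lit 2, nat_lit 4, nat_lit 2, nat_lit 1, nat_lit 4]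
def Wt_994_998 (j : ℕ) : List ℕ := bif Nat.blt j 996 then (Wt_994_996 j) else (Wt_996_998 j)
def Wt_998_1000 (j : ℕ) : List ℕ := bif Nat.blt j 999 then [nat_lit 63, nat_lit 0, nat_lit 2, nat_lit 4, nat_lit 3, nat_lit 2, nat_lit 3, nat_lit 0, nat_lit 4, nat_lit 2, nat_lit 0, nat_lit 4, nat_lit 2, nat_lit 0, nat_lit 4, nat_lit 0, nat_lit 2, nat_lit 4] else [nat_lit 63, nat_lit 0, nat_lit 4, nat_lit 5, nat_lit 3, nat_lit 0, nat_lit 3, nat_lit 4, nat_lit 0, nat_lit 4, nat_lit 5, nat_lit 3, nat_lit 0, nat_lit 3, nat_lit 4, nat_lit 0, nat_lit 4, nat_lit 5, nat_lit 3, nat_lit 0, nat_lit 3, nat_lit 4, nat_lit 0, nat_lit 4, nat_lit 5, nat_lit 3, nat_lit 0, nat_lit 3, nat_lit 4, nat_lit 0, nat_lit 4, nat_lit 5, nat_lit 3, nat_lit 0, nat_lit 3, nat_lit 4]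
def Wt_1001_1003 (j : ℕ) : List ℕ := bif Nat.blt j 1002 then [nat_lit 63, nat_lit 3, nat_lit 0, nat_lit 3, nat_lit 1, nat_lit 2, nat_lit 1, nat_lit 4, nat_lit 3, nat_lit 4, nat_lit 2, nat_lit 4, nat_lit 2, nat_lit 4, nat_lit 3, nat_lit 4, nat_lit 2, nat_lit 4] else [nat_lit 63, nat_lit 2, nat_lit 1, nat_lit 3, nat_lit 0, nat_lit 3, nat_lit 4, nat_lit 3, nat_lit 4, nat_lit 2, nat_lit 4, nat_lit 2, nat_lit 4, nat_lit 3, nat_lit 4, nat_lit 2, nat_lit 4, nat_lit 1]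
def Wt_1000_1003 (j : ℕ) : List ℕ := bif Nat.blt j 1001 then [nat_lit 63, nat_lit 4, nat_lit 3, nat_lit 4, nat_lit 3, nat_lit 4, nat_lit 1, nat_lit 4, nat_lit 1, nat_lit 4, nat_lit 1, nat_lit 4, nat_lit 1, nat_lit 3, nat_lit 4, nat_lit 3] else (Wt_1001_1003 j)
def Wt_998_1003 (j : ℕ) : List ℕ := bif Nat.blt j 1000 then (Wt_998_1000 j) else (Wt_1000_1003 j)
def Wt_994_1003 (j : ℕ) : List ℕ := bif Nat.blt j 998 then (Wt_994_998 j) else (Wt_998_1003 j)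
def Wt_986_1003 (j : ℕ) : List ℕ := bif Nat.blt j 994 then (Wt_986_994 j) else (Wt_994_1003 j)
def Wt_1003_1005 (j : ℕ) : List ℕ := bif Nat.blt j 1004 then [nat_lit 63, nat_lit 2, nat_lit 4, nat_lit 2, nat_lit 4, nat_lit 3, nat_lit 4, nat_lit 1, nat_lit 2, nat_lit 1, nat_lit 3, nat_lit 0, nat_lit 3, nat_lit 4, nat_lit 2, nat_lit 4, nat_lit 3, nat_lit 4] else [nat_lit 63, nat_lit 4, nat_lit 3, nat_lit 4, nat_lit 1, nat_lit 2, nat_lit 1, nat_lit 3, nat_lit 0, nat_lit 3, nat_lit 4, nat_lit 2, nat_lit 4, nat_lit 3, nat_lit 4, nat_lit 2, nat_lit 4, nat_lit 2]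
def Wt_1005_1007 (j : ℕ) : List ℕ := bif Nat.blt j 1006 then [nat_lit 63, nat_lit 1, nat_lit 4, nat_lit 1, nat_lit 2, nat_lit 4, nat_lit 2, nat_lit 4, nat_lit 2, nat_lit 1, nat_lit 4, nat_lit 1, nat_lit 4, nat_lit 2, nat_lit 4, nat_lit 3, nat_lit 4, nat_lit 2] else [nat_lit 63, nat_lit 2, nat_lit 0, nat_lit 4, nat_lit 2, nat_lit 0, nat_lit 4, nat_lit 0, nat_lit 2, nat_lit 4, nat_lit 0, nat_lit 2, nat_lit 4, nat_lit 3, nat_lit 2, nat_lit 3, nat_lit 0, nat_lit 4]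
def Wt_1003_1007 (j : ℕ) : List ℕ := bif Nat.blt j 1005 then (Wt_1003_1005 j) else (Wt_1005_1007 j)
def Wt_1007_1009 (j : ℕ) : List ℕ := bif Nat.blt j 1008 then [nat_lit 63, nat_lit 0, nat_lit 2, nat_lit 4, nat_lit 5, nat_lit 1, nat_lit 4, nat_lit 1, nat_lit 0, nat_lit 4, nat_lit 0, nat_lit 2, nat_lit 4, nat_lit 5, nat_lit 1, nat_lit 4, nat_lit 1, nat_lit 0, nat_lit 4, nat_lit 0, nat_lit 2, nat_lit 4, nat_lit 5, nat_lit 1, nat_lit 4, nat_lit 1, nat_lit 0, nat_lit 4, nat_lit 0, nat_lit 2, nat_lit 4, nat_lit 5, nat_lit 1, nat_lit 4, nat_lit 1, nat_lit 0, nat_lit 4, nat_lit 0, nat_lit 2, nat_lit 4, nat_lit 5, nat_lit 1, nat_lit 4, nat_lit 1, nat_lit 0, nat_lit 4] else [nat_lit 63, nat_lit 4, nat_lit 0, nat_lit 2, nat_lit 4, nat_lit 1, nat_lit 4, nat_lit 2, nat_lit 0, nat_lit 4, nat_lit 1, nat_lit 4, nat_lit 2, nat_lit 0, nat_lit 4, nat_lit 1]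
def Wt_1009_1011 (j : ℕ) : List ℕ := bif Nat.blt j 1010 then [nat_lit 63, nat_lit 0, nat_lit 3, nat_lit 1, nat_lit 2, nat_lit 3, nat_lit 0, nat_lit 3, nat_lit 1, nat_lit 2, nat_lit 3, nat_lit 0, nat_lit 3, nat_lit 1, nat_lit 2, nat_lit 3, nat_lit 0, nat_lit 3, nat_lit 1, nat_lit 2, nat_lit 3] else [nat_lit 63, nat_lit 4, nat_lit 5, nat_lit 2, nat_lit 4, nat_lit 3, nat_lit 4, nat_lit 3, nat_lit 4, nat_lit 5, nat_lit 2, nat_lit 4, nat_lit 3, nat_lit 4, nat_lit 3, nat_lit 4, nat_lit 5, nat_lit 2, nat_lit 4, nat_lit 3, nat_lit 4, nat_lit 3, nat_lit 4, nat_lit 5, nat_lit 2, nat_lit 4, nat_lit 3, nat_lit 4, nat_lit 3, nat_lit 4, nat_lit 5, nat_lit 2, nat_lit 4, nat_lit 3, nat_lit 4, nat_lit 3]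
def Wt_1007_1011 (j : ℕ) : List ℕ := bif Nat.blt j 1009 then (Wt_1007_1009 j) else (Wt_1009_1011 j)
def Wt_1003_1011 (j : ℕ) : List ℕ := bif Nat.blt j 1007 then (Wt_1003_1007 j) else (Wt_1007_1011 j)
def Wt_1011_1013 (j : ℕ) : List ℕ := bif Nat.blt j 1012 then [nat_lit 63, nat_lit 1, nat_lit 4, nat_lit 2, nat_lit 0, nat_lit 4, nat_lit 1, nat_lit 4, nat_lit 2, nat_lit 0, nat_lit 4, nat_lit 1, nat_lit 4, nat_lit 0, nat_lit 2, nat_lit 4] else [nat_lit 63, nat_lit 4, nat_lit 1, nat_lit 3, nat_lit 4, nat_lit 3, nat_lit 4, nat_lit 3, nat_lit 4, nat_lit 3, nat_lit 4, nat_lit 1, nat_lit 4, nat_lit 1, nat_lit 4, nat_lit 1]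
def Wt_1013_1015 (j : ℕ) : List ℕ := bif Nat.blt j 1014 then [nat_lit 63, nat_lit 5, nat_lit 0, nat_lit 4, nat_lit 3, nat_lit 4, nat_lit 5, nat_lit 0, nat_lit 4, nat_lit 3, nat_lit 4, nat_lit 5, nat_lit 0, nat_lit 4, nat_lit 3, nat_lit 4, nat_lit 5, nat_lit 0, nat_lit 4, nat_lit 3, nat_lit 4, nat_lit 5, nat_lit 0, nat_lit 4, nat_lit 3, nat_lit 4, nat_lit 5, nat_lit 0, nat_lit 4, nat_lit 3, nat_lit 4] else [nat_lit 63, nat_lit 5, nat_lit 1, nat_lit 4, nat_lit 0, nat_lit 2, nat_lit 4, nat_lit 0, nat_lit 1, nat_lit 4, nat_lit 5, nat_lit 1, nat_lit 4, nat_lit 0, nat_lit 2, nat_lit 4, nat_lit 0, nat_lit 1, nat_lit 4, nat_lit 5, nat_lit 1, nat_lit 4, nat_lit 0, nat_lit 2, nat_lit 4, nat_lit 0, nat_lit 1, nat_lit 4, nat_lit 5, nat_lit 1, nat_lit 4, nat_lit 0, nat_lit 2, nat_lit 4, nat_lit 0, nat_lit 1, nat_lit 4, nat_lit 5, nat_lit 1, nat_lit 4, nat_lit 0, nat_lit 2, nat_lit 4, nat_lit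 0, nat_lit 1, nat_lit 4]
def Wt_1011_1015 (j : ℕ) : List ℕ := bif Nat.blt j 1013 then (Wt_1011_1013 j) else (Wt_1013_1015 j)
def Wt_1015_1017 (j : ℕ) : List ℕ := bif Nat.blt j 1016 then [nat_lit 63, nat_lit 5, nat_lit 4, nat_lit 0, nat_lit 1, nat_lit 0, nat_lit 3, nat_lit 4, nat_lit 1, nat_lit 5, nat_lit 4, nat_lit 0, nat_lit 1, nat_lit 0, nat_lit 3, nat_lit 4, nat_lit 1, nat_lit 5, nat_lit 4, nat_lit 0, nat_lit 1, nat_lit 0, nat_lit 3, nat_lit 4, nat_lit 1, nat_lit 5, nat_lit 4, nat_lit 0, nat_lit 1, nat_lit 0, nat_lit 3, nat_lit 4, nat_lit 1, nat_lit 5, nat_lit 4, nat_lit 0, nat_lit 1, nat_lit 0, nat_lit 3, nat_lit 4, nat_lit 1, nat_lit 5, nat_lit 4, nat_lit 0, nat_lit 1, nat_lit 0, nat_lit 3, nat_lit 4, nat_lit 1] else [nat_lit 63, nat_lit 0, nat_lit 4, nat_lit 5, nat_lit 1, nat_lit 4, nat_lit 3, nat_lit 0, nat_lit 1, nat_lit 0, nat_lit 4, nat_lit 5, nat_lit 1, nat_lit 4, nat_lit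 3, nat_lit 0, nat_lit 1, nat_lit 0, nat_lit 4, nat_lit 5, nat_lit 1, nat_lit 4, nat_lit 3, nat_lit 0, nat_lit 1, nat_lit 0, nat_lit 4, nat_lit 5, nat_lit 1, nat_lit 4, nat_lit 3, nat_lit 0, nat_lit 1, nat_lit 0, nat_lit 4, nat_lit 5, nat_lit 1, nat_lit 4, nat_lit 3, nat_lit 0, nat_lit 1, nat_lit 0, nat_lit 4, nat_lit 5, nat_lit 1, nat_lit 4, nat_lit 3, nat_lit 0, nat_lit 1]
def Wt_1018_1020 (j : ℕ) : List ℕ := bif Nat.blt j 1019 then [nat_lit 63, nat_lit 1, nat_lit 4, nat_lit 2, nat_lit 1, nat_lit 4, nat_lit 1, nat_lit 4, nat_lit 3, nat_lit 2, nat_lit 0, nat_lit 3, nat_lit 1, nat_lit 4, nat_lit 1, nat_lit 4, nat_lit 0, nat_lit 4] else [nat_lit 63, nat_lit 4, nat_lit 1, nat_lit 4, nat_lit 0, nat_lit 4, nat_lit 1, nat_lit 4, nat_lit 1, nat_lit 3, nat_lit 0, nat_lit 2, nat_lit 3, nat_lit 4, nat_lit 1, nat_lit 4, nat_lit 1, nat_lit 2]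
def Wt_1017_1020 (j : ℕ) : List ℕ := bif Nat.blt j 1018 then [nat_lit 63, nat_lit 3, nat_lit 4, nat_lit 5, nat_lit 1, nat_lit 2, nat_lit 4, nat_lit 2, nat_lit 4, nat_lit 2, nat_lit 3, nat_lit 4, nat_lit 5, nat_lit 1, nat_lit 2, nat_lit 4, nat_lit 2, nat_lit 4, nat_lit 2, nat_lit 3, nat_lit 4, nat_lit 5, nat_lit 1, nat_lit 2, nat_lit 4, nat_lit 2, nat_lit 4, nat_lit 2, nat_lit 3, nat_lit 4, nat_lit 5, nat_lit 1, nat_lit 2, nat_lit 4, nat_lit 2, nat_lit 4, nat_lit 2, nat_lit 3, nat_lit 4, nat_lit 5, nat_lit 1, nat_lit 2, nat_lit 4, nat_lit 2, nat_lit 4, nat_lit 2, nat_lit 3, nat_lit 4, nat_lit 5, nat_lit 1, nat_lit 2, nat_lit 4, nat_lit 2, nat_lit 4, nat_lit 2] else (Wt_1018_1020 j)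
def Wt_1015_1020 (j : ℕ) : List ℕ := bif Nat.blt j 1017 then (Wt_1015_1017 j) else (Wt_1017_1020 j)
def Wt_1011_1020 (j : ℕ) : List ℕ := bif Nat.blt j 1015 then (Wt_1011_1015 j) else (Wt_1015_1020 j)
def Wt_1003_1020 (j : ℕ) : List ℕ := bif Nat.blt j 1011 then (Wt_1003_1011 j) else (Wt_1011_1020 j)
def Wt_986_1020 (j : ℕ) : List ℕ := bif Nat.blt j 1003 then (Wt_986_1003 j) else (Wt_1003_1020 j)
def Wt_952_1020 (j : ℕ) : List ℕ := bif Nat.blt j 986 then (Wt_952_986 j) else (Wt_986_1020 j)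
def Wt_1020_1022 (j : ℕ) : List ℕ := bif Nat.blt j 1021 then [nat_lit 63, nat_lit 0, nat_lit 4, nat_lit 3, nat_lit 1, nat_lit 4, nat_lit 2, nat_lit 1, nat_lit 2, nat_lit 4, nat_lit 1, nat_lit 3, nat_lit 4, nat_lit 0, nat_lit 4, nat_lit 2, nat_lit 0, nat_lit 4] else [nat_lit 63, nat_lit 4, nat_lit 2, nat_lit 0, nat_lit 4, nat_lit 0, nat_lit 4, nat_lit 3, nat_lit 1, nat_lit 4, nat_lit 2, nat_lit 1, nat_lit 2, nat_lit 4, nat_lit 1, nat_lit 3, nat_lit 4, nat_lit 0]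
def Wt_1022_1024 (j : ℕ) : List ℕ := bif Nat.blt j 1023 then [nat_lit 63, nat_lit 4, nat_lit 0, nat_lit 3, nat_lit 0, nat_lit 4, nat_lit 3, nat_lit 0, nat_lit 4, nat_lit 3, nat_lit 4, nat_lit 2, nat_lit 3, nat_lit 4, nat_lit 3, nat_lit 4, nat_lit 0, nat_lit 3] else [nat_lit 63, nat_lit 4, nat_lit 3, nat_lit 2, nat_lit 4, nat_lit 1, nat_lit 3, nat_lit 0, nat_lit 3, nat_lit 4, nat_lit 2, nat_lit 3, nat_lit 4, nat_lit 2, nat_lit 4, nat_lit 1, nat_lit 4, nat_lit 2]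
def Wt_1020_1024 (j : ℕ) : List ℕ := bif Nat.blt j 1022 then (Wt_1020_1022 j) else (Wt_1022_1024 j)
def Wt_1024_1026 (j : ℕ) : List ℕ := bif Nat.blt j 1025 then [nat_lit 63, nat_lit 4, nat_lit 2, nat_lit 4, nat_lit 3, nat_lit 2, nat_lit 4, nat_lit 1, nat_lit 3, nat_lit 0, nat_lit 3, nat_lit 4, nat_lit 2, nat_lit 3, nat_lit 4, nat_lit 2, nat_lit 4, nat_lit 1] else [nat_lit 63, nat_lit 1, nat_lit 3, nat_lit 2, nat_lit 1, nat_lit 4, nat_lit 0, nat_lit 1, nat_lit 0, nat_lit 4, nat_lit 1, nat_lit 4, nat_lit 3, nat_lit 2, nat_lit 4, nat_lit 3, nat_lit 4, nat_lit 0]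
def Wt_1026_1028 (j : ℕ) : List ℕ := bif Nat.blt j 1027 then [nat_lit 63, nat_lit 1, nat_lit 4, nat_lit 1, nat_lit 2, nat_lit 4, nat_lit 3, nat_lit 4, nat_lit 2, nat_lit 4, nat_lit 1, nat_lit 4, nat_lit 1, nat_lit 2, nat_lit 4, nat_lit 2, nat_lit 4, nat_lit 2] else [nat_lit 63, nat_lit 1, nat_lit 4, nat_lit 2, nat_lit 4, nat_lit 3, nat_lit 4, nat_lit 2, nat_lit 1, nat_lit 4, nat_lit 1, nat_lit 2, nat_lit 4, nat_lit 2, nat_lit 4, nat_lit 2, nat_lit 1, nat_lit 4]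
def Wt_1024_1028 (j : ℕ) : List ℕ := bif Nat.blt j 1026 then (Wt_1024_1026 j) else (Wt_1026_1028 j)
def Wt_1020_1028 (j : ℕ) : List ℕ := bif Nat.blt j 1024 then (Wt_1020_1024 j) else (Wt_1024_1028 j)
def Wt_1028_1030 (j : ℕ) : List ℕ := bif Nat.blt j 1029 then [nat_lit 63, nat_lit 2, nat_lit 4, nat_lit 2, nat_lit 1, nat_lit 4, nat_lit 1, nat_lit 4, nat_lit 2, nat_lit 4, nat_lit 3, nat_lit 4, nat_lit 2, nat_lit 1, nat_lit 4, nat_lit 1, nat_lit 2, nat_lit 4] else [nat_lit 63, nat_lit 3, nat_lit 4, nat_lit 2, nat_lit 1, nat_lit 4, nat_lit 1, nat_lit 2, nat_lit 4, nat_lit 2, nat_lit 4, nat_lit 2, nat_lit 1, nat_lit 4, nat_lit 1, nat_lit 4, nat_lit 2, nat_lit 4]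
def Wt_1030_1032 (j : ℕ) : List ℕ := bif Nat.blt j 1031 then [nat_lit 63, nat_lit 1, nat_lit 5, nat_lit 4, nat_lit 1, nat_lit 2, nat_lit 1, nat_lit 4, nat_lit 1, nat_lit 5, nat_lit 4, nat_lit 1, nat_lit 2, nat_lit 1, nat_lit 4, nat_lit 1, nat_lit 5, nat_lit 4, nat_lit 1, nat_lit 2, nat_lit 1, nat_lit 4] else [nat_lit 63, nat_lit 4, nat_lit 2, nat_lit 4, nat_lit 5, nat_lit 4, nat_lit 2, nat_lit 4, nat_lit 5, nat_lit 4, nat_lit 2, nat_lit 4, nat_lit 5, nat_lit 4, nat_lit 2, nat_lit 4, nat_lit 5, nat_lit 4, nat_lit 2, nat_lit 4, nat_lit 5, nat_lit 4, nat_lit 2, nat_lit 4, nat_lit 5]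
def Wt_1028_1032 (j : ℕ) : List ℕ := bif Nat.blt j 1030 then (Wt_1028_1030 j) else (Wt_1030_1032 j)
def Wt_1032_1034 (j : ℕ) : List ℕ := bif Nat.blt j 1033 then [nat_lit 63, nat_lit 3, nat_lit 4, nat_lit 3, nat_lit 0, nat_lit 5, nat_lit 3, nat_lit 4, nat_lit 3, nat_lit 0, nat_lit 5, nat_lit 3, nat_lit 4, nat_lit 3, nat_lit 0, nat_lit 5, nat_lit 3, nat_lit 4, nat_lit 3, nat_lit 0, nat_lit 5, nat_lit 3, nat_lit 4, nat_lit 3, nat_lit 0, nat_lit 5] else [nat_lit 63, nat_lit 4, nat_lit 3, nat_lit 4, nat_lit 2, nat_lit 5, nat_lit 4, nat_lit 3, nat_lit 4, nat_lit 3, nat_lit 4, nat_lit 2, nat_lit 5, nat_lit 4, nat_lit 3, nat_lit 4, nat_lit 3, nat_lit 4, nat_lit 2, nat_lit 5, nat_lit 4, nat_lit 3, nat_lit 4, nat_lit 3, nat_lit 4, nat_lit 2, nat_lit 5, nat_lit 4, nat_lit 3, nat_lit 4, nat_lit 3, nat_lit 4, nat_lit 2, nat_lit 5, nat_lit 4, nat_lit 3]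
def Wt_1035_1037 (j : ℕ) : List ℕ := bif Nat.blt j 1036 then [nat_lit 63, nat_lit 0, nat_lit 4, nat_lit 1, nat_lit 5, nat_lit 4, nat_lit 1, nat_lit 0, nat_lit 4, nat_lit 2, nat_lit 0, nat_lit 4, nat_lit 1, nat_lit 5, nat_lit 4, nat_lit 1, nat_lit 0, nat_lit 4, nat_lit 2, nat_lit 0, nat_lit 4, nat_lit 1, nat_lit 5, nat_lit 4, nat_lit 1, nat_lit 0, nat_lit 4, nat_lit 2, nat_lit 0, nat_lit 4, nat_lit 1, nat_lit 5, nat_lit 4, nat_lit 1, nat_lit 0, nat_lit 4, nat_lit 2, nat_lit 0, nat_lit 4, nat_lit 1, nat_lit 5, nat_lit 4, nat_lit 1, nat_lit 0, nat_lit 4, nat_lit 2] else [nat_lit 63, nat_lit 4, nat_lit 1, nat_lit 5, nat_lit 4, nat_lit 1, nat_lit 0, nat_lit 4, nat_lit 2, nat_lit 0, nat_lit 4, nat_lit 1, nat_lit 5, nat_lit 4, nat_lit 1, nat_lit 0, nat_lit 4, nat_lit 2, nat_lit 0, nat_lit 4, nat_lit 1, nat_lit 5, nat_lit 4, nat_lit 1, nat_lit 0, nat_lit 4, nat_lit 2, nat_lit 0, nat_lit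 4, nat_lit 1, nat_lit 5, nat_lit 4, nat_lit 1, nat_lit 0, nat_lit 4, nat_lit 2, nat_lit 0, nat_lit 4, nat_lit 1, nat_lit 5, nat_lit 4, nat_lit 1, nat_lit 0, nat_lit 4, nat_lit 2, nat_lit 0]
def Wt_1034_1037 (j : ℕ) : List ℕ := bif Nat.blt j 1035 then [nat_lit 63, nat_lit 4, nat_lit 0, nat_lit 4, nat_lit 5, nat_lit 0, nat_lit 1, nat_lit 4, nat_lit 3, nat_lit 4, nat_lit 0, nat_lit 4, nat_lit 5, nat_lit 0, nat_lit 1, nat_lit 4, nat_lit 3, nat_lit 4, nat_lit 0, nat_lit 4, nat_lit 5, nat_lit 0, nat_lit 1, nat_lit 4, nat_lit 3, nat_lit 4, nat_lit 0, nat_lit 4, nat_lit 5, nat_lit 0, nat_lit 1, nat_lit 4, nat_lit 3, nat_lit 4, nat_lit 0, nat_lit 4, nat_lit 5, nat_lit 0, nat_lit 1, nat_lit 4, nat_lit 3] else (Wt_1035_1037 j)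
def Wt_1032_1037 (j : ℕ) : List ℕ := bif Nat.blt j 1034 then (Wt_1032_1034 j) else (Wt_1034_1037 j)
def Wt_1028_1037 (j : ℕ) : List ℕ := bif Nat.blt j 1032 then (Wt_1028_1032 j) else (Wt_1032_1037 j)
def Wt_1020_1037 (j : ℕ) : List ℕ := bif Nat.blt j 1028 then (Wt_1020_1028 j) else (Wt_1028_1037 j)
def Wt_1037_1039 (j : ℕ) : List ℕ := bif Nat.blt j 1038 then [nat_lit 63, nat_lit 4, nat_lit 2, nat_lit 4, nat_lit 2, nat_lit 1, nat_lit 5, nat_lit 4, nat_lit 3, nat_lit 2, nat_lit 4, nat_lit 2, nat_lit 4, nat_lit 2, nat_lit 1, nat_lit 5, nat_lit 4, nat_lit 3, nat_lit 2, nat_lit 4, nat_lit 2, nat_lit 4, nat_lit 2, nat_lit 1, nat_lit 5, nat_lit 4, nat_lit 3, nat_lit 2, nat_lit 4, nat_lit 2, nat_lit 4, nat_lit 2, nat_lit 1, nat_lit 5, nat_lit 4, nat_lit 3, nat_lit 2, nat_lit 4, nat_lit 2, nat_lit 4, nat_lit 2, nat_lit 1, nat_lit 5, nat_lit 4, nat_lit 3, nat_lit 2, nat_lit 4, nat_lit 2, nat_lit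 4, nat_lit 2, nat_lit 1, nat_lit 5, nat_lit 4, nat_lit 3, nat_lit 2] else [nat_lit 63, nat_lit 4, nat_lit 2, nat_lit 1, nat_lit 5, nat_lit 4, nat_lit 3, nat_lit 2, nat_lit 4, nat_lit 2, nat_lit 4, nat_lit 2, nat_lit 1, nat_lit 5, nat_lit 4, nat_lit 3, nat_lit 2, nat_lit 4, nat_lit 2, nat_lit 4, nat_lit 2, nat_lit 1, nat_lit 5, nat_lit 4, nat_lit 3, nat_lit 2, nat_lit 4, nat_lit 2, nat_lit 4, nat_lit 2, nat_lit 1, nat_lit 5, nat_lit 4, nat_lit 3, nat_lit 2, nat_lit 4, nat_lit 2, nat_lit 4, nat_lit 2, nat_lit 1, nat_lit 5, nat_lit 4, nat_lit 3, nat_lit 2, nat_lit 4, nat_lit 2, nat_lit 4, nat_lit 2, nat_lit 1, nat_lit 5, nat_lit 4, nat_lit 3, nat_lit 2, nat_lit 4, nat_lit 2]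
def Wt_1039_1041 (j : ℕ) : List ℕ := bif Nat.blt j 1040 then [nat_lit 63, nat_lit 3, nat_lit 1, nat_lit 3, nat_lit 4, nat_lit 2, nat_lit 1, nat_lit 4, nat_lit 3, nat_lit 4, nat_lit 1, nat_lit 2, nat_lit 4, nat_lit 3, nat_lit 1, nat_lit 3, nat_lit 1] else [nat_lit 63, nat_lit 0, nat_lit 1, nat_lit 2, nat_lit 0, nat_lit 1, nat_lit 4, nat_lit 0, nat_lit 1, nat_lit 4, nat_lit 3, nat_lit 1, nat_lit 4, nat_lit 1, nat_lit 0, nat_lit 4, nat_lit 3, nat_lit 1]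
def Wt_1037_1041 (j : ℕ) : List ℕ := bif Nat.blt j 1039 then (Wt_1037_1039 j) else (Wt_1039_1041 j)
def Wt_1041_1043 (j : ℕ) : List ℕ := bif Nat.blt j 1042 then [nat_lit 63, nat_lit 1, nat_lit 4, nat_lit 0, nat_lit 1, nat_lit 4, nat_lit 3, nat_lit 1, nat_lit 4, nat_lit 1, nat_lit 0, nat_lit 4, nat_lit 3, nat_lit 1, nat_lit 0, nat_lit 1, nat_lit 2, nat_lit 0] else [nat_lit 63, nat_lit 3, nat_lit 2, nat_lit 1, nat_lit 4, nat_lit 0, nat_lit 1, nat_lit 0, nat_lit 4, nat_lit 1, nat_lit 4, nat_lit 3, nat_lit 2, nat_lit 4, nat_lit 3, nat_lit 4, nat_lit 0, nat_lit 1]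
def Wt_1043_1045 (j : ℕ) : List ℕ := bif Nat.blt j 1044 then [nat_lit 63, nat_lit 4, nat_lit 3, nat_lit 4, nat_lit 2, nat_lit 3, nat_lit 4, nat_lit 1, nat_lit 4, nat_lit 0, nat_lit 1, nat_lit 0, nat_lit 4, nat_lit 1, nat_lit 2, nat_lit 3, nat_lit 1, nat_lit 0] else [nat_lit 63, nat_lit 5, nat_lit 4, nat_lit 5, nat_lit 4, nat_lit 5, nat_lit 4, nat_lit 5, nat_lit 4, nat_lit 5, nat_lit 4, nat_lit 5, nat_lit 4, nat_lit 5, nat_lit 4, nat_lit 5, nat_lit 4, nat_lit 5, nat_lit 4, nat_lit 5, nat_lit 4, nat_lit 5, nat_lit 4, nat_lit 5, nat_lit 4]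
def Wt_1041_1045 (j : ℕ) : List ℕ := bif Nat.blt j 1043 then (Wt_1041_1043 j) else (Wt_1043_1045 j)
def Wt_1037_1045 (j : ℕ) : List ℕ := bif Nat.blt j 1041 then (Wt_1037_1041 j) else (Wt_1041_1045 j)
def Wt_1045_1047 (j : ℕ) : List ℕ := bif Nat.blt j 1046 then [nat_lit 0, nat_lit 3, nat_lit 4, nat_lit 0, nat_lit 4, nat_lit 5, nat_lit 3, nat_lit 0, nat_lit 3, nat_lit 4, nat_lit 0, nat_lit 4, nat_lit 5, nat_lit 3, nat_lit 0, nat_lit 3, nat_lit 4, nat_lit 0, nat_lit 4, nat_lit 5, nat_lit 3, nat_lit 0, nat_lit 3, nat_lit 4, nat_lit 0, nat_lit 4, nat_lit 5, nat_lit 3, nat_lit 0, nat_lit 3, nat_lit 4, nat_lit 0, nat_lit 4, nat_lit 5, nat_lit 3] else [nat_lit 63, nat_lit 1, nat_lit 5, nat_lit 4, nat_lit 3, nat_lit 0, nat_lit 1, nat_lit 0, nat_lit 4, nat_lit 1, nat_lit 5, nat_lit 4, nat_lit 3, nat_lit 0, nat_lit 1, nat_lit 0, nat_lit 4, nat_lit 1, nat_lit 5, nat_lit 4, nat_lit 3, nat_lit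 0, nat_lit 1, nat_lit 0, nat_lit 4, nat_lit 1, nat_lit 5, nat_lit 4, nat_lit 3, nat_lit 0, nat_lit 1, nat_lit 0, nat_lit 4, nat_lit 1, nat_lit 5, nat_lit 4, nat_lit 3, nat_lit 0, nat_lit 1, nat_lit 0, nat_lit 4, nat_lit 1, nat_lit 5, nat_lit 4, nat_lit 3, nat_lit 0, nat_lit 1, nat_lit 0, nat_lit 4]
def Wt_1047_1049 (j : ℕ) : List ℕ := bif Nat.blt j 1048 then [nat_lit 63, nat_lit 0, nat_lit 1, nat_lit 0, nat_lit 3, nat_lit 4, nat_lit 5, nat_lit 1, nat_lit 4, nat_lit 0, nat_lit 1, nat_lit 0, nat_lit 3, nat_lit 4, nat_lit 5, nat_lit 1, nat_lit 4, nat_lit 0, nat_lit 1, nat_lit 0, nat_lit 3, nat_lit 4, nat_lit 5, nat_lit 1, nat_lit 4, nat_lit 0, nat_lit 1, nat_lit 0, nat_lit 3, nat_lit 4, nat_lit 5, nat_lit 1, nat_lit 4, nat_lit 0, nat_lit 1, nat_lit 0, nat_lit 3, nat_lit 4, nat_lit 5, nat_lit 1, nat_lit 4, nat_lit 0, nat_lit 1, nat_lit 0, nat_lit 3, nat_lit 4, nat_lit 5, nat_lit 1, nat_lit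 4] else [nat_lit 63, nat_lit 4, nat_lit 2, nat_lit 0, nat_lit 4, nat_lit 2, nat_lit 0, nat_lit 4, nat_lit 0, nat_lit 2, nat_lit 4, nat_lit 0, nat_lit 2, nat_lit 4, nat_lit 3, nat_lit 2, nat_lit 3, nat_lit 0]
def Wt_1045_1049 (j : ℕ) : List ℕ := bif Nat.blt j 1047 then (Wt_1045_1047 j) else (Wt_1047_1049 j)
def Wt_1049_1051 (j : ℕ) : List ℕ := bif Nat.blt j 1050 then [nat_lit 63, nat_lit 0, nat_lit 4, nat_lit 1, nat_lit 0, nat_lit 2, nat_lit 1, nat_lit 0, nat_lit 1, nat_lit 3, nat_lit 4, nat_lit 0, nat_lit 1, nat_lit 4, nat_lit 1, nat_lit 3, nat_lit 4, nat_lit 1] else [nat_lit 63, nat_lit 2, nat_lit 1, nat_lit 0, nat_lit 1, nat_lit 3, nat_lit 4, nat_lit 0, nat_lit 1, nat_lit 4, nat_lit 1, nat_lit 3, nat_lit 4, nat_lit 1, nat_lit 0, nat_lit 4, nat_lit 1, nat_lit 0]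
def Wt_1052_1054 (j : ℕ) : List ℕ := bif Nat.blt j 1053 then [nat_lit 63, nat_lit 2, nat_lit 3, nat_lit 0, nat_lit 4, nat_lit 2, nat_lit 0, nat_lit 4, nat_lit 2, nat_lit 0, nat_lit 4, nat_lit 0, nat_lit 2, nat_lit 4, nat_lit 0, nat_lit 2, nat_lit 4, nat_lit 3] else [nat_lit 63, nat_lit 2, nat_lit 0, nat_lit 4, nat_lit 0, nat_lit 2, nat_lit 4, nat_lit 0, nat_lit 2, nat_lit 4, nat_lit 3, nat_lit 2, nat_lit 3, nat_lit 0, nat_lit 4, nat_lit 2, nat_lit 0, nat_lit 4]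
def Wt_1051_1054 (j : ℕ) : List ℕ := bif Nat.blt j 1052 then [nat_lit 63, nat_lit 4, nat_lit 3, nat_lit 2, nat_lit 0, nat_lit 3, nat_lit 1, nat_lit 4, nat_lit 1, nat_lit 4, nat_lit 0, nat_lit 4, nat_lit 1, nat_lit 4, nat_lit 2, nat_lit 1, nat_lit 4, nat_lit 1] else (Wt_1052_1054 j)
def Wt_1049_1054 (j : ℕ) : List ℕ := bif Nat.blt j 1051 then (Wt_1049_1051 j) else (Wt_1051_1054 j)
def Wt_1045_1054 (j : ℕ) : List ℕ := bif Nat.blt j 1049 then (Wt_1045_1049 j) else (Wt_1049_1054 j)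
def Wt_1037_1054 (j : ℕ) : List ℕ := bif Nat.blt j 1045 then (Wt_1037_1045 j) else (Wt_1045_1054 j)
def Wt_1020_1054 (j : ℕ) : List ℕ := bif Nat.blt j 1037 then (Wt_1020_1037 j) else (Wt_1037_1054 j)
def Wt_1054_1056 (j : ℕ) : List ℕ := bif Nat.blt j 1055 then [nat_lit 63, nat_lit 2, nat_lit 1, nat_lit 2, nat_lit 4, nat_lit 1, nat_lit 3, nat_lit 4, nat_lit 0, nat_lit 4, nat_lit 2, nat_lit 0, nat_lit 4, nat_lit 0, nat_lit 4, nat_lit 3, nat_lit 1, nat_lit 4] else [nat_lit 63, nat_lit 1, nat_lit 4, nat_lit 2, nat_lit 1, nat_lit 2, nat_lit 4, nat_lit 1, nat_lit 3, nat_lit 4, nat_lit 0, nat_lit 4, nat_lit 2, nat_lit 0, nat_lit 4, nat_lit 0, nat_lit 4, nat_lit 3]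
def Wt_1056_1058 (j : ℕ) : List ℕ := bif Nat.blt j 1057 then [nat_lit 63, nat_lit 1, nat_lit 4, nat_lit 2, nat_lit 1, nat_lit 2, nat_lit 4, nat_lit 1, nat_lit 3, nat_lit 4, nat_lit 0, nat_lit 4, nat_lit 0, nat_lit 2, nat_lit 4, nat_lit 0, nat_lit 4, nat_lit 3] else [nat_lit 63, nat_lit 3, nat_lit 0, nat_lit 4, nat_lit 3, nat_lit 0, nat_lit 4, nat_lit 3, nat_lit 4, nat_lit 2, nat_lit 3, nat_lit 4, nat_lit 3, nat_lit 4, nat_lit 0, nat_lit 3, nat_lit 4, nat_lit 0]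
def Wt_1054_1058 (j : ℕ) : List ℕ := bif Nat.blt j 1056 then (Wt_1054_1056 j) else (Wt_1056_1058 j)
def Wt_1058_1060 (j : ℕ) : List ℕ := bif Nat.blt j 1059 then [nat_lit 63, nat_lit 1, nat_lit 0, nat_lit 4, nat_lit 0, nat_lit 2, nat_lit 4, nat_lit 5, nat_lit 1, nat_lit 4, nat_lit 1, nat_lit 0, nat_lit 4, nat_lit 0, nat_lit 2, nat_lit 4, nat_lit 5, nat_lit 1, nat_lit 4, nat_lit 1, nat_lit 0, nat_lit 4, nat_lit 0, nat_lit 2, nat_lit 4, nat_lit 5, nat_lit 1, nat_lit 4, nat_lit 1, nat_lit 0, nat_lit 4, nat_lit 0, nat_lit 2, nat_lit 4, nat_lit 5, nat_lit 1, nat_lit 4, nat_lit 1, nat_lit 0, nat_lit 4, nat_lit 0, nat_lit 2, nat_lit 4, nat_lit 5, nat_lit 1, nat_lit 4] else [nat_lit 63, nat_lit 4, nat_lit 1, nat_lit 5, nat_lit 4, nat_lit 3, nat_lit 0, nat_lit 1, nat_lit 0, nat_lit 4, nat_lit 1, nat_lit 5, nat_lit 4, nat_lit 3, nat_lit 0, nat_lit 1, nat_lit 0, nat_lit 4, nat_lit 1, nat_lit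 5, nat_lit 4, nat_lit 3, nat_lit 0, nat_lit 1, nat_lit 0, nat_lit 4, nat_lit 1, nat_lit 5, nat_lit 4, nat_lit 3, nat_lit 0, nat_lit 1, nat_lit 0, nat_lit 4, nat_lit 1, nat_lit 5, nat_lit 4, nat_lit 3, nat_lit 0, nat_lit 1, nat_lit 0, nat_lit 4, nat_lit 1, nat_lit 5, nat_lit 4, nat_lit 3, nat_lit 0, nat_lit 1, nat_lit 0]
def Wt_1060_1062 (j : ℕ) : List ℕ := bif Nat.blt j 1061 then [nat_lit 63, nat_lit 0, nat_lit 4, nat_lit 3, nat_lit 4, nat_lit 1, nat_lit 0, nat_lit 5, nat_lit 4, nat_lit 0, nat_lit 4, nat_lit 3, nat_lit 4, nat_lit 1, nat_lit 0, nat_lit 5, nat_lit 4, nat_lit 0, nat_lit 4, nat_lit 3, nat_lit 4, nat_lit 1, nat_lit 0, nat_lit 5, nat_lit 4, nat_lit 0, nat_lit 4, nat_lit 3, nat_lit 4, nat_lit 1, nat_lit 0, nat_lit 5, nat_lit 4, nat_lit 0, nat_lit 4, nat_lit 3, nat_lit 4, nat_lit 1, nat_lit 0, nat_lit 5, nat_lit 4] else [nat_lit 63, nat_lit 5, nat_lit 4, nat_lit 1, nat_lit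 0, nat_lit 4, nat_lit 2, nat_lit 0, nat_lit 4, nat_lit 1, nat_lit 5, nat_lit 4, nat_lit 1, nat_lit 0, nat_lit 4, nat_lit 2, nat_lit 0, nat_lit 4, nat_lit 1, nat_lit 5, nat_lit 4, nat_lit 1, nat_lit 0, nat_lit 4, nat_lit 2, nat_lit 0, nat_lit 4, nat_lit 1, nat_lit 5, nat_lit 4, nat_lit 1, nat_lit 0, nat_lit 4, nat_lit 2, nat_lit 0, nat_lit 4, nat_lit 1, nat_lit 5, nat_lit 4, nat_lit 1, nat_lit 0, nat_lit 4, nat_lit 2, nat_lit 0, nat_lit 4, nat_lit 1]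
def Wt_1058_1062 (j : ℕ) : List ℕ := bif Nat.blt j 1060 then (Wt_1058_1060 j) else (Wt_1060_1062 j)
def Wt_1054_1062 (j : ℕ) : List ℕ := bif Nat.blt j 1058 then (Wt_1054_1058 j) else (Wt_1058_1062 j)
def Wt_1062_1064 (j : ℕ) : List ℕ := bif Nat.blt j 1063 then [nat_lit 63, nat_lit 0, nat_lit 3, nat_lit 4, nat_lit 5, nat_lit 1, nat_lit 4, nat_lit 0, nat_lit 1, nat_lit 0, nat_lit 3, nat_lit 4, nat_lit 5, nat_lit 1, nat_lit 4, nat_lit 0, nat_lit 1, nat_lit 0, nat_lit 3, nat_lit 4, nat_lit 5, nat_lit 1, nat_lit 4, nat_lit 0, nat_lit 1, nat_lit 0, nat_lit 3, nat_lit 4, nat_lit 5, nat_lit 1, nat_lit 4, nat_lit 0, nat_lit 1, nat_lit 0, nat_lit 3, nat_lit 4, nat_lit 5, nat_lit 1, nat_lit 4, nat_lit 0, nat_lit 1, nat_lit 0, nat_lit 3, nat_lit 4, nat_lit 5, nat_lit 1, nat_lit 4, nat_lit 0, nat_lit 1] else [nat_lit 63, nat_lit 1, nat_lit 5, nat_lit 4, nat_lit 3, nat_lit 2, nat_lit 4, nat_lit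 2, nat_lit 4, nat_lit 2, nat_lit 1, nat_lit 5, nat_lit 4, nat_lit 3, nat_lit 2, nat_lit 4, nat_lit 2, nat_lit 4, nat_lit 2, nat_lit 1, nat_lit 5, nat_lit 4, nat_lit 3, nat_lit 2, nat_lit 4, nat_lit 2, nat_lit 4, nat_lit 2, nat_lit 1, nat_lit 5, nat_lit 4, nat_lit 3, nat_lit 2, nat_lit 4, nat_lit 2, nat_lit 4, nat_lit 2, nat_lit 1, nat_lit 5, nat_lit 4, nat_lit 3, nat_lit 2, nat_lit 4, nat_lit 2, nat_lit 4, nat_lit 2, nat_lit 1, nat_lit 5, nat_lit 4, nat_lit 3, nat_lit 2, nat_lit 4, nat_lit 2, nat_lit 4, nat_lit 2]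
def Wt_1064_1066 (j : ℕ) : List ℕ := bif Nat.blt j 1065 then [nat_lit 63, nat_lit 4, nat_lit 5, nat_lit 0, nat_lit 4, nat_lit 3, nat_lit 4, nat_lit 5, nat_lit 0, nat_lit 4, nat_lit 3, nat_lit 4, nat_lit 5, nat_lit 0, nat_lit 4, nat_lit 3, nat_lit 4, nat_lit 5, nat_lit 0, nat_lit 4, nat_lit 3, nat_lit 4, nat_lit 5, nat_lit 0, nat_lit 4, nat_lit 3, nat_lit 4, nat_lit 5, nat_lit 0, nat_lit 4, nat_lit 3] else [nat_lit 63, nat_lit 4, nat_lit 0, nat_lit 4, nat_lit 5, nat_lit 3, nat_lit 0, nat_lit 3, nat_lit 4, nat_lit 0, nat_lit 4, nat_lit 5, nat_lit 3, nat_lit 0, nat_lit 3, nat_lit 4, nat_lit 0, nat_lit 4, nat_lit 5, nat_lit 3, nat_lit 0, nat_lit 3, nat_lit 4, nat_lit 0, nat_lit 4, nat_lit 5, nat_lit 3, nat_lit 0, nat_lit 3, nat_lit 4, nat_lit 0, nat_lit 4, nat_lit 5, nat_lit 3, nat_lit 0, nat_lit 3]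
def Wt_1062_1066 (j : ℕ) : List ℕ := bif Nat.blt j 1064 then (Wt_1062_1064 j) else (Wt_1064_1066 j)
def Wt_1066_1068 (j : ℕ) : List ℕ := bif Nat.blt j 1067 then [nat_lit 63, nat_lit 5, nat_lit 4, nat_lit 3, nat_lit 2, nat_lit 4, nat_lit 1, nat_lit 5, nat_lit 4, nat_lit 3, nat_lit 2, nat_lit 4, nat_lit 1, nat_lit 5, nat_lit 4, nat_lit 3, nat_lit 2, nat_lit 4, nat_lit 1, nat_lit 5, nat_lit 4, nat_lit 3, nat_lit 2, nat_lit 4, nat_lit 1] else [nat_lit 63, nat_lit 4, nat_lit 2, nat_lit 3, nat_lit 4, nat_lit 5, nat_lit 1, nat_lit 4, nat_lit 2, nat_lit 3, nat_lit 4, nat_lit 5, nat_lit 1, nat_lit 4, nat_lit 2, nat_lit 3, nat_lit 4, nat_lit 5, nat_lit 1, nat_lit 4, nat_lit 2, nat_lit 3, nat_lit 4, nat_lit 5, nat_lit 1]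
def Wt_1069_1071 (j : ℕ) : List ℕ := bif Nat.blt j 1070 then [nat_lit 63, nat_lit 5, nat_lit 4, nat_lit 1, nat_lit 2, nat_lit 1, nat_lit 4, nat_lit 1, nat_lit 5, nat_lit 4, nat_lit 1, nat_lit 2, nat_lit 1, nat_lit 4, nat_lit 1, nat_lit 5, nat_lit 4, nat_lit 1, nat_lit 2, nat_lit 1, nat_lit 4, nat_lit 1] else [nat_lit 63, nat_lit 4, nat_lit 1, nat_lit 5, nat_lit 0, nat_lit 1, nat_lit 0, nat_lit 1, nat_lit 4, nat_lit 1, nat_lit 5, nat_lit 0, nat_lit 1, nat_lit 0, nat_lit 1, nat_lit 4, nat_lit 1, nat_lit 5, nat_lit 0, nat_lit 1, nat_lit 0, nat_lit 1, nat_lit 4, nat_lit 1, nat_lit 5, nat_lit 0, nat_lit 1, nat_lit 0, nat_lit 1]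
def Wt_1068_1071 (j : ℕ) : List ℕ := bif Nat.blt j 1069 then [nat_lit 63, nat_lit 4, nat_lit 0, nat_lit 2, nat_lit 4, nat_lit 5, nat_lit 1, nat_lit 4, nat_lit 1, nat_lit 0, nat_lit 4, nat_lit 0, nat_lit 2, nat_lit 4, nat_lit 5, nat_lit 1, nat_lit 4, nat_lit 1, nat_lit 0, nat_lit 4, nat_lit 0, nat_lit 2, nat_lit 4, nat_lit 5, nat_lit 1, nat_lit 4, nat_lit 1, nat_lit 0, nat_lit 4, nat_lit 0, nat_lit 2, nat_lit 4, nat_lit 5, nat_lit 1, nat_lit 4, nat_lit 1, nat_lit 0, nat_lit 4, nat_lit 0, nat_lit 2, nat_lit 4, nat_lit 5, nat_lit 1, nat_lit 4, nat_lit 1, nat_lit 0] else (Wt_1069_1071 j)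
def Wt_1066_1071 (j : ℕ) : List ℕ := bif Nat.blt j 1068 then (Wt_1066_1068 j) else (Wt_1068_1071 j)
def Wt_1062_1071 (j : ℕ) : List ℕ := bif Nat.blt j 1066 then (Wt_1062_1066 j) else (Wt_1066_1071 j)
def Wt_1054_1071 (j : ℕ) : List ℕ := bif Nat.blt j 1062 then (Wt_1054_1062 j) else (Wt_1062_1071 j)
def Wt_1071_1073 (j : ℕ) : List ℕ := bif Nat.blt j 1072 then [nat_lit 63, nat_lit 0, nat_lit 3, nat_lit 4, nat_lit 0, nat_lit 4, nat_lit 5, nat_lit 3, nat_lit 0, nat_lit 3, nat_lit 4, nat_lit 0, nat_lit 4, nat_lit 5, nat_lit 3, nat_lit 0, nat_lit 3, nat_lit 4, nat_lit 0, nat_lit 4, nat_lit 5, nat_lit 3, nat_lit 0, nat_lit 3, nat_lit 4, nat_lit 0, nat_lit 4, nat_lit 5, nat_lit 3, nat_lit 0, nat_lit 3, nat_lit 4, nat_lit 0, nat_lit 4, nat_lit 5, nat_lit 3] else [nat_lit 63, nat_lit 0, nat_lit 1, nat_lit 0, nat_lit 4, nat_lit 1, nat_lit 5, nat_lit 4, nat_lit 3, nat_lit 0, nat_lit 1, nat_lit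 0, nat_lit 4, nat_lit 1, nat_lit 5, nat_lit 4, nat_lit 3, nat_lit 0, nat_lit 1, nat_lit 0, nat_lit 4, nat_lit 1, nat_lit 5, nat_lit 4, nat_lit 3, nat_lit 0, nat_lit 1, nat_lit 0, nat_lit 4, nat_lit 1, nat_lit 5, nat_lit 4, nat_lit 3, nat_lit 0, nat_lit 1, nat_lit 0, nat_lit 4, nat_lit 1, nat_lit 5, nat_lit 4, nat_lit 3, nat_lit 0, nat_lit 1, nat_lit 0, nat_lit 4, nat_lit 1, nat_lit 5, nat_lit 4, nat_lit 3]
def Wt_1073_1075 (j : ℕ) : List ℕ := bif Nat.blt j 1074 then [nat_lit 63, nat_lit 1, nat_lit 4, nat_lit 0, nat_lit 1, nat_lit 0, nat_lit 3, nat_lit 4, nat_lit 5, nat_lit 1, nat_lit 4, nat_lit 0, nat_lit 1, nat_lit 0, nat_lit 3, nat_lit 4, nat_lit 5, nat_lit 1, nat_lit 4, nat_lit 0, nat_lit 1, nat_lit 0, nat_lit 3, nat_lit 4, nat_lit 5, nat_lit 1, nat_lit 4, nat_lit 0, nat_lit 1, nat_lit 0, nat_lit 3, nat_lit 4, nat_lit 5, nat_lit 1, nat_lit 4, nat_lit 0, nat_lit 1, nat_lit 0, nat_lit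 3, nat_lit 4, nat_lit 5, nat_lit 1, nat_lit 4, nat_lit 0, nat_lit 1, nat_lit 0, nat_lit 3, nat_lit 4, nat_lit 5] else [nat_lit 63, nat_lit 5, nat_lit 1, nat_lit 4, nat_lit 3, nat_lit 0, nat_lit 1, nat_lit 0, nat_lit 4, nat_lit 5, nat_lit 1, nat_lit 4, nat_lit 3, nat_lit 0, nat_lit 1, nat_lit 0, nat_lit 4, nat_lit 5, nat_lit 1, nat_lit 4, nat_lit 3, nat_lit 0, nat_lit 1, nat_lit 0, nat_lit 4, nat_lit 5, nat_lit 1, nat_lit 4, nat_lit 3, nat_lit 0, nat_lit 1, nat_lit 0, nat_lit 4, nat_lit 5, nat_lit 1, nat_lit 4, nat_lit 3, nat_lit 0, nat_lit 1, nat_lit 0, nat_lit 4, nat_lit 5, nat_lit 1, nat_lit 4, nat_lit 3, nat_lit 0, nat_lit 1, nat_lit 0, nat_lit 4]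
def Wt_1071_1075 (j : ℕ) : List ℕ := bif Nat.blt j 1073 then (Wt_1071_1073 j) else (Wt_1073_1075 j)
def Wt_1075_1077 (j : ℕ) : List ℕ := bif Nat.blt j 1076 then [nat_lit 63, nat_lit 4, nat_lit 5, nat_lit 1, nat_lit 2, nat_lit 4, nat_lit 2, nat_lit 4, nat_lit 2, nat_lit 3, nat_lit 4, nat_lit 5, nat_lit 1, nat_lit 2, nat_lit 4, nat_lit 2, nat_lit 4, nat_lit 2, nat_lit 3, nat_lit 4, nat_lit 5, nat_lit 1, nat_lit 2, nat_lit 4, nat_lit 2, nat_lit 4, nat_lit 2, nat_lit 3, nat_lit 4, nat_lit 5, nat_lit 1, nat_lit 2, nat_lit 4, nat_lit 2, nat_lit 4, nat_lit 2, nat_lit 3, nat_lit 4, nat_lit 5, nat_lit 1, nat_lit 2, nat_lit 4, nat_lit 2, nat_lit 4, nat_lit 2, nat_lit 3, nat_lit 4, nat_lit 5, nat_lit 1, nat_lit 2, nat_lit 4, nat_lit 2, nat_lit 4, nat_lit 2, nat_lit 3] else [nat_lit 63, nat_lit 0, nat_lit 4, nat_lit 0, nat_lit 1, nat_lit 4, nat_lit 1, nat_lit 5, nat_lit 4, nat_lit 2, nat_lit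 0, nat_lit 4, nat_lit 0, nat_lit 1, nat_lit 4, nat_lit 1, nat_lit 5, nat_lit 4, nat_lit 2, nat_lit 0, nat_lit 4, nat_lit 0, nat_lit 1, nat_lit 4, nat_lit 1, nat_lit 5, nat_lit 4, nat_lit 2, nat_lit 0, nat_lit 4, nat_lit 0, nat_lit 1, nat_lit 4, nat_lit 1, nat_lit 5, nat_lit 4, nat_lit 2, nat_lit 0, nat_lit 4, nat_lit 0, nat_lit 1, nat_lit 4, nat_lit 1, nat_lit 5, nat_lit 4, nat_lit 2]
def Wt_1077_1079 (j : ℕ) : List ℕ := bif Nat.blt j 1078 then [nat_lit 63, nat_lit 3, nat_lit 4, nat_lit 3, nat_lit 4, nat_lit 5, nat_lit 2, nat_lit 4, nat_lit 3, nat_lit 4, nat_lit 3, nat_lit 4, nat_lit 5, nat_lit 2, nat_lit 4, nat_lit 3, nat_lit 4, nat_lit 3, nat_lit 4, nat_lit 5, nat_lit 2, nat_lit 4, nat_lit 3, nat_lit 4, nat_lit 3, nat_lit 4, nat_lit 5, nat_lit 2, nat_lit 4, nat_lit 3, nat_lit 4, nat_lit 3, nat_lit 4, nat_lit 5, nat_lit 2, nat_lit 4] else [nat_lit 63, nat_lit 4, nat_lit 1, nat_lit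 0, nat_lit 2, nat_lit 1, nat_lit 0, nat_lit 1, nat_lit 3, nat_lit 4, nat_lit 0, nat_lit 1, nat_lit 4, nat_lit 1, nat_lit 3, nat_lit 4, nat_lit 1, nat_lit 0]
def Wt_1075_1079 (j : ℕ) : List ℕ := bif Nat.blt j 1077 then (Wt_1075_1077 j) else (Wt_1077_1079 j)
def Wt_1071_1079 (j : ℕ) : List ℕ := bif Nat.blt j 1075 then (Wt_1071_1075 j) else (Wt_1075_1079 j)
def Wt_1079_1081 (j : ℕ) : List ℕ := bif Nat.blt j 1080 then [nat_lit 63, nat_lit 4, nat_lit 2, nat_lit 3, nat_lit 4, nat_lit 2, nat_lit 4, nat_lit 1, nat_lit 4, nat_lit 2, nat_lit 4, nat_lit 3, nat_lit 2, nat_lit 4, nat_lit 1, nat_lit 3, nat_lit 0, nat_lit 3] else [nat_lit 63, nat_lit 1, nat_lit 0, nat_lit 4, nat_lit 1, nat_lit 4, nat_lit 3, nat_lit 2, nat_lit 4, nat_lit 3, nat_lit 4, nat_lit 0, nat_lit 1, nat_lit 3, nat_lit 2, nat_lit 1, nat_lit 4, nat_lit 0]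
def Wt_1081_1083 (j : ℕ) : List ℕ := bif Nat.blt j 1082 then [nat_lit 3, nat_lit 4, nat_lit 2, nat_lit 5, nat_lit 1, nat_lit 2, nat_lit 4, nat_lit 0, nat_lit 4, nat_lit 3, nat_lit 4, nat_lit 2, nat_lit 5, nat_lit 1, nat_lit 2, nat_lit 4, nat_lit 0, nat_lit 4, nat_lit 3, nat_lit 4, nat_lit 2, nat_lit 5, nat_lit 1, nat_lit 2, nat_lit 4, nat_lit 0, nat_lit 4] else [nat_lit 63, nat_lit 0, nat_lit 2, nat_lit 1, nat_lit 0, nat_lit 1, nat_lit 3, nat_lit 4, nat_lit 0, nat_lit 1, nat_lit 4, nat_lit 1, nat_lit 3, nat_lit 4, nat_lit 1, nat_lit 0, nat_lit 4, nat_lit 1]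
def Wt_1079_1083 (j : ℕ) : List ℕ := bif Nat.blt j 1081 then (Wt_1079_1081 j) else (Wt_1081_1083 j)
def Wt_1083_1085 (j : ℕ) : List ℕ := bif Nat.blt j 1084 then [nat_lit 63, nat_lit 4, nat_lit 0, nat_lit 4, nat_lit 3, nat_lit 4, nat_lit 2, nat_lit 5, nat_lit 1, nat_lit 2, nat_lit 4, nat_lit 0, nat_lit 4, nat_lit 3, nat_lit 4, nat_lit 2, nat_lit 5, nat_lit 1, nat_lit 2, nat_lit 4, nat_lit 0, nat_lit 4, nat_lit 3, nat_lit 4, nat_lit 2, nat_lit 5, nat_lit 1, nat_lit 2] else [nat_lit 63, nat_lit 4, nat_lit 0, nat_lit 1, nat_lit 4, nat_lit 5, nat_lit 1, nat_lit 4, nat_lit 0, nat_lit 2, nat_lit 4, nat_lit 0, nat_lit 1, nat_lit 4, nat_lit 5, nat_lit 1, nat_lit 4, nat_lit 0, nat_lit 2, nat_lit 4, nat_lit 0, nat_lit 1, nat_lit 4, nat_lit 5, nat_lit 1, nat_lit 4, nat_lit 0, nat_lit 2, nat_lit 4, nat_lit 0, nat_lit 1, nat_lit 4, nat_lit 5, nat_lit 1, nat_lit 4, nat_lit 0, nat_lit 2, nat_lit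 4, nat_lit 0, nat_lit 1, nat_lit 4, nat_lit 5, nat_lit 1, nat_lit 4, nat_lit 0, nat_lit 2]
def Wt_1086_1088 (j : ℕ) : List ℕ := bif Nat.blt j 1087 then [nat_lit 63, nat_lit 4, nat_lit 1, nat_lit 4, nat_lit 2, nat_lit 4, nat_lit 3, nat_lit 4, nat_lit 2, nat_lit 1, nat_lit 4, nat_lit 1, nat_lit 2, nat_lit 4, nat_lit 2, nat_lit 4, nat_lit 2, nat_lit 1] else [nat_lit 63, nat_lit 1, nat_lit 4, nat_lit 1, nat_lit 2, nat_lit 4, nat_lit 2, nat_lit 4, nat_lit 2, nat_lit 1, nat_lit 4, nat_lit 1, nat_lit 2, nat_lit 4, nat_lit 3, nat_lit 4, nat_lit 2, nat_lit 4]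
def Wt_1085_1088 (j : ℕ) : List ℕ := bif Nat.blt j 1086 then [nat_lit 63, nat_lit 0, nat_lit 2, nat_lit 4, nat_lit 1, nat_lit 4, nat_lit 2, nat_lit 0, nat_lit 4, nat_lit 1, nat_lit 4, nat_lit 2, nat_lit 0, nat_lit 4, nat_lit 1, nat_lit 4] else (Wt_1086_1088 j)
def Wt_1083_1088 (j : ℕ) : List ℕ := bif Nat.blt j 1085 then (Wt_1083_1085 j) else (Wt_1085_1088 j)
def Wt_1079_1088 (j : ℕ) : List ℕ := bif Nat.blt j 1083 then (Wt_1079_1083 j) else (Wt_1083_1088 j)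
def Wt_1071_1088 (j : ℕ) : List ℕ := bif Nat.blt j 1079 then (Wt_1071_1079 j) else (Wt_1079_1088 j)
def Wt_1054_1088 (j : ℕ) : List ℕ := bif Nat.blt j 1071 then (Wt_1054_1071 j) else (Wt_1071_1088 j)
def Wt_1020_1088 (j : ℕ) : List ℕ := bif Nat.blt j 1054 then (Wt_1020_1054 j) else (Wt_1054_1088 j)
def Wt_952_1088 (j : ℕ) : List ℕ := bif Nat.blt j 1020 then (Wt_952_1020 j) else (Wt_1020_1088 j)
def Wt_816_1088 (j : ℕ) : List ℕ := bif Nat.blt j 952 then (Wt_816_952 j) else (Wt_952_1088 j)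
def Wt_544_1088 (j : ℕ) : List ℕ := bif Nat.blt j 816 then (Wt_544_816 j) else (Wt_816_1088 j)
def Wt_0_1088 (j : ℕ) : List ℕ := bif Nat.blt j 544 then (Wt_0_544 j) else (Wt_544_1088 j)
def Wt (j : ℕ) : List ℕ := (Wt_0_1088 j)
def W (j : ℕ) : List ℕ := bif Nat.blt j 1088 then Wt j else []
theorem W_ge (j : ℕ) (h : 1088 ≤ j) : W j = [] := by
  unfold W
  rw [blt_false_of_le h]
  rfl
def Hl : List ℕ := [nat_lit 0, nat_lit 1, nat_lit 2, nat_lit 3, nat_lit 4, nat_lit 6]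
def isH (y : ℕ) : Bool := List.elem y Hl
def Rb : List (List ℕ) := [[nat_lit 0, nat_lit 0],
  [nat_lit 1, nat_lit 1],
  [nat_lit 1, nat_lit 0, nat_lit 1, nat_lit 0, nat_lit 1, nat_lit 0, nat_lit 1, nat_lit 0, nat_lit 1, nat_lit 0, nat_lit 1, nat_lit 0],
  [nat_lit 2, nat_lit 2],
  [nat_lit 1, nat_lit 0, nat_lit 1, nat_lit 2, nat_lit 0, nat_lit 2, nat_lit 1, nat_lit 0, nat_lit 1, nat_lit 2, nat_lit 0, nat_lit 2, nat_lit 1, nat_lit 0, nat_lit 1, nat_lit 2, nat_lit 0, nat_lit 2],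
  [nat_lit 1, nat_lit 2, nat_lit 0, nat_lit 1, nat_lit 2, nat_lit 0, nat_lit 1, nat_lit 2, nat_lit 0, nat_lit 1, nat_lit 2, nat_lit 0, nat_lit 1, nat_lit 2, nat_lit 0],
  [nat_lit 2, nat_lit 0, nat_lit 1, nat_lit 2, nat_lit 1, nat_lit 0, nat_lit 2, nat_lit 0, nat_lit 1, nat_lit 2, nat_lit 1, nat_lit 0],
  [nat_lit 1, nat_lit 2, nat_lit 1, nat_lit 0, nat_lit 1, nat_lit 2, nat_lit 1, nat_lit 0, nat_lit 1, nat_lit 2, nat_lit 1, nat_lit 0],
  [nat_lit 3, nat_lit 3],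
  [nat_lit 0, nat_lit 3, nat_lit 0, nat_lit 3, nat_lit 0, nat_lit 3, nat_lit 1, nat_lit 0, nat_lit 3, nat_lit 0, nat_lit 3, nat_lit 0, nat_lit 3, nat_lit 1, nat_lit 0, nat_lit 3, nat_lit 0, nat_lit 3, nat_lit 0, nat_lit 3, nat_lit 1],
  [nat_lit 2, nat_lit 1, nat_lit 3, nat_lit 2, nat_lit 1, nat_lit 0, nat_lit 1, nat_lit 2, nat_lit 1, nat_lit 3, nat_lit 2, nat_lit 1, nat_lit 0, nat_lit 1, nat_lit 2, nat_lit 1, nat_lit 3, nat_lit 2, nat_lit 1, nat_lit 0, nat_lit 1],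
  [nat_lit 3, nat_lit 1, nat_lit 0, nat_lit 3, nat_lit 0, nat_lit 3, nat_lit 2, nat_lit 3, nat_lit 1, nat_lit 0, nat_lit 3, nat_lit 0, nat_lit 3, nat_lit 2, nat_lit 3, nat_lit 1, nat_lit 0, nat_lit 3, nat_lit 0, nat_lit 3, nat_lit 2],
  [nat_lit 2, nat_lit 3, nat_lit 0, nat_lit 3, nat_lit 1, nat_lit 2, nat_lit 3, nat_lit 0, nat_lit 3, nat_lit 1, nat_lit 2, nat_lit 3, nat_lit 0, nat_lit 3, nat_lit 1, nat_lit 2, nat_lit 3, nat_lit 0, nat_lit 3, nat_lit 1],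
  [nat_lit 1, nat_lit 0, nat_lit 2, nat_lit 3, nat_lit 0, nat_lit 2, nat_lit 1, nat_lit 0, nat_lit 2, nat_lit 3, nat_lit 0, nat_lit 2, nat_lit 1, nat_lit 0, nat_lit 2, nat_lit 3, nat_lit 0, nat_lit 2],
  [nat_lit 0, nat_lit 1, nat_lit 2, nat_lit 1, nat_lit 3, nat_lit 1, nat_lit 0, nat_lit 1, nat_lit 2, nat_lit 1, nat_lit 3, nat_lit 1, nat_lit 0, nat_lit 1, nat_lit 2, nat_lit 1, nat_lit 3, nat_lit 1],
  [nat_lit 4, nat_lit 4],
  [nat_lit 4, nat_lit 1, nat_lit 4, nat_lit 0, nat_lit 2, nat_lit 4, nat_lit 1, nat_lit 4, nat_lit 2, nat_lit 0, nat_lit 4, nat_lit 1, nat_lit 4, nat_lit 2, nat_lit 0],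
  [nat_lit 4, nat_lit 1, nat_lit 4, nat_lit 1, nat_lit 4, nat_lit 1, nat_lit 4, nat_lit 3, nat_lit 4, nat_lit 3, nat_lit 4, nat_lit 3, nat_lit 4, nat_lit 3, nat_lit 1],
  [nat_lit 0, nat_lit 3, nat_lit 1, nat_lit 4, nat_lit 1, nat_lit 3, nat_lit 0, nat_lit 1, nat_lit 0, nat_lit 3, nat_lit 1, nat_lit 4, nat_lit 1, nat_lit 3, nat_lit 0, nat_lit 1],
  [nat_lit 0, nat_lit 2, nat_lit 4, nat_lit 1, nat_lit 4, nat_lit 2, nat_lit 1, nat_lit 4, nat_lit 1, nat_lit 4, nat_lit 1, nat_lit 2, nat_lit 4, nat_lit 1, nat_lit 4, nat_lit 2],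
  [nat_lit 1, nat_lit 4, nat_lit 3, nat_lit 4, nat_lit 1, nat_lit 2, nat_lit 4, nat_lit 3, nat_lit 1, nat_lit 3, nat_lit 1, nat_lit 3, nat_lit 1, nat_lit 3, nat_lit 4, nat_lit 2],
  [nat_lit 2, nat_lit 1, nat_lit 0, nat_lit 1, nat_lit 3, nat_lit 4, nat_lit 0, nat_lit 1, nat_lit 4, nat_lit 1, nat_lit 3, nat_lit 4, nat_lit 1, nat_lit 0, nat_lit 4, nat_lit 1, nat_lit 0],
  [nat_lit 4, nat_lit 1, nat_lit 2, nat_lit 1, nat_lit 4, nat_lit 1, nat_lit 2, nat_lit 1, nat_lit 4, nat_lit 0, nat_lit 1, nat_lit 4, nat_lit 3, nat_lit 2, nat_lit 4, nat_lit 1, nat_lit 0],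
  [nat_lit 3, nat_lit 1, nat_lit 4, nat_lit 1, nat_lit 4, nat_lit 0, nat_lit 4, nat_lit 1, nat_lit 4, nat_lit 2, nat_lit 1, nat_lit 4, nat_lit 1, nat_lit 4, nat_lit 3, nat_lit 2, nat_lit 0],
  [nat_lit 4, nat_lit 0, nat_lit 2, nat_lit 4, nat_lit 0, nat_lit 2, nat_lit 4, nat_lit 3, nat_lit 2, nat_lit 3, nat_lit 0, nat_lit 4, nat_lit 2, nat_lit 0, nat_lit 4, nat_lit 2, nat_lit 0],
  [nat_lit 4, nat_lit 0, nat_lit 4, nat_lit 3, nat_lit 1, nat_lit 4, nat_lit 2, nat_lit 1, nat_lit 2, nat_lit 4, nat_lit 1, nat_lit 3, nat_lit 4, nat_lit 0, nat_lit 4, nat_lit 2, nat_lit 0],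
  [nat_lit 4, nat_lit 3, nat_lit 0, nat_lit 4, nat_lit 3, nat_lit 4, nat_lit 2, nat_lit 3, nat_lit 4, nat_lit 3, nat_lit 4, nat_lit 0, nat_lit 3, nat_lit 4, nat_lit 0, nat_lit 3, nat_lit 0],
  [nat_lit 3, nat_lit 4, nat_lit 2, nat_lit 3, nat_lit 4, nat_lit 2, nat_lit 4, nat_lit 1, nat_lit 4, nat_lit 2, nat_lit 4, nat_lit 3, nat_lit 2, nat_lit 4, nat_lit 1, nat_lit 3, nat_lit 0],
  [nat_lit 3, nat_lit 0, nat_lit 3, nat_lit 4, nat_lit 3, nat_lit 4, nat_lit 2, nat_lit 4, nat_lit 2, nat_lit 4, nat_lit 3, nat_lit 4, nat_lit 2, nat_lit 4, nat_lit 1, nat_lit 2, nat_lit 1],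
  [nat_lit 3, nat_lit 0, nat_lit 3, nat_lit 4, nat_lit 2, nat_lit 4, nat_lit 3, nat_lit 4, nat_lit 2, nat_lit 4, nat_lit 2, nat_lit 4, nat_lit 3, nat_lit 4, nat_lit 1, nat_lit 2, nat_lit 1],
  [nat_lit 4, nat_lit 0, nat_lit 1, nat_lit 0, nat_lit 4, nat_lit 1, nat_lit 4, nat_lit 3, nat_lit 2, nat_lit 4, nat_lit 3, nat_lit 4, nat_lit 0, nat_lit 1, nat_lit 3, nat_lit 2, nat_lit 1],
  [nat_lit 4, nat_lit 1, nat_lit 2, nat_lit 4, nat_lit 3, nat_lit 4, nat_lit 2, nat_lit 4, nat_lit 1, nat_lit 4, nat_lit 1, nat_lit 2, nat_lit 4, nat_lit 2, nat_lit 4, nat_lit 2, nat_lit 1],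
  [nat_lit 5, nat_lit 5],
  [nat_lit 2, nat_lit 0, nat_lit 2, nat_lit 0],
  [nat_lit 3, nat_lit 0, nat_lit 3, nat_lit 0, nat_lit 3, nat_lit 0, nat_lit 3, nat_lit 0, nat_lit 3, nat_lit 0, nat_lit 3, nat_lit 0, nat_lit 3, nat_lit 0, nat_lit 3, nat_lit 0, nat_lit 3, nat_lit 0, nat_lit 3, nat_lit 0, nat_lit 3, nat_lit 0, nat_lit 3, nat_lit 0],
  [nat_lit 4, nat_lit 0, nat_lit 4, nat_lit 0, nat_lit 4, nat_lit 0, nat_lit 4, nat_lit 0, nat_lit 4, nat_lit 0, nat_lit 4, nat_lit 0, nat_lit 4, nat_lit 0, nat_lit 4, nat_lit 0, nat_lit 4, nat_lit 0, nat_lit 4, nat_lit 0, nat_lit 4, nat_lit 0, nat_lit 4, nat_lit 0],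
  [nat_lit 5, nat_lit 0, nat_lit 5, nat_lit 0],
  [nat_lit 2, nat_lit 1, nat_lit 2, nat_lit 1, nat_lit 2, nat_lit 1, nat_lit 2, nat_lit 1],
  [nat_lit 3, nat_lit 1, nat_lit 3, nat_lit 1, nat_lit 3, nat_lit 1, nat_lit 3, nat_lit 1, nat_lit 3, nat_lit 1, nat_lit 3, nat_lit 1, nat_lit 3, nat_lit 1, nat_lit 3, nat_lit 1, nat_lit 3, nat_lit 1, nat_lit 3, nat_lit 1, nat_lit 3, nat_lit 1, nat_lit 3, nat_lit 1, nat_lit 3, nat_lit 1],
  [nat_lit 4, nat_lit 1, nat_lit 4, nat_lit 1, nat_lit 4, nat_lit 1, nat_lit 4, nat_lit 1, nat_lit 4, nat_lit 1, nat_lit 4, nat_lit 1, nat_lit 4, nat_lit 1, nat_lit 4, nat_lit 1],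
  [nat_lit 5, nat_lit 1, nat_lit 5, nat_lit 1],
  [nat_lit 3, nat_lit 2, nat_lit 3, nat_lit 2],
  [nat_lit 4, nat_lit 2, nat_lit 4, nat_lit 2, nat_lit 4, nat_lit 2, nat_lit 4, nat_lit 2, nat_lit 4, nat_lit 2, nat_lit 4, nat_lit 2],
  [nat_lit 5, nat_lit 2, nat_lit 5, nat_lit 2],
  [nat_lit 4, nat_lit 3, nat_lit 4, nat_lit 3, nat_lit 4, nat_lit 3, nat_lit 4, nat_lit 3, nat_lit 4, nat_lit 3, nat_lit 4, nat_lit 3, nat_lit 4, nat_lit 3, nat_lit 4, nat_lit 3],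
  [nat_lit 5, nat_lit 3, nat_lit 5, nat_lit 3, nat_lit 5, nat_lit 3, nat_lit 5, nat_lit 3],
  [nat_lit 5, nat_lit 4, nat_lit 5, nat_lit 4, nat_lit 5, nat_lit 4, nat_lit 5, nat_lit 4, nat_lit 5, nat_lit 4, nat_lit 5, nat_lit 4, nat_lit 5, nat_lit 4, nat_lit 5, nat_lit 4, nat_lit 5, nat_lit 4, nat_lit 5, nat_lit 4, nat_lit 5, nat_lit 4, nat_lit 5, nat_lit 4],
  [nat_lit 2, nat_lit 3, nat_lit 5, nat_lit 3, nat_lit 5],
  [nat_lit 4, nat_lit 1, nat_lit 4, nat_lit 2, nat_lit 5, nat_lit 4, nat_lit 1, nat_lit 4, nat_lit 2, nat_lit 5, nat_lit 4, nat_lit 1, nat_lit 4, nat_lit 2, nat_lit 5],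
  [nat_lit 4, nat_lit 1, nat_lit 4, nat_lit 0, nat_lit 5, nat_lit 4, nat_lit 1, nat_lit 4, nat_lit 0, nat_lit 5, nat_lit 4, nat_lit 1, nat_lit 4, nat_lit 0, nat_lit 5, nat_lit 4, nat_lit 1, nat_lit 4, nat_lit 0, nat_lit 5],
  [nat_lit 4, nat_lit 1, nat_lit 2, nat_lit 1, nat_lit 4, nat_lit 1, nat_lit 5, nat_lit 4, nat_lit 1, nat_lit 2, nat_lit 1, nat_lit 4, nat_lit 1, nat_lit 5, nat_lit 4, nat_lit 1, nat_lit 2, nat_lit 1, nat_lit 4, nat_lit 1, nat_lit 5],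
  [nat_lit 4, nat_lit 2, nat_lit 4, nat_lit 5, nat_lit 4, nat_lit 2, nat_lit 4, nat_lit 5, nat_lit 4, nat_lit 2, nat_lit 4, nat_lit 5, nat_lit 4, nat_lit 2, nat_lit 4, nat_lit 5, nat_lit 4, nat_lit 2, nat_lit 4, nat_lit 5, nat_lit 4, nat_lit 2, nat_lit 4, nat_lit 5],
  [nat_lit 4, nat_lit 3, nat_lit 2, nat_lit 4, nat_lit 1, nat_lit 5, nat_lit 4, nat_lit 3, nat_lit 2, nat_lit 4, nat_lit 1, nat_lit 5, nat_lit 4, nat_lit 3, nat_lit 2, nat_lit 4, nat_lit 1, nat_lit 5, nat_lit 4, nat_lit 3, nat_lit 2, nat_lit 4, nat_lit 1, nat_lit 5],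
  [nat_lit 3, nat_lit 4, nat_lit 3, nat_lit 0, nat_lit 5, nat_lit 3, nat_lit 4, nat_lit 3, nat_lit 0, nat_lit 5, nat_lit 3, nat_lit 4, nat_lit 3, nat_lit 0, nat_lit 5, nat_lit 3, nat_lit 4, nat_lit 3, nat_lit 0, nat_lit 5, nat_lit 3, nat_lit 4, nat_lit 3, nat_lit 0, nat_lit 5],
  [nat_lit 2, nat_lit 4, nat_lit 3, nat_lit 4, nat_lit 0, nat_lit 4, nat_lit 2, nat_lit 1, nat_lit 5, nat_lit 2, nat_lit 4, nat_lit 3, nat_lit 4, nat_lit 0, nat_lit 4, nat_lit 2, nat_lit 1, nat_lit 5, nat_lit 2, nat_lit 4, nat_lit 3, nat_lit 4, nat_lit 0, nat_lit 4, nat_lit 2, nat_lit 1, nat_lit 5],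
  [nat_lit 1, nat_lit 4, nat_lit 1, nat_lit 0, nat_lit 1, nat_lit 0, nat_lit 5, nat_lit 1, nat_lit 4, nat_lit 1, nat_lit 0, nat_lit 1, nat_lit 0, nat_lit 5, nat_lit 1, nat_lit 4, nat_lit 1, nat_lit 0, nat_lit 1, nat_lit 0, nat_lit 5, nat_lit 1, nat_lit 4, nat_lit 1, nat_lit 0, nat_lit 1, nat_lit 0, nat_lit 5],
  [nat_lit 4, nat_lit 3, nat_lit 4, nat_lit 0, nat_lit 5, nat_lit 4, nat_lit 3, nat_lit 4, nat_lit 0, nat_lit 5, nat_lit 4, nat_lit 3, nat_lit 4, nat_lit 0, nat_lit 5, nat_lit 4, nat_lit 3, nat_lit 4, nat_lit 0, nat_lit 5, nat_lit 4, nat_lit 3, nat_lit 4, nat_lit 0, nat_lit 5, nat_lit 4, nat_lit 3, nat_lit 4, nat_lit 0, nat_lit 5],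
  [nat_lit 2, nat_lit 4, nat_lit 2, nat_lit 1, nat_lit 5, nat_lit 2, nat_lit 4, nat_lit 2, nat_lit 1, nat_lit 5, nat_lit 2, nat_lit 4, nat_lit 2, nat_lit 1, nat_lit 5, nat_lit 2, nat_lit 4, nat_lit 2, nat_lit 1, nat_lit 5, nat_lit 2, nat_lit 4, nat_lit 2, nat_lit 1, nat_lit 5, nat_lit 2, nat_lit 4, nat_lit 2, nat_lit 1, nat_lit 5],
  [nat_lit 4, nat_lit 3, nat_lit 4, nat_lit 3, nat_lit 4, nat_lit 2, nat_lit 5, nat_lit 4, nat_lit 3, nat_lit 4, nat_lit 3, nat_lit 4, nat_lit 2, nat_lit 5, nat_lit 4, nat_lit 3, nat_lit 4, nat_lit 3, nat_lit 4, nat_lit 2, nat_lit 5, nat_lit 4, nat_lit 3, nat_lit 4, nat_lit 3, nat_lit 4, nat_lit 2, nat_lit 5, nat_lit 4, nat_lit 3, nat_lit 4, nat_lit 3, nat_lit 4, nat_lit 2, nat_lit 5],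
  [nat_lit 4, nat_lit 0, nat_lit 4, nat_lit 3, nat_lit 0, nat_lit 3, nat_lit 5, nat_lit 4, nat_lit 0, nat_lit 4, nat_lit 3, nat_lit 0, nat_lit 3, nat_lit 5, nat_lit 4, nat_lit 0, nat_lit 4, nat_lit 3, nat_lit 0, nat_lit 3, nat_lit 5, nat_lit 4, nat_lit 0, nat_lit 4, nat_lit 3, nat_lit 0, nat_lit 3, nat_lit 5, nat_lit 4, nat_lit 0, nat_lit 4, nat_lit 3, nat_lit 0, nat_lit 3, nat_lit 5],
  [nat_lit 4, nat_lit 0, nat_lit 4, nat_lit 3, nat_lit 4, nat_lit 1, nat_lit 0, nat_lit 5, nat_lit 4, nat_lit 0, nat_lit 4, nat_lit 3, nat_lit 4, nat_lit 1, nat_lit 0, nat_lit 5, nat_lit 4, nat_lit 0, nat_lit 4, nat_lit 3, nat_lit 4, nat_lit 1, nat_lit 0, nat_lit 5, nat_lit 4, nat_lit 0, nat_lit 4, nat_lit 3, nat_lit 4, nat_lit 1, nat_lit 0, nat_lit 5, nat_lit 4, nat_lit 0, nat_lit 4, nat_lit 3, nat_lit 4, nat_lit 1, nat_lit 0, nat_lit 5],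
  [nat_lit 4, nat_lit 1, nat_lit 0, nat_lit 4, nat_lit 2, nat_lit 0, nat_lit 4, nat_lit 1, nat_lit 5, nat_lit 4, nat_lit 1, nat_lit 0, nat_lit 4, nat_lit 2, nat_lit 0, nat_lit 4, nat_lit 1, nat_lit 5, nat_lit 4, nat_lit 1, nat_lit 0, nat_lit 4, nat_lit 2, nat_lit 0, nat_lit 4, nat_lit 1, nat_lit 5, nat_lit 4, nat_lit 1, nat_lit 0, nat_lit 4, nat_lit 2, nat_lit 0, nat_lit 4, nat_lit 1, nat_lit 5, nat_lit 4, nat_lit 1, nat_lit 0, nat_lit 4, nat_lit 2, nat_lit 0, nat_lit 4, nat_lit 1, nat_lit 5],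
  [nat_lit 4, nat_lit 2, nat_lit 0, nat_lit 4, nat_lit 0, nat_lit 1, nat_lit 4, nat_lit 1, nat_lit 5, nat_lit 4, nat_lit 2, nat_lit 0, nat_lit 4, nat_lit 0, nat_lit 1, nat_lit 4, nat_lit 1, nat_lit 5, nat_lit 4, nat_lit 2, nat_lit 0, nat_lit 4, nat_lit 0, nat_lit 1, nat_lit 4, nat_lit 1, nat_lit 5, nat_lit 4, nat_lit 2, nat_lit 0, nat_lit 4, nat_lit 0, nat_lit 1, nat_lit 4, nat_lit 1, nat_lit 5, nat_lit 4, nat_lit 2, nat_lit 0, nat_lit 4, nat_lit 0, nat_lit 1, nat_lit 4, nat_lit 1, nat_lit 5],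
  [nat_lit 4, nat_lit 3, nat_lit 0, nat_lit 1, nat_lit 0, nat_lit 4, nat_lit 1, nat_lit 5, nat_lit 4, nat_lit 3, nat_lit 0, nat_lit 1, nat_lit 0, nat_lit 4, nat_lit 1, nat_lit 5, nat_lit 4, nat_lit 3, nat_lit 0, nat_lit 1, nat_lit 0, nat_lit 4, nat_lit 1, nat_lit 5, nat_lit 4, nat_lit 3, nat_lit 0, nat_lit 1, nat_lit 0, nat_lit 4, nat_lit 1, nat_lit 5, nat_lit 4, nat_lit 3, nat_lit 0, nat_lit 1, nat_lit 0, nat_lit 4, nat_lit 1, nat_lit 5, nat_lit 4, nat_lit 3, nat_lit 0, nat_lit 1, nat_lit 0, nat_lit 4, nat_lit 1, nat_lit 5],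
  [nat_lit 4, nat_lit 0, nat_lit 1, nat_lit 0, nat_lit 3, nat_lit 4, nat_lit 1, nat_lit 5, nat_lit 4, nat_lit 0, nat_lit 1, nat_lit 0, nat_lit 3, nat_lit 4, nat_lit 1, nat_lit 5, nat_lit 4, nat_lit 0, nat_lit 1, nat_lit 0, nat_lit 3, nat_lit 4, nat_lit 1, nat_lit 5, nat_lit 4, nat_lit 0, nat_lit 1, nat_lit 0, nat_lit 3, nat_lit 4, nat_lit 1, nat_lit 5, nat_lit 4, nat_lit 0, nat_lit 1, nat_lit 0, nat_lit 3, nat_lit 4, nat_lit 1, nat_lit 5, nat_lit 4, nat_lit 0, nat_lit 1, nat_lit 0, nat_lit 3, nat_lit 4, nat_lit 1, nat_lit 5],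
  [nat_lit 4, nat_lit 3, nat_lit 2, nat_lit 4, nat_lit 2, nat_lit 4, nat_lit 2, nat_lit 1, nat_lit 5, nat_lit 4, nat_lit 3, nat_lit 2, nat_lit 4, nat_lit 2, nat_lit 4, nat_lit 2, nat_lit 1, nat_lit 5, nat_lit 4, nat_lit 3, nat_lit 2, nat_lit 4, nat_lit 2, nat_lit 4, nat_lit 2, nat_lit 1, nat_lit 5, nat_lit 4, nat_lit 3, nat_lit 2, nat_lit 4, nat_lit 2, nat_lit 4, nat_lit 2, nat_lit 1, nat_lit 5, nat_lit 4, nat_lit 3, nat_lit 2, nat_lit 4, nat_lit 2, nat_lit 4, nat_lit 2, nat_lit 1, nat_lit 5, nat_lit 4, nat_lit 3, nat_lit 2, nat_lit 4, nat_lit 2, nat_lit 4, nat_lit 2, nat_lit 1, nat_lit 5],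
  [nat_lit 5, nat_lit 4, nat_lit 3, nat_lit 4, nat_lit 0, nat_lit 3, nat_lit 4, nat_lit 5, nat_lit 3, nat_lit 4, nat_lit 0, nat_lit 1, nat_lit 4, nat_lit 5, nat_lit 7],
  []]
def spT_0_2 (j : ℕ) : ℕ := bif Nat.blt j 1 then nat_lit 0x58000120230000003b000020390001203a00000039000100360000800c00000000000000000000602f00016026000000180000202e000000400002002e000120260000a026000040200000c02e00000064000120850000601b000120310001e0300000e03c0000002c00002056000160380000200c000000020000000200000010000000390001203800000054000020520000400c0000004a00002050000020480000004000000006000100340001a085000060280000605e00000060000000240000005a00002042000000100000805f000000060000205e0000e02b0000205a00000052000000420001a0840000805e000000560000005000000048 else nat_lit 0x20600001802b0000402f000040850000a03400018085000140220000202f0000403e0000203d0000a022000080230001a02b0000203a00020039000020390001a0280001a03f0002003e0002002a0000401a000000380001403f0000603e000000370001c036000140360000402c000020370001a0360000a00c0000a01a0000801a0000a0360001a03200012022000040220001a0220000403300002004000020260000e03d0002002b000200340000a02c000060170000200e0000406e0000406d000100320001002200016084000080340000a020000120300000001e00004022000080280000400e0000a008000000040000600e000080840000c022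
def spT_2_4 (j : ℕ) : ℕ := bif Nat.blt j 3 then nat_lit 0x140200000003b0000405e0000006a000080160000200b0000400a000000160000000c0000005e0000204a000100230000603d0000c026000020220000e02600004034000080240000201a000000520000801b0000403b00018020000080260000c03200014038000100380000205e0000003a000040390000403a00002018000200380000603c000060160000803d0000401b000080170002003d0000001b0000203b0001c026000000240000202e0001602f0000a0170000801600002052000020170000603800016039000000380001203b00012039000040280000001e0000603b00014039000020540000a02a0000600c000060370000a03900002036 else nat_lit 0x18022000160220000a0120001803d0000a0840001a0260000a008000000150000001300004014000060120000a0150001402b000040130000c012000080170000e084000100850001808400018034000040600000808500012020000080200000a02e0001403e00008019000060180000201b000000850000001a0002003b0000403700000036000080300000400b0000000a000020380001203b000120390000a00c0000003a00006039000020380001603b00000048000060130000a0390000e0380000a0690000000e0000a017000200390000c03e0001e03e0000805f0000205f0000c02600000022000060230000000b0001e03c000080220000002e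
def spT_0_4 (j : ℕ) : ℕ := bif Nat.blt j 2 then (spT_0_2 j) else (spT_2_4 j)
def spT_4_6 (j : ℕ) : ℕ := bif Nat.blt j 5 then nat_lit 0x1a03c0001c02b0000003f000100220001203f0000002e00004032000140840000803700012037000040390000c0360000400a0000a0120000c015000040150000a01c0000e0320000203f0001203600014028000040230001c02c0000a02d0001003b0000002f000060320000e024000020080000c084000160350001003400002085000020370000a023000060220000203b0000e0390001c0230000202300004023000040240000005f000080380001603a0000202f0001802f000060850000c0170000e0850000c0850001c08400018023000180360000c0370000c0280000606000006020000060240001a0300000408400002084000020240000e022 else nat_lit 0x201500006016000140200000c0240002002c00012036000000260001602c0001202b0001e0360002003a0000203e0001603d0000a02600012028000000500000403c0002002f0000c0390000802f0001003e000040300000a028000020280001403d0000405f000060130001c034000100390001c03f0000e03e0000c03c0000402e0000803e0000802c0000a03c000080080001c0340000c02d0001603c0001e02e0001802a0000c0150000801d0000001e0001202a000060840001402a0000200a000180390000200b000020140000800c0000001e0000a01c0000c0140000a01d0000400e000040080000000c000000140002002e0000008400002034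
def spT_6_8 (j : ℕ) : ℕ := bif Nat.blt j 7 then nat_lit 0x120320001603e00004038000080370000402a0001003c0001c03c0001802c00016085000040850000002b0000c03d0001002b0001602a0000a02b0000c014000140380001203a000120380000602e000140230000e023000160840000403700016036000060360001e03f0000403d00008060000000340001a02a0000e02e000180260000c02e0001203e0000203a0001403b0001a02f0000c02c0001003d0000e0360000201d000160280000001c00008018000000370001c0280001c02e0002003a000000320001603f000060370001e037000180260000203f0001602f0001803e0002003f0000003e000100260001a034000180220000204400002016 else nat_lit 0xe0390000003400006022000060360001c03e0001a03e0001002c00010028000020350001c0260000000600000002000000100001002b0001e02a0000a01b00000008000040140000201800000012000060140000801b0000a014000020140001c03d000200360000203c0001e02800006014000020420000202b0000e0200001e026000020320001c03f00018032000080120000200e00008012000080130000000e0000601c000080150000003e0000a0140000a01d0000802b000000560000602b0001602b000040380000803f0000403b0000a02400000015000020500000401d0000600e000060150001803e000160320001c03e0000a0380000c02a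
def spT_4_8 (j : ℕ) : ℕ := bif Nat.blt j 6 then (spT_4_6 j) else (spT_6_8 j)
def spT_0_8 (j : ℕ) : ℕ := bif Nat.blt j 4 then (spT_0_4 j) else (spT_4_8 j)
def spT_8_10 (j : ℕ) : ℕ := bif Nat.blt j 9 then nat_lit 0x230001c03a0000002f00008036000200360000004e000160220001603e000040120000c0380001c030000120340001e0340001e03d0000601d0000c02b0001e02c0001a03d000140370000402e0001e03d0000605f0000401c0001603b0001c0320000a085000140260000a03e0000002a0000003c000060330001403e0000a03b0000005800002054000080390000402f0001a02c0000602a0000c020000080320001c02a0001203c0001803c0000602600018031000200320001c022000000280000c0130000801c0000600c0000401c000000140000204a0000801d0000c0170000c0160000401d0000200c0000401b000000360000602c0000203d else nat_lit 0x120350002003c0000a0360001e036000180200000003c0000a03d000060260000802a0002003c000140220000603c000020610000c0230000e0360000403d0001603c0001403200016020000080130002003b0000003d0001202c000040240001c03100000086000080220001c085000020340000e03e0001403c00006034000180280000a03e0000203c000140350000e0370000e0280000801400020038000180280002003d00018034000040720000c03a000020850000c0340001202200016020000140370000603a000020330001e02b0000001a0000801c0000a01b0000a01a00002012000040160000a015000020150000803c0001402300010026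
def spT_10_12 (j : ℕ) : ℕ := bif Nat.blt j 11 then nat_lit 0x1a0220000801a0000201a00018084000180320001c020000080200000003d0000802c0000e026000000040001c0360001e0260001802c000000400000002b0000002c00004034000080240000c03b000080350001203c0001a0280000003f000040360001c02f0001e03c0001402c0000a0240000001000000006000000020000e0340001402c00002058000000220000000b0000c012000020130000204c0000601d0000001200000013000040160000004c0000a013000020120000a01600008014000000420000e0340000400b0000c0160001a084000140340000005c0000204e000200370000a0370001203e0001a0230000c0230001e02b00016023 else nat_lit 0x6076000060720000a06e0000806c0000a06c00004068000060600001603d000120230000a02000008085000180850000a0840000408400006084000020840000e07f0000807e0000807a0000c0790000a078000080780000407600008074000040700000c06d0000806a000060660000606400004064000080620000606200004060000000940000209400000086000000940000209400000040000020940000009400000010000000020000001e000000000000000000000040000000860000000600002094000000000000004000000094000020940000001e00000000000000060000000200000010000000940001403c000020240000601a0000202a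
def spT_8_12 (j : ℕ) : ℕ := bif Nat.blt j 10 then (spT_8_10 j) else (spT_10_12 j)
def spT_12_14 (j : ℕ) : ℕ := bif Nat.blt j 13 then nat_lit 0x6068000040640000603d0000e03c00008036000060320000402a0001602a0001a0850000008400000078000080740000206e000020610001e03e0000a02e000020760000a06c0000206a00004032000000770000c076000080700000e06c0000403f0001c03d0001603400010023000020280000606c0000603400002071000080340000e02b0000a06d0000803c0000a076000060740000806900006078000000660000406200002077000200300000607c0000a07a00006085000000850001802a00006028000140340001202b0000a02d0001c0840000c02b0000807e0000607e0000807a0000607800000072000080640000402c0000c07f0000e079 else nat_lit 0x230000c07b0000a074000080720001006d000000640001403f0000206c0000606b000020480000c0820000607a000000740000206800004066000000540000c03e0000803e0000403e000000260001c0200000206b00006069000080840000406b0000c06f000020760001202e00004073000020690000603e0000c02f0001203d0000407100000070000020650000a034000100320000e0300000e02c00012026000080260000e02300006023000100200001c0850000807600006070000020700000e06d0000206d0000c06c000000600001403d0000a03c0000403a000180380002002c0001202a00008028000040280000c0280000e0240000606a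
def spT_15_17 (j : ℕ) : ℕ := bif Nat.blt j 16 then nat_lit 0x140360001a0340001c032000020320001002f0000e02e0000e0830000c0810000e0800000007b000000710001c0230000c0200000c07500004018000040200000c07d000180300001e03f0001603a0001003a0001e0380001c03b000080230000a077000080300000203e0000e03f0000e03d0001002800000020000060650000406100004030000060730000206d000180360001803d0001002c000000170000c0830000807f0000c02a0000606f000020720001a03a000080730001c0390001a03d0000c0360001a0360000602c0000202a00000083000000820000007a000040720000406e00000062000000460001603f0000803f0000a03f0000803d else nat_lit 0x1003e0000e03f000060200000a07b0000606d0002002a0000e06d0000403c000020360001c02a000060750000407c00010083000000810000207f0000407e000040770000a06f0000c0640000a07d000040690000a06800008077000080710000e0820000a07f0001007a000020780000a07e0000607d0001e0340000c033000080320000c0320001e030000100300001a02e0000002a0001a02a000160300000607f0000c07e000060770000005c0000a03d0001c03c0000202b0001c02b000160280000a082000060820000c07a0000a07a0000a079000040740000006a000000660000a0640001803f0000603f0001003f0002003e0001a03c00010036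
def spT_14_17 (j : ℕ) : ℕ := bif Nat.blt j 15 then nat_lit 0xc0380000a037000100370000a0320001802f0001a0230000e0220001802b0000200400002062000020600000004a0001602b0000a0230000c0850000207b0000e07b0000e07a0000407900008068000020660000205c0000a0850000e07d0000807c000020710000206f00006069000000630000e03b000200320001a02c0000c0240000a022000020730000406f0000806e0000a0650000c02f0001602c0001002a0000a028000000610000806d000000690000006b000020220000c075000020580000606d0000206a0000206f0000c06e000120340000806e000020680000c02c0000a02b00012020000160380000204e0001e0320001c02c00016026 else (spT_15_17 j)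
def spT_12_17 (j : ℕ) : ℕ := bif Nat.blt j 14 then (spT_12_14 j) else (spT_14_17 j)
def spT_8_17 (j : ℕ) : ℕ := bif Nat.blt j 12 then (spT_8_12 j) else (spT_12_17 j)
def spT_0_17 (j : ℕ) : ℕ := bif Nat.blt j 8 then (spT_0_8 j) else (spT_8_17 j)
def spT (j : ℕ) : ℕ := (spT_0_17 j)
def sp (j : ℕ) : ℕ := Nat.land (Nat.shiftRight (spT (Nat.shiftRight j 6)) (Nat.mul (Nat.land j 63) 32)) 4294967295
theorem Eo_lt (r : ℕ) : Eo r < 18014398509481984 := land54_lt _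
def cT_0_2 (j : ℕ) : ℕ := bif Nat.blt j 1 then nat_lit 0x9700009600009500009400009300009200009100009000008f00008e00008d00008c00008b00008a00008700008600008500008400008300008200008000007f00007e00007d00007b00007a00007900007700007600007500007400007200007100007000006f00006e00006d00006c00006b00006a00006900006800006700006600006500006300006200006000005f00005d00005700005600005500005400004c00004b00004a00004900004800004700004600004500004400004300004200004100004000003f00003e00003d00003c00003b00003a00003900003800003700003600003500003400003300003200003100003000002f00002e00002d00002c00002b00002a00002900002800002700002600002500002400002300002200002100002000001f00001e00001d00001c00001b00001a00001900001800001700001500001400001300001200001100001000000e00000c00000b00000a000009000008000007000006000005000004000003000002000001000000 else nat_lit 0x12400012300012100012000011e00011d00011c00011b000119000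11700011400011300011200011100011000010f00010e00010d00010c00010b00010a0001090001080001060001050001040001030001000000ff0000fe0000fd0000fc0000fb0000fa0000f90000f80000f70000f60000f50000f40000f30000f10000f00000ef0000ee0000ed0000ec0000eb0000ea0000e90000e80000e70000e60000e50000e40000e30000e20000e10000e00000df0000de0000dd0000dc0000db0000da0000d90000d80000d70000d60000d50000d40000d30000d20000d10000d00000cf0000ce0000cd0000cc0000cb0000ca0000c90000c80000c70000c60000c50000c40000c30000c20000c10000c00000bf0000be0000bd0000bc0000bb0000ba0000b90000b80000b70000b60000b50000b40000b30000b20000b10000b00000af0000ae0000ad0000ac0000ab0000aa0000a90000a80000a70000a60000a50000a40000a20000a000009f00009e00009d00009b00009a000099000098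
def cT_2_4 (j : ℕ) : ℕ := bif Nat.blt j 3 then nat_lit 0x1bd0001bb0001ba0001b90001b80001b60001b50001b40001b30001b20001b10001b00001af0001ad0001ac0001ab0001aa0001a90001a80001a70001a50001a40001a30001a20001a10001a000019f00019e00019d00019c00019b00019a00019900019800019700019600019500019300019200019100019000018f00018e00018c00018b00018a00018900018600018400018300018200018100018000017f00017e00017d00017b00017a00017900017700017500017400017300017200017100017000016f00016e00016d00016c00016b00016a00016900016800016700016600016500016300016100016000015d00015b00015900015800015700015600015500015400015300015200015000014f00014d00014c00014a00014900014800014700014600014500014400014300014200014100014000013f00013e00013d00013b00013900013800013700013600013500013300013200013100013000012f00012e00012d00012c00012b000129000128000127000126000125 else nat_lit 0x27a00027900027700027600027500027400027300027200027100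027000026f00026e00026d00026c00026b00026a00026900026800026700026600026500026400026300026200026100026000025f00025e00025d00025c00025b00025a00025900025800025700025600025500025400025300025200025100025000024f00024e00024d00024c00024b00024a00024900024800024700024600024500024200024100024000023f00023e00023d00023b00023a00023900023800023700023600023500023400023200023100023000022e00022d00022c00022a00022900022800022700022600022500022000021f00021e00021c00021b00021a00021900021700021600021500020f00020e00020c00020b00020a0002090001f60001f50001f30001f00001ef0001ee0001ed0001ec0001eb0001ea0001e90001e80001e70001e50001e40001e30001e20001e10001e00001df0001cf0001ce0001cc0001cb0001ca0001c90001c70001c50001c40001c30001c10001bf0001be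
def cT_0_4 (j : ℕ) : ℕ := bif Nat.blt j 2 then (cT_0_2 j) else (cT_2_4 j)
def cT_4_6 (j : ℕ) : ℕ := bif Nat.blt j 5 then nat_lit 0x32d00032c00032a00032800032700032600032400032200032100032000031f00031e00031d00031c00031a00031900031700031600031500031200031100031000030f00030e00030d00030c00030a0003090003080003070003060003050003030003020003010003000002fe0002fd0002fc0002fb0002f90002f80002f70002f60002f50002f40002f20002f10002f00002ef0002ee0002eb0002ea0002e90002e80002e50002e30002e20002e10002e00002df0002dd0002dc0002db0002da0002d90002d80002d70002d60002d50002d30002d20002d10002d00002ce0002cd0002cc0002cb0002ca0002c90002c80002c60002c50002c40002c30002c10002bf0002bc0002bb0002ba0002b90002b80002b50002b40002b30002b20002b00002aa0002a90002a80002a70002a50002a40002a20002a000029f00029e00029d00029c00029a00029600029400029300029200029100028b00028800028700028600028500028300028200028000027f00027e00027d00027c00027b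 else nat_lit 0x3eb0003ea0003e90003e80003e70003e50003e40003e30003e20003e10003db0003da0003d70003d60003d50003d40003d10003d00003cf0003ce0003cd0003cc0003cb0003ca0003c90003c80003c70003c60003c40003c20003c10003c00003bf0003be0003bd0003bc0003bb0003b90003b80003b70003b60003b50003b40003b30003b20003b10003af0003ae0003ac0003ab0003aa0003a90003a80003a70003a50003a40003a30003a20003a100039e00039d00039900039800039600038d00038c00038900038800038700038500038200038000037f00037c00037b00037900037800037100037000036f00036d00036c00036b00036900036800036600036500036400036100036000035f00035e00035d00035b00035900035800035600035500035400035300035200035100035000034f00034e00034d00034c00034b00034900034700034400034300034200034000033f00033e00033d00033c00033b00033a00033900033800033700033600033400033200032f00032e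
def cT_6_8 (j : ℕ) : ℕ := bif Nat.blt j 7 then nat_lit 0x49a00049700049600049500049400049300049200049000048f00048e00048d00048c00048b00048900048800048600048400048200048100048000047e00047d00047b00047a00047900047500047400047100046f00046e00046d00046a00046900046800046700046600046500046400046100046000045f00045e00045d00045c00045b00045a00045800045700045600045500045400045300045200045100045000044f00044d00044a00044900044700044500044400044200044100044000043f00043e00043d00043c00043b00043a00043900043800043600043500043400043200043100042e00042d00042c00042b00042900042800042700042600042400042300042200042100042000041f00041e00041d00041c00041b00041900041800041700041500041400041300041200041100041000040e00040a0004080004070004060004030004020004010004000003ff0003fd0003fc0003fb0003fa0003f70003f60003f50003f40003f30003f20003f10003ef0003ee else nat_lit 0x56100055d00055800055600055300055200055100054f00054e00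054b00054a00054900054800054700054600054500054400054300054200054100053e00053d00053b00053a00053900053700053600053400053300053100052d00052c00052b00052a00052900052800052700052500052400052100051f00051e00051d00051c00051b00051900051800051700051400051300051200051100051000050f00050e00050c00050b00050a0005090005070005060005050005040005030005020005000004ff0004fd0004fc0004fa0004f90004f80004f70004f60004f40004f30004f20004f00004ed0004ec0004eb0004e90004e70004e60004e40004e20004e00004dc0004db0004da0004d80004d70004d60004d10004d00004cf0004ce0004cd0004cc0004cb0004ca0004c80004c70004c60004c50004c40004c30004c20004c10004bf0004bd0004bc0004bb0004b80004b40004b30004b10004ae0004ad0004ac0004ab0004aa0004a90004a80004a300049f00049e00049c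
def cT_4_8 (j : ℕ) : ℕ := bif Nat.blt j 6 then (cT_4_6 j) else (cT_6_8 j)
def cT_0_8 (j : ℕ) : ℕ := bif Nat.blt j 4 then (cT_0_4 j) else (cT_4_8 j)
def cT_8_10 (j : ℕ) : ℕ := bif Nat.blt j 9 then nat_lit 0x64f00064d00064c00064600064500064300064200063e00063c00063400063200063100063000062f00062e00062c00062a00062900062700062600062500062300062100062000061f00061c00061900061700061600061500061400061300061000060f00060e00060c0006040006030006000005fe0005fd0005fc0005f90005f80005f60005f50005f40005f20005f10005f00005ef0005ee0005e20005e00005df0005db0005da0005d90005d70005d40005d20005d10005d00005ce0005cc0005cb0005c90005c80005c50005c40005c30005c20005c00005bf0005bd0005bc0005ba0005b80005b70005b60005b50005b40005b20005b10005ae0005ac0005ab0005a90005a80005a70005a60005a40005a20005a000059f00059d00059c00059b00059a00059800059700059600059300059100059000058e00058d00058b00058a00058900058800058600058000057f00057c00057b00057800057600057500057400057300057100056f00056d00056a000568000567000566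 else nat_lit 0x75000074f00074e00074d00074400074300074200073d00073c00073a00073900073800073700073600073500073300073200073000072e00072c00072b00072a00072900072600072200071500071400071300071200071100071000070e00070d00070b00070a0007090007080007060007050007040007030007010007000006ff0006fe0006fd0006fc0006fb0006fa0006f90006f70006f60006f50006f40006f30006f20006f10006f00006ef0006ee0006eb0006ea0006e80006e70006e60006e50006e40006e20006e10006e00006d90006d60006d50006d40006d00006cd0006cb0006c80006c50006c20006c00006bd0006bc0006ba0006b70006b60006b40006b30006b10006b00006ae0006ad0006a60006a50006a30006a000069e00069900069400069300069100068f00068e00068b00068a00068900068800068700068400068300067e00067d00067c00067600067400066b00066a00066900066800066700066600066500065b000659000658000654000652000651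
def cT_10_12 (j : ℕ) : ℕ := bif Nat.blt j 11 then nat_lit 0x88100087d00087c00087a00087600087400087100087000086e00086d00086c00086a00086900086800086600086500086400086300086100085d00085c00085700085600085500085200085000084e00084d00084c00084b00084a00084700084600084200083e00083a00083900083800083700082d00082a00082900082500082200081800081700081300080a0008090008000007ff0007fe0007fd0007fc0007fb0007fa0007f70007f60007f50007f40007f30007f10007f00007ef0007ed0007ec0007e60007e50007e10007dd0007db0007da0007d80007d70007d60007d50007d40007d20007d00007c80007c70007c40007c30007c20007c10007bd0007b50007b40007b30007b10007b00007af0007ae0007a50007a300079c00079b00079900079800079600078f00078c00078b00078900078500078400078300078100078000077f00077a00077900077800077500077000076f00076e00076d00076b00076a00076100076000075f000758000756000754000752000751 else nat_lit 0x99e00099d00099c00099b00099700099600098e00098d00098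c00098800098500098400098300098200097b00097900097500097400097300097100097000096e00096d00096c00096b00096a00096900096800096500096400096200096100095f00095900095700095200095100094e00094b00094500094400094300094200094100093f00093e00093d00093a00093900093800093700092d00092c00092a00092800092600092500092400092100091f00091e00091c00091b00091800091700090d00090c00090b00090a0009010009000008ff0008fd0008fb0008f70008f60008f50008f40008f30008f00008ef0008ee0008ed0008ec0008ea0008e70008e60008e50008e40008e30008e20008de0008dc0008da0008d70008d40008d30008ca0008c90008c80008c70008c30008c20008bf0008be0008bd0008bc0008b60008aa0008a90008a50008a20008a10008a000089d00089b00089800089500089400089300089100089000088b000887000886000885000883000882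
def cT_8_12 (j : ℕ) : ℕ := bif Nat.blt j 10 then (cT_8_10 j) else (cT_10_12 j)
def cT_12_14 (j : ℕ) : ℕ := bif Nat.blt j 13 then nat_lit 0xb01000b00000afd000afa000af9000af7000af5000af3000af1000af0000aed000aea000ae9000ae8000ae7000abf000abd000abc000ab7000ab6000aaf000aae000aac000aab000aa8000aa5000aa4000a9e000a9d000a9c000a9a000a98000a90000a8f000a8e000a85000a81000a80000a7f000a7d000a7c000a79000a77000a75000a69000a5f000a5d000a5a000a59000a58000a54000a52000a4e000a4d000a4a000a49000a48000a45000a40000a3f000a3d000a3b000a3a000a39000a38000a37000a36000a26000a25000a24000a23000a1f000a1b000a17000a15000a11000a0f000a0d000a0c000a0b000a0a000a09000a08000a06000a050009f90009f50009f30009f20009f00009ee0009ed0009ea0009e80009e70009e60009e50009e40009e10009e00009df0009de0009dd0009db0009c80009c70009c60009c50009c20009c10009c00009bf0009bc0009bb0009ba0009b90009b70009b30009b00009ae0009ac0009ab0009aa0009a90009a80009a40009a200099f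 else nat_lit 0xca9000ca6000ca5000ca2000ca0000c9f000c9c000c98000c97000c95000c93000c91000c8e000c87000c86000c85000c84000c83000c81000c7e000c7c000c7b000c7a000c79000c77000c6c000c6b000c68000c67000c66000c63000c5e000c5b000c5a000c59000c57000c56000c52000c50000c4d000c48000c47000c45000c3b000c2d000c2c000c2b000c28000c27000c26000c20000c1f000c1d000c16000c13000c12000c0f000c0d000c09000c05000c00000bfd000bfa000bf7000bf6000bf1000bee000be9000bd4000bd3000bcc000bca000bc9000bc7000bc3000bc1000bbf000bbc000bb9000bb6000bb4000bb1000bb0000bae000b77000b76000b72000b6f000b67000b66000b57000b55000b53000b4f000b4d000b4c000b4a000b49000b48000b47000b46000b45000b41000b3c000b3b000b39000b38000b36000b32000b31000b30000b2f000b2e000b2d000b2c000b2b000b2a000b29000b27000b1b000b19000b18000b10000b0a000b08000b04000b03000b02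
def cT_14_16 (j : ℕ) : ℕ := bif Nat.blt j 15 then nat_lit 0xdb6000db5000db4000dad000da4000d9e000d9a000d99000d98000d96000d95000d94000d92000d91000d90000d8f000d8d000d8c000d8b000d8a000d89000d88000d87000d86000d84000d83000d81000d80000d7f000d7d000d7c000d7a000d78000d73000d72000d71000d70000d6e000d6d000d6c000d6b000d67000d66000d64000d61000d5c000d5b000d5a000d59000d58000d54000d50000d4e000d4b000d4a000d49000d48000d47000d46000d42000d41000d40000d3f000d3e000d3c000d3b000d39000d38000d35000d31000d2e000d2c000d2b000d29000d27000d25000d24000d21000d1c000d1b000d1a000d17000d16000d15000d14000d13000d12000d11000d0e000d0d000d0b000d0a000d06000d05000d04000cff000cf8000cf7000cf6000cf4000cf3000cf2000ce3000ce1000cdf000cdd000cda000cd8000cd6000cd4000cd3000cd0000ccf000cce000ccd000ccc000ccb000cc7000cc3000cc2000cbb000cb9000cb8000cb4000cb3000cb0000cae000cab else nat_lit 0xfce000fc4000fc2000faf000fae000fac000fab000f86000f8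5000f82000f81000f80000f7e000f75000f73000f70000f66000f65000f60000f5f000f5d000f58000f56000f55000f53000f4b000f49000f35000f34000f2e000f2b000f28000f27000f26000f25000f22000f20000f1a000f13000f12000f11000f0f000f04000ef9000ef8000ef6000ef3000eef000ee7000ee3000ee1000eda000ecd000ecc000ecb000ec7000ec4000ec1000ec0000ebf000ebe000ebd000ebc000eb9000eb4000e98000e96000e8b000e7b000e74000e6b000e6a000e67000e65000e63000e5f000e5a000e58000e57000e54000e4d000e4c000e4b000e4a000e47000e46000e41000e40000e3c000e34000e31000e2e000e2c000e29000e22000e1f000e1e000e1d000e1c000e15000e14000e13000e11000e10000e0f000e0c000e0b000e08000e06000e05000dfd000dfa000df2000ded000de5000de3000dde000ddb000dd5000dcf000dcc000dca000dc9000dc4000dc3000dbf000db9000db7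
def cT_12_16 (j : ℕ) : ℕ := bif Nat.blt j 14 then (cT_12_14 j) else (cT_14_16 j)
def cT_8_16 (j : ℕ) : ℕ := bif Nat.blt j 12 then (cT_8_12 j) else (cT_12_16 j)
def cT_0_16 (j : ℕ) : ℕ := bif Nat.blt j 8 then (cT_0_8 j) else (cT_8_16 j)
def cT_16_18 (j : ℕ) : ℕ := bif Nat.blt j 17 then nat_lit 0x118600118500118100117f00117e00117900117800117600117000116a00116500116200115f00115e00115800115700115600115000114e00114c00114b00114a00114400114300114100113d00113b00113800113600113300113200113100113000112c0011270011240011140011100011090011080011060010fa0010f60010f30010ea0010e70010e60010e30010dc0010db0010da0010d40010d00010cf0010c70010c50010c00010bf0010be0010ba0010b80010b30010b10010a80010a70010a40010a200109900108f00108d00108800108500107900107500106800106500106100106000105b00105a00105900105800105500105400104300104200104000103f00103e00103500103300103200103000102f00102900102700102500102300101d00101900101800101600101000100e00100d00100c00100b00100a001004001003001002001000000fff000ffe000ffd000ffb000ff5000ff4000ff3000fed000fe8000fe6000fe5000fde000fdb000fda000fd3000fcf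 else nat_lit 0x132b00132a00132700132400132200132100131e00131c0013060012f90012f70012f50012ee0012eb0012e60012e50012e40012e30012e20012e10012e00012df0012de0012d10012d00012cd0012cc0012cb0012bf0012ba0012b60012b50012a90012a800129f00129e00129b00128d00128900128400127600127200127000126f00126d00126c00125f00125b00125700125400125200124c00124a00124900124800124500124400124200124100124000123e00123d00123b00123a00123900123800123700123600123500123400122f00122800122500121500121100120c00120a0012070012060012050012020011fb0011fa0011f20011f10011f00011ef0011ee0011ec0011e50011e40011e30011dd0011da0011d30011d10011d00011cb0011c90011c50011c40011c30011c10011bf0011be0011bb0011b90011b80011b20011ae0011ac0011a40011a20011a000119f00119e00119d00119b00119600119500119300119200119000118f00118b001189001188001187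
def cT_18_20 (j : ℕ) : ℕ := bif Nat.blt j 19 then nat_lit 0x157300156d00156c00156b00156700156200156000155b00155900155800155700155600155500155400155200155100155000154e00154d00154a00154900154800154700154200153500153300152f00152900152200152000151d00151500151000150f00150e00150c00150b0015030015020015010014ef0014ee0014ed0014ec0014ea0014e90014e50014e40014e20014dc0014da0014d60014cc0014cb0014ca0014c90014c80014c40014c30014c00014b90014b50014b30014ae0014ad0014a70014a100149200149100148d00147e00147c00147b00147a00147900147800147500146a00146300145700145300145000144a00144300144100141e00141d00141b0014150014080013fd0013fb0013fa0013d60013d50013d00013cf0013ce0013c40013be0013b30013b00013ae0013ad0013a900138900138800138600138100137e00137900136500136000135d00135b00135200134a00134500134400134000133e00133d00133c00133500133400133000132f00132e else nat_lit 0x179e00179d00179800179600178a001789001788001786001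78200178100177000176e00176d00176c00176b00176800176600176500176400176100175700175600175500174400174300174200173e00173700173600173100172b00172900172600172500171f00171e00171d00171c0017190017170017130017110017090017040017020017010017000016ff0016fb0016fa0016f80016f70016f60016f40016f30016f20016f10016f00016ef0016ee0016ed0016ec0016eb0016e20016e10016d90016d70016c20016ba0016b90016b80016b50016b20016ae0016ab0016aa0016a500169f00169e00169d00169900169200168f00168e00168700168100168000167f00167e00167300166000165900165800165700165600165300164c00164900164800164600164200164000163e00163800163700163600163300162f00162500162400162100161d00160b0016000015ff0015fa0015c80015bf0015be0015ae0015a600159400158d00158000157f00157d00157a001578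
def cT_16_20 (j : ℕ) : ℕ := bif Nat.blt j 18 then (cT_16_18 j) else (cT_18_20 j)
def cT_20_22 (j : ℕ) : ℕ := bif Nat.blt j 21 then nat_lit 0x1a1c001a14001a10001a07001a01001a000019ff0019fe0019fb0019c70019b70019b60019b50019b10019b00019ae0019aa0019a40019a30019a100199f00199e00199b00199a00199700199500199000198f00198e00198d00198c00198b00198900198400197e00197800197200197100196500195c00195500194c00194800194300193e00193500193400192b00192500191d0019120019070019030019020018fe0018e90018e60018e00018cc0018c80018c50018bc0018ac0018a40018a200189400189000188e00188900188600188300188200187d00187900187100186a00186300185600185100185000184b00184a00184300184000183e00183c00183b00183a00183500182c00181700181200180e00180d0018090018060017f50017f40017f30017f20017f10017f00017ee0017ed0017ec0017eb0017ea0017e90017e80017e40017e20017e00017dd0017da0017d90017d80017d70017d40017d10017ca0017c70017bb0017b90017b80017b20017a50017a40017a3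 else nat_lit 0x1d3b001d3a001d38001d35001d33001d2f001d2b001d29001d22001d13001d12001cfc001cfa001cf9001cf2001cee001ce1001cdb001cd2001cbc001cb8001caf001ca5001c9f001c8f001c8c001c87001c84001c82001c7c001c79001c77001c76001c74001c72001c71001c70001c6f001c6e001c6d001c6b001c6a001c69001c67001c66001c65001c63001c61001c5b001c53001c3f001c37001c31001c2d001c2b001c26001c1a001c14001c12001c0f001c06001c03001bf6001bf5001bf3001bf0001bed001be9001be7001be6001be3001be2001bdd001bd2001bd0001bcf001bcd001bc5001bbf001bbd001bae001baa001ba8001ba2001b9f001b93001b52001b50001b40001b3e001b22001b07001b05001af9001af8001af7001af6001af2001aec001ad2001ac9001ac5001ac4001abb001ab8001ab5001aa4001a9a001a93001a92001a8c001a87001a80001a7d001a76001a60001a5d001a5c001a57001a56001a55001a54001a4a001a3c001a3a001a33001a2c001a21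
def cT_22_24 (j : ℕ) : ℕ := bif Nat.blt j 23 then nat_lit 0x217800217700217600217500217300214d00213a00213600213200212f00212d00212a00212300211e00211d00211c00211b0021120021080020ec0020eb0020ea0020e60020e50020dd0020d20020cb0020b40020b20020a400209d00209c00207f00204700204400203e00203a00203700202600201f00201c00201a001fdb001fd2001fd1001fcb001fc8001fc3001fb5001fb0001fa8001fa4001f99001f8e001f7f001f78001f75001f73001f72001f70001f6f001f6e001f6d001f6c001f6b001f6a001f67001f65001f60001f55001f3d001f3c001f3b001f38001f36001f30001f23001f1c001f11001f07001f01001efa001ef7001ef1001eef001eed001ee9001ee3001eda001ed5001ed3001eac001eaa001e91001e86001e84001e80001e7b001e79001e6f001e6b001e45001e42001e41001e40001e3f001e32001e2f001e2b001e1d001e16001db6001db0001daf001dab001d96001d83001d7c001d7b001d7a001d77001d74001d71001d6f001d62001d59001d57001d48 else nat_lit 0x26fe0026fd0026f30026ec0026e70026ad0026ab0026a6002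64500263f0026350025ed0025e60025e50025e30025d80025d30025c60025c00025b90025b80025b50025b40025b20025b00025ab0025a90025a60025a50025a30025a20025a10025a000257c00256f00256e00256a00256300255d00255c00255300254700253500252e00252800252500252200251b0025150025030025020025010024fd0024f90024ee0024ec0024e60024da0024d70024b10024b00024af0024a300249c00249100248100247500245d0024530024140024060023f70023ef0023e60023c80023a30023a200239200238b00238a00237200237000235c00235100233b00233a00232d00232c0023250023210023020022ee0022e10022ce0022cd0022a500229700229100228d00228b00228600228500228400225400225200224e00223b00223600223000222f00222900222400221a0021f10021ed0021c40021ab0021a50021a40021a300219f00219700218f00218d00218700218600218400217c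
def cT_20_24 (j : ℕ) : ℕ := bif Nat.blt j 22 then (cT_20_22 j) else (cT_22_24 j)
def cT_16_24 (j : ℕ) : ℕ := bif Nat.blt j 20 then (cT_16_20 j) else (cT_20_24 j)
def cT_24_26 (j : ℕ) : ℕ := bif Nat.blt j 25 then nat_lit 0x31fc0031f50031e60031bd00315200314400313e00313200313000312e00312b00312900312600312500312400311d00311b00311700310a0031090030fb0030f60030ee00304d00304500303c00301a003016002fa6002f99002f98002f8b002f5f002f59002f52002f4c002f11002f06002e77002e53002e48002e1f002ded002d8c002d4b002cff002c8d002c88002c54002c52002c51002c4e002c45002c3f002c35002c32002c17002c15002c12002c11002c10002c0f002c07002c03002bf6002bf5002beb002be1002bdf002bcd002bcb002bb3002bac002baa002ba1002b9b002b95002b8f002b3f002b08002aa9002a6b002a2c002a12002a04002a030029f70029f10029eb0029ea0029e90029e80029e10029db0029d40029c600299900297300297200296d00296100295a00292400291d00290f0029090029080028f60028ab00288a0028490028030027f00027ea0027e90027e80027dc0027d60027cf0027b60027ad0027ab00279f00278e00271a00271500270d002700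 else nat_lit 0x39000038ff0038fe0038fc0038fb0038fa0038f60038f50038dc0038db0038da0038cb0038bf0038be0038aa0038a700389100388b00387e00387b00387200381f00381700380d0037fd0037fc0037f10037ee0037ed0037ec0037eb0037ea0037e90037e80037e40037ca0037c90037a900379a00379500379200378f00378800372e00372a0036ce0036610035ff0035f40035e800358f00358300358100357400356d00355400354e00354b00354700353f00353d00353c00353b00353a00353900353700353400353300352a00351000350f0034fd0034fc0034f10034f00034ef0034e400347400346a00346900346700345700344e00342200341100340a0034080034010033fb0033a900337200336100335e00334d0033460032dc0032d00032b40032b30032a900329d00329700329600329500329400329300329100329000328e00328d00328c00328b00328900328700325a00325400325200324b00324400323f00323200323000322400321d00320f00320e003209003203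
def cT_26_28 (j : ℕ) : ℕ := bif Nat.blt j 27 then nat_lit 0x40a800409b00408f00407e00407c00407200406b00405900404500404400404300404200404000403e00403d00403a00403800402800402400401c00401500400d003feb003fe0003fd1003fc0003fbf003fbd003fbc003fbb003fba003fb6003fb4003fb0003faf003fae003faa003f99003f74003f4e003f3a003f37003f35003f34003f33003f31003f30003f2e003f2c003f2a003f19003ef6003ef5003eeb003ed6003ecf003eb7003eb5003eb4003eb3003eb2003eb1003ead003eac003eaa003ea2003ea1003e95003e79003e74003e54003e53003e4e003e3d003e36003e34003e2f003e28003e16003dee003dea003db5003d9e003d7e003d7d003d7c003d71003d6b003d64003d46003d14003d08003cc0003ca1003c81003c29003c23003c22003c21003c15003c0e003be0003bbe003b95003b7c003b7b003abe003abd003ab7003ab4003ab1003aab003aa3003a74003a4f003a420039bf0039bd00392600392500391c00390a003908003907003906003905003904003901 else nat_lit 0x47ea0047e80047dc0047d40047d10047d00047cc0047cb004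76700476400476100474600474500474400474300474200474100474000473600473500473300473200473000472c00470b0046e300465a00462600458b00450b00448a00448400447500444e00444d00443c00442e0044260044210044200044190044180044170044040043ce0043bf0043b50043a900439200438500437e00437800433300433000432b00432500431d00431b0043180043120042c60042ae0042ab0042970042050041ff0041b50041b20041b10041a90041a30041a100419f00419e00419d00419a00419900419800419700419600419500419400419300419200419000418d00418600418300418200418100418000417c00417b00417600417400417100417000416f00416d00416700416300415b00415700414b00414900414800414700414400414100413f00413e00413d00413c00413b00413200412c00412900412600411b0040f10040f00040ed0040eb0040e30040e20040b40040ac0040ab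
def cT_24_28 (j : ℕ) : ℕ := bif Nat.blt j 26 then (cT_24_26 j) else (cT_26_28 j)
def cT_28_30 (j : ℕ) : ℕ := bif Nat.blt j 29 then nat_lit 0x52e10052510052250052200052160052040052020051fd0051fb0051f80051f40051e80051e70051e60051e50051e40051d70051d40051ce0051ca0051c50051c10051bd0051b80051b50051b400516100515f00515900513200512f0051260050fe0050fd0050ed0050d30050cc00508300507800507400506c00506b00506400505d00505c00505b00504800503c00503b00502f00502e005020004ffb004ff9004ff8004fdd004fdc004fd6004fca004fc4004fc2004fa9004fa7004fa6004f9c004efc004ee6004ee5004ee3004ede004edd004edc004ed8004eb3004ea8004ea6004e96004e8e004e8d004e54004e39004dd5004d51004d32004d2e004cb4004cb1004cab004c91004bb6004af8004a96004a95004a8e004a8d004a8c004a80004a7d004a6c004a5c004a56004a44004a34004a30004a2f004a2a004a19004a050049f90049f40049ed0049e70049e60049d80049d400499b00499700499100496f0048d20048cf0048cc0048be00484900483b00480a004809004808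 else nat_lit 0x608800608400607700607300607000606f00606800606600605b006043006009006004005ff4005fbe005fad005f85005f46005f43005f09005f02005ef8005ef2005ed9005ebf005ea7005e8c005e7c005e7a005e74005e38005cfc005ccc005cb4005cad005cac005ca7005ca2005c8f005c4f005c4d005c37005c35005c31005c2e005c2c005c29005c26005c24005c23005c22005c1f005c18005c16005c15005c14005c13005c0e005c07005c02005bff005bfc005bf8005bf5005bf2005bed005be4005be2005be1005be0005bd3005bb5005bb4005bb3005bb2005bab005b6a005b47005b40005b3b005afd005ada005ad7005ad0005ac9005ac7005ac5005a6f005a43005a41005a3f005a37005a36005a340059e20059e10059df00599d00599c00596e0059310059260058fa0057470057350057340057330056ff0055d20055cc0055b900555900555200554e0055190055080054eb0054400054120053da0053d90053d60053c700537500534e00534700532600531f005319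
def cT_30_32 (j : ℕ) : ℕ := bif Nat.blt j 31 then nat_lit 0x79ad00794100794000793f0078e20078a800785500784d00771700765d0076460073f50073f30073c80073b50073b400732b0073220072d80071bc0071330070f40070f30070ea0070e60070e50070e00070be0070b400708e00708900708200707b00703700702000701e006fee006fd6006fa2006f80006cc1006cb7006cb6006ca2006b98006adc006ad0006ab4006a93006a72006a510069290069230069160068e80068b60068b10068b000670e0066fd0065d600659f00659700654d00648d00648700647e0063f70063c50063a60063a400639900639700638a00638600637200636500636400633500632d0062d50062b70062ae0062ac0062a600629900625e00625c00625a00624800623800621300621000620f0062090062000061ff0061fe0061fb0061e60061e10061c40061b800619a00619400617a00616100613900612400611b0060ea0060df0060de0060dd0060db0060da0060d80060cf0060c00060be0060bc0060b10060b00060a800609f006098006093006091 else nat_lit 0xd6a700cdfb00c8e600c77d00c71000c53900be3500bc5900b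b0100baf100baba00b9f000b8d200b8b200b4aa00b3ab00af9b00ac3500ac0200ab7c00ab6e00ab1400ab1000aac700a97a00a92c00a42a00a168009f83009d19009c06009bf9009bf8009bee009bb0009b4b009b09009a5c0093c70093c6009089009075009069008e4a008e42008b72008b71008b37008af9008af7008ae0008adb008a53008a300089930089640089030088f800888700884100866e00854500819900811b00810c00810b008109007f81007f35007f13007f06007ea3007ea1007ea0007e61007e53007e28007e26007df1007dec007de1007de0007d6f007d62007d60007d5f007d5e007d3d007baa007ab10079f60079bd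
def cT_28_32 (j : ℕ) : ℕ := bif Nat.blt j 30 then (cT_28_30 j) else (cT_30_32 j)
def cT_24_32 (j : ℕ) : ℕ := bif Nat.blt j 28 then (cT_24_28 j) else (cT_28_32 j)
def cT_16_32 (j : ℕ) : ℕ := bif Nat.blt j 24 then (cT_16_24 j) else (cT_24_32 j)
def cT_0_32 (j : ℕ) : ℕ := bif Nat.blt j 16 then (cT_0_16 j) else (cT_16_32 j)
def cT (j : ℕ) : ℕ := (cT_0_32 j)
noncomputable def cChunk (h : ℕ) : ℕ := Nat.rec (motive := fun _ => ℕ) (cT 0) (fun n _ => cT (Nat.succ n)) h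
noncomputable def cF (i : ℕ) : ℕ := Nat.land (Nat.shiftRight (cChunk (Nat.shiftRight i 7)) (Nat.mul (Nat.land i 127) 24)) 16777215
theorem cF_lt (i : ℕ) : cF i < 16777216 := land24_lt _
theorem cF_zero : cF 0 = 0 := by decide +kernel
def nDef : ℕ := 212206
def nEv : ℕ := 547082
def nW : ℕ := 1088
def N : ℕ := 4060
def ys : List ℕ := [nat_lit 0, nat_lit 1, nat_lit 2, nat_lit 3, nat_lit 4, nat_lit 5, nat_lit 6, nat_lit 7]
end Cfsg.Agent.Lib.ToddCox.RUT
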